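import Cfsg.Agent.Omega.NSix.CaseJ.LemQ

/-!
# SN.Two (bb #21330), `J(S) ≰ O₂(P)`: exact offenders and LEMMA Q

`V = V_P` the even-subset module (`CaseJ.Base.Hyp S P ε`), `A` an exact offender for `(i j)` (`Exact.Ex P ε i j A`),
`A₀ = A ⊓ C(V)`.

* `le_Q`, `sup_mem_AA` : `A₀ ≤ O₂(P)`, `A₀ V ∈ A(O₂(P))`;
* `split`, `split'`, `act` **(E)** : `C_X(A₀) = V C_X(A)`, `[C_X(A₀), A] ≤ ⟨r_ij⟩` for `X ≥ V` elementary abelian;
* `count0` **(E)** : `|X| |C_{A₀}(X)| ≤ |A₀| |C_X(A₀)|`;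
* `two'` **(2')** : `[u, A₀] ≤ ⟨v⟩`, `v^a ≠ v`, `[u, u^a] = 1` imply `[u, A₀] = 1`, `u^a ∈ V u`;
* `lemQ` : LEMMA Q without `v ∈ V`.
-/

set_option autoImplicit false
set_option linter.unusedSectionVars false

namespace Cfsg.Agent.Omega.NO3S.SN2.Exact

open Subgroup Cfsg Cfsg.Agent.PLocal.ThompsonJ Cfsg.Agent.ZN Cfsg.Agent.ZN.ChoiceBase
open Cfsg.Agent.ZN.ChoiceSit Cfsg.Agent.PLocal.ElemAbSup
open Cfsg.Agent.Omega.MinPar
open Cfsg.Agent.Omega.S5.Def Cfsg.Agent.Omega.S5.Syl Cfsg.Agent.Omega.S5.Pair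
open Cfsg.Agent.Omega.NSix.Base Cfsg.Agent.Omega.NSix.Basic
open Cfsg.Agent.Omega.SQ1.Bau (mem_AA_of_comm elem_comm elem_sq mem_sup_comm card_sup_comm)
open Cfsg.Agent.Omega.NSix.CaseJ.Base Cfsg.Agent.Omega.NSix.CaseJ.Exact
open Cfsg.Agent.Omega.NSix.CaseJ

universe u

variable {G : Type u} [Group G] [Finite G] {S : Sylow 2 G} {P : Subgroup G} {m : ℕ}
  {ε : (Fin (2 ^ m + 1) → ZMod 2) → G} {i j : Fin (2 ^ m + 1)} {A : Subgroup G}

section

variable (h : Hyp S P ε) (hA : Ex P ε i j A)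
include h hA

/-- `A₀ ≤ O₂(P)`. -/
theorem le_Q : A ⊓ centralizer (zl (S : Subgroup G) P : Set G) ≤ o2 P := by
  intro a ha
  refine h.two (hA.AP ha.1) (fun v hv => (mem_centralizer_iff.1 ha.2 v hv).symm) ⟨1, ?_⟩
  rw [pow_one, pow_two]
  exact hA.sq ha.1

/-- `A₀` and `V` commute. -/
theorem A0_comm : ∀ a ∈ A ⊓ centralizer (zl (S : Subgroup G) P : Set G), ∀ v ∈ zl (S : Subgroup G) P,
    a * v = v * a := fun _ ha v hv => (mem_centralizer_iff.1 ha.2 v hv).symm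

/-- `|A| ≤ |A₀ V|`. -/
theorem card_le (hij : i ≠ j) : Nat.card A ≤
    Nat.card ↥((A ⊓ centralizer (zl (S : Subgroup G) P : Set G)) ⊔ zl (S : Subgroup G) P : Subgroup G) := by
  set V := zl (S : Subgroup G) P with hV
  set A0 := A ⊓ centralizer (V : Set G) with hA0
  have h1 := card_sup_comm (A0_comm h hA)
  rw [← hV, ← hA0] at h1
  obtain ⟨a, ha, ha'⟩ := hA.ex
  have h2 : 2 * Nat.card ↥(A0 ⊓ V) ≤ Nat.card V := by
    refine two_mul_card_le inf_le_right fun hle => ?_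
    have h3 := (hle (zz_mem h.ev i)).1.1
    have h4 := (h.ev.fixes_iff h.three ha' i).1 (elem_comm hA.elem a ha _ h3)
    rw [Equiv.swap_apply_left] at h4
    exact hij h4.symm
  have hp : 0 < Nat.card ↥(A0 ⊓ V) := Nat.card_pos
  have h4 : Nat.card A * Nat.card ↥(A0 ⊓ V) ≤ Nat.card ↥(A0 ⊔ V : Subgroup G) * Nat.card ↥(A0 ⊓ V) := by
    rw [h1, hA.card_A0 h hij]
    calc 2 * Nat.card A0 * Nat.card ↥(A0 ⊓ V) = Nat.card A0 * (2 * Nat.card ↥(A0 ⊓ V)) := by ring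
      _ ≤ Nat.card A0 * Nat.card V := Nat.mul_le_mul_left _ h2
  exact Nat.le_of_mul_le_mul_right h4 hp

/-- `A₀ V` is elementary abelian. -/
theorem sup_el : IsElementaryAbelian 2
    ((A ⊓ centralizer (zl (S : Subgroup G) P : Set G)) ⊔ zl (S : Subgroup G) P : Subgroup G) :=
  sup_elem (isElementaryAbelian_mono hA.elem inf_le_left) (LemQ.V_elem h) (A0_comm h hA)

/-- `A₀ V` has maximal order among the elementary abelian subgroups of `G`. -/
theorem sup_max (hij : i ≠ j) (B : Subgroup G) (hB : IsElementaryAbelian 2 B) : Nat.card B ≤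
    Nat.card ↥((A ⊓ centralizer (zl (S : Subgroup G) P : Set G)) ⊔ zl (S : Subgroup G) P : Subgroup G) :=
  (hA.card B hB).trans (card_le h hA hij)

/-- **`A₀ V ∈ A(O₂(P))`.** -/
theorem sup_mem_AA (hij : i ≠ j) :
    (A ⊓ centralizer (zl (S : Subgroup G) P : Set G)) ⊔ zl (S : Subgroup G) P ∈ AA (o2 P) :=
  ⟨sup_el h hA, sup_le (le_Q h hA) h.VQ, fun B hB _ => sup_max h hA hij B hB⟩

/-- **(E), first part**: `X = V C_X(A)` if `A₀` centralises `X ≥ V`. -/
theorem split (hij : i ≠ j) {X : Subgroup G} (hX : IsElementaryAbelian 2 X)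
    (hVX : zl (S : Subgroup G) P ≤ X)
    (hc : ∀ a ∈ A ⊓ centralizer (zl (S : Subgroup G) P : Set G), ∀ x ∈ X, a * x = x * a)
    {x : G} (hx : x ∈ X) : ∃ v ∈ zl (S : Subgroup G) P, ∃ c ∈ X, (∀ a ∈ A, a * c = c * a) ∧ x = v * c := by
  set V := zl (S : Subgroup G) P with hV
  set A0 := A ⊓ centralizer (V : Set G) with hA0
  have h1 := count hA.elem hX hA.card
  have h2 : A ⊓ centralizer (X : Set G) = A0 := by
    apply le_antisymm
    · exact fun b hb => ⟨hb.1, mem_centralizer_iff.2 fun v hv => mem_centralizer_iff.1 hb.2 v (hVX hv)⟩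
    · exact fun b hb => ⟨hb.1, mem_centralizer_iff.2 fun v hv => (hc b hb v hv).symm⟩
  rw [h2, hA.card_A0 h hij] at h1
  set C := X ⊓ centralizer (A : Set G) with hC
  have hA0p : 0 < Nat.card A0 := Nat.card_pos
  have h3 : Nat.card X ≤ 2 * Nat.card C := by
    have h4 : Nat.card A0 * Nat.card X ≤ Nat.card A0 * (2 * Nat.card C) := by
      calc Nat.card A0 * Nat.card X = Nat.card X * Nat.card A0 := mul_comm _ _
        _ ≤ 2 * Nat.card A0 * Nat.card C := h1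
        _ = Nat.card A0 * (2 * Nat.card C) := by ring
    exact Nat.le_of_mul_le_mul_left h4 hA0p
  obtain ⟨b, hb, hb'⟩ := hA.ex
  have hcm : ∀ v ∈ V, ∀ c ∈ C, v * c = c * v := fun v hv c hc' => elem_comm hX v (hVX hv) c hc'.1
  have h5 : C ≤ V ⊔ C := le_sup_right
  have h6 : ¬ V ⊔ C ≤ C := fun hle => by
    have h7 := mem_centralizer_iff.1 (hle (mem_sup_left (zz_mem h.ev i))).2 b hb
    have h8 := (h.ev.fixes_iff h.three hb' i).1 h7
    rw [Equiv.swap_apply_left] at h8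
    exact hij h8.symm
  have h7 := two_mul_card_le h5 h6
  have h8 : V ⊔ C = X := Subgroup.eq_of_le_of_card_ge (sup_le hVX inf_le_left) (h3.trans h7)
  rw [← h8] at hx
  obtain ⟨v, hv, c, hc', rfl⟩ := mem_sup_comm hcm hx
  exact ⟨v, hv, c, hc'.1, fun a ha => mem_centralizer_iff.1 hc'.2 a ha, rfl⟩

/-- **(E)**: `C_X(A₀) = V C_X(A)`. -/
theorem split' (hij : i ≠ j) {X : Subgroup G} (hX : IsElementaryAbelian 2 X)
    (hVX : zl (S : Subgroup G) P ≤ X) {x : G} (hx : x ∈ X)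
    (hc : ∀ a ∈ A ⊓ centralizer (zl (S : Subgroup G) P : Set G), a * x = x * a) :
    ∃ v ∈ zl (S : Subgroup G) P, ∃ c ∈ X, (∀ a ∈ A, a * c = c * a) ∧ x = v * c := by
  have h1 : zl (S : Subgroup G) P ≤
      X ⊓ centralizer ((A ⊓ centralizer (zl (S : Subgroup G) P : Set G) : Subgroup G) : Set G) := fun v hv =>
    ⟨hVX hv, mem_centralizer_iff.2 fun a ha => A0_comm h hA a ha v hv⟩
  obtain ⟨v, hv, c, hc', h2, h3⟩ := split h hA hij (isElementaryAbelian_mono hX inf_le_left) h1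
    (fun a ha y hy => mem_centralizer_iff.1 hy.2 a ha) (x := x)
    ⟨hx, mem_centralizer_iff.2 fun a ha => hc a ha⟩
  exact ⟨v, hv, c, hc'.1, h2, h3⟩

/-- **(E)**: `[C_X(A₀), A] ≤ ⟨r_ij⟩`. -/
theorem act (hij : i ≠ j) {X : Subgroup G} (hX : IsElementaryAbelian 2 X)
    (hVX : zl (S : Subgroup G) P ≤ X) {x : G} (hx : x ∈ X)
    (hc : ∀ a ∈ A ⊓ centralizer (zl (S : Subgroup G) P : Set G), a * x = x * a) {a : G} (ha : a ∈ A) :
    a * x * a⁻¹ = x ∨ a * x * a⁻¹ = x * rr ε i j := by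
  obtain ⟨v, hv, c, hcX, hcA, rfl⟩ := split' h hA hij hX hVX hx hc
  have e1 : a * c * a⁻¹ = c := by rw [hcA a ha, mul_inv_cancel_right]
  have e2 : a * (v * c) * a⁻¹ = a * v * a⁻¹ * (a * c * a⁻¹) := by group
  rw [e2, e1]
  rcases hA.comm_V h ha hv with h9 | h9
  · left; rw [h9]
  · right
    rw [h9, mul_assoc, mul_assoc, elem_comm hX _ (hVX (rr_mem h.ev i j)) c hcX]

/-- **(E), the count** `|X : C_X(A₀)| ≤ |A₀ : C_{A₀}(X)|`. -/
theorem count0 (hij : i ≠ j) {X : Subgroup G} (hX : IsElementaryAbelian 2 X)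
    (hVX : zl (S : Subgroup G) P ≤ X) :
    Nat.card X *
      Nat.card ↥((A ⊓ centralizer (zl (S : Subgroup G) P : Set G)) ⊓ centralizer (X : Set G)) ≤
    Nat.card ↥(A ⊓ centralizer (zl (S : Subgroup G) P : Set G)) *
      Nat.card ↥(X ⊓ centralizer ((A ⊓ centralizer (zl (S : Subgroup G) P : Set G) : Subgroup G) : Set G)) := by
  have h0 := sup_el h hA
  have hm := sup_max h hA hij
  have hcm := A0_comm h hA
  set V := zl (S : Subgroup G) P with hV
  set A0 := A ⊓ centralizer (V : Set G) with hA0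
  have h1 := count h0 hX hm
  have h2 : X ⊓ centralizer ((A0 ⊔ V : Subgroup G) : Set G) ≤ X ⊓ centralizer (A0 : Set G) :=
    inf_le_inf_left _ (centralizer_le (SetLike.coe_subset_coe.2 le_sup_left))
  have hVc : V ≤ centralizer (X : Set G) := fun v hv => mem_centralizer_iff.2 fun x hx =>
    elem_comm hX x hx v (hVX hv)
  have h3 : (A0 ⊓ centralizer (X : Set G)) ⊔ V ≤ (A0 ⊔ V) ⊓ centralizer (X : Set G) :=
    sup_le (le_inf (inf_le_left.trans le_sup_left) inf_le_right) (le_inf le_sup_right hVc)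
  have h4 := card_sup_comm (A := A0 ⊓ centralizer (X : Set G)) (B := V) fun a ha v hv => hcm a ha.1 v hv
  have h5 := card_sup_comm hcm
  have h6 : A0 ⊓ centralizer (X : Set G) ⊓ V = A0 ⊓ V := by
    apply le_antisymm
    · exact fun x hx => ⟨hx.1.1, hx.2⟩
    · exact fun x hx => ⟨⟨hx.1, hVc hx.2⟩, hx.2⟩
  rw [h6] at h4
  have hVp : 0 < Nat.card V := Nat.card_pos
  have h7 := Subgroup.card_le_of_le h2
  have h8 := Subgroup.card_le_of_le h3
  refine Nat.le_of_mul_le_mul_right ?_ hVp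
  calc Nat.card X * Nat.card ↥(A0 ⊓ centralizer (X : Set G)) * Nat.card V
      = Nat.card X * Nat.card ↥((A0 ⊓ centralizer (X : Set G)) ⊔ V : Subgroup G) * Nat.card ↥(A0 ⊓ V) := by
        rw [mul_assoc, ← h4, mul_assoc]
    _ ≤ Nat.card X * Nat.card ↥((A0 ⊔ V) ⊓ centralizer (X : Set G)) * Nat.card ↥(A0 ⊓ V) :=
        Nat.mul_le_mul_right _ (Nat.mul_le_mul_left _ h8)
    _ ≤ Nat.card ↥(A0 ⊔ V : Subgroup G) * Nat.card ↥(X ⊓ centralizer ((A0 ⊔ V : Subgroup G) : Set G)) *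
          Nat.card ↥(A0 ⊓ V) := Nat.mul_le_mul_right _ h1
    _ ≤ Nat.card ↥(A0 ⊔ V : Subgroup G) * Nat.card ↥(X ⊓ centralizer (A0 : Set G)) * Nat.card ↥(A0 ⊓ V) :=
        Nat.mul_le_mul_right _ (Nat.mul_le_mul_left _ h7)
    _ = Nat.card A0 * Nat.card ↥(X ⊓ centralizer (A0 : Set G)) * Nat.card V := by
        rw [mul_right_comm, h5, mul_right_comm]

/-- **(2')** -/
theorem two' (hij : i ≠ j) {u v a : G} (hu : u ∈ o2 P) (hu2 : u * u = 1)
    (hv : v ∈ zl (S : Subgroup G) P)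
    (huA : ∀ b ∈ A ⊓ centralizer (zl (S : Subgroup G) P : Set G), b * u * b⁻¹ = u ∨ b * u * b⁻¹ = v * u)
    (ha : a ∈ A) (ha' : Acts ε a (Equiv.swap i j)) (hva : a * v * a⁻¹ ≠ v)
    (hc : u * (a * u * a⁻¹) = a * u * a⁻¹ * u) :
    (∀ b ∈ A ⊓ centralizer (zl (S : Subgroup G) P : Set G), b * u = u * b) ∧
      ∃ w ∈ zl (S : Subgroup G) P, a * u * a⁻¹ = w * u := by
  obtain ⟨w, hw, hwu⟩ := LemQ.core h hA hij le_rfl hu hu2 hv huA ha ha' hva rfl hc
  refine ⟨fun b hb => ?_, w, hw, hwu⟩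
  rcases huA b hb with h1 | h1
  · exact LemQ.comm_of_conj h1
  exfalso
  apply hva
  have hab : a * b = b * a := elem_comm hA.elem a ha b hb.1
  have hbw : b * w * b⁻¹ = w := by rw [A0_comm h hA b hb w hw, mul_inv_cancel_right]
  have e1 : b * (a * u * a⁻¹) * b⁻¹ = w * (v * u) := by
    rw [hwu]
    calc b * (w * u) * b⁻¹ = (b * w * b⁻¹) * (b * u * b⁻¹) := by group
      _ = w * (v * u) := by rw [hbw, h1]
  have e2 : b * (a * u * a⁻¹) * b⁻¹ = a * v * a⁻¹ * (w * u) := by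
    calc b * (a * u * a⁻¹) * b⁻¹ = (b * a) * u * (b * a)⁻¹ := by group
      _ = a * (b * u * b⁻¹) * a⁻¹ := by rw [← hab]; group
      _ = a * v * a⁻¹ * (a * u * a⁻¹) := by rw [h1]; group
      _ = a * v * a⁻¹ * (w * u) := by rw [hwu]
  have e3 : a * v * a⁻¹ * (w * u) = w * (v * u) := e2.symm.trans e1
  have e4 : w * v = v * w := h.ev.comm_mem hw hv
  calc a * v * a⁻¹ = (a * v * a⁻¹ * (w * u)) * (w * u)⁻¹ := by group
    _ = w * (v * u) * (w * u)⁻¹ := by rw [e3]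
    _ = w * v * w⁻¹ := by group
    _ = v := by rw [e4, mul_inv_cancel_right]

end

/-- **LEMMA Q** without `v ∈ V`. -/
theorem lemQ (h : Hyp S P ε) {u v : G} (hu : u ∈ o2 P) (hu2 : u * u = 1)
    (hc : ∀ q ∈ o2 P, q * u * q⁻¹ = u ∨ q * u * q⁻¹ = v * u) : u ∈ zl (S : Subgroup G) P := by
  by_cases hall : ∀ q ∈ o2 P, q * u * q⁻¹ = u
  · exact LemQ.oz h hu hu2 fun q hq => LemQ.comm_of_conj (hall q hq)
  push Not at hall
  obtain ⟨q, hq, hqu⟩ := hall
  have hq1 : q * u * q⁻¹ = v * u := (hc q hq).resolve_left hqu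
  have hv1 : v ≠ 1 := fun e => hqu (by rw [hq1, e, one_mul])
  have hvQ : v ∈ o2 P := by
    have e : v = q * u * q⁻¹ * u⁻¹ := by rw [hq1]; group
    rw [e]
    exact mul_mem (mul_mem (mul_mem hq hu) (inv_mem hq)) (inv_mem hu)
  -- elements of `Q` fixing `u` fix `v`
  have key : ∀ r ∈ o2 P, r * u * r⁻¹ = u → r * v * r⁻¹ = v := by
    intro r hr hru
    have e : (r * q) * u * (r * q)⁻¹ = r * v * r⁻¹ * u := by
      calc (r * q) * u * (r * q)⁻¹ = r * (q * u * q⁻¹) * r⁻¹ := by group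
        _ = r * v * r⁻¹ * (r * u * r⁻¹) := by rw [hq1]; group
        _ = r * v * r⁻¹ * u := by rw [hru]
    rcases hc (r * q) (mul_mem hr hq) with h1 | h1
    · exfalso
      rw [e] at h1
      have h2 : r * v * r⁻¹ = 1 := by
        calc r * v * r⁻¹ = r * v * r⁻¹ * u * u⁻¹ := by group
          _ = 1 := by rw [h1, mul_inv_cancel]
      apply hv1
      calc v = r⁻¹ * (r * v * r⁻¹) * r := by group
        _ = 1 := by rw [h2]; group
    · rw [e] at h1
      exact mul_right_cancel h1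
  have huv : u * v * u⁻¹ = v := key u hu (by group)
  have hvv : v * v = 1 := by
    have e1 : (v * u) * (v * u) = 1 := by
      rw [← hq1]
      calc q * u * q⁻¹ * (q * u * q⁻¹) = q * (u * u) * q⁻¹ := by group
        _ = 1 := by rw [hu2]; group
    calc v * v = v * (u * v * u⁻¹) := by rw [huv]
      _ = (v * u) * (v * u) * (u * u)⁻¹ := by group
      _ = 1 := by rw [e1, hu2, inv_one, mul_one]
  have hvc : ∀ r ∈ o2 P, r * v = v * r := by
    intro r hr
    rcases hc r hr with h1 | h1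
    · exact LemQ.comm_of_conj (key r hr h1)
    · -- `q⁻¹ r` fixes `u`
      have h2 : q⁻¹ * r * u * (q⁻¹ * r)⁻¹ = u := by
        calc q⁻¹ * r * u * (q⁻¹ * r)⁻¹ = q⁻¹ * (r * u * r⁻¹) * q := by group
          _ = q⁻¹ * (q * u * q⁻¹) * q := by rw [h1, hq1]
          _ = u := by group
      have h3 := key _ (mul_mem (inv_mem hq) hr) h2
      -- `q` fixes `v`
      have h4 : q * v * q⁻¹ = v := by
        have e : (q * q) * u * (q * q)⁻¹ = q * v * q⁻¹ * (v * u) := by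
          calc (q * q) * u * (q * q)⁻¹ = q * (q * u * q⁻¹) * q⁻¹ := by group
            _ = q * (v * u) * q⁻¹ := by rw [hq1]
            _ = q * v * q⁻¹ * (q * u * q⁻¹) := by group
            _ = q * v * q⁻¹ * (v * u) := by rw [hq1]
        rcases hc (q * q) (mul_mem hq hq) with h5 | h5
        · rw [e] at h5
          calc q * v * q⁻¹ = (q * v * q⁻¹ * (v * u)) * (u⁻¹ * v⁻¹) := by group
            _ = v⁻¹ := by rw [h5]; group
            _ = v := inv_eq_of_mul_eq_one_left hvv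
        · exfalso
          rw [e] at h5
          have h6 : q * v * q⁻¹ = 1 := by
            calc q * v * q⁻¹ = (q * v * q⁻¹ * (v * u)) * (v * u)⁻¹ := by group
              _ = 1 := by rw [h5, mul_inv_cancel]
          apply hv1
          calc v = q⁻¹ * (q * v * q⁻¹) * q := by group
            _ = 1 := by rw [h6]; group
      have h5 : r * v * r⁻¹ = v := by
        calc r * v * r⁻¹ = q * (q⁻¹ * r * v * (q⁻¹ * r)⁻¹) * q⁻¹ := by group
          _ = v := by rw [h3, h4]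
      exact LemQ.comm_of_conj h5
  exact LemQ.mem h hu hu2 (LemQ.oz h hvQ hvv hvc) hv1 hc

end Cfsg.Agent.Omega.NO3S.SN2.Exact
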