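import Cfsg.Agent.Omega.NO3S.SN2.StepAB

/-!
# SN.Two, the step with `Rel = A(O₂(P))` (no `d ≥ 2`)

Over the relative frame `Fr S P ε M₀ D T R`: `h ∈ V ∖ D`, `[h, T] ≤ D`, `[h, O₂(R)] ≤ E ≤ D`, `M = Mh R h D`, and
`B ∩ O₂(R)` centralises `M` for all `B ∈ A(O₂(P))`.

* `mem_YY_of_AA` : an involution of `O₂(P)` which is centralised by all `B ∈ A(O₂(P))` is in `YY`;
* `rel`, `ex`, `lemY'`, **`stpAA`** : the structure `FF.Stp` (helper421) with `Rel = A(O₂(P))`.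
-/

set_option autoImplicit false
set_option linter.unusedSectionVars false

namespace Cfsg.Agent.Omega.NO3S.SN2.StepAA

open Subgroup Cfsg Cfsg.Agent.PLocal.ThompsonJ Cfsg.Agent.ZN Cfsg.Agent.ZN.ChoiceBase
open Cfsg.Agent.ZN.ChoiceSit Cfsg.Agent.PLocal.ElemAbSup
open Cfsg.Agent.Omega.MinPar
open Cfsg.Agent.Omega.S5.Def Cfsg.Agent.Omega.S5.Syl Cfsg.Agent.Omega.S5.Pair
open Cfsg.Agent.Omega.NSix.Base Cfsg.Agent.Omega.NSix.Basic
open Cfsg.Agent.Omega.SQ1.Bau (mem_AA_of_comm elem_comm elem_sq mem_sup_comm card_sup_comm)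
open Cfsg.Agent.Omega.NSix.CaseJ.Exact (Ex exists_ex mem_zp sup_elem count)
open Cfsg.Agent.Omega.NO3S.SN.TwoP (Fr V_le_WW WW_le_Q WW_comm WW_sq WW_elem card_le_AA)
open Cfsg.Agent.Omega.NO3S.SN2.LemY Cfsg.Agent.Omega.NO3S.SN2.StepAB

universe u

variable {G : Type u} [Group G] [Finite G] {S : Sylow 2 G} {P : Subgroup G} {m : ℕ}
  {ε : (Fin (2 ^ m + 1) → ZMod 2) → G}

/-- Centralised by `A(O₂(P))` implies: in `YY`. -/
theorem mem_YY_of_AA (h : NSix.CaseJ.Base.Hyp S P ε) {u : G} (hu : u ∈ o2 P) (hu2 : u * u = 1)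
    (hc : ∀ B ∈ AA (o2 P), ∀ b ∈ B, b * u = u * b) : u ∈ YY S P ε :=
  (mem_YY h).2 ⟨hu, hu2, fun _ _ hij _ hA b hb => hc _ (Exact.sup_mem_AA h hA hij) b (mem_sup_left hb)⟩

section

variable {M₀ D T R : Subgroup G} (f : Fr S P ε M₀ D T R)
include f

/-- `|M : C_M(B)| ≤ |B : B ∩ O₂(R)|`. -/
theorem rel {h : G} (hV : h ∈ zl (S : Subgroup G) P)
    (hc : ∀ B ∈ AA (o2 P), ∀ b ∈ B, b ∈ o2 R → ∀ y ∈ Mh R h D, b * y = y * b) :
    ∀ B ∈ AA (o2 P), (centralizer (B : Set G)).relIndex (Mh R h D) ≤ (o2 R).relIndex B := by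
  intro B hB
  have hVW := V_le_WW f.hN
  have hX : IsElementaryAbelian 2 (zl (S : Subgroup G) P ⊔ Mh R h D : Subgroup G) :=
    isElementaryAbelian_mono WW_elem (sup_le hVW (Mh_WW f hV))
  have h1 := count hB.1 hX fun C hC => card_le_AA f.h hB hC
  refine relIndex_le le_sup_right ((Nat.mul_le_mul_left _ (Subgroup.card_le_of_le ?_)).trans h1)
  rintro b ⟨hb, hbO⟩
  refine ⟨hb, mem_centralizer_iff.2 fun y hy => ?_⟩
  obtain ⟨v, hv, w, hw, rfl⟩ := mem_sup_comm (fun v hv w hw => WW_comm (hVW hv) (Mh_WW f hV hw)) hy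
  have c1 : Commute b v := f.h.VcQ (hB.2.1 hb) hv
  have c2 : Commute b w := hc B hB b hb hbO w hw
  exact (c1.mul_right c2).eq.symm

/-- Some `B ∈ A(O₂(P))` is not contained in `O₂(R)`. -/
theorem ex : ∃ B ∈ AA (o2 P), ¬ B ≤ o2 R := by
  by_contra hcon
  push Not at hcon
  apply f.nJ
  rw [jj_eq]
  exact sSup_le fun B hB => hcon B hB

/-- LEMMA Y for `M`. -/
theorem lemY' {h : G} (hV : h ∈ zl (S : Subgroup G) P) :
    ∀ u ∈ Mh R h D, (∀ B ∈ AA (o2 P), ∀ b ∈ B, b * u = u * b) →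
      u ∈ zl (S : Subgroup G) P ∨ ∀ v ∈ zl (S : Subgroup G) P, ∃ q ∈ o2 P, q * u * q⁻¹ = v * u := by
  intro u hu hc
  have huW := Mh_WW f hV hu
  rcases lemY f.h (mem_YY_of_AA f.h (WW_le_Q f.h f.hN huW) (WW_sq huW) hc) with h1 | h1
  · exact Or.inl h1
  · refine Or.inr fun v hv => ?_
    obtain ⟨q, hq, -, hqu⟩ := h1 v hv
    exact ⟨q, hq, hqu⟩

/-- **The structure `FF.Stp` with `Rel = A(O₂(P))`.** -/
theorem stpAA {h : G} (hV : h ∈ zl (S : Subgroup G) P) (hD : h ∉ D) (hT : ∀ t ∈ T, t * h * t⁻¹ * h⁻¹ ∈ D)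
    {E : Subgroup G} (hE : E ≤ D) (hO : ∀ t ∈ o2 R, t * h * t⁻¹ * h⁻¹ ∈ E)
    (hc : ∀ B ∈ AA (o2 P), ∀ b ∈ B, b ∈ o2 R → ∀ y ∈ Mh R h D, b * y = y * b)
    (hna : D ≤ E → ∃ s ∈ T, ∃ t ∈ T, ∃ v ∈ zl (S : Subgroup G) P,
      s * t * s⁻¹ * t⁻¹ * v * (s * t * s⁻¹ * t⁻¹)⁻¹ * v⁻¹ ∉ D) :
    FF.Stp (zl (S : Subgroup G) P) (o2 P) T R M₀ D E (Mh R h D) h (AA (o2 P)) where
  TR := f.TR
  TM := f.T_M₀
  two := f.T2
  syl := syl_not_dvd f.sylR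
  notM := f.nR
  min K hK hKR hKM := by
    by_contra hne
    exact hKM (f.min K hK (lt_of_le_of_ne hKR hne))
  Vc v hv w hw := f.h.ev.comm_mem hv hw
  Vs v hv := f.h.ev.sq_mem hv
  Mc v hv w hw := WW_comm (Mh_WW f hV hv) (Mh_WW f hV hw)
  Ms v hv := WW_sq (Mh_WW f hV hv)
  DV := f.D_le
  Dc d hd g hg := Dc f hd hg
  st u hu huD g hg hgu := f.mem_M₀ hg hu huD (by
    rw [hgu, mul_inv_cancel_right, mul_inv_cancel]
    exact one_mem _)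
  hV := hV
  hD := hD
  hT := hT
  ED := hE
  hO := hO
  hM := h_mem
  DM := D_le_Mh
  RM := Mh_norm f h
  Mgen K hK hKx := Mh_le hK hKx
  QT := f.QT
  QV q hq := mem_centralizer_iff.2 fun v hv => (f.h.VcQ hq hv).symm
  relQ B hB := hB.2.1
  relc B hB a ha b hb := elem_comm hB.1 a ha b hb
  rels B hB a ha := by
    have := elem_sq hB.1 a ha
    rwa [pow_two] at this
  rel := rel f hV hc
  ex := ex f
  lemY := lemY' f hV
  na := hna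

end

end Cfsg.Agent.Omega.NO3S.SN2.StepAA
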