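import Cfsg.Agent.Omega.NO3S.SN2.AtomPerm
import Cfsg.Agent.PLocal.ElemAbSup
import Cfsg.Agent.Omega.MinPar

/-!
# SN.Two, THEOREM #21330 (helper28), (3) + (4): an atom has size at most 2

`V = ε(F₂^Ω)` (`Ω` = the letters `≠ ∞`), `O` acts on `V` by permutations of the letters (`φ`), `C_V(O) ≤ D`, `Δ` an
`O`-orbit, `r = ε(1_Δ)`, `M ≥ D` normalised by `R`, `[M, O] ≤ ⟨r⟩`, `A₀ ≤ R` elementary abelian, centralises `V`,
`A₀ ≰ O`.

* `Sit` : the hypotheses (helper82, #21744);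
* `Sit.bound` : `2^e ≤ 2 q β`, `q = |A₀ : A₀ ∩ O|`, `β = |A₀ ∩ O : C_{A₀}((V_Δ)^x)|`, `e = |Δ|`;
* `Sit.q_le` : `q ≤ e`; `Sit.beta_le` : `β² ≤ 2^e`.
-/

set_option autoImplicit false
set_option linter.unusedSectionVars false

namespace Cfsg.Agent.Omega.NO3S.SN2.Atom

open Subgroup Cfsg Cfsg.Agent.ZN Cfsg.Agent.PLocal.ElemAbSup Cfsg.Agent.PLocal.ThompsonJ

universe u

variable {G : Type u} [Group G]

/-- the characteristic function of `Δ` -/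
noncomputable def ind {Ω : Type*} (Δ : Set Ω) : Ω → ZMod 2 := Δ.indicator 1

/-- **The hypotheses of (3) + (4).** -/
structure Sit {Ω : Type} (V D R O A₀ M U M₀ : Subgroup G) (ε : (Ω → ZMod 2) → G) (φ : O →* Equiv.Perm Ω)
    (Δ : Set Ω) : Prop where
  add : ∀ x y, ε (x + y) = ε x * ε y
  inj : ∀ x, ε x = 1 → x = 0
  V_iff : ∀ v, v ∈ V ↔ ∃ x, ε x = v
  act : ∀ (o : O) (x : Ω → ZMod 2), (o : G) * ε x * (o : G)⁻¹ = ε (x ∘ (φ o).symm)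
  O2 : IsPGroup 2 O
  orb : ∀ i ∈ Δ, ∀ j, j ∈ Δ ↔ ∃ o : O, φ o i = j
  four : 4 ≤ Nat.card Δ
  DV : D ≤ V
  cD : ∀ v ∈ V, (∀ o ∈ O, o * v = v * o) → v ∈ D
  RD : ∀ g ∈ R, ∀ d ∈ D, g * d = d * g
  OR : O ≤ R
  nO : ∀ g ∈ R, ∀ o ∈ O, g * o * g⁻¹ ∈ O
  U2 : IsElementaryAbelian 2 U
  VU : ∀ g ∈ R, ∀ v ∈ V, g * v * g⁻¹ ∈ U
  AR : A₀ ≤ R
  A2 : IsElementaryAbelian 2 A₀
  AV : ∀ a ∈ A₀, ∀ v ∈ V, a * v = v * a
  nA : ¬ A₀ ≤ O
  count : ∀ X : Subgroup G, IsElementaryAbelian 2 X → V ≤ X →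
    Nat.card X * Nat.card ↥(A₀ ⊓ centralizer (X : Set G)) ≤ Nat.card A₀ * Nat.card ↥(X ⊓ centralizer (A₀ : Set G))
  DM : D ≤ M
  nM : ∀ g ∈ R, ∀ w ∈ M, g * w * g⁻¹ ∈ M
  MO : ∀ w ∈ M, ∀ o ∈ O, o * w * o⁻¹ * w⁻¹ = 1 ∨ o * w * o⁻¹ * w⁻¹ = ε (ind Δ)
  /-- `|A₀ : A₀ ∩ O| = |(V ∩ M) / D|` -/
  F1 : Nat.card ↥(V ⊓ M) * Nat.card ↥(A₀ ⊓ O) = Nat.card D * Nat.card A₀
  F2 : ∀ a ∈ A₀, ∀ w ∈ M, a * w * a⁻¹ * w⁻¹ ∈ V
  F3 : ∀ c ∈ A₀, c ∉ O → ∀ x ∈ R, x ∉ M₀ → x * c * x⁻¹ ∉ M₀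
  TI : ∀ y ∈ R, y ∉ M₀ → ∀ v ∈ V, y * v * y⁻¹ ∈ V → v ∈ D
  nR : ¬ R ≤ M₀

theorem fun_add_self {Ω : Type*} (x : Ω → ZMod 2) : x + x = 0 := funext fun i => CharTwo.add_self_eq_zero (x i)

theorem fun_eq {Ω : Type*} {x y : Ω → ZMod 2} (h : x + y = 0) : x = y := funext fun i =>
  CharTwo.add_eq_zero.1 (congrFun h i)

/-! ### Elementary abelian groups -/

theorem comm_of {U : Subgroup G} (hU : IsElementaryAbelian 2 U) {a b : G} (ha : a ∈ U) (hb : b ∈ U) :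
    a * b = b * a := (isElementaryAbelian_iff.1 hU).1 a ha b hb

theorem sq_of {U : Subgroup G} (hU : IsElementaryAbelian 2 U) {a : G} (ha : a ∈ U) : a * a = 1 := by
  have := (isElementaryAbelian_iff.1 hU).2 a ha
  rwa [pow_two] at this

theorem inv_of {U : Subgroup G} (hU : IsElementaryAbelian 2 U) {a : G} (ha : a ∈ U) : a⁻¹ = a :=
  inv_eq_of_mul_eq_one_left (sq_of hU ha)

theorem mono_of {U W : Subgroup G} (hU : IsElementaryAbelian 2 U) (h : W ≤ U) : IsElementaryAbelian 2 W :=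
  isElementaryAbelian_iff.2 ⟨fun x hx y hy => comm_of hU (h hx) (h hy), fun x hx => by
    rw [pow_two]; exact sq_of hU (h hx)⟩

/-- `|A| |B| = |A ⊔ B| |A ⊓ B|` inside an abelian group -/
theorem card_sup {U A B : Subgroup G} (hU : IsElementaryAbelian 2 U) (hA : A ≤ U) (hB : B ≤ U) :
    Nat.card ↥(A ⊔ B) * Nat.card ↥(A ⊓ B) = Nat.card A * Nat.card B :=
  card_sup_mul_card_inf fun _ hb => mem_centralizer_iff.2 fun _ ha => comm_of hU (hA ha) (hB hb)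

theorem two_mul_card_le [Finite G] {A C : Subgroup G} (hCA : C ≤ A) (hne : ¬ A ≤ C) :
    2 * Nat.card C ≤ Nat.card A := by
  have h1 := card_mul_index (C.subgroupOf A)
  have h2 : Nat.card (C.subgroupOf A) = Nat.card C := Nat.card_congr (subgroupOfEquivOfLe hCA).toEquiv
  have h3 : (C.subgroupOf A).index ≠ 1 := fun h0 => hne (subgroupOf_eq_top.1 (index_eq_one.1 h0))
  have h4 : (C.subgroupOf A).index ≠ 0 := index_ne_zero_of_finite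
  rw [h2] at h1
  rw [← h1, mul_comm]
  exact Nat.mul_le_mul_left _ (by omega)

namespace Sit

variable {Ω : Type} [Finite Ω] {V D R O A₀ M U M₀ : Subgroup G} {ε : (Ω → ZMod 2) → G} {φ : O →* Equiv.Perm Ω}
  {Δ : Set Ω} (h : Sit V D R O A₀ M U M₀ ε φ Δ)
include h

theorem zero : ε 0 = 1 := by
  have h1 := h.add 0 0
  rw [add_zero] at h1
  exact (mul_eq_left.1 h1.symm)

theorem eps_inj {x y : Ω → ZMod 2} (hxy : ε x = ε y) : x = y := by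
  have h1 : ε (x + y) = 1 := by
    rw [h.add, hxy, ← h.add, fun_add_self, h.zero]
  exact fun_eq (h.inj _ h1)

theorem VU' : V ≤ U := fun v hv => by
  have := h.VU 1 (one_mem _) v hv
  rwa [one_mul, inv_one, mul_one] at this

/-- `V_Δ` -/
def VD : Subgroup G where
  carrier := {v | ∃ x : Ω → ZMod 2, (∀ i, i ∉ Δ → x i = 0) ∧ ε x = v}
  mul_mem' := by
    rintro _ _ ⟨x, hx, rfl⟩ ⟨y, hy, rfl⟩
    exact ⟨x + y, fun i hi => by rw [Pi.add_apply, hx i hi, hy i hi, add_zero], h.add x y⟩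
  one_mem' := ⟨0, fun _ _ => rfl, h.zero⟩
  inv_mem' := by
    rintro _ ⟨x, hx, rfl⟩
    refine ⟨x, hx, ?_⟩
    rw [eq_inv_iff_mul_eq_one, ← h.add, fun_add_self, h.zero]

theorem mem_VD {v : G} : v ∈ h.VD ↔ ∃ x : Ω → ZMod 2, (∀ i, i ∉ Δ → x i = 0) ∧ ε x = v := Iff.rfl

theorem VD_le : h.VD ≤ V := by
  rintro _ ⟨x, -, rfl⟩
  exact (h.V_iff _).2 ⟨x, rfl⟩

/-- `|V_Δ| = 2^e` -/
theorem card_VD : Nat.card h.VD = 2 ^ Nat.card Δ := by
  classical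
  have e : h.VD ≃ (Δ → ZMod 2) :=
    { toFun := fun v i => v.2.choose i
      invFun := fun y => ⟨ε fun i => if hi : i ∈ Δ then y ⟨i, hi⟩ else 0, _, fun i hi => dif_neg hi, rfl⟩
      left_inv := by
        rintro ⟨v, hv⟩
        apply Subtype.ext
        obtain ⟨h1, h2⟩ := hv.choose_spec
        change ε (fun i => if hi : i ∈ Δ then hv.choose i else 0) = v
        conv_rhs => rw [← h2]
        congr 1
        funext i
        by_cases hi : i ∈ Δ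
        · rw [dif_pos hi]
        · rw [dif_neg hi, h1 i hi]
      right_inv := by
        intro y
        have h0 : (ε fun i => if hi : i ∈ Δ then y ⟨i, hi⟩ else 0) ∈ h.VD := ⟨_, fun i hi => dif_neg hi, rfl⟩
        obtain ⟨h1, h2⟩ := h0.choose_spec
        funext i
        change h0.choose i = y i
        rw [h.eps_inj h2]
        exact dif_pos i.2 }
  have : Finite Δ := Subtype.finite
  rw [Nat.card_congr e, Nat.card_fun, Nat.card_zmod]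

/-- `O` normalises `V_Δ` -/
theorem conj_VD {o : G} (ho : o ∈ O) {v : G} (hv : v ∈ h.VD) : o * v * o⁻¹ ∈ h.VD := by
  obtain ⟨x, hx, rfl⟩ := hv
  refine ⟨_, fun i hi => ?_, (h.act ⟨o, ho⟩ x).symm⟩
  refine hx _ fun h0 => hi ?_
  have h1 := (h.orb _ h0 i).2 ⟨⟨o, ho⟩, by rw [Equiv.apply_symm_apply]⟩
  exact h1

omit [Finite Ω] in
theorem ind_mem {i : Ω} (hi : i ∈ Δ) : ind Δ i = 1 := Set.indicator_of_mem hi _

omit [Finite Ω] h in
theorem ind_not_mem {i : Ω} (hi : i ∉ Δ) : ind Δ i = 0 := Set.indicator_of_notMem hi _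

theorem nonempty : ∃ i, i ∈ Δ := by
  by_contra hcon
  push Not at hcon
  have h1 : Nat.card Δ = 0 := by
    rw [Set.eq_empty_of_forall_notMem hcon]
    simp
  have := h.four
  omega

/-- `r` -/
theorem r_mem_VD : ε (ind Δ) ∈ h.VD := ⟨_, fun _ hi => ind_not_mem hi, rfl⟩

theorem r_ne : ε (ind Δ) ≠ 1 := fun h0 => by
  obtain ⟨i, hi⟩ := h.nonempty
  have h1 := congrFun (h.inj _ h0) i
  rw [h.ind_mem hi] at h1
  exact one_ne_zero h1

theorem r_mem_D : ε (ind Δ) ∈ D := by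
  refine h.cD _ (h.VD_le h.r_mem_VD) fun o ho => ?_
  have h1 := h.act ⟨o, ho⟩ (ind Δ)
  have h2 : (ind Δ) ∘ (φ ⟨o, ho⟩).symm = ind Δ := by
    funext i
    rw [Function.comp_apply]
    by_cases hi : i ∈ Δ
    · have h3 : (φ ⟨o, ho⟩).symm i ∈ Δ := by
        refine (h.orb i hi _).2 ⟨(⟨o, ho⟩ : O)⁻¹, ?_⟩
        rw [map_inv]; rfl
      rw [h.ind_mem hi, h.ind_mem h3]
    · have h3 : (φ ⟨o, ho⟩).symm i ∉ Δ := fun h4 => hi ((h.orb _ h4 i).2 ⟨⟨o, ho⟩, by rw [Equiv.apply_symm_apply]⟩)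
      rw [ind_not_mem hi, ind_not_mem h3]
  rw [h2] at h1
  exact mul_inv_eq_iff_eq_mul.1 h1

/-- `V_Δ ∩ D = {1, r}` -/
theorem VD_D {v : G} (hv : v ∈ h.VD) (hD : v ∈ D) : v = 1 ∨ v = ε (ind Δ) := by
  obtain ⟨x, hx, rfl⟩ := hv
  have hc : ∀ o : O, x ∘ (φ o).symm = x := by
    intro o
    apply h.eps_inj
    rw [← h.act o x, h.RD _ (h.OR o.2) _ hD, mul_inv_cancel_right]
  obtain ⟨i, hi⟩ := h.nonempty
  have hj : ∀ j ∈ Δ, x j = x i := by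
    intro j hj
    obtain ⟨o, ho⟩ := (h.orb i hi j).1 hj
    have h1 := congrFun (hc o) j
    rw [Function.comp_apply, ← ho, Equiv.symm_apply_apply] at h1
    rw [← ho, h1]
  rcases AtomPerm.zmod2_cases (x i) with h1 | h1
  · left
    have h2 : x = 0 := by
      funext j
      by_cases hjD : j ∈ Δ
      · rw [hj j hjD, h1]; rfl
      · rw [hx j hjD]; rfl
    rw [h2, h.zero]
  · right
    congr 1
    funext j
    by_cases hjD : j ∈ Δ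
    · rw [hj j hjD, h1, h.ind_mem hjD]
    · rw [hx j hjD, ind_not_mem hjD]

/-! ### An element outside `M₀` -/

/-- `(V_Δ)^x` -/
def V1 (x : G) : Subgroup G := (h.VD).map (MulAut.conj x).toMonoidHom

theorem mem_V1 {x u : G} : u ∈ h.V1 x ↔ ∃ v ∈ h.VD, x * v * x⁻¹ = u := Iff.rfl

theorem card_V1 (x : G) : Nat.card (h.V1 x) = 2 ^ Nat.card Δ := by
  rw [← h.card_VD]
  exact (Nat.card_congr ((h.VD).equivMapOfInjective _ (MulAut.conj x).injective).toEquiv).symm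

theorem V1_le {x : G} (hx : x ∈ R) : h.V1 x ≤ U := by
  rintro _ ⟨v, hv, rfl⟩
  exact h.VU x hx v (h.VD_le hv)

/-- `V₁ ∩ D = {1, r}` -/
theorem V1_D {x : G} (hx : x ∈ R) {u : G} (hu : u ∈ h.V1 x) (hD : u ∈ D) : u = 1 ∨ u = ε (ind Δ) := by
  obtain ⟨v, hv, rfl⟩ := hu
  change x * v * x⁻¹ ∈ D at hD
  have h1 : x * v * x⁻¹ = v := by
    have h2 := h.RD _ (inv_mem hx) _ hD
    have h3 : v = x⁻¹ * (x * v * x⁻¹) * x := by group
    rw [h2] at h3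
    rw [inv_mul_cancel_right] at h3
    exact h3.symm
  rw [h1] at hD
  change x * v * x⁻¹ = 1 ∨ x * v * x⁻¹ = _
  rw [h1]
  exact h.VD_D hv hD

theorem r_mem_V1 {x : G} (hx : x ∈ R) : ε (ind Δ) ∈ h.V1 x := by
  refine ⟨_, h.r_mem_VD, ?_⟩
  change x * _ * x⁻¹ = _
  rw [h.RD x hx _ h.r_mem_D, mul_inv_cancel_right]

/-- `O` normalises `V₁` -/
theorem conj_V1 {x o : G} (hx : x ∈ R) (ho : o ∈ O) {u : G} (hu : u ∈ h.V1 x) : o * u * o⁻¹ ∈ h.V1 x := by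
  obtain ⟨v, hv, rfl⟩ := hu
  have h1 := h.nO x⁻¹ (inv_mem hx) o ho
  rw [inv_inv] at h1
  refine ⟨_, h.conj_VD h1 hv, ?_⟩
  change x * (x⁻¹ * o * x * v * (x⁻¹ * o * x)⁻¹) * x⁻¹ = o * (x * v * x⁻¹) * o⁻¹
  group

/-- **(f4)** `V^x ∩ V^{xc} ≤ D` for `c ∈ A₀ ∖ O` -/
theorem Vx_c {x c : G} (hx : x ∈ R) (hxM : x ∉ M₀) (hc : c ∈ A₀) (hcO : c ∉ O) {v w : G} (hv : v ∈ V) (hw : w ∈ V)
    (hvw : c * (x * v * x⁻¹) * c⁻¹ = x * w * x⁻¹) : x * v * x⁻¹ ∈ D := by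
  have hxM' : x⁻¹ ∉ M₀ := fun h0 => hxM (inv_inv x ▸ inv_mem h0)
  have h1 := h.F3 c hc hcO x⁻¹ (inv_mem hx) hxM'
  have h2 : x⁻¹ * c * x⁻¹⁻¹ ∈ R := by
    rw [inv_inv]
    exact mul_mem (mul_mem (inv_mem hx) (h.AR hc)) hx
  have h3 : v ∈ D := by
    refine h.TI _ h2 h1 v hv ?_
    have e : x⁻¹ * c * x⁻¹⁻¹ * v * (x⁻¹ * c * x⁻¹⁻¹)⁻¹ = w := by
      calc x⁻¹ * c * x⁻¹⁻¹ * v * (x⁻¹ * c * x⁻¹⁻¹)⁻¹ = x⁻¹ * (c * (x * v * x⁻¹) * c⁻¹) * x := by group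
        _ = w := by rw [hvw]; group
    rw [e]
    exact hw
  rw [h.RD x hx v h3, mul_inv_cancel_right]
  exact h3

/-- `V₁ ∩ V₁^c ≤ D` for `c ∈ A₀ ∖ O` -/
theorem V1_c {x c : G} (hx : x ∈ R) (hxM : x ∉ M₀) (hc : c ∈ A₀) (hcO : c ∉ O) {u : G} (hu : u ∈ h.V1 x)
    (hu' : c * u * c⁻¹ ∈ h.V1 x) : u ∈ D := by
  obtain ⟨v, hv, rfl⟩ := hu
  obtain ⟨w, hw, hw'⟩ := hu'
  exact h.Vx_c hx hxM hc hcO (h.VD_le hv) (h.VD_le hw) hw'.symm

/-- the group `N'` -/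
def NN (x : G) : Subgroup G := V ⊔ closure {u | ∃ a ∈ A₀, ∃ w ∈ h.V1 x, u = a * w * a⁻¹}

theorem V_le_NN (x : G) : V ≤ h.NN x := le_sup_left

theorem mem_NN {x a w : G} (ha : a ∈ A₀) (hw : w ∈ h.V1 x) : a * w * a⁻¹ ∈ h.NN x :=
  (le_sup_right : _ ≤ h.NN x) (subset_closure ⟨a, ha, w, hw, rfl⟩)

theorem V1_le_NN (x : G) : h.V1 x ≤ h.NN x := fun w hw => by
  have := h.mem_NN (one_mem A₀) hw
  rwa [one_mul, inv_one, mul_one] at this

theorem NN_le {x : G} (hx : x ∈ R) : h.NN x ≤ U := by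
  refine sup_le h.VU' ?_
  rw [closure_le]
  rintro _ ⟨a, ha, w, ⟨v, hv, rfl⟩, rfl⟩
  have h1 := h.VU (a * x) (mul_mem (h.AR ha) hx) v (h.VD_le hv)
  change a * (x * v * x⁻¹) * a⁻¹ ∈ U
  have e : a * (x * v * x⁻¹) * a⁻¹ = a * x * v * (a * x)⁻¹ := by group
  rw [e]
  exact h1

theorem NN_elem {x : G} (hx : x ∈ R) : IsElementaryAbelian 2 (h.NN x) := mono_of h.U2 (h.NN_le hx)

/-- `A₀` normalises `N'` -/
theorem conj_NN {x a : G} (ha : a ∈ A₀) {u : G} (hu : u ∈ h.NN x) : a * u * a⁻¹ ∈ h.NN x := by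
  have h1 : h.NN x ≤ (h.NN x).comap (MulAut.conj a).toMonoidHom := by
    refine sup_le ?_ ?_
    · intro v hv
      change a * v * a⁻¹ ∈ h.NN x
      rw [h.AV a ha v hv, mul_inv_cancel_right]
      exact h.V_le_NN x hv
    · rw [closure_le]
      rintro _ ⟨b, hb, w, hw, rfl⟩
      change a * (b * w * b⁻¹) * a⁻¹ ∈ h.NN x
      have e : a * (b * w * b⁻¹) * a⁻¹ = a * b * w * (a * b)⁻¹ := by group
      rw [e]
      exact h.mem_NN (mul_mem ha hb) hw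
  exact h1 hu

/-- the kernel -/
def KK (x : G) : Subgroup G := A₀ ⊓ centralizer (h.V1 x : Set G)

theorem KK_eq (x : G) : A₀ ⊓ centralizer (h.NN x : Set G) = h.KK x := by
  apply le_antisymm
  · exact fun b hb => ⟨hb.1, mem_centralizer_iff.2 fun w hw => mem_centralizer_iff.1 hb.2 w (h.V1_le_NN x hw)⟩
  · intro b hb
    refine ⟨hb.1, ?_⟩
    have h1 : h.NN x ≤ centralizer ({b} : Set G) := by
      refine sup_le ?_ ?_
      · intro v hv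
        rw [mem_centralizer_singleton_iff]
        exact (h.AV b hb.1 v hv).symm
      · rw [closure_le]
        rintro _ ⟨a, ha, w, hw, rfl⟩
        rw [SetLike.mem_coe, mem_centralizer_singleton_iff]
        have e1 := comm_of h.A2 ha hb.1
        have e2 := comm_of h.A2 (inv_mem ha) hb.1
        have e3 := mem_centralizer_iff.1 hb.2 w hw
        calc a * w * a⁻¹ * b = a * w * (a⁻¹ * b) := by group
          _ = a * (w * b) * a⁻¹ := by rw [e2]; group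
          _ = a * b * w * a⁻¹ := by rw [e3]; group
          _ = b * (a * w * a⁻¹) := by rw [e1]; group
    exact mem_centralizer_iff.2 fun u hu => mem_centralizer_singleton_iff.1 (h1 hu)

theorem two_lt : 2 < 2 ^ Nat.card Δ := by
  calc 2 < 2 ^ 4 := by norm_num
    _ ≤ 2 ^ Nat.card Δ := Nat.pow_le_pow_right (by norm_num) h.four

/-- a subgroup of `V₁` inside `D` has order at most 2 -/
theorem card_le_two_of [Finite G] {x : G} (hx : x ∈ R) {W : Subgroup G} (hW : W ≤ h.V1 x) (hD : W ≤ D) :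
    Nat.card W ≤ 2 := by
  have h1 : (W : Set G) ⊆ {1, ε (ind Δ)} := by
    intro w hw
    rcases h.V1_D hx (hW hw) (hD hw) with h2 | h2
    · exact Or.inl h2
    · exact Or.inr h2
  calc Nat.card W = Set.ncard (W : Set G) := rfl
    _ ≤ Set.ncard ({1, ε (ind Δ)} : Set G) := Set.ncard_le_ncard h1 (Set.toFinite _)
    _ ≤ 2 := (Set.ncard_insert_le _ _).trans (by rw [Set.ncard_singleton])

theorem KK_le {x : G} [Finite G] (hx : x ∈ R) (hxM : x ∉ M₀) : h.KK x ≤ A₀ ⊓ O := by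
  intro c hc
  refine ⟨hc.1, ?_⟩
  by_contra hcO
  have h1 : h.V1 x ≤ D := by
    intro u hu
    refine h.V1_c hx hxM hc.1 hcO hu ?_
    rw [← mem_centralizer_iff.1 hc.2 u hu, mul_inv_cancel_right]
    exact hu
  have h2 := h.card_le_two_of hx le_rfl h1
  rw [h.card_V1] at h2
  have := h.two_lt
  omega

/-- `C'` -/
def CC (x : G) : Subgroup G := h.NN x ⊓ centralizer (A₀ : Set G)

theorem CC_le {x : G} (hx : x ∈ R) : h.CC x ≤ U := inf_le_left.trans (h.NN_le hx)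

theorem D_le_CC (x : G) : D ≤ h.CC x := fun d hd =>
  ⟨h.V_le_NN x (h.DV hd), mem_centralizer_iff.2 fun a ha => h.RD a (h.AR ha) d hd⟩

theorem V1_CC {x c : G} (hx : x ∈ R) (hxM : x ∉ M₀) (hc : c ∈ A₀) (hcO : c ∉ O) : h.V1 x ⊓ h.CC x ≤ D := by
  intro u hu
  refine h.V1_c hx hxM hc hcO hu.1 ?_
  rw [mem_centralizer_iff.1 hu.2.2 c hc, mul_inv_cancel_right]
  exact hu.1

/-- `2^e |C'| ≤ 2 |V₁ C'|` -/
theorem sup_bound [Finite G] {x : G} (hx : x ∈ R) (hxM : x ∉ M₀) :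
    2 ^ Nat.card Δ * Nat.card (h.CC x) ≤ 2 * Nat.card ↥(h.V1 x ⊔ h.CC x) := by
  obtain ⟨c, hc, hcO⟩ := SetLike.not_le_iff_exists.1 h.nA
  have h1 := card_sup h.U2 (h.V1_le hx) (h.CC_le hx)
  have h2 := h.card_le_two_of hx (inf_le_left : h.V1 x ⊓ h.CC x ≤ h.V1 x) (h.V1_CC hx hxM hc hcO)
  rw [h.card_V1] at h1
  rw [← h1, mul_comm 2]
  exact Nat.mul_le_mul_left _ h2

/-- the count -/
theorem count' (x : G) (hx : x ∈ R) :
    Nat.card (h.NN x) * Nat.card (h.KK x) ≤ Nat.card A₀ * Nat.card (h.CC x) := by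
  have h1 := h.count (h.NN x) (h.NN_elem hx) (h.V_le_NN x)
  rwa [h.KK_eq] at h1

end Sit

end Cfsg.Agent.Omega.NO3S.SN2.Atom
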