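import Cfsg.Agent.Omega.NO3S.SN2.AtomTwo

/-!
# SN.Two, THEOREM #21330 (helper28), (3) + (4): the end

* `Sit.trivial_of` : `[V₁, b] ≤ D` implies `[V₁, b] = 1` (`V₁ = (V_Δ)^x`, `b ∈ A₀ ∩ O`);
* `Sit.eq_case` : `V₁ C' = N'` implies `A₀ ∩ O` centralises `V₁`;
* `Sit.four_case` : `e = q = 4` and `A₀ ∩ O` does not centralise `V₁`: `32 |C'| ≤ |N'|`;
* **`Sit.false`** : the situation does not exist: atoms of size `≥ 4` are impossible.
-/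

set_option autoImplicit false
set_option linter.unusedSectionVars false

namespace Cfsg.Agent.Omega.NO3S.SN2.Atom.Sit

open Subgroup Cfsg Cfsg.Agent.ZN Cfsg.Agent.PLocal.ElemAbSup Cfsg.Agent.PLocal.ThompsonJ

universe u

variable {G : Type u} [Group G] [Finite G]

omit [Finite G] in
theorem _root_.Cfsg.Agent.Omega.NO3S.SN2.Atom.mem_sup_comm {A B : Subgroup G} (h : ∀ a ∈ A, ∀ b ∈ B, a * b = b * a)
    {x : G} (hx : x ∈ A ⊔ B) : ∃ a ∈ A, ∃ b ∈ B, a * b = x := by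
  let W : Subgroup G :=
    { carrier := {y | ∃ a ∈ A, ∃ b ∈ B, a * b = y}
      mul_mem' := by
        rintro _ _ ⟨a, ha, b, hb, rfl⟩ ⟨a', ha', b', hb', rfl⟩
        refine ⟨a * a', mul_mem ha ha', b * b', mul_mem hb hb', ?_⟩
        rw [mul_assoc a, ← mul_assoc a', h a' ha' b hb]; group
      one_mem' := ⟨1, one_mem _, 1, one_mem _, one_mul _⟩
      inv_mem' := by
        rintro _ ⟨a, ha, b, hb, rfl⟩
        refine ⟨a⁻¹, inv_mem ha, b⁻¹, inv_mem hb, ?_⟩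
        rw [h _ (inv_mem ha) _ (inv_mem hb), mul_inv_rev] }
  have h1 : A ⊔ B ≤ W := sup_le (fun a ha => ⟨a, ha, 1, one_mem _, mul_one a⟩) fun b hb => ⟨1, one_mem _, b, hb, one_mul b⟩
  exact h1 hx

variable {Ω : Type} [Finite Ω] {V D R O A₀ M U M₀ : Subgroup G} {ε : (Ω → ZMod 2) → G} {φ : O →* Equiv.Perm Ω}
  {Δ : Set Ω} (h : Sit V D R O A₀ M U M₀ ε φ Δ)
include h

/-- `[V_Δ, o] ≤ D` implies that `o` is trivial on `Δ` -/
theorem rho_one_of {o : O} (ho : ∀ v ∈ h.VD, (o : G) * v * (o : G)⁻¹ * v⁻¹ ∈ D) : h.rho o = 1 := by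
  classical
  ext i
  change φ o i = i
  by_contra hne
  have hs : ∀ j, j ∉ Δ → (Pi.single (i : Ω) 1 : Ω → ZMod 2) j = 0 := fun j hj =>
    Pi.single_eq_of_ne (fun h0 => hj (by rw [h0]; exact i.2)) _
  have hv : ε (Pi.single (i : Ω) 1) ∈ h.VD := ⟨_, hs, rfl⟩
  have h1 := ho _ hv
  have h2 := h.VD_D (mul_mem (h.conj_VD o.2 hv) (inv_mem hv)) h1
  -- a third letter
  obtain ⟨k, hkΔ, hk1, hk2⟩ : ∃ k, k ∈ Δ ∧ k ≠ (i : Ω) ∧ k ≠ φ o i := by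
    by_contra hcon
    push Not at hcon
    have h3 : Δ ⊆ {(i : Ω), φ o i} := fun k hk => by
      by_cases hki : k = i
      · exact Or.inl hki
      · exact Or.inr (hcon k hk hki)
    have h4 : Nat.card Δ ≤ 2 := by
      calc Nat.card Δ = Δ.ncard := rfl
        _ ≤ Set.ncard ({(i : Ω), φ o i} : Set Ω) := Set.ncard_le_ncard h3 (Set.toFinite _)
        _ ≤ 2 := (Set.ncard_insert_le _ _).trans (by rw [Set.ncard_singleton])
    have := h.four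
    omega
  have e1 : (o : G) * ε (Pi.single (i : Ω) 1) * (o : G)⁻¹ * (ε (Pi.single (i : Ω) 1))⁻¹ =
      ε ((Pi.single (i : Ω) 1 : Ω → ZMod 2) ∘ (φ o).symm + (Pi.single (i : Ω) 1 : Ω → ZMod 2)) := by
    rw [h.act, h.add]
    congr 1
    rw [inv_eq_iff_mul_eq_one, ← h.add, fun_add_self, h.zero]
  rw [e1] at h2
  have h5 : ((Pi.single (i : Ω) 1 : Ω → ZMod 2) ∘ (φ o).symm + (Pi.single (i : Ω) 1 : Ω → ZMod 2) : Ω → ZMod 2) k =
      0 := by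
    rw [Pi.add_apply, Function.comp_apply, Pi.single_eq_of_ne hk1, add_zero]
    apply Pi.single_eq_of_ne
    intro h6
    rw [Equiv.symm_apply_eq] at h6
    exact hk2 h6
  have h6 : ((Pi.single (i : Ω) 1 : Ω → ZMod 2) ∘ (φ o).symm + (Pi.single (i : Ω) 1 : Ω → ZMod 2) : Ω → ZMod 2) i =
      1 := by
    rw [Pi.add_apply, Function.comp_apply, Pi.single_eq_same, Pi.single_eq_of_ne, zero_add]
    intro h7
    rw [Equiv.symm_apply_eq] at h7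
    exact hne h7.symm
  rcases h2 with h2 | h2
  · have h3 := h.inj _ h2
    rw [h3] at h6
    exact zero_ne_one h6
  · have h3 := h.eps_inj h2
    rw [h3, h.ind_mem hkΔ] at h5
    exact one_ne_zero h5

/-- `[V₁, b] ≤ D` implies `[V₁, b] = 1` -/
theorem trivial_of {x b : G} (hx : x ∈ R) (hb : b ∈ A₀ ⊓ O)
    (hbD : ∀ w ∈ h.V1 x, b * w * b⁻¹ * w⁻¹ ∈ D) : b ∈ h.KK x := by
  refine (h.ker_cx hx ⟨b, hb⟩).1 (h.rho_one_of fun v hv => ?_)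
  have h1 := hbD (x * v * x⁻¹) ⟨v, hv, rfl⟩
  change x⁻¹ * b * x * v * (x⁻¹ * b * x)⁻¹ * v⁻¹ ∈ D
  have h2 := h.RD x⁻¹ (inv_mem hx) _ h1
  have e : x⁻¹ * b * x * v * (x⁻¹ * b * x)⁻¹ * v⁻¹ = x⁻¹ * (b * (x * v * x⁻¹) * b⁻¹ * (x * v * x⁻¹)⁻¹) * x := by
    group
  rw [e, h2, inv_mul_cancel_right]
  exact h1

/-- **LEMMA P** : if `N' = V₁ C'` then `A₀ ∩ O` centralises `V₁`. -/
theorem eq_case {x : G} (hx : x ∈ R) (hxM : x ∉ M₀) (hN : h.NN x ≤ h.V1 x ⊔ h.CC x) : A₀ ⊓ O ≤ h.KK x := by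
  obtain ⟨c, hc, hcO⟩ := SetLike.not_le_iff_exists.1 h.nA
  intro b hb
  refine h.trivial_of hx hb fun w hw => ?_
  have hwN := h.V1_le_NN x hw
  have hw' := h.conj_NN hc hwN
  have hU := h.NN_le hx
  -- `w w^c`
  have hp : w * (c * w * c⁻¹) ∈ h.NN x := mul_mem hwN hw'
  have h1 := hN hp
  have hcm : ∀ a ∈ h.V1 x, ∀ d ∈ h.CC x, a * d = d * a := fun a ha d hd =>
    comm_of h.U2 (h.V1_le hx ha) (h.CC_le hx hd)
  obtain ⟨w', hw'1, y, hy, hwy⟩ : ∃ w' ∈ h.V1 x, ∃ y ∈ h.CC x, w' * y = w * (c * w * c⁻¹) := by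
    exact mem_sup_comm hcm h1
  have hcc : c * c = 1 := sq_of h.A2 hc
  have hci : c⁻¹ = c := inv_of h.A2 hc
  -- `c` commutes with `w w^c` and with `y`
  have h3 : c * (w * (c * w * c⁻¹)) * c⁻¹ = w * (c * w * c⁻¹) := by
    calc c * (w * (c * w * c⁻¹)) * c⁻¹ = (c * w * c⁻¹) * ((c * c) * w * (c * c)⁻¹) := by group
      _ = (c * w * c⁻¹) * w := by rw [hcc]; group
      _ = w * (c * w * c⁻¹) := comm_of h.U2 (hU hw') (hU hwN)
  have h4 : c * y * c⁻¹ = y := by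
    rw [mem_centralizer_iff.1 hy.2 c hc, mul_inv_cancel_right]
  have h5 : c * w' * c⁻¹ = w' := by
    have h6 : c * (w' * y) * c⁻¹ = w' * y := by rw [hwy, h3]
    have h7 : c * (w' * y) * c⁻¹ = (c * w' * c⁻¹) * (c * y * c⁻¹) := by group
    rw [h7, h4] at h6
    exact mul_right_cancel h6
  have h6 : w' ∈ D := h.V1_c hx hxM hc hcO hw'1 (by rw [h5]; exact hw'1)
  -- `b` commutes with `w w^c`
  have h7 : w * (c * w * c⁻¹) ∈ centralizer (A₀ : Set G) := by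
    rw [← hwy]
    exact mul_mem (h.D_le_CC x h6).2 hy.2
  have h8 : b * (w * (c * w * c⁻¹)) * b⁻¹ = w * (c * w * c⁻¹) := by
    rw [mem_centralizer_iff.1 h7 b hb.1, mul_inv_cancel_right]
  have hbc : b * c = c * b := comm_of h.A2 hb.1 hc
  have hbw : b * w * b⁻¹ ∈ h.V1 x := h.conj_V1 hx hb.2 hw
  have hk : b * w * b⁻¹ * w⁻¹ ∈ h.V1 x := mul_mem hbw (inv_mem hw)
  refine h.V1_c hx hxM hc hcO hk ?_
  -- `[b, w]^c = [b, w]⁻¹`
  have h9 : c * (b * w * b⁻¹ * w⁻¹) * c⁻¹ = (b * w * b⁻¹ * w⁻¹)⁻¹ := by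
    have e1 : c * (b * w * b⁻¹ * w⁻¹) * c⁻¹ = (b * (c * w * c⁻¹) * b⁻¹) * (c * w * c⁻¹)⁻¹ := by
      have e2 : c * b = b * c := hbc.symm
      calc c * (b * w * b⁻¹ * w⁻¹) * c⁻¹ = (c * b) * w * (c * b)⁻¹ * (c * w * c⁻¹)⁻¹ := by group
        _ = (b * c) * w * (b * c)⁻¹ * (c * w * c⁻¹)⁻¹ := by rw [e2]
        _ = _ := by group
    have h10 : (b * w * b⁻¹) * (b * (c * w * c⁻¹) * b⁻¹) = w * (c * w * c⁻¹) := by
      rw [← h8]; group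
    have h11 : b * (c * w * c⁻¹) * b⁻¹ = (b * w * b⁻¹)⁻¹ * (w * (c * w * c⁻¹)) := by
      rw [← h10]; group
    rw [e1, h11]
    calc (b * w * b⁻¹)⁻¹ * (w * (c * w * c⁻¹)) * (c * w * c⁻¹)⁻¹ = (b * w * b⁻¹)⁻¹ * w := by group
      _ = w * (b * w * b⁻¹)⁻¹ := comm_of h.U2 (inv_mem (h.V1_le hx hbw)) (h.V1_le hx hw)
      _ = (b * w * b⁻¹ * w⁻¹)⁻¹ := by group
  rw [h9]
  exact inv_mem hk

/-! ### `e = q = 4` -/

omit [Finite Ω] h in
theorem card_le_two_mul {A C : Subgroup G} {c : G} (hc : ∀ y ∈ A, y ∉ C → c * y ∈ C) :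
    Nat.card A ≤ 2 * Nat.card C := by
  have h1 : (A : Set G) ⊆ (C : Set G) ∪ (fun y => c⁻¹ * y) '' (C : Set G) := by
    intro y hy
    by_cases hyC : y ∈ C
    · exact Or.inl hyC
    · exact Or.inr ⟨c * y, hc y hy hyC, by group⟩
  calc Nat.card A = (A : Set G).ncard := rfl
    _ ≤ ((C : Set G) ∪ (fun y => c⁻¹ * y) '' (C : Set G)).ncard := Set.ncard_le_ncard h1 (Set.toFinite _)
    _ ≤ (C : Set G).ncard + ((fun y => c⁻¹ * y) '' (C : Set G)).ncard := Set.ncard_union_le _ _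
    _ ≤ (C : Set G).ncard + (C : Set G).ncard := Nat.add_le_add_left (Set.ncard_image_le (Set.toFinite _)) _
    _ = 2 * Nat.card C := by rw [two_mul]; rfl

omit [Finite Ω] h in
theorem mem_zp {y u : G} (hy : y * y = 1) (hu : u ∈ zpowers y) : u = 1 ∨ u = y := by
  obtain ⟨k, rfl⟩ := mem_zpowers_iff.1 hu
  rcases Int.even_or_odd' k with ⟨l, rfl | rfl⟩
  · left
    rw [zpow_mul, zpow_two, hy, one_zpow]
  · right
    rw [zpow_add, zpow_mul, zpow_two, hy, one_zpow, one_mul, zpow_one]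

/-- `{u ∈ N' : [b, u] ∈ Y}` -/
def PP {x b : G} (hx : x ∈ R) (hb : b ∈ A₀) (Y : Subgroup G) : Subgroup G where
  carrier := {u | u ∈ h.NN x ∧ b * u * b⁻¹ * u⁻¹ ∈ Y}
  mul_mem' := by
    rintro u w ⟨hu, hu'⟩ ⟨hw, hw'⟩
    refine ⟨mul_mem hu hw, ?_⟩
    have h1 : b * (u * w) * b⁻¹ * (u * w)⁻¹ = (b * u * b⁻¹ * u⁻¹) * (b * w * b⁻¹ * w⁻¹) := by
      have h2 : (b * w * b⁻¹ * w⁻¹) * u⁻¹ = u⁻¹ * (b * w * b⁻¹ * w⁻¹) :=
        comm_of (h.NN_elem hx) (mul_mem (h.conj_NN hb hw) (inv_mem hw)) (inv_mem hu)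
      calc b * (u * w) * b⁻¹ * (u * w)⁻¹ = (b * u * b⁻¹) * ((b * w * b⁻¹ * w⁻¹) * u⁻¹) := by group
        _ = _ := by rw [h2]; group
    change b * (u * w) * b⁻¹ * (u * w)⁻¹ ∈ Y
    rw [h1]
    exact mul_mem hu' hw'
  one_mem' := ⟨one_mem _, by
    have : b * 1 * b⁻¹ * 1⁻¹ = 1 := by group
    rw [this]; exact one_mem _⟩
  inv_mem' := by
    rintro u ⟨hu, hu'⟩
    refine ⟨inv_mem hu, ?_⟩
    rw [inv_of (h.NN_elem hx) hu]
    exact hu'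

theorem mem_PP {x b : G} (hx : x ∈ R) (hb : b ∈ A₀) {Y : Subgroup G} {u : G} :
    u ∈ h.PP hx hb Y ↔ u ∈ h.NN x ∧ b * u * b⁻¹ * u⁻¹ ∈ Y := Iff.rfl

/-- `[V_Δ, O] ≤ M` if `|V_Δ : V_Δ ∩ M| = 2` -/
theorem comm_M (hM : 2 * Nat.card ↥(h.VD ⊓ M) = Nat.card h.VD) {o v : G} (ho : o ∈ O) (hv : v ∈ h.VD) :
    o * v * o⁻¹ * v⁻¹ ∈ M := by
  have hoR := h.OR ho
  by_cases hvM : v ∈ M
  · exact mul_mem (h.nM o hoR v hvM) (inv_mem hvM)
  · have h1 : o * v * o⁻¹ ∉ M := by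
      intro h2
      apply hvM
      have h3 := h.nM o⁻¹ (inv_mem hoR) _ h2
      have e : o⁻¹ * (o * v * o⁻¹) * o⁻¹⁻¹ = v := by group
      rwa [e] at h3
    have h2 : ((h.VD ⊓ M).subgroupOf h.VD).index = 2 := by
      have h3 := card_mul_index ((h.VD ⊓ M).subgroupOf h.VD)
      have h4 : Nat.card ((h.VD ⊓ M).subgroupOf h.VD) = Nat.card ↥(h.VD ⊓ M) :=
        Nat.card_congr (subgroupOfEquivOfLe (inf_le_left : h.VD ⊓ M ≤ h.VD)).toEquiv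
      rw [h4, ← hM, mul_comm 2] at h3
      exact Nat.eq_of_mul_eq_mul_left Nat.card_pos h3
    have hv' := h.conj_VD ho hv
    have h5 := (mul_mem_iff_of_index_two h2 (a := (⟨_, hv'⟩ : h.VD)) (b := ⟨v⁻¹, inv_mem hv⟩)).2
      ⟨fun h6 => absurd (mem_subgroupOf.1 h6).2 h1, fun h6 => absurd
        (by simpa using (mem_subgroupOf.1 h6).2 : v ∈ M) hvM⟩
    exact (mem_subgroupOf.1 h5).2

/-- **28's count** -/
theorem four_case {x : G} (hx : x ∈ R) (hxM : x ∉ M₀) (he : Nat.card Δ = 4)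
    (hq : Nat.card A₀ = 4 * Nat.card ↥(A₀ ⊓ O)) (hb : ¬ A₀ ⊓ O ≤ h.KK x) :
    32 * Nat.card (h.CC x) ≤ Nat.card (h.NN x) := by
  have hpos : 0 < Nat.card ↥(A₀ ⊓ O) := Nat.card_pos
  have hVDM : Nat.card ↥(h.VD ⊓ M) = 8 := by
    have h1 := h.card_VDM
    rw [hq, ← mul_assoc] at h1
    exact Nat.eq_of_mul_eq_mul_right hpos h1
  have hVD : Nat.card h.VD = 16 := by rw [h.card_VD, he]; norm_num
  have hcM : ∀ {b w : G}, b ∈ O → w ∈ h.V1 x → b * w * b⁻¹ * w⁻¹ ∈ M := by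
    rintro b _ hbO ⟨v, hv, rfl⟩
    have h1 := h.nO x⁻¹ (inv_mem hx) b hbO
    rw [inv_inv] at h1
    have h2 := h.nM x hx _ (h.comm_M (by rw [hVDM, hVD]) h1 hv)
    change b * (x * v * x⁻¹) * b⁻¹ * (x * v * x⁻¹)⁻¹ ∈ M
    have e : x * (x⁻¹ * b * x * v * (x⁻¹ * b * x)⁻¹ * v⁻¹) * x⁻¹ = b * (x * v * x⁻¹) * b⁻¹ * (x * v * x⁻¹)⁻¹ := by
      group
    rwa [e] at h2
  obtain ⟨b, hbA, hbK⟩ := SetLike.not_le_iff_exists.1 hb
  obtain ⟨w0, hw0, hy0D⟩ : ∃ w ∈ h.V1 x, b * w * b⁻¹ * w⁻¹ ∉ D := by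
    by_contra hcon
    push Not at hcon
    exact hbK (h.trivial_of hx hbA hcon)
  obtain ⟨y0, hy0⟩ : ∃ y, y = b * w0 * b⁻¹ * w0⁻¹ := ⟨_, rfl⟩
  rw [← hy0] at hy0D
  have hy0V : y0 ∈ h.V1 x := by
    rw [hy0]
    exact mul_mem (h.conj_V1 hx hbA.2 hw0) (inv_mem hw0)
  have hy0M : y0 ∈ M := by
    rw [hy0]
    exact hcM hbA.2 hw0
  obtain ⟨c1, hc1, hc1O⟩ := SetLike.not_le_iff_exists.1 h.nA
  obtain ⟨c2, hc2, hc2O, hc12⟩ : ∃ c ∈ A₀, c ∉ O ∧ c1⁻¹ * c ∉ O := by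
    by_contra hcon
    push Not at hcon
    have h1 : Nat.card A₀ ≤ 2 * Nat.card ↥(A₀ ⊓ O) := by
      refine card_le_two_mul (c := c1⁻¹) fun y hy hyO =>
        mem_inf.2 ⟨mul_mem (inv_mem hc1) hy, hcon y hy fun h2 => hyO (mem_inf.2 ⟨hy, h2⟩)⟩
    omega
  -- `D ≤ V^x`
  have hDx : ∀ d ∈ D, ∃ v ∈ V, x * v * x⁻¹ = d := fun d hd => ⟨d, h.DV hd, by
    rw [h.RD x hx d hd, mul_inv_cancel_right]⟩
  obtain ⟨v0, hv0, hv0'⟩ := hy0V
  change x * v0 * x⁻¹ = y0 at hv0'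
  have hv0V := h.VD_le hv0
  -- `y0^c ∈ D y0` is impossible for `c ∈ A₀ ∖ O`
  have key : ∀ c ∈ A₀, c ∉ O → ∀ d ∈ D, c * y0 * c⁻¹ ≠ d * y0 := by
    intro c hc hcO d hd h1
    apply hy0D
    obtain ⟨v, hv, hv'⟩ := hDx d hd
    rw [← hv0']
    refine h.Vx_c hx hxM hc hcO hv0V (mul_mem hv hv0V) ?_
    rw [hv0', h1, ← hv', ← hv0']
    group
  have key0 : ∀ c ∈ A₀, c * y0 * c⁻¹ ∉ D := by
    intro c hc h1
    apply hy0D
    have h2 := h.RD c⁻¹ (inv_mem (h.AR hc)) _ h1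
    have e : y0 = c⁻¹ * (c * y0 * c⁻¹) * c := by group
    rw [e, h2, inv_mul_cancel_right]
    exact h1
  have hUy : ∀ c ∈ A₀, c * y0 * c⁻¹ ∈ U := fun c hc => by
    have h1 := h.VU (c * x) (mul_mem (h.AR hc) hx) v0 hv0V
    have e : c * x * v0 * (c * x)⁻¹ = c * y0 * c⁻¹ := by rw [← hv0']; group
    rwa [e] at h1
  have hy0U : y0 ∈ U := by
    have := hUy 1 (one_mem _)
    rwa [one_mul, inv_one, mul_one] at this
  obtain ⟨y1, hy1⟩ : ∃ y, y = c1 * y0 * c1⁻¹ := ⟨_, rfl⟩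
  obtain ⟨y2, hy2⟩ : ∃ y, y = c2 * y0 * c2⁻¹ := ⟨_, rfl⟩
  have hy1U : y1 ∈ U := hy1 ▸ hUy c1 hc1
  have hDU : D ≤ U := h.DV.trans h.VU'
  -- the subgroups
  obtain ⟨Y1, hY1⟩ : ∃ Y, Y = D ⊔ zpowers y0 := ⟨_, rfl⟩
  obtain ⟨Y2, hY2⟩ : ∃ Y, Y = Y1 ⊔ zpowers y1 := ⟨_, rfl⟩
  have hzU : ∀ {y : G}, y ∈ U → zpowers y ≤ U := fun hy => zpowers_le.2 hy
  have mY1 : ∀ u ∈ Y1, ∃ d ∈ D, u = d ∨ u = d * y0 := by
    intro u hu
    rw [hY1] at hu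
    obtain ⟨d, hd, z, hz, rfl⟩ := mem_sup_comm (fun a ha b hb => comm_of h.U2 (hDU ha) (hzU hy0U hb)) hu
    rcases mem_zp (sq_of h.U2 hy0U) hz with rfl | rfl
    · exact ⟨d, hd, Or.inl (mul_one d)⟩
    · exact ⟨d, hd, Or.inr rfl⟩
  have hY1U : Y1 ≤ U := hY1 ▸ sup_le hDU (hzU hy0U)
  have mY2 : ∀ u ∈ Y2, ∃ d ∈ D, u = d ∨ u = d * y0 ∨ u = d * y1 ∨ u = d * y0 * y1 := by
    intro u hu
    rw [hY2] at hu
    obtain ⟨t, ht, z, hz, rfl⟩ := mem_sup_comm (fun a ha b hb => comm_of h.U2 (hY1U ha) (hzU hy1U hb)) hu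
    obtain ⟨d, hd, h1⟩ := mY1 t ht
    refine ⟨d, hd, ?_⟩
    rcases mem_zp (sq_of h.U2 hy1U) hz with rfl | rfl
    · rcases h1 with rfl | rfl
      · exact Or.inl (mul_one _)
      · exact Or.inr (Or.inl (mul_one _))
    · rcases h1 with rfl | rfl
      · exact Or.inr (Or.inr (Or.inl rfl))
      · exact Or.inr (Or.inr (Or.inr rfl))
  have hy1n : y1 ∉ Y1 := by
    intro h1
    obtain ⟨d, hd, h2 | h2⟩ := mY1 _ h1
    · exact key0 c1 hc1 (by rw [← hy1, h2]; exact hd)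
    · exact key c1 hc1 hc1O d hd (by rw [← hy1, h2])
  have hy2n : y2 ∉ Y2 := by
    intro h1
    obtain ⟨d, hd, h2 | h2 | h2 | h2⟩ := mY2 _ h1
    · exact key0 c2 hc2 (by rw [← hy2, h2]; exact hd)
    · exact key c2 hc2 hc2O d hd (by rw [← hy2, h2])
    · refine key (c1⁻¹ * c2) (mul_mem (inv_mem hc1) hc2) hc12 d hd ?_
      have h3 : c2 * y0 * c2⁻¹ = d * (c1 * y0 * c1⁻¹) := by rw [← hy2, ← hy1, h2]
      have h4 := h.RD c1⁻¹ (inv_mem (h.AR hc1)) d hd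
      calc c1⁻¹ * c2 * y0 * (c1⁻¹ * c2)⁻¹ = c1⁻¹ * (c2 * y0 * c2⁻¹) * c1 := by group
        _ = c1⁻¹ * d * (c1 * y0 * c1⁻¹) * c1 := by rw [h3]; group
        _ = d * y0 := by rw [h4]; group
    · -- `y2 ∈ V`
      have h3 : y1 * y0⁻¹ ∈ V := hy1 ▸ h.F2 c1 hc1 y0 hy0M
      have h4 : y2 ∈ V := by
        have h5 : d * y0 * y1 = d * (y1 * y0⁻¹) := by
          rw [inv_of h.U2 hy0U, mul_assoc, comm_of h.U2 hy0U hy1U]
        rw [h2, h5]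
        exact mul_mem (h.DV hd) h3
      have h6 := h.AV c2 hc2 y2 h4
      have h7 : y2 = y0 := by
        have h8 : c2 * y0 = y2 * c2 := by rw [hy2]; group
        rw [← h6] at h8
        exact (mul_left_cancel h8).symm
      have h9 := h.AV c2 hc2 y0 (h7 ▸ h4)
      exact key c2 hc2 hc2O 1 (one_mem _) (by rw [h9, one_mul, mul_inv_cancel_right])
  have hbA0 : b ∈ A₀ := hbA.1
  -- `[b, w0^c] = y0^c`
  have hcomm : ∀ c ∈ A₀, b * (c * w0 * c⁻¹) * b⁻¹ * (c * w0 * c⁻¹)⁻¹ = c * y0 * c⁻¹ := by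
    intro c hc
    have h1 : b * c = c * b := comm_of h.A2 hbA0 hc
    rw [hy0]
    calc b * (c * w0 * c⁻¹) * b⁻¹ * (c * w0 * c⁻¹)⁻¹ = (b * c) * w0 * (b * c)⁻¹ * (c * w0⁻¹ * c⁻¹) := by group
      _ = _ := by rw [h1]; group
  have hNw : ∀ c ∈ A₀, c * w0 * c⁻¹ ∈ h.NN x := fun c hc => h.mem_NN hc hw0
  obtain ⟨P1, hP1⟩ : ∃ P, P = h.PP hx hbA0 D := ⟨_, rfl⟩
  obtain ⟨P2, hP2⟩ : ∃ P, P = h.PP hx hbA0 Y1 := ⟨_, rfl⟩
  obtain ⟨P3, hP3⟩ : ∃ P, P = h.PP hx hbA0 Y2 := ⟨_, rfl⟩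
  have s1 : 4 * Nat.card (h.CC x) ≤ Nat.card P1 := by
    have hle1 : h.CC x ≤ P1 := by
      intro u hu
      rw [hP1]
      refine ⟨hu.1, ?_⟩
      rw [mem_centralizer_iff.1 hu.2 b hbA0, mul_inv_cancel_right, mul_inv_cancel]
      exact one_mem _
    have hle2 : h.V1 x ⊓ M ≤ P1 := by
      intro u hu
      rw [hP1]
      refine ⟨h.V1_le_NN x hu.1, ?_⟩
      rcases h.MO u hu.2 b hbA.2 with h1 | h1
      · rw [h1]; exact one_mem _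
      · rw [h1]; exact h.r_mem_D
    have h1 := card_sup h.U2 (h.CC_le hx) (inf_le_left.trans (h.V1_le hx) : h.V1 x ⊓ M ≤ U)
    have h2 : Nat.card ↥(h.V1 x ⊓ M) = 8 := by
      have h3 : h.V1 x ⊓ M = (h.VD ⊓ M).map (MulAut.conj x).toMonoidHom := by
        apply le_antisymm
        · rintro _ ⟨⟨v, hv, rfl⟩, hM⟩
          refine ⟨v, ⟨hv, ?_⟩, rfl⟩
          change x * v * x⁻¹ ∈ M at hM
          have h4 := h.nM x⁻¹ (inv_mem hx) _ hM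
          have e : x⁻¹ * (x * v * x⁻¹) * x⁻¹⁻¹ = v := by group
          rwa [e] at h4
        · rintro _ ⟨v, ⟨hv, hM⟩, rfl⟩
          exact ⟨⟨v, hv, rfl⟩, h.nM x hx v hM⟩
      rw [h3, ← hVDM]
      exact (Nat.card_congr ((h.VD ⊓ M).equivMapOfInjective _ (MulAut.conj x).injective).toEquiv).symm
    have h3 : Nat.card ↥(h.CC x ⊓ (h.V1 x ⊓ M)) ≤ 2 := by
      refine h.card_le_two_of hx (inf_le_right.trans inf_le_left) ?_
      exact (le_inf (inf_le_right.trans inf_le_left) inf_le_left).trans (h.V1_CC hx hxM hc1 hc1O)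
    rw [h2] at h1
    have h4 : Nat.card ↥(h.CC x ⊔ (h.V1 x ⊓ M)) ≤ Nat.card P1 := Subgroup.card_le_of_le (sup_le hle1 hle2)
    have h5 : Nat.card ↥(h.CC x ⊔ (h.V1 x ⊓ M)) * Nat.card ↥(h.CC x ⊓ (h.V1 x ⊓ M)) ≤ Nat.card P1 * 2 :=
      Nat.mul_le_mul h4 h3
    omega
  have s2 : 2 * Nat.card P1 ≤ Nat.card P2 := by
    refine two_mul_card_le ?_ fun hle => ?_
    · intro u hu
      rw [hP1] at hu
      rw [hP2, hY1]
      exact ⟨hu.1, mem_sup_left hu.2⟩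
    · have h1 : w0 ∈ P2 := by
        rw [hP2, hY1]
        exact ⟨h.V1_le_NN x hw0, by rw [← hy0]; exact mem_sup_right (mem_zpowers _)⟩
      have h2 := hle h1
      rw [hP1] at h2
      have h3 := h2.2
      rw [← hy0] at h3
      exact hy0D h3
  have s3 : 2 * Nat.card P2 ≤ Nat.card P3 := by
    refine two_mul_card_le ?_ fun hle => ?_
    · intro u hu
      rw [hP2] at hu
      rw [hP3, hY2]
      exact ⟨hu.1, mem_sup_left hu.2⟩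
    · have h1 : c1 * w0 * c1⁻¹ ∈ P3 := by
        rw [hP3, hY2]
        exact ⟨hNw c1 hc1, by rw [hcomm c1 hc1, ← hy1]; exact mem_sup_right (mem_zpowers _)⟩
      have h2 := hle h1
      rw [hP2] at h2
      have h3 := h2.2
      rw [hcomm c1 hc1, ← hy1] at h3
      exact hy1n h3
  have s4 : 2 * Nat.card P3 ≤ Nat.card (h.NN x) := by
    refine two_mul_card_le ?_ fun hle => ?_
    · intro u hu
      rw [hP3] at hu
      exact hu.1
    · have h2 := hle (hNw c2 hc2)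
      rw [hP3] at h2
      have h3 := h2.2
      rw [hcomm c2 hc2, ← hy2] at h3
      exact hy2n h3
  omega

/-! ### The end -/

/-- `|Δ|` is a power of 2 -/
theorem card_Δ : ∃ l : ℕ, Nat.card Δ = 2 ^ l := by
  obtain ⟨i, hi⟩ := h.nonempty
  let act : MulAction O Δ := MulAction.compHom Δ h.rho
  have htr : MulAction.IsPretransitive O Δ := by
    refine ⟨fun j k => ?_⟩
    obtain ⟨o, ho⟩ := (h.orb j j.2 k).1 k.2
    exact ⟨o, Subtype.ext ho⟩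
  have hf : Fact (Nat.Prime 2) := ⟨Nat.prime_two⟩
  obtain ⟨l, hl⟩ := h.O2.index (MulAction.stabilizer O (⟨i, hi⟩ : Δ))
  exact ⟨l, by rw [← hl, MulAction.index_stabilizer_of_transitive]⟩

omit [Finite G] [Finite Ω] h in
theorem arith {e l α β γ : ℕ} (he : e = 2 ^ l) (h4 : 4 ≤ e) (h1 : e + γ ≤ 1 + α) (h2 : 2 * β ≤ e + 2 * γ)
    (h3 : α ≤ l + β) (hγβ : γ ≤ β) :
    (e + γ = 1 + α ∧ (γ = β → False)) ∨ (e = 4 ∧ α = 2 + β ∧ β = 2 + γ) := by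
  have hl : l ≤ 3 := by
    by_contra hcon
    push Not at hcon
    have h5 : e ≤ 2 + 2 * l := by omega
    have h6 : ∀ k : ℕ, 4 ≤ k → 2 + 2 * k < 2 ^ k := by
      intro k hk
      induction k, hk using Nat.le_induction with
      | base => norm_num
      | succ k hk ih => rw [pow_succ]; omega
    have := h6 l hcon
    omega
  interval_cases l <;> simp at he <;> omega

/-- **Atoms of size at least 4 do not exist.** -/
theorem false : False := by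
  have hfact : Fact (Nat.Prime 2) := ⟨Nat.prime_two⟩
  obtain ⟨x, hx, hxM⟩ := SetLike.not_le_iff_exists.1 h.nR
  obtain ⟨l, hl⟩ := h.card_Δ
  have hp : IsPGroup 2 A₀ := fun a => ⟨1, by
    rw [pow_one, pow_two]
    exact Subtype.ext (sq_of h.A2 a.2)⟩
  obtain ⟨α, hα⟩ := IsPGroup.iff_card.1 hp
  obtain ⟨β, hβ⟩ := IsPGroup.iff_card.1 (hp.to_le (inf_le_left : A₀ ⊓ O ≤ A₀))
  obtain ⟨γ, hγ⟩ : ∃ γ, Nat.card (h.KK x) = 2 ^ γ :=
    IsPGroup.iff_card.1 (hp.to_le (inf_le_left : h.KK x ≤ A₀))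
  have hcpos : 0 < Nat.card (h.CC x) := Nat.card_pos
  have hs : Nat.card ↥(h.V1 x ⊔ h.CC x) ≤ Nat.card (h.NN x) :=
    Subgroup.card_le_of_le (sup_le (h.V1_le_NN x) inf_le_left)
  have E1 := h.sup_bound hx hxM
  have E2 := h.count' x hx
  have E3 := h.beta_le hx hxM
  have E4 := h.q_le
  have lt : ∀ {a b : ℕ}, 2 ^ a ≤ 2 ^ b → a ≤ b := fun hab => (Nat.pow_le_pow_iff_right (by norm_num)).1 hab
  obtain ⟨e, he⟩ : ∃ e, e = Nat.card Δ := ⟨_, rfl⟩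
  rw [← he] at hl
  rw [← he] at E1 E3 E4
  have h4 : 4 ≤ e := he ▸ h.four
  -- `2^e k ≤ 2 a`
  have F1 : 2 ^ e * Nat.card (h.KK x) ≤ 2 * Nat.card A₀ := by
    have h1 : 2 ^ e * Nat.card (h.KK x) * Nat.card (h.CC x) ≤ 2 * Nat.card A₀ * Nat.card (h.CC x) := by
      calc 2 ^ e * Nat.card (h.KK x) * Nat.card (h.CC x)
          = 2 ^ e * Nat.card (h.CC x) * Nat.card (h.KK x) := by ring
        _ ≤ 2 * Nat.card ↥(h.V1 x ⊔ h.CC x) * Nat.card (h.KK x) := Nat.mul_le_mul_right _ E1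
        _ ≤ 2 * Nat.card (h.NN x) * Nat.card (h.KK x) := Nat.mul_le_mul_right _ (Nat.mul_le_mul_left _ hs)
        _ = 2 * (Nat.card (h.NN x) * Nat.card (h.KK x)) := by ring
        _ ≤ 2 * (Nat.card A₀ * Nat.card (h.CC x)) := Nat.mul_le_mul_left _ E2
        _ = 2 * Nat.card A₀ * Nat.card (h.CC x) := by ring
    exact Nat.le_of_mul_le_mul_right h1 hcpos
  have G1 : e + γ ≤ 1 + α := by
    rw [hα, hγ, ← pow_add] at F1
    apply lt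
    calc 2 ^ (e + γ) ≤ 2 * 2 ^ α := F1
      _ = 2 ^ (1 + α) := by rw [pow_add, pow_one]
  have G2 : 2 * β ≤ e + 2 * γ := by
    rw [hβ, hγ, ← pow_mul, ← pow_mul, ← pow_add, mul_comm β, mul_comm γ] at E3
    exact lt E3
  have G3 : α ≤ l + β := by
    rw [hα, hβ, hl, ← pow_add] at E4
    exact lt E4
  have G4 : γ ≤ β := by
    have h1 := Subgroup.card_le_of_le (h.KK_le hx hxM)
    rw [hβ, hγ] at h1
    exact lt h1
  have hkb : A₀ ⊓ O ≤ h.KK x → γ = β := fun hle => by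
    have h1 := Subgroup.card_le_of_le hle
    rw [hβ, hγ] at h1
    exact le_antisymm G4 (lt h1)
  rcases arith hl h4 G1 G2 G3 G4 with ⟨h1, h2⟩ | ⟨h1, h2, h3⟩
  · -- equality
    apply h2
    apply hkb
    refine h.eq_case hx hxM ?_
    have h5 : 2 ^ e * Nat.card (h.KK x) = 2 * Nat.card A₀ := by
      rw [hα, hγ, ← pow_add, h1, pow_add, pow_one]
    have h6 : Nat.card (h.NN x) ≤ Nat.card ↥(h.V1 x ⊔ h.CC x) := by
      have h7 : 2 * Nat.card (h.NN x) * Nat.card (h.KK x) ≤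
          2 * Nat.card ↥(h.V1 x ⊔ h.CC x) * Nat.card (h.KK x) := by
        calc 2 * Nat.card (h.NN x) * Nat.card (h.KK x) = 2 * (Nat.card (h.NN x) * Nat.card (h.KK x)) := by ring
          _ ≤ 2 * (Nat.card A₀ * Nat.card (h.CC x)) := Nat.mul_le_mul_left _ E2
          _ = 2 * Nat.card A₀ * Nat.card (h.CC x) := by ring
          _ = 2 ^ e * Nat.card (h.CC x) * Nat.card (h.KK x) := by rw [← h5]; ring
          _ ≤ 2 * Nat.card ↥(h.V1 x ⊔ h.CC x) * Nat.card (h.KK x) := Nat.mul_le_mul_right _ E1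
      have h8 := Nat.le_of_mul_le_mul_right h7 Nat.card_pos
      omega
    exact (Subgroup.eq_of_le_of_card_ge (sup_le (h.V1_le_NN x) inf_le_left) h6).ge
  · -- `e = 4`
    have hq : Nat.card A₀ = 4 * Nat.card ↥(A₀ ⊓ O) := by
      rw [hα, hβ, h2, pow_add]; norm_num
    have hb : ¬ A₀ ⊓ O ≤ h.KK x := fun hle => by
      have := hkb hle
      omega
    have h5 := h.four_case hx hxM (by rw [← he, h1]) hq hb
    have h6 : Nat.card A₀ = 16 * Nat.card (h.KK x) := by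
      rw [hα, hγ, h2, h3, ← add_assoc, pow_add]; norm_num
    have h7 : Nat.card (h.NN x) ≤ 16 * Nat.card (h.CC x) := by
      have h8 : Nat.card (h.NN x) * Nat.card (h.KK x) ≤ 16 * Nat.card (h.CC x) * Nat.card (h.KK x) := by
        calc Nat.card (h.NN x) * Nat.card (h.KK x) ≤ Nat.card A₀ * Nat.card (h.CC x) := E2
          _ = 16 * Nat.card (h.CC x) * Nat.card (h.KK x) := by rw [h6]; ring
      exact Nat.le_of_mul_le_mul_right h8 Nat.card_pos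
    omega

end Cfsg.Agent.Omega.NO3S.SN2.Atom.Sit
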