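import Mathlib

/-!
# SN.Two, THEOREM #21330 (helper28), (3) + (4): permutation groups of exponent 2 and `±`-invariant functions

* `card_sq_le` : `H ≤ Sym(X)` of exponent 2: `|H|² ≤ 2^|X|`;
* `card_le` : `O` transitive on `X`, `W` a space of functions `X → F₂` with `w^o ∈ {w, w + 1}`: `|W| ≤ 2|X|`.
-/

set_option autoImplicit false

namespace Cfsg.Agent.Omega.NO3S.SN2.AtomPerm

open Subgroup

/-! ### Groups of exponent 2 -/

theorem two_mul_le_pow (a : ℕ) : 2 * a ≤ 2 ^ a := by
  induction a with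
  | zero => simp
  | succ a ih =>
    rcases Nat.eq_zero_or_pos a with h | h
    · subst h; norm_num
    · have h1 : 2 ≤ 2 ^ a := by
        calc 2 = 2 ^ 1 := by norm_num
          _ ≤ 2 ^ a := Nat.pow_le_pow_right (by norm_num) h
      rw [pow_succ]; omega

theorem sq_le_pow {k a : ℕ} (h : k = 2 ^ a) : k ^ 2 ≤ 2 ^ k := by
  have h1 := two_mul_le_pow a
  calc k ^ 2 = 2 ^ (2 * a) := by rw [h, ← pow_mul, mul_comm]
    _ ≤ 2 ^ k := Nat.pow_le_pow_right (by norm_num) (h ▸ h1)

section exp2

variable {H X : Type*} [Group H] [MulAction H X]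

theorem comm_of_exp (h2 : ∀ a : H, a * a = 1) (a b : H) : a * b = b * a := by
  have hi : ∀ c : H, c⁻¹ = c := fun c => inv_eq_of_mul_eq_one_left (h2 c)
  calc a * b = (a * b)⁻¹ := (hi _).symm
    _ = b⁻¹ * a⁻¹ := mul_inv_rev _ _
    _ = b * a := by rw [hi, hi]

theorem card_orbit_pow [Finite H] (h2 : ∀ a : H, a * a = 1) (x : X) :
    ∃ a : ℕ, Nat.card (MulAction.orbit H x) = 2 ^ a := by
  have hf : Fact (Nat.Prime 2) := ⟨Nat.prime_two⟩
  have hp : IsPGroup 2 H := fun a => ⟨1, by rw [pow_one, pow_two, h2]⟩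
  obtain ⟨n, hn⟩ := hp.index (MulAction.stabilizer H x)
  refine ⟨n, ?_⟩
  rw [← hn, MulAction.index_stabilizer]
  rfl

/-- **A faithful group of exponent 2 on `X` has order at most `2^{|X|/2}`.** -/
theorem card_sq_le' [Finite H] [Finite X] (h2 : ∀ a : H, a * a = 1) (hf : ∀ a : H, (∀ x : X, a • x = x) → a = 1) :
    Nat.card H ^ 2 ≤ 2 ^ Nat.card X := by
  classical
  have : Fintype X := Fintype.ofFinite X
  have : Fintype (MulAction.orbitRel.Quotient H X) := Fintype.ofFinite _
  have : Fintype H := Fintype.ofFinite H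
  let f : H → (ω : MulAction.orbitRel.Quotient H X) → MulAction.orbit H ω.out := fun a ω => ⟨a • ω.out, ⟨a, rfl⟩⟩
  have hinj : Function.Injective f := by
    intro a b hab
    have h1 : b⁻¹ * a = 1 := by
      refine hf _ fun x => ?_
      let q : MulAction.orbitRel.Quotient H X := Quotient.mk (MulAction.orbitRel H X) x
      have hx : x ∈ MulAction.orbit H q.out := by
        have h0 := Quotient.mk_out (s := MulAction.orbitRel H X) x
        exact MulAction.orbitRel_apply.1 ((MulAction.orbitRel H X).symm h0)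
      obtain ⟨g, hg⟩ := hx
      have h3 := congrArg Subtype.val (congrFun hab q)
      change a • _ = b • _ at h3
      rw [← hg]
      change (b⁻¹ * a) • g • _ = g • _
      rw [smul_smul, comm_of_exp h2 (b⁻¹ * a) g, ← smul_smul, mul_smul b⁻¹ a, h3, inv_smul_smul]
    calc a = b * (b⁻¹ * a) := by group
      _ = b := by rw [h1, mul_one]
  have h3 : Nat.card H ≤ ∏ ω : MulAction.orbitRel.Quotient H X, Nat.card (MulAction.orbit H ω.out) := by
    rw [← Nat.card_pi]
    exact Nat.card_le_card_of_injective f hinj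
  calc Nat.card H ^ 2 ≤ (∏ ω : MulAction.orbitRel.Quotient H X, Nat.card (MulAction.orbit H ω.out)) ^ 2 :=
        Nat.pow_le_pow_left h3 2
    _ = ∏ ω : MulAction.orbitRel.Quotient H X, Nat.card (MulAction.orbit H ω.out) ^ 2 := by
        rw [← Finset.prod_pow]
    _ ≤ ∏ ω : MulAction.orbitRel.Quotient H X, 2 ^ Nat.card (MulAction.orbit H ω.out) := by
        refine Finset.prod_le_prod' fun ω _ => ?_
        obtain ⟨a, ha⟩ := card_orbit_pow (X := X) h2 ω.out
        exact sq_le_pow ha
    _ = 2 ^ ∑ ω : MulAction.orbitRel.Quotient H X, Nat.card (MulAction.orbit H ω.out) := Finset.prod_pow_eq_pow_sum _ _ _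
    _ = 2 ^ Nat.card X := by
        congr 1
        rw [← Nat.card_sigma]
        exact (Nat.card_congr (MulAction.selfEquivSigmaOrbits H X)).symm

end exp2

/-- **A group of permutations of exponent 2 has order at most `2^{|X|/2}`.** -/
theorem card_sq_le {X : Type*} [Finite X] (H : Subgroup (Equiv.Perm X)) (h2 : ∀ a ∈ H, a * a = 1) :
    Nat.card H ^ 2 ≤ 2 ^ Nat.card X := by
  refine card_sq_le' (fun a => Subtype.ext (h2 a a.2)) fun a ha => Subtype.ext (Equiv.ext fun x => ?_)
  exact ha x

/-! ### `±`-invariant functions -/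

theorem zmod2_cases (c : ZMod 2) : c = 0 ∨ c = 1 := by
  revert c; decide

/-- **`W` a space of functions with `w^o ∈ {w, w + 1}`: `|W| ≤ 2|X|`.** -/
theorem card_le {O X : Type*} [Group O] [MulAction O X] [Finite X] (i : X) (htr : ∀ j : X, ∃ o : O, o • i = j)
    (W : Submodule (ZMod 2) (X → ZMod 2))
    (hW : ∀ w ∈ W, ∀ o : O, (∀ x, w (o • x) = w x) ∨ ∀ x, w (o • x) = w x + 1) :
    Nat.card W ≤ 2 * Nat.card X := by
  classical
  have hfin : Finite (X → ZMod 2) := Pi.finite
  let π : W →ₗ[ZMod 2] ZMod 2 := (LinearMap.proj i).comp W.subtype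
  have hπ : ∀ w : W, π w = (w : X → ZMod 2) i := fun _ => rfl
  -- `|W| ≤ 2 |ker π|`
  have h1 : Nat.card W ≤ 2 * Nat.card (LinearMap.ker π) := by
    have e1 := Module.natCard_eq_pow_finrank (K := ZMod 2) (V := W)
    have e2 := Module.natCard_eq_pow_finrank (K := ZMod 2) (V := LinearMap.ker π)
    have e3 := LinearMap.finrank_range_add_finrank_ker π
    have e4 : Module.finrank (ZMod 2) (LinearMap.range π) ≤ 1 := by
      have := Submodule.finrank_le (LinearMap.range π)
      rwa [Module.finrank_self] at this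
    rw [e1, e2, Nat.card_zmod]
    calc 2 ^ Module.finrank (ZMod 2) W ≤ 2 ^ (Module.finrank (ZMod 2) (LinearMap.ker π) + 1) :=
          Nat.pow_le_pow_right (by norm_num) (by omega)
      _ = 2 * 2 ^ Module.finrank (ZMod 2) (LinearMap.ker π) := by rw [pow_succ, mul_comm]
  -- the evaluations
  let ev : X → Module.Dual (ZMod 2) (LinearMap.ker π) := fun j =>
    ((LinearMap.proj j).comp W.subtype).comp (LinearMap.ker π).subtype
  have hev : ∀ j (w : LinearMap.ker π), ev j w = ((w : W) : X → ZMod 2) j := fun _ _ => rfl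
  have hi0 : ∀ w : LinearMap.ker π, ((w : W) : X → ZMod 2) i = 0 := fun w => (LinearMap.mem_ker.1 w.2 : π w = 0)
  let F : Submodule (ZMod 2) (Module.Dual (ZMod 2) (LinearMap.ker π)) :=
    { carrier := Set.range ev
      zero_mem' := ⟨i, by
        ext w
        rw [hev, hi0]; rfl⟩
      add_mem' := by
        rintro _ _ ⟨j, rfl⟩ ⟨k, rfl⟩
        obtain ⟨o, ho⟩ := htr j
        refine ⟨o • k, ?_⟩
        ext w
        rw [LinearMap.add_apply, hev, hev, hev]
        rcases hW _ (w : W).2 o with h2 | h2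
        · have h3 := h2 i
          rw [ho, hi0] at h3
          rw [h2 k, h3, zero_add]
        · have h3 := h2 i
          rw [ho, hi0, zero_add] at h3
          rw [h2 k, h3, add_comm]
      smul_mem' := by
        rintro c _ ⟨j, rfl⟩
        rcases zmod2_cases c with rfl | rfl
        · refine ⟨i, ?_⟩
          ext w
          rw [hev, hi0, LinearMap.smul_apply, zero_smul]
        · exact ⟨j, by rw [one_smul]⟩ }
  have h2 : Nat.card F ≤ Nat.card X :=
    Nat.card_le_card_of_surjective (fun j : X => (⟨ev j, ⟨j, rfl⟩⟩ : F)) fun ⟨f, ⟨j, hj⟩⟩ => ⟨j, Subtype.ext hj⟩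
  let g : LinearMap.ker π →ₗ[ZMod 2] Module.Dual (ZMod 2) F := LinearMap.flip F.subtype
  have hg : ∀ w (f : F), g w f = (f : Module.Dual (ZMod 2) (LinearMap.ker π)) w := fun _ _ => rfl
  have hginj : Function.Injective g := by
    rw [← LinearMap.ker_eq_bot, LinearMap.ker_eq_bot']
    intro w hw
    apply Subtype.ext
    apply Subtype.ext
    funext j
    have h3 := LinearMap.congr_fun hw (⟨ev j, ⟨j, rfl⟩⟩ : F)
    rw [hg, LinearMap.zero_apply] at h3
    exact h3
  have hfin2 : Module.Finite (ZMod 2) F := inferInstance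
  have h3 : Nat.card (LinearMap.ker π) ≤ Nat.card F := by
    rw [Module.natCard_eq_pow_finrank (K := ZMod 2) (V := LinearMap.ker π),
      Module.natCard_eq_pow_finrank (K := ZMod 2) (V := F), ← Subspace.dual_finrank_eq (K := ZMod 2) (V := F),
      Nat.card_zmod]
    exact Nat.pow_le_pow_right (by norm_num) (LinearMap.finrank_le_finrank_of_injective hginj)
  exact h1.trans (Nat.mul_le_mul_left 2 (h3.trans h2))

end Cfsg.Agent.Omega.NO3S.SN2.AtomPerm
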