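import Cfsg.Agent.Omega.NO3S.SN2.Atom

/-!
# SN.Two, THEOREM #21330 (helper28), (3) + (4): the numbers

Over `h : Sit V D R O A₀ M U M₀ ε φ Δ`, `x ∈ R ∖ M₀`, `e = |Δ|`:

* `Sit.beta_le` : `|A₀ ∩ O|² ≤ 2^e |K|²`, `K = C_{A₀}((V_Δ)^x)`;
* `Sit.card_VM` : `2 |V ∩ M| = |V_Δ ∩ M| |D|`;
* `Sit.q_le` : `|A₀| ≤ e |A₀ ∩ O|`.
-/

set_option autoImplicit false
set_option linter.unusedSectionVars false

namespace Cfsg.Agent.Omega.NO3S.SN2.Atom.Sit

open Subgroup Cfsg Cfsg.Agent.ZN Cfsg.Agent.PLocal.ElemAbSup Cfsg.Agent.PLocal.ThompsonJ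

universe u

variable {G : Type u} [Group G] [Finite G]
variable {Ω : Type} [Finite Ω] {V D R O A₀ M U M₀ : Subgroup G} {ε : (Ω → ZMod 2) → G} {φ : O →* Equiv.Perm Ω}
  {Δ : Set Ω} (h : Sit V D R O A₀ M U M₀ ε φ Δ)
include h

/-! ### `β` -/

theorem mem_Δ_iff (o : O) (i : Ω) : φ o i ∈ Δ ↔ i ∈ Δ := by
  constructor
  · intro h1
    exact (h.orb _ h1 i).2 ⟨o⁻¹, by rw [map_inv]; exact (φ o).symm_apply_apply i⟩
  · intro h1
    exact (h.orb _ h1 _).2 ⟨o, rfl⟩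

/-- `O` acts on `Δ` -/
def rho : O →* Equiv.Perm Δ where
  toFun o := (φ o).subtypePerm fun i => (h.mem_Δ_iff o i)
  map_one' := by ext i; simp
  map_mul' a b := by
    ext i
    change φ (a * b) i = φ a (φ b i)
    rw [map_mul]; rfl

theorem rho_apply (o : O) (i : Δ) : ((h.rho o i : Δ) : Ω) = φ o i := rfl

/-- the action on `Δ` is the action on `V_Δ` -/
theorem rho_one_iff (o : O) : h.rho o = 1 ↔ ∀ v ∈ h.VD, (o : G) * v * (o : G)⁻¹ = v := by
  classical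
  constructor
  · rintro h1 _ ⟨x, hx, rfl⟩
    rw [h.act]
    congr 1
    funext i
    rw [Function.comp_apply]
    by_cases hi : i ∈ Δ
    · have h2 : φ o i = i := by
        have := congrArg (fun τ : Equiv.Perm Δ => ((τ ⟨i, hi⟩ : Δ) : Ω)) h1
        exact this
      rw [(Equiv.symm_apply_eq (φ o)).2 h2.symm]
    · have h3 : (φ o).symm i ∉ Δ := fun h4 => hi (by
        have := (h.mem_Δ_iff o _).2 h4
        rwa [Equiv.apply_symm_apply] at this)
      rw [hx i hi, hx _ h3]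
  · intro h1
    ext i
    have hs : ∀ j, j ∉ Δ → (Pi.single (i : Ω) 1 : Ω → ZMod 2) j = 0 := fun j hj =>
      Pi.single_eq_of_ne (fun h0 => hj (by rw [h0]; exact i.2)) _
    have h2 := h1 (ε (Pi.single (i : Ω) 1)) ⟨_, hs, rfl⟩
    rw [h.act] at h2
    have h3 := congrFun (h.eps_inj h2) (i : Ω)
    rw [Function.comp_apply, Pi.single_eq_same] at h3
    change φ o i = i
    by_contra hne
    rw [Pi.single_eq_of_ne] at h3
    · exact zero_ne_one h3
    · intro h4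
      rw [Equiv.symm_apply_eq] at h4
      exact hne h4.symm

/-- conjugation by `x⁻¹`: `A₀ ∩ O → O` -/
def cx {x : G} (hx : x ∈ R) : ↥(A₀ ⊓ O) →* O where
  toFun b := ⟨x⁻¹ * b * x, by
    have := h.nO x⁻¹ (inv_mem hx) b b.2.2
    rwa [inv_inv] at this⟩
  map_one' := Subtype.ext (by simp)
  map_mul' a b := Subtype.ext (by
    change x⁻¹ * (a * b : G) * x = x⁻¹ * a * x * (x⁻¹ * b * x)
    group)

theorem ker_cx {x : G} (hx : x ∈ R) (b : ↥(A₀ ⊓ O)) : h.rho (h.cx hx b) = 1 ↔ (b : G) ∈ h.KK x := by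
  rw [h.rho_one_iff]
  constructor
  · intro h1
    refine ⟨b.2.1, mem_centralizer_iff.2 ?_⟩
    rintro _ ⟨v, hv, rfl⟩
    have h2 := h1 v hv
    change x⁻¹ * (b : G) * x * v * (x⁻¹ * b * x)⁻¹ = v at h2
    change x * v * x⁻¹ * b = b * (x * v * x⁻¹)
    conv_lhs => rw [← h2]
    group
  · intro h1 v hv
    have h2 := mem_centralizer_iff.1 h1.2 (x * v * x⁻¹) ⟨v, hv, rfl⟩
    change x * v * x⁻¹ * b = b * (x * v * x⁻¹) at h2
    change x⁻¹ * (b : G) * x * v * (x⁻¹ * b * x)⁻¹ = v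
    generalize (b : G) = c at h2
    calc x⁻¹ * c * x * v * (x⁻¹ * c * x)⁻¹ = x⁻¹ * (c * (x * v * x⁻¹)) * c⁻¹ * x := by group
      _ = v := by rw [← h2]; group

/-- **`β² ≤ 2^e`** -/
theorem beta_le {x : G} (hx : x ∈ R) (hxM : x ∉ M₀) :
    Nat.card ↥(A₀ ⊓ O) ^ 2 ≤ 2 ^ Nat.card Δ * Nat.card (h.KK x) ^ 2 := by
  classical
  let ψ : ↥(A₀ ⊓ O) →* Equiv.Perm Δ := (h.rho).comp (h.cx hx)
  have h1 := AtomPerm.card_sq_le ψ.range (by
    rintro _ ⟨b, rfl⟩
    rw [← map_mul]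
    have : b * b = 1 := Subtype.ext (sq_of h.A2 b.2.1)
    rw [this, map_one])
  have h2 : Nat.card ψ.ker = Nat.card (h.KK x) := by
    refine Nat.card_congr
      { toFun := fun b => ⟨b.1, (h.ker_cx hx b.1).1 b.2⟩
        invFun := fun b => ⟨⟨b.1, h.KK_le hx hxM b.2⟩, (h.ker_cx hx _).2 b.2⟩
        left_inv := fun b => rfl
        right_inv := fun b => rfl }
  have h3 : Nat.card ↥(A₀ ⊓ O) = Nat.card ψ.range * Nat.card ψ.ker := by
    rw [← Nat.card_congr (QuotientGroup.quotientKerEquivRange ψ).toEquiv]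
    exact card_eq_card_quotient_mul_card_subgroup ψ.ker
  rw [h3, h2, mul_pow]
  exact Nat.mul_le_mul_right _ h1

/-! ### `V ∩ M` -/

/-- an element of `V ∩ M` is constant on the other orbits: `V ∩ M = (V_Δ ∩ M) D` -/
theorem VM_eq : V ⊓ M = (h.VD ⊓ M) ⊔ D := by
  classical
  apply le_antisymm
  · rintro v ⟨hv, hvM⟩
    obtain ⟨y, rfl⟩ := (h.V_iff v).1 hv
    -- the part outside `Δ` is fixed by `O`
    let y1 : Ω → ZMod 2 := fun i => if i ∈ Δ then y i else 0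
    let y2 : Ω → ZMod 2 := fun i => if i ∈ Δ then 0 else y i
    have hy : y = y1 + y2 := by
      funext i
      by_cases hi : i ∈ Δ
      · simp [y1, y2, hi]
      · simp [y1, y2, hi]
    have h1 : ε y1 ∈ h.VD := ⟨y1, fun i hi => if_neg hi, rfl⟩
    have h2 : ε y2 ∈ D := by
      refine h.cD _ ((h.V_iff _).2 ⟨_, rfl⟩) fun o ho => ?_
      rw [← mul_inv_eq_iff_eq_mul, h.act ⟨o, ho⟩]
      congr 1
      funext i
      rw [Function.comp_apply]
      have hii : (φ ⟨o, ho⟩).symm i ∈ Δ ↔ i ∈ Δ := by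
        rw [← h.mem_Δ_iff ⟨o, ho⟩, Equiv.apply_symm_apply]
      by_cases hi : i ∈ Δ
      · change (if _ then _ else _) = (if _ then _ else _)
        rw [if_pos hi, if_pos (hii.2 hi)]
      · change (if _ then _ else _) = (if _ then _ else _)
        rw [if_neg hi, if_neg (fun h3 => hi (hii.1 h3))]
        rcases h.MO _ hvM o ho with h4 | h4
        · have h5 : (o : G) * ε y * o⁻¹ = ε y := mul_inv_eq_one.1 h4
          have h6 := h.act ⟨o, ho⟩ y
          rw [h5] at h6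
          exact (congrFun (h.eps_inj h6) i).symm
        · have h5 : (o : G) * ε y * o⁻¹ = ε (ind Δ) * ε y := mul_inv_eq_iff_eq_mul.1 h4
          have h6 := h.act ⟨o, ho⟩ y
          rw [h5, ← h.add] at h6
          have h7 := congrFun (h.eps_inj h6) i
          rw [Pi.add_apply, ind_not_mem hi, zero_add] at h7
          exact h7.symm
    have h3 : ε y = ε y1 * ε y2 := by rw [← h.add, ← hy]
    rw [h3]
    refine mul_mem (mem_sup_left ⟨h1, ?_⟩) (mem_sup_right h2)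
    have h4 : ε y1 = ε y * (ε y2)⁻¹ := by rw [h3]; group
    rw [h4]
    change ε y * (ε y2)⁻¹ ∈ M
    exact mul_mem hvM (inv_mem (h.DM h2))
  · exact sup_le (inf_le_inf_right _ h.VD_le) (le_inf h.DV h.DM)

theorem VDM_D : Nat.card ↥((h.VD ⊓ M) ⊓ D) = 2 := by
  have h1 : (((h.VD ⊓ M) ⊓ D : Subgroup G) : Set G) = {1, ε (ind Δ)} := by
    ext v
    constructor
    · rintro ⟨⟨h1, -⟩, h3⟩
      rcases h.VD_D h1 h3 with h4 | h4
      · exact Or.inl h4
      · exact Or.inr h4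
    · rintro (rfl | h1)
      · exact one_mem _
      · rw [Set.mem_singleton_iff.1 h1]
        exact ⟨⟨h.r_mem_VD, h.DM h.r_mem_D⟩, h.r_mem_D⟩
  have h2 : Nat.card ↥((h.VD ⊓ M) ⊓ D) = Set.ncard (((h.VD ⊓ M) ⊓ D : Subgroup G) : Set G) := rfl
  rw [h2, h1, Set.ncard_pair (Ne.symm h.r_ne)]

/-- `2 |V ∩ M| = |V_Δ ∩ M| |D|` -/
theorem card_VM : Nat.card ↥(V ⊓ M) * 2 = Nat.card ↥(h.VD ⊓ M) * Nat.card D := by
  have h1 := card_sup h.U2 ((inf_le_left.trans h.VD_le).trans h.VU' : h.VD ⊓ M ≤ U) (h.DV.trans h.VU')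
  rw [h.VDM_D, ← h.VM_eq] at h1
  exact h1

/-- `|V_Δ ∩ M| |A₀ ∩ O| = 2 |A₀|` -/
theorem card_VDM : Nat.card ↥(h.VD ⊓ M) * Nat.card ↥(A₀ ⊓ O) = 2 * Nat.card A₀ := by
  have h1 := h.F1
  have h2 := h.card_VM
  have hD : 0 < Nat.card D := Nat.card_pos
  apply Nat.eq_of_mul_eq_mul_left hD
  calc Nat.card D * (Nat.card ↥(h.VD ⊓ M) * Nat.card ↥(A₀ ⊓ O))
      = Nat.card ↥(h.VD ⊓ M) * Nat.card D * Nat.card ↥(A₀ ⊓ O) := by ring
    _ = Nat.card ↥(V ⊓ M) * Nat.card ↥(A₀ ⊓ O) * 2 := by rw [← h2]; ring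
    _ = Nat.card D * (2 * Nat.card A₀) := by rw [h1]; ring

/-- `|V_Δ ∩ M| ≤ 2e` -/
theorem card_VDM_le : Nat.card ↥(h.VD ⊓ M) ≤ 2 * Nat.card Δ := by
  classical
  obtain ⟨i, hi⟩ := h.nonempty
  let act : MulAction O Δ := MulAction.compHom Δ h.rho
  let W : Submodule (ZMod 2) (Δ → ZMod 2) :=
    { carrier := {w | ∃ x : Ω → ZMod 2, (∀ i, i ∉ Δ → x i = 0) ∧ (∀ i : Δ, x i = w i) ∧ ε x ∈ M}
      zero_mem' := ⟨0, fun _ _ => rfl, fun _ => rfl, by rw [h.zero]; exact one_mem _⟩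
      add_mem' := by
        rintro w w' ⟨x, h1, h2, h3⟩ ⟨y, h4, h5, h6⟩
        refine ⟨x + y, fun i hi => ?_, fun i => ?_, ?_⟩
        · rw [Pi.add_apply, h1 i hi, h4 i hi, add_zero]
        · rw [Pi.add_apply, Pi.add_apply, h2, h5]
        · rw [h.add]
          exact mul_mem h3 h6
      smul_mem' := by
        rintro c w ⟨x, h1, h2, h3⟩
        rcases AtomPerm.zmod2_cases c with rfl | rfl
        · exact ⟨0, fun _ _ => rfl, fun _ => by simp, by rw [h.zero]; exact one_mem _⟩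
        · exact ⟨x, h1, fun i => by rw [one_smul, h2], h3⟩ }
  have h1 : Nat.card W ≤ 2 * Nat.card Δ := by
    refine AtomPerm.card_le (O := O) (⟨i, hi⟩ : Δ) (fun j => ?_) W ?_
    · obtain ⟨o, ho⟩ := (h.orb i hi j).1 j.2
      exact ⟨o, Subtype.ext ho⟩
    · rintro w ⟨x, h1, h2, h3⟩ o
      rcases h.MO _ h3 (o⁻¹ : O) (o⁻¹ : O).2 with h4 | h4
      · left
        intro j
        have h5 : ((o⁻¹ : O) : G) * ε x * ((o⁻¹ : O) : G)⁻¹ = ε x := mul_inv_eq_one.1 h4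
        rw [h.act] at h5
        have h6 := congrFun (h.eps_inj h5) (j : Ω)
        rw [Function.comp_apply, map_inv] at h6
        change x (φ o j) = x j at h6
        rw [← h2, ← h2]
        exact h6
      · right
        intro j
        have h5 : ((o⁻¹ : O) : G) * ε x * ((o⁻¹ : O) : G)⁻¹ = ε (ind Δ) * ε x := mul_inv_eq_iff_eq_mul.1 h4
        rw [h.act, ← h.add] at h5
        have h6 := congrFun (h.eps_inj h5) (j : Ω)
        rw [Function.comp_apply, map_inv] at h6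
        change x (φ o j) = ind Δ j + x j at h6
        rw [← h2, ← h2, add_comm, ← h.ind_mem j.2]
        exact h6
  refine le_trans ?_ h1
  refine Nat.card_le_card_of_injective
    (fun v : ↥(h.VD ⊓ M) => (⟨fun i => v.2.1.choose i, v.2.1.choose, v.2.1.choose_spec.1, fun _ => rfl, by
      rw [v.2.1.choose_spec.2]; exact v.2.2⟩ : W)) ?_
  intro v w hvw
  have h2 := congrArg Subtype.val hvw
  apply Subtype.ext
  rw [← v.2.1.choose_spec.2, ← w.2.1.choose_spec.2]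
  congr 1
  funext j
  by_cases hj : j ∈ Δ
  · exact congrFun h2 ⟨j, hj⟩
  · rw [v.2.1.choose_spec.1 j hj, w.2.1.choose_spec.1 j hj]

/-- **`q ≤ e`** -/
theorem q_le : Nat.card A₀ ≤ Nat.card Δ * Nat.card ↥(A₀ ⊓ O) := by
  have h1 := h.card_VDM
  have h2 := h.card_VDM_le
  have h3 : 2 * Nat.card A₀ ≤ 2 * (Nat.card Δ * Nat.card ↥(A₀ ⊓ O)) := by
    rw [← h1, ← mul_assoc]
    exact Nat.mul_le_mul_right _ h2
  omega

end Cfsg.Agent.Omega.NO3S.SN2.Atom.Sit
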