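import Cfsg.Agent.Omega.NO3S.SN2.BAavg
import Cfsg.Agent.Omega.NO3S.ThmB.SymFix
import Cfsg.Agent.Omega.NSix.Cen.Model

/-!
# THEOREM BA' (bb #21359 (4)): averaging, even-subset modules

* `symX` : the subgroup `X` for even-subset modules;
* `avg` : **the averaging theorem**.
-/

set_option autoImplicit false

namespace Cfsg.Agent.Omega.NO3S.SN2.BAavg

open Subgroup Cfsg Cfsg.Agent.ZN.ChoiceBase Cfsg.Agent.ZN.ChoiceSit
open Cfsg.Agent.ZN (zc zl o2)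
open Cfsg.Agent.MinSimple.MinParabolic (IsMinPar)
open Cfsg.Agent.MinSimple.VModule (le_normalizer_zl)
open Cfsg.Agent.Omega.FFThm
open Cfsg.Agent.Omega.FrameFF (cv)
open Cfsg.Agent.Omega.HOne (cv_le le_normalizer_cv conj_mem_zl conj_mem_cv)
open Cfsg.Agent.Omega.NO3S.ThmB
open Cfsg.Agent.Omega.NSix.Cen

universe u

variable {G : Type u} [Group G]

/-- a permutation which maps `x, y` to `a, b` and fixes `0` -/
theorem exists_perm0 {n : ℕ} [NeZero n] {x y a b : Fin n} (hxy : x ≠ y) (hab : a ≠ b) (hx : x ≠ 0) (hy : y ≠ 0)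
    (ha : a ≠ 0) (hb : b ≠ 0) : ∃ π : Equiv.Perm (Fin n), π x = a ∧ π y = b ∧ π 0 = 0 := by
  have h1 : Equiv.swap x a y ≠ a := fun e => by
    have h2 : Equiv.swap x a y = Equiv.swap x a x := by rw [e, Equiv.swap_apply_left]
    exact hxy ((Equiv.swap x a).injective h2).symm
  have h0 : Equiv.swap x a 0 = 0 := Equiv.swap_apply_of_ne_of_ne (Ne.symm hx) (Ne.symm ha)
  have h2 : Equiv.swap x a y ≠ 0 := fun e => by
    rw [← h0] at e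
    exact hy ((Equiv.swap x a).injective e)
  refine ⟨Equiv.swap (Equiv.swap x a y) b * Equiv.swap x a, ?_, ?_, ?_⟩
  · rw [Equiv.Perm.mul_apply, Equiv.swap_apply_left, Equiv.swap_apply_of_ne_of_ne (Ne.symm h1) hab]
  · rw [Equiv.Perm.mul_apply, Equiv.swap_apply_left]
  · rw [Equiv.Perm.mul_apply, h0, Equiv.swap_apply_of_ne_of_ne (Ne.symm h2) (Ne.symm hb)]

/-- a subgroup which contains the transpositions avoiding `0` contains the permutations fixing `0` -/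
theorem mem_of_swaps {n : ℕ} [NeZero n] (S : Subgroup (Equiv.Perm (Fin n)))
    (h : ∀ x y, x ≠ 0 → y ≠ 0 → x ≠ y → Equiv.swap x y ∈ S) {π : Equiv.Perm (Fin n)} (h0 : π 0 = 0) : π ∈ S := by
  classical
  have key : ∀ ρ : Equiv.Perm {x : Fin n // x ≠ 0}, Equiv.Perm.ofSubtype ρ ∈ S := by
    intro ρ
    induction ρ using Equiv.Perm.swap_induction_on with
    | one => rw [map_one]; exact one_mem _
    | swap_mul f x y hxy ih =>
      rw [map_mul, Equiv.Perm.ofSubtype_swap_eq]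
      exact mul_mem (h _ _ x.2 y.2 fun e => hxy (Subtype.ext e)) ih
  have h1 : ∀ x, x ≠ 0 ↔ π x ≠ 0 := fun x => by
    rw [not_iff_not]
    constructor
    · rintro rfl; exact h0
    · intro h2
      rw [← h0] at h2
      exact π.injective h2
  have h2 := key (π.subtypePerm fun x => (h1 x).symm)
  rwa [Equiv.Perm.ofSubtype_subtypePerm] at h2
  intro x hx hx0
  rw [hx0] at hx
  exact hx h0

section conj

variable {S P' V D : Subgroup G} {k m : ℕ} {M : SymKM S P' V D k m}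

/-- conjugates of families -/
theorem ac_conj_gen (h : Sb M) {s t : G} (hs : s ∈ P') (ht : t ∈ P') {σ : Equiv.Perm (Fin k)}
    {ρ τ : Fin k → Equiv.Perm (Fin (2 ^ m + 1))} (hsA : ActsSym M.e V s σ ρ) (htA : Ac M t τ) :
    Ac M (s * t * s⁻¹) (fun l => ρ (σ⁻¹ l) * τ (σ⁻¹ l) * (ρ (σ⁻¹ l))⁻¹) := by
  refine ⟨fun v hv l' z' => ?_, fun d hd => ?_⟩
  · obtain ⟨l, rfl⟩ := σ.surjective l'
    obtain ⟨z, rfl⟩ := (ρ l).surjective z'
    have hw := h.memV (inv_mem hs) hv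
    have e1 : s * t * s⁻¹ * v * (s * t * s⁻¹)⁻¹ = s * (t * (s⁻¹ * v * s⁻¹⁻¹) * t⁻¹) * s⁻¹ := by group
    have e2 : s * (s⁻¹ * v * s⁻¹⁻¹) * s⁻¹ = v := by group
    have h1 := hsA _ (h.memV ht hw) l (τ l z)
    have h2 := htA.1 _ hw l z
    have h3 := hsA _ hw l z
    rw [e2] at h3
    rw [Equiv.Perm.one_apply] at h2
    have e3 : σ⁻¹ (σ l) = l := by rw [← Equiv.Perm.mul_apply, inv_mul_cancel, Equiv.Perm.one_apply]
    have e4 : (ρ l)⁻¹ (ρ l z) = z := by rw [← Equiv.Perm.mul_apply, inv_mul_cancel, Equiv.Perm.one_apply]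
    rw [e1, Equiv.Perm.one_apply]
    change M.e _ (σ l) ((ρ (σ⁻¹ (σ l)) * τ (σ⁻¹ (σ l)) * (ρ (σ⁻¹ (σ l)))⁻¹) (ρ l z)) = _
    rw [e3, Equiv.Perm.mul_apply, Equiv.Perm.mul_apply, e4, h3]
    exact h1.trans h2
  · have hd' : s⁻¹ * d * s⁻¹⁻¹ ∈ D := (mem_normalizer_iff.1 (h.DP' (inv_mem hs)) d).1 hd
    have h1 := htA.2 _ hd'
    calc s * t * s⁻¹ * d = s * (t * (s⁻¹ * d * s⁻¹⁻¹)) * s⁻¹ := by group
      _ = s * ((s⁻¹ * d * s⁻¹⁻¹) * t) * s⁻¹ := by rw [h1]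
      _ = d * (s * t * s⁻¹) := by group

end conj

section sym

variable {T R Y C : Subgroup G} {G' : Type u} [Group G'] {T' H' : Subgroup G'} {φ : Y →* G'} {π : R →* G'}
variable {k m : ℕ}

theorem symX [Finite G] [Finite G'] (Q : QDat T R Y C) (M : Model T R Y C T' H' φ π) (hk : 0 < k) (hm : 2 ≤ m)
    (N : SymKM T' H' (zl T' H') (cv T' H') k m) {A : Subgroup G} (hA : A ≤ T)
    (hoff : OffM (zl T' H') (im π A)) (hkc : ∀ x ∈ R, TrQ Y C x → ∀ y ∈ Y, x * y = y * x)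
    (star : ∀ y ∈ Y, (∀ a ∈ A, cq a y ∈ C) → ∀ a ∈ A, a * y = y * a)
    {w : G} (hw : w ∈ Y) (hT : ∀ t ∈ T, cq t w ∈ C) :
    ∃ X : Subgroup G, X ≤ R ∧ (∀ t ∈ T, ∀ x ∈ X, t * x * t⁻¹ ∈ X) ∧
      (∀ K : Subgroup G, X ≤ K → T ≤ K → R ≤ K) ∧ ∀ x ∈ X, x ∈ T → x * w = w * x := by
  classical
  have hN := sb_of hm M.syl M.char2 N
  have hAR : A ≤ R := hA.trans Q.TR
  have c := SQ1.FFOne.minH_of M.syl M.par M.char2
  have hSy := OneLine.sy_of c N.toSymK hk (by omega) (cv_le T' H') (fun x hx v hv => conj_mem_cv hx hv)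
  set v₀ : G' := φ ⟨w, hw⟩ with hv₀
  have hv₀V : v₀ ∈ zl T' H' := M.mem _
  have hfix : ∀ t ∈ T', t * v₀ * t⁻¹ = v₀ := fun t ht => by rw [fixT' Q M hw hT ht, mul_inv_cancel_right]
  -- `e v₀` is constant outside `0`
  have hcon : ∀ i x y, x ≠ 0 → y ≠ 0 → N.e v₀ i x = N.e v₀ i y := by
    intro i x y hx hy
    obtain ⟨t, ht, ρ, hg, hρ⟩ := OneLine.cyc_T' c N.toSymK hSy (by omega) i hx hy
    have h2 := hg.act v₀ hv₀V i x
    rw [hfix t ht, Equiv.Perm.one_apply, Pi.mulSingle_eq_same, hρ] at h2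
    exact h2.symm
  -- elements fixing the letters `0` fix `v₀` modulo `cv`
  have hfix0 : ∀ p ∈ H', ∀ τ : Fin k → Equiv.Perm (Fin (2 ^ m + 1)), Ac N p τ → (∀ i, τ i 0 = 0) →
      N.e (p * v₀ * p⁻¹) = N.e v₀ := by
    intro p hp τ hτ h0
    funext i x
    rw [Sb.ac_e hτ.1 hv₀V]
    by_cases hx : x = 0
    · subst hx
      have : (τ i)⁻¹ 0 = 0 := by rw [Equiv.Perm.inv_eq_iff_eq, h0]
      rw [this]
    · refine hcon i _ _ (fun h1 => hx ?_) hx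
      rw [Equiv.Perm.inv_eq_iff_eq, h0] at h1
      exact h1
  -- the good families
  let 𝒯 : Subgroup (Fin k → Equiv.Perm (Fin (2 ^ m + 1))) :=
    { carrier := {B | ∃ y : R, (y : G) * w = w * y ∧ Ac N (π y) B}
      one_mem' := ⟨1, by rw [Subgroup.coe_one, one_mul, mul_one], by rw [map_one]; exact Sb.ac_one⟩
      mul_mem' := by
        rintro B B' ⟨y, hy, hyB⟩ ⟨y', hy', hyB'⟩
        refine ⟨y * y', ?_, ?_⟩
        · rw [Subgroup.coe_mul, mul_assoc, hy', ← mul_assoc, hy, mul_assoc]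
        · rw [map_mul]
          exact hN.ac_mul (M.piH y') hyB hyB'
      inv_mem' := by
        rintro B ⟨y, hy, hyB⟩
        refine ⟨y⁻¹, ?_, ?_⟩
        · exact (show Commute (y : G) w from hy).inv_left
        · rw [map_inv]
          exact hN.ac_inv (M.piH y) hyB }
  have good : ∀ (x : R) (B : Fin k → Equiv.Perm (Fin (2 ^ m + 1))), Ac N (π x) B → B ∈ 𝒯 →
      (x : G) * w = w * x := by
    rintro x B hx ⟨y, hy, hyB⟩
    exact comm_of_same Q M hkc hw (fun v hv => hN.same (M.piH x) (M.piH y) hx hyB hv) hy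
  -- changing by `V`
  have hsame : ∀ p ∈ H', ∀ v ∈ zl T' H', ∀ u ∈ zl T' H', v * p * u * (v * p)⁻¹ = p * u * p⁻¹ := by
    intro p hp v hv u hu
    calc v * p * u * (v * p)⁻¹ = v * (p * u * p⁻¹) * v⁻¹ := by group
      _ = p * u * p⁻¹ := by rw [hN.cm hv (hN.memV hp hu), mul_inv_cancel_right]
  have hPc : ∀ p ∈ H', ∀ v ∈ zl T' H', ∀ τ, Ac N (v * p) τ → Ac N p τ := by
    intro p hp v hv τ hτ
    refine ⟨fun u hu i x => by rw [← hsame p hp v hv u hu]; exact hτ.1 u hu i x, fun d hd => ?_⟩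
    have h1 := hsame p hp v hv d (cv_le T' H' hd)
    rw [hτ.2 d hd, mul_inv_cancel_right] at h1
    exact (mul_inv_eq_iff_eq_mul.1 h1.symm)
  -- lifts to `R`
  have hlift : ∀ τ : Fin k → Equiv.Perm (Fin (2 ^ m + 1)), ∃ r : R, Ac N (π r) τ := by
    intro τ
    obtain ⟨g, hg, hgA, hgD⟩ := N.lift τ
    obtain ⟨r, v, hv, rfl⟩ := M.Hpi g hg
    exact ⟨r, hPc _ (M.piH r) v hv τ ⟨hgA, hgD⟩⟩
  -- the offender
  obtain ⟨hI0, hI1⟩ := N.offM (im π A) (M.im_le hA) hoff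
  have hstar : ∀ a ∈ A, a * w = w * a := star w hw fun a ha => hT a (hA ha)
  obtain ⟨i₀, x₀, y₀, hxy₀, hx₀, hy₀, b₀, hb₀, hb₀A⟩ : ∃ (i₀ : Fin k) (x₀ y₀ : Fin (2 ^ m + 1)), x₀ ≠ y₀ ∧
      x₀ ≠ 0 ∧ y₀ ≠ 0 ∧ ∃ b : R, (b : G) ∈ A ∧ Ac N (π b) (NO3S.ThmB.pr i₀ x₀ y₀) := by
    by_contra hcon'
    refine hoff.ne fun a ha => ?_
    obtain ⟨τ, hτ, hτ2⟩ := hI1 a ha
    have h1 : τ = 1 := by
      funext i
      ext1 x
      by_contra hne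
      have hne' : τ i x ≠ x := hne
      obtain ⟨h2, b, hb, hbA⟩ := hτ2 i x hne'
      obtain ⟨b', hb', rfl⟩ := mem_im.1 hb
      have h0 : τ i 0 = 0 := N.fix0 a (M.im_le hA ha) 1 τ hτ i
      have hx0 : x ≠ 0 := by
        rintro rfl
        exact hne' h0
      have hy0 : τ i x ≠ 0 := fun h3 => hx0 ((τ i).injective (h3.trans h0.symm))
      exact hcon' ⟨i, x, τ i x, Ne.symm hne', hx0, hy0, b', hb', hbA, hI0 _ hb⟩
    rw [h1] at hτ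
    exact mem_centralizer_iff.2 fun v hv => (hN.comm_of_one (M.im_le' A ha) ⟨hτ, hI0 a ha⟩ hv).symm
  -- transpositions of the component `i₀`
  have hbase : ∀ x y, x ≠ y → x ≠ 0 → y ≠ 0 → ∃ a : R, (a : G) * w = w * a ∧ Ac N (π a) (NO3S.ThmB.pr i₀ x y) := by
    intro x y hxy hx hy
    obtain ⟨ρ, hρx, hρy, hρ0⟩ := exists_perm0 hxy₀ hxy hx₀ hy₀ hx hy
    obtain ⟨r, hr⟩ := hlift (sg i₀ ρ)
    refine ⟨r * b₀ * r⁻¹, ?_, ?_⟩
    · -- `r⁻¹ w r` is fixed by `A`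
      have hrR : (r : G)⁻¹ ∈ R := inv_mem r.2
      have hw' : (r : G)⁻¹ * w * (r : G)⁻¹⁻¹ ∈ Y := Q.memW hrR hw
      have hact : φ ⟨(r : G)⁻¹ * w * (r : G)⁻¹⁻¹, hw'⟩ = (π r)⁻¹ * v₀ * (π r)⁻¹⁻¹ := by
        have h1 := M.actc r⁻¹ ⟨w, hw⟩ hw'
        rw [map_inv] at h1
        exact h1.symm
      have hr0 : ∀ i, (sg i₀ ρ : Fin k → Equiv.Perm (Fin (2 ^ m + 1)))⁻¹ i 0 = 0 := by
        intro i
        rw [Pi.inv_apply, Equiv.Perm.inv_eq_iff_eq]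
        by_cases hi : i = i₀
        · subst hi
          rw [sg_self, hρ0]
        · rw [sg_ne hi]; rfl
      have h2 := hfix0 (π r)⁻¹ (inv_mem (M.piH r)) _ (hN.ac_inv (M.piH r) hr) hr0
      have hu : (π r)⁻¹ * v₀ * (π r)⁻¹⁻¹ ∈ zl T' H' := hN.memV (inv_mem (M.piH r)) hv₀V
      have h3 : (π r)⁻¹ * v₀ * (π r)⁻¹⁻¹ * v₀⁻¹ ∈ cv T' H' := (hN.mem_D hu hv₀V).2 h2
      have h4 : ∀ a ∈ A, cq a ((r : G)⁻¹ * w * (r : G)⁻¹⁻¹) ∈ C := by
        intro a ha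
        refine (M.cq_iff Q ⟨a, hAR ha⟩ ⟨_, hw'⟩).2 ?_
        rw [hact]
        have h5 := hI0 _ (mem_im.2 ⟨⟨a, hAR ha⟩, ha, rfl⟩) _ h3
        have h6 : π ⟨a, hAR ha⟩ * v₀ = v₀ * π ⟨a, hAR ha⟩ :=
          mul_inv_eq_iff_eq_mul.1 (hfix _ (M.piT ⟨a, hAR ha⟩ (hA ha)))
        have h7 := (show Commute (π ⟨a, hAR ha⟩) _ from h5).mul_right (show Commute _ v₀ from h6)
        rw [inv_mul_cancel_right] at h7
        exact h7.eq
      have h5 := star _ hw' h4 b₀ hb₀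
      have h6 : (r : G) * b₀ * (r : G)⁻¹ * w = w * ((r : G) * b₀ * (r : G)⁻¹) := by
        calc (r : G) * b₀ * (r : G)⁻¹ * w = r * (b₀ * ((r : G)⁻¹ * w * (r : G)⁻¹⁻¹)) * (r : G)⁻¹ := by group
          _ = r * (((r : G)⁻¹ * w * (r : G)⁻¹⁻¹) * b₀) * (r : G)⁻¹ := by rw [h5]
          _ = _ := by group
      exact h6
    · have h1 := hN.ac_conj' (M.piH r) (M.piH b₀) hr hb₀A
      rw [hρx, hρy] at h1
      rw [map_mul, map_mul, map_inv]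
      exact h1
  have hall : ∀ (i : Fin k) (x y : Fin (2 ^ m + 1)), x ≠ 0 → y ≠ 0 → x ≠ y →
      Pi.mulSingle i (Equiv.swap x y) ∈ 𝒯 := by
    intro i x y hx hy hxy
    obtain ⟨t', ht', σ, τ, hact, hσ⟩ := N.trans i₀ i
    have h0 : τ i₀ 0 = 0 := N.fix0 t' ht' σ τ hact i₀
    obtain ⟨t, htT, v₁, hv₁, rfl⟩ := M.Tpi t' ht'
    have hact' : ActsSym N.e (zl T' H') (π t) σ τ := fun u hu i x => by
      rw [← hsame _ (M.piH t) v₁ hv₁ u hu]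
      exact hact u hu i x
    obtain ⟨x', rfl⟩ := (τ i₀).surjective x
    obtain ⟨y', rfl⟩ := (τ i₀).surjective y
    obtain ⟨a, haw, ha⟩ := hbase x' y' (fun e => hxy (by rw [e])) (fun e => hx (by rw [e, h0]))
      (fun e => hy (by rw [e, h0]))
    refine ⟨t * a * t⁻¹, ?_, ?_⟩
    · have := conj_comm Q hT htT a.2 haw
      exact this
    · have h1 := hN.ac_conj (M.piT t htT) (M.piH a) hact' ha
      rw [hσ] at h1
      rw [map_mul, map_mul, map_inv]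
      exact h1
  -- the group `X`
  let X : Subgroup G :=
    { carrier := {x | ∃ hx : x ∈ R, ∃ B, Ac N (π ⟨x, hx⟩) B}
      one_mem' := ⟨one_mem _, 1, by
        have : (⟨1, one_mem _⟩ : R) = 1 := rfl
        rw [this, map_one]; exact Sb.ac_one⟩
      mul_mem' := by
        rintro x y ⟨hx, B, hB⟩ ⟨hy, B', hB'⟩
        refine ⟨mul_mem hx hy, B * B', ?_⟩
        have : (⟨x * y, mul_mem hx hy⟩ : R) = ⟨x, hx⟩ * ⟨y, hy⟩ := rfl
        rw [this, map_mul]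
        exact hN.ac_mul (M.piH _) hB hB'
      inv_mem' := by
        rintro x ⟨hx, B, hB⟩
        refine ⟨inv_mem hx, B⁻¹, ?_⟩
        have : (⟨x⁻¹, inv_mem hx⟩ : R) = ⟨x, hx⟩⁻¹ := rfl
        rw [this, map_inv]
        exact hN.ac_inv (M.piH _) hB }
  refine ⟨X, fun x hx => hx.1, ?_, ?_, ?_⟩
  · rintro t ht x ⟨hx, B, hB⟩
    have htR := Q.TR ht
    obtain ⟨σ, ρ, hσρ⟩ := N.perm (π ⟨t, htR⟩) (M.piH _)
    refine ⟨mul_mem (mul_mem htR hx) (inv_mem htR), fun l => ρ (σ⁻¹ l) * B (σ⁻¹ l) * (ρ (σ⁻¹ l))⁻¹, ?_⟩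
    have e : (⟨t * x * t⁻¹, mul_mem (mul_mem htR hx) (inv_mem htR)⟩ : R) = ⟨t, htR⟩ * ⟨x, hx⟩ * ⟨t, htR⟩⁻¹ := rfl
    rw [e, map_mul, map_mul, map_inv]
    exact ac_conj_gen hN (M.piH _) (M.piH _) hσρ hB
  · intro K hXK hTK
    refine genK M (fun g => ∃ B, Ac N g B) ?_ ?_ ?_ K hTK fun x hx => hXK ⟨x.2, hx⟩
    · rintro p hp v hv ⟨B, hB⟩
      exact ⟨B, hPc p hp v hv B hB⟩
    · intro v hv
      refine ⟨1, fun u hu i x => ?_, fun d hd => hN.cm hv (cv_le T' H' hd)⟩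
      rw [hN.cm hv hu, mul_inv_cancel_right]
      rfl
    · intro K' hT'K' hK'
      exact N.gen K' hT'K' fun g hg τ h1 h2 => hK' g hg ⟨τ, h1, h2⟩
  · rintro x ⟨hx, B, hB⟩ hxT
    refine good ⟨x, hx⟩ B hB ?_
    refine Subgroup.pi_mem_of_mulSingle_mem _ fun i => ?_
    have h0 : B i 0 = 0 := N.fix0 _ (M.piT ⟨x, hx⟩ hxT) 1 B hB.1 i
    let 𝒮 : Subgroup (Equiv.Perm (Fin (2 ^ m + 1))) := 𝒯.comap (MonoidHom.mulSingle (fun _ => Equiv.Perm (Fin (2 ^ m + 1))) i)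
    exact mem_of_swaps 𝒮 (fun x y hx hy hxy => hall i x y hx hy hxy) h0

end sym

/-- **the averaging theorem** (bb #21359 (4)) -/
theorem avg {T R Y C : Subgroup G} [Finite G] (hFF : FFThm.StmtM.{u}) (Q : QDat T R Y C) {A : Subgroup G}
    (hA : A ≤ T) (h1 : ∀ a ∈ A, TrQ Y C (a * a)) (h2 : ∀ a ∈ A, ∀ b ∈ A, TrQ Y C (a * b * a⁻¹ * b⁻¹))
    (hne : ∃ a ∈ A, ¬ TrQ Y C a)
    (hoff : ∀ KA CW : Subgroup G, (∀ a, a ∈ KA ↔ a ∈ A ∧ TrQ Y C a) →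
      (∀ w, w ∈ CW ↔ w ∈ Y ∧ ∀ a ∈ A, cq a w ∈ C) → CW.relIndex Y ≤ KA.relIndex A)
    (hK : ∀ k ∈ o2 R, ∀ y ∈ Y, k * y = y * k)
    (star : ∀ y ∈ Y, (∀ a ∈ A, cq a y ∈ C) → ∀ a ∈ A, a * y = y * a)
    (hfix : ∀ y ∈ Y, (∀ t ∈ T, t * y = y * t) → y ∈ C)
    {w : G} (hw : w ∈ Y) (hT : ∀ t ∈ T, cq t w ∈ C) (hmv : ∃ g ∈ R, cq g w ∉ C) : False := by
  obtain ⟨G', iG, iF, T', H', φ, π, M⟩ := exists_model Q
  have hAR : A ≤ R := hA.trans Q.TR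
  have hkc : ∀ x ∈ R, TrQ Y C x → ∀ y ∈ Y, x * y = y * x := fun x hx htr y hy => kcen Q hK hx htr hy
  -- the offender in the model
  have ho : OffM (zl T' H') (im π A) := by
    refine ⟨M.elemM Q h1 h2, fun hc => ?_, ?_⟩
    · obtain ⟨a, ha, hat⟩ := hne
      exact hat ((M.tr_iff Q ⟨a, hAR ha⟩).2 (hc (mem_im.2 ⟨⟨a, hAR ha⟩, ha, rfl⟩)))
    · rw [relIndex_le_iff]
      have e1 := M.rel_tr Q (A := A) (KA := A ⊓ Q.kQ) hAR fun a => by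
        rw [mem_inf, Q.mem_kQ]
        exact ⟨fun h => ⟨h.1, h.2.2⟩, fun h => ⟨h.1, hAR h.1, h.2⟩⟩
      have e2 := M.rel_cen Q (A := A) (CW := Q.cQ A hAR) hAR fun w => Iff.rfl
      rw [← e1, ← e2]
      refine hoff _ _ (fun a => ?_) fun w => Iff.rfl
      rw [mem_inf, Q.mem_kQ]
      exact ⟨fun h => ⟨h.1, h.2.2⟩, fun h => ⟨h.1, hAR h.1, h.2⟩⟩
  -- the group `X`
  obtain ⟨X, hXR, hXn, hXg, hXT⟩ : ∃ X : Subgroup G, X ≤ R ∧ (∀ t ∈ T, ∀ x ∈ X, t * x * t⁻¹ ∈ X) ∧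
      (∀ K : Subgroup G, X ≤ K → T ≤ K → R ≤ K) ∧ ∀ x ∈ X, x ∈ T → x * w = w * x := by
    obtain ⟨-, ⟨F, iF, iFin, iC, k, hk, ⟨N⟩⟩ | ⟨k, m, hk, hm, ⟨N⟩⟩⟩ :=
      hFF G' T' H' M.syl M.par M.char2 ⟨im π A, M.im_le' A, ho⟩
    · exact natX Q M N hA ho hkc star hw hT hmv
    · exact symX Q M hk hm N hA ho hkc star hw hT
  have hXw := avg_pure Q.syl hXR hXn hXg Q.cen Q.ab Q.sq Q.nW Q.CW hw hT hXT hfix
  -- `R` fixes `w` modulo `C`
  let K : Subgroup G :=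
    { carrier := {x | x ∈ R ∧ cq x w ∈ C}
      one_mem' := ⟨one_mem _, by
        have : cq (1 : G) w = 1 := by unfold cq; group
        rw [this]; exact one_mem _⟩
      mul_mem' := by
        rintro x y ⟨hx, hx'⟩ ⟨hy, hy'⟩
        refine ⟨mul_mem hx hy, ?_⟩
        rw [QDat.cq_mul', Q.conj_C hx hy']
        exact mul_mem hy' hx'
      inv_mem' := by
        rintro x ⟨hx, hx'⟩
        refine ⟨inv_mem hx, ?_⟩
        have e : cq x⁻¹ w = x⁻¹ * (cq x w)⁻¹ * x⁻¹⁻¹ := by unfold cq; group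
        rw [e, Q.conj_C (inv_mem hx) (inv_mem hx')]
        exact inv_mem hx' }
  have hRK : R ≤ K := hXg K (fun x hx => ⟨hXR hx, by rw [cq_one_iff.2 (hXw x hx)]; exact one_mem _⟩)
    fun t ht => ⟨Q.TR ht, hT t ht⟩
  obtain ⟨g, hg, hgw⟩ := hmv
  exact hgw (hRK hg).2

end Cfsg.Agent.Omega.NO3S.SN2.BAavg
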