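import Cfsg.Agent.Omega.NO3S.SN2.BATwo
import Cfsg.Agent.Omega.NO3S.SN2.BAsym

/-!
# THEOREM BA' (bb #20031 helper586, #21359 helper159): no atoms of size `≥ 4`

`Sit n T R L V D W ε` and a best offender `A ≤ T` on `W` with `A ≰ O₂(R)`: every `T`-orbit on the letters of `V` has
length `≤ 2`.  (Every level, every stage: `W` may be any elementary abelian `R`-invariant group containing `V`
with `C_W(T) ≤ D`.)
-/

set_option autoImplicit false

namespace Cfsg.Agent.Omega.NO3S.SN2.BA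

open Subgroup Cfsg Cfsg.Agent.ZN.ChoiceSit
open Cfsg.Agent.ZN (o2)
open Cfsg.Agent.Omega.NSix.Cen
open scoped commutatorElement

universe u

variable {G : Type u} [Group G] [Finite G]

/-- **THEOREM BA'** -/
theorem main (hFF : FFThm.StmtM.{u}) {n : ℕ} {T R L V D W : Subgroup G} {ε : (Fin n → ZMod 2) → G}
    (h : Sit n T R L V D W ε) (hA : ∃ A ≤ T, IsBestOffenderOn 2 W A ∧ ¬ A ≤ o2 R) (i : Fin n) : Sm T ε i := by
  by_contra hi
  obtain ⟨A, hAT, hb, hne, hK⟩ := h.one hi hA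
  obtain ⟨w, hw, hwD, hwT⟩ := h.exists_w hi
  have Q := h.qdat hw hwD hwT
  obtain ⟨G', iG, iF, T', H', φ, π, M⟩ := exists_model Q
  obtain ⟨h1, h2, h3⟩ := h.two hw hwD hwT (noOverQ hFF Q M) hAT hb hK
  have hYW : YY R D w ≤ W := (h.YU hw).trans h.UW
  -- `O₂(R)` centralises `Y`
  have hKY : ∀ k ∈ o2 R, ∀ y ∈ YY R D w, k * y = y * k := by
    intro k hk y hy
    have h4 : UU R (V0 T h.ev) ≤ centralizer ({k} : Set G) := by
      refine (closure_le _).2 ?_
      rintro _ ⟨g, hg, v, hv, rfl⟩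
      refine mem_centralizer_singleton_iff.2 ?_
      have hk' : g⁻¹ * k * g ∈ o2 R := by
        have := Sit.K_conj (inv_mem hg) hk
        rwa [inv_inv] at this
      have h5 := h.cenK hw hwT hAT hne h2 hk' hv
      calc g * v * g⁻¹ * k = g * (v * (g⁻¹ * k * g)) * g⁻¹ := by group
        _ = g * ((g⁻¹ * k * g) * v) * g⁻¹ := by rw [h5]
        _ = k * (g * v * g⁻¹) := by group
    exact (mem_centralizer_singleton_iff.1 (h4 (h.YU hw hy))).symm
  refine BAavg.avg hFF Q hAT (fun a ha => ?_) (fun a ha b hb' => ?_) ?_ h3 hKY h1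
    (fun y hy hc => h.fixT y (hYW hy) hc) Sit.wY hwT (h.mvd (h.V0_V hw) hwD)
  · have h4 := hb.2.2 a ha
    rw [pow_two] at h4
    exact trQ_of_cen (centralizer_le (SetLike.coe_subset_coe.2 hYW) h4)
  · exact trQ_of_cen (centralizer_le (SetLike.coe_subset_coe.2 hYW) (hb.2.1 (commutator_mem_commutator ha hb')))
  · by_contra hcon
    push Not at hcon
    exact hne fun a ha => Q.inf_kQ ⟨hAT ha, h.TR (hAT ha), hcon a ha⟩

end Cfsg.Agent.Omega.NO3S.SN2.BA
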