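import Cfsg.Agent.Omega.NSix.HT.OffEven
import Cfsg.Agent.Omega.NSix.Cen.QFacts
import Cfsg.Agent.Omega.NSix.Cen.MFacts
import Cfsg.Agent.PLocal.Timmesfeld

/-!
# SN.Two / SymBigL, THEOREM BA' (bb #20031 helper586, #21359 helper159): atoms of size `≥ 4`: the letters

`V` the even subsets of `n` letters (`n` odd), `L` a group permuting the letters, `R` a minimal parabolic over its
Sylow 2-subgroup `T ≤ L`, `D = C_V(T)` centralised by `R`, `R ≰ L`, (TI): `g ∈ R - L` implies `V ∩ V^g ≤ D`.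
`W` elementary abelian, normalised by `R`, contains `V`, `C_W(T) ≤ D`.

* `Sit` : the hypotheses;
* `Orb`, `Sm` : the `T`-orbits of the letters, the letters in orbits of length `≤ 2`;
* `V0` : the vectors which are constant on the orbits of length `≤ 2`;
* `Sit.mem_D`, `Sit.orb`, `Sit.fixes`, `Sit.cen_V0`, `Sit.two_lt`.
-/

set_option autoImplicit false

namespace Cfsg.Agent.Omega.NO3S.SN2.BA

open Subgroup Cfsg Cfsg.Agent.ZN.ChoiceSit
open Cfsg.Agent.ZN (o2)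
open Cfsg.Agent.MinSimple.MinParabolic (IsMinPar)
open Cfsg.Agent.Omega.S5.Def
open Cfsg.Agent.Omega.NSix.Cen (cq)

universe u

variable {G : Type u} [Group G]

/-- the hypotheses of THEOREM BA' -/
structure Sit (n : ℕ) (T R L V D W : Subgroup G) (ε : (Fin n → ZMod 2) → G) : Prop where
  odd : Odd n
  three : 3 ≤ n
  ev : EvenSet n V L ε
  RL : ∀ g ∈ R, g ∈ normalizer (V : Set G) → g ∈ L
  syl : Syl T R
  par : IsMinPar T R
  TL : T ≤ L
  nRL : ¬ R ≤ L
  DV : D ≤ V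
  cen : ∀ g ∈ R, ∀ d ∈ D, g * d = d * g
  ti : ∀ g ∈ R, g ∉ L → ∀ v ∈ V, g * v * g⁻¹ ∈ V → v ∈ D
  VW : V ≤ W
  nW : R ≤ normalizer (W : Set G)
  elW : IsElementaryAbelian 2 W
  fixT : ∀ w ∈ W, (∀ t ∈ T, t * w = w * t) → w ∈ D

/-- `i` and `j` are in the same `T`-orbit -/
def Orb {n : ℕ} (T : Subgroup G) (ε : (Fin n → ZMod 2) → G) (i j : Fin n) : Prop :=
  ∃ t ∈ T, ∃ σ : Equiv.Perm (Fin n), Acts ε t σ ∧ σ i = j

/-- the `T`-orbit of `i` has length `≤ 2` -/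
def Sm {n : ℕ} (T : Subgroup G) (ε : (Fin n → ZMod 2) → G) (i : Fin n) : Prop :=
  ∃ j, ∀ k, Orb T ε i k → k = i ∨ k = j

/-- constant on the small orbits -/
def Cst {n : ℕ} (T : Subgroup G) (ε : (Fin n → ZMod 2) → G) (x : Fin n → ZMod 2) : Prop :=
  ∀ i, Sm T ε i → ∀ j, Orb T ε i j → x j = x i

/-- the vectors which are constant on the small orbits -/
def V0 {n : ℕ} (T : Subgroup G) {V L : Subgroup G} {ε : (Fin n → ZMod 2) → G} (h : EvenSet n V L ε) : Subgroup G where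
  carrier := {v | ∃ x, Cst T ε x ∧ ε x = v}
  mul_mem' := by
    rintro v w ⟨x, hx, rfl⟩ ⟨y, hy, rfl⟩
    exact ⟨x + y, fun i hi j hj => by rw [Pi.add_apply, Pi.add_apply, hx i hi j hj, hy i hi j hj], h.add x y⟩
  one_mem' := ⟨0, fun i _ j _ => rfl, h.zero⟩
  inv_mem' := by
    rintro v ⟨x, hx, rfl⟩
    exact ⟨x, hx, (h.inv x).symm⟩

namespace Sit

variable {n : ℕ} {T R L V D W : Subgroup G} {ε : (Fin n → ZMod 2) → G} (h : Sit n T R L V D W ε)
include h

theorem TR : T ≤ R := h.syl.1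

theorem LV : L ≤ normalizer (V : Set G) := h.ev.le_normalizer

theorem comm {v w : G} (hv : v ∈ W) (hw : w ∈ W) : v * w = w * v :=
  congrArg Subtype.val (h.elW.1.1.1 (⟨v, hv⟩ : W) (⟨w, hw⟩ : W))

theorem sq {v : G} (hv : v ∈ W) : v * v = 1 := by
  have := h.elW.2 v hv
  rwa [pow_two] at this

theorem nWm {g w : G} (hg : g ∈ R) (hw : w ∈ W) : g * w * g⁻¹ ∈ W := (mem_normalizer_iff.1 (h.nW hg) w).1 hw

theorem par' {x : Fin n → ZMod 2} {σ : Equiv.Perm (Fin n)} {g : G} (hg : Acts ε g σ) (hc : g * ε x = ε x * g) :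
    x ∘ σ.symm = x := by
  have h1 := hg x
  rw [hc, mul_inv_cancel_right] at h1
  rcases h.ev.eq_iff.1 h1.symm with h2 | h2
  · exact h2
  · exact absurd h2 (NSix.HT.OffEven.ne_add_one h.odd x σ)

/-- `D = C_V(T)` -/
theorem mem_D {x : Fin n → ZMod 2} : ε x ∈ D ↔ ∀ i j, Orb T ε i j → x j = x i := by
  constructor
  · rintro hx i j ⟨t, ht, σ, hσ, rfl⟩
    have h1 := h.par' hσ (h.cen t (h.TR ht) _ hx)
    have h2 := congrFun h1 (σ i)
    rw [Function.comp_apply, Equiv.symm_apply_apply] at h2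
    exact h2.symm
  · intro hx
    refine h.fixT _ (h.VW (h.ev.mem x)) fun t ht => ?_
    obtain ⟨σ, hσ⟩ := h.ev.perm t (h.TL ht)
    have h1 : x ∘ σ.symm = x := by
      funext j
      rw [Function.comp_apply]
      have := hx (σ.symm j) j ⟨t, ht, σ, hσ, Equiv.apply_symm_apply _ _⟩
      exact this.symm
    have h2 := hσ x
    rw [h1] at h2
    exact mul_inv_eq_iff_eq_mul.1 h2

omit h in
theorem orb_refl (i : Fin n) : Orb T ε i i := ⟨1, one_mem _, 1, Acts.one, rfl⟩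

omit h in
theorem orb_symm {i j : Fin n} (hij : Orb T ε i j) : Orb T ε j i := by
  obtain ⟨t, ht, σ, hσ, rfl⟩ := hij
  exact ⟨t⁻¹, inv_mem ht, σ⁻¹, hσ.inv, σ.symm_apply_apply i⟩

omit h in
theorem orb_trans {i j k : Fin n} (hij : Orb T ε i j) (hjk : Orb T ε j k) : Orb T ε i k := by
  obtain ⟨t, ht, σ, hσ, rfl⟩ := hij
  obtain ⟨s, hs, τ, hτ, rfl⟩ := hjk
  exact ⟨s * t, mul_mem hs ht, τ * σ, hτ.mul hσ, rfl⟩

omit h in
theorem sm_of_orb {i j : Fin n} (hij : Orb T ε i j) (hi : Sm T ε i) : Sm T ε j := by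
  obtain ⟨k, hk⟩ := hi
  rcases hk j hij with rfl | rfl
  · exact ⟨k, hk⟩
  · refine ⟨i, fun l hl => ?_⟩
    rcases hk l (orb_trans hij hl) with rfl | rfl
    · exact Or.inr rfl
    · exact Or.inl rfl

theorem D_V0 : D ≤ V0 T h.ev := by
  intro d hd
  obtain ⟨x, rfl⟩ := h.ev.surj d (h.DV hd)
  exact ⟨x, fun i _ j hj => h.mem_D.1 hd i j hj, rfl⟩

theorem V0_V : V0 T h.ev ≤ V := by
  rintro v ⟨x, -, rfl⟩
  exact h.ev.mem x

/-- the elements of `N_R(V)` fix the `T`-orbits -/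
theorem orb {g : G} (hg : g ∈ R) {σ : Equiv.Perm (Fin n)} (hσ : Acts ε g σ) (i : Fin n) : Orb T ε i (σ i) := by
  classical
  let x : Fin n → ZMod 2 := fun j => if Orb T ε i j then 1 else 0
  have hx : ε x ∈ D := h.mem_D.2 fun j k hjk => by
    by_cases h1 : Orb T ε i j
    · have h2 : Orb T ε i k := orb_trans h1 hjk
      simp only [x, if_pos h1, if_pos h2]
    · have h2 : ¬ Orb T ε i k := fun h3 => h1 (orb_trans h3 (orb_symm hjk))
      simp only [x, if_neg h1, if_neg h2]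
  have h1 := congrFun (h.par' hσ (h.cen g hg _ hx)) (σ i)
  rw [Function.comp_apply, Equiv.symm_apply_apply] at h1
  by_contra hc
  simp only [x, if_pos (orb_refl i), if_neg hc] at h1
  exact one_ne_zero h1

theorem acts_of {g : G} (hg : g ∈ L) : ∃ σ : Equiv.Perm (Fin n), Acts ε g σ := h.ev.perm g hg

/-- `cq g (z_i) = z_i z_{σ i}` -/
theorem cq_single {g : G} {σ : Equiv.Perm (Fin n)} (hσ : Acts ε g σ) (i : Fin n) :
    cq g (ε (Pi.single i 1)) = ε (Pi.single (σ i) 1 + Pi.single i 1) := by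
  rw [cq, hσ.single, h.ev.inv, h.ev.add]

omit h in
theorem pr_apply {i j k : Fin n} (hij : i ≠ j) : (Pi.single j 1 + Pi.single i 1 : Fin n → ZMod 2) k = 1 ↔ k = i ∨ k = j := by
  rw [Pi.add_apply, Pi.single_apply, Pi.single_apply]
  by_cases h1 : k = i
  · subst h1
    rw [if_neg hij, if_pos rfl]
    simp
  · by_cases h2 : k = j
    · subst h2
      rw [if_pos rfl, if_neg h1]
      simp
    · rw [if_neg h2, if_neg h1]
      simp [h1, h2]

/-- `{i, j}` is not `T`-invariant if `i` is in a big orbit -/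
theorem pr_notMem {i j : Fin n} (hi : ¬ Sm T ε i) (hij : i ≠ j) : ε (Pi.single j 1 + Pi.single i 1) ∉ D := by
  intro hD
  refine hi ⟨j, fun k hk => ?_⟩
  have h1 := h.mem_D.1 hD i k hk
  rw [(pr_apply hij).2 (Or.inl rfl)] at h1
  exact (pr_apply hij).1 h1

theorem fixes {g : G} {σ : Equiv.Perm (Fin n)} (hσ : Acts ε g σ) {i : Fin n} (hi : ¬ Sm T ε i)
    (hc : cq g (ε (Pi.single i 1)) ∈ D) : σ i = i := by
  by_contra hne
  rw [h.cq_single hσ] at hc
  exact h.pr_notMem hi (Ne.symm hne) hc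

theorem single_V0 {i : Fin n} (hi : ¬ Sm T ε i) : ε (Pi.single i 1) ∈ V0 T h.ev := by
  refine ⟨Pi.single i 1, fun j hj k hk => ?_, rfl⟩
  have h1 : j ≠ i := by rintro rfl; exact hi hj
  have h2 : k ≠ i := by rintro rfl; exact hi (sm_of_orb hk hj)
  rw [Pi.single_eq_of_ne h1, Pi.single_eq_of_ne h2]

/-- an element of `N_R(V)` which fixes the big letters centralises `V₀` -/
theorem cen_V0 {g : G} (hg : g ∈ R) {σ : Equiv.Perm (Fin n)} (hσ : Acts ε g σ) (hf : ∀ i, ¬ Sm T ε i → σ i = i)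
    {v : G} (hv : v ∈ V0 T h.ev) : g * v = v * g := by
  obtain ⟨x, hx, rfl⟩ := hv
  have h1 : x ∘ σ.symm = x := by
    funext j
    rw [Function.comp_apply]
    obtain ⟨i, rfl⟩ := σ.surjective j
    rw [Equiv.symm_apply_apply]
    by_cases hi : Sm T ε i
    · exact (hx i hi _ (h.orb hg hσ i)).symm
    · rw [hf i hi]
  have h2 := hσ x
  rw [h1] at h2
  exact mul_inv_eq_iff_eq_mul.1 h2

/-- commutators in `D` on `V₀` -/
theorem cen_of_cq {g : G} (hg : g ∈ R) (hL : g ∈ L) (hc : ∀ v ∈ V0 T h.ev, cq g v ∈ D) {v : G}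
    (hv : v ∈ V0 T h.ev) : g * v = v * g := by
  obtain ⟨σ, hσ⟩ := h.acts_of hL
  exact h.cen_V0 hg hσ (fun i hi => h.fixes hσ hi (hc _ (h.single_V0 hi))) hv

theorem D_lt {i : Fin n} (hi : ¬ Sm T ε i) : ε (Pi.single i 1) ∉ D := by
  intro hD
  refine hi ⟨i, fun k hk => ?_⟩
  have h1 := h.mem_D.1 hD i k hk
  rw [Pi.single_eq_same] at h1
  by_contra hc
  have hki : k ≠ i := fun e => hc (Or.inl e)
  rw [Pi.single_eq_of_ne hki] at h1
  exact zero_ne_one h1

/-- `|V₀ : D| > 2` -/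
theorem two_lt [Finite G] {i : Fin n} (hi : ¬ Sm T ε i) : ¬ D.relIndex (V0 T h.ev) ≤ 2 := by
  intro h2
  -- a second letter
  obtain ⟨j, hj, hji⟩ : ∃ j, Orb T ε i j ∧ j ≠ i := by
    by_contra hc
    push Not at hc
    exact hi ⟨i, fun k hk => Or.inl (hc k hk)⟩
  have hjb : ¬ Sm T ε j := fun h3 => hi (sm_of_orb (orb_symm hj) h3)
  have h0 : D.relIndex (V0 T h.ev) ≠ 0 := index_ne_zero_of_finite
  have hcase : D.relIndex (V0 T h.ev) = 1 ∨ D.relIndex (V0 T h.ev) = 2 := by omega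
  rcases hcase with h3 | h3
  · rw [relIndex_eq_one] at h3
    exact h.D_lt hi (h3 (h.single_V0 hi))
  · have h4 := mul_mem_iff_of_index_two (H := D.subgroupOf (V0 T h.ev)) h3
      (a := ⟨_, h.single_V0 hjb⟩) (b := ⟨_, h.single_V0 hi⟩)
    rw [mem_subgroupOf, mem_subgroupOf, mem_subgroupOf] at h4
    have h5 : ε (Pi.single j 1) * ε (Pi.single i 1) ∈ D :=
      h4.2 (iff_of_false (h.D_lt hjb) (h.D_lt hi))
    rw [← h.ev.add] at h5
    exact h.pr_notMem hi (Ne.symm hji) h5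

end Sit

end Cfsg.Agent.Omega.NO3S.SN2.BA
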