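import Cfsg.Agent.Omega.FFThmM
import Cfsg.Agent.S0599

/-!
# Best offenders: submodules, stabilisers, conjugates (for THEOREM BA')

* `bo_sub` : a best offender on `W` satisfies the offender inequality on every subgroup of `W`;
* `bo_stab` : if the orbit of `u` has length 2 then `C_A(u)` is a best offender;
* `bo_of_cj` : conjugates;
* `bo_quad` : Timmesfeld replacement: `C_A([U, A])`, for an `A`-invariant `U` not centralised by `A`, does not
  centralise `U`.
-/

set_option autoImplicit false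
set_option linter.unusedSectionVars false

namespace Cfsg.Agent.Omega.NO3S.SN2.BA

open Subgroup Cfsg Cfsg.Agent.ZN.ChoiceBase
open Cfsg.Agent.PLocal.Timmesfeld
open scoped commutatorElement

universe u

variable {G : Type u} [Group G]

theorem mem_sup_of_comm {X Y : Subgroup G} (h : ∀ x ∈ X, ∀ y ∈ Y, x * y = y * x) {u : G} (hu : u ∈ X ⊔ Y) :
    ∃ x ∈ X, ∃ y ∈ Y, x * y = u := by
  let Z : Subgroup G :=
    { carrier := {u | ∃ x ∈ X, ∃ y ∈ Y, x * y = u}
      mul_mem' := by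
        rintro _ _ ⟨x, hx, y, hy, rfl⟩ ⟨x', hx', y', hy', rfl⟩
        refine ⟨x * x', mul_mem hx hx', y * y', mul_mem hy hy', ?_⟩
        calc x * x' * (y * y') = x * (x' * y) * y' := by group
          _ = x * (y * x') * y' := by rw [h x' hx' y hy]
          _ = _ := by group
      one_mem' := ⟨1, one_mem _, 1, one_mem _, mul_one 1⟩
      inv_mem' := by
        rintro _ ⟨x, hx, y, hy, rfl⟩
        exact ⟨x⁻¹, inv_mem hx, y⁻¹, inv_mem hy, by rw [mul_inv_rev, h _ (inv_mem hx) _ (inv_mem hy)]⟩ }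
  have h1 : X ⊔ Y ≤ Z := sup_le (fun x hx => ⟨x, hx, 1, one_mem _, mul_one x⟩)
    fun y hy => ⟨1, one_mem _, y, hy, one_mul y⟩
  exact h1 hu

variable [Finite G] {W A : Subgroup G}

theorem bo_sub (hb : IsBestOffenderOn 2 W A) {U : Subgroup G} (hU : U ≤ W) :
    Nat.card U * Nat.card ↥(A ⊓ centralizer (U : Set G)) ≤ Nat.card A * Nat.card ↥(U ⊓ centralizer (A : Set G)) := by
  have h1 := hb.1 (A ⊓ centralizer (U : Set G)) inf_le_left
  have h2 : U ≤ W ⊓ centralizer ((A ⊓ centralizer (U : Set G) : Subgroup G) : Set G) :=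
    le_inf hU (le_centralizer_iff.1 inf_le_right)
  have h3 : W ⊓ centralizer (A : Set G) ≤ W ⊓ centralizer ((A ⊓ centralizer (U : Set G) : Subgroup G) : Set G) :=
    inf_le_inf_left _ (centralizer_le (SetLike.coe_subset_coe.2 inf_le_left))
  have h4 := card_mul_card_le h2 h3
  have h5 : U ⊓ (W ⊓ centralizer (A : Set G)) = U ⊓ centralizer (A : Set G) := by
    rw [← inf_assoc, inf_eq_left.2 hU]
  rw [h5] at h4
  have h6 : 0 < Nat.card ↥(W ⊓ centralizer (A : Set G)) := Nat.card_pos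
  refine Nat.le_of_mul_le_mul_right ?_ h6
  calc Nat.card U * Nat.card ↥(A ⊓ centralizer (U : Set G)) * Nat.card ↥(W ⊓ centralizer (A : Set G))
      = Nat.card ↥(A ⊓ centralizer (U : Set G)) * (Nat.card U * Nat.card ↥(W ⊓ centralizer (A : Set G))) := by ring
    _ ≤ Nat.card ↥(A ⊓ centralizer (U : Set G)) * (Nat.card ↥(U ⊓ centralizer (A : Set G)) *
        Nat.card ↥(W ⊓ centralizer ((A ⊓ centralizer (U : Set G) : Subgroup G) : Set G))) :=
        Nat.mul_le_mul_left _ h4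
    _ = Nat.card ↥(U ⊓ centralizer (A : Set G)) * (Nat.card ↥(A ⊓ centralizer (U : Set G)) *
        Nat.card ↥(W ⊓ centralizer ((A ⊓ centralizer (U : Set G) : Subgroup G) : Set G))) := by ring
    _ ≤ Nat.card ↥(U ⊓ centralizer (A : Set G)) * (Nat.card A * Nat.card ↥(W ⊓ centralizer (A : Set G))) :=
        Nat.mul_le_mul_left _ h1
    _ = _ := by ring

/-- a subgroup of a best offender with the same measure -/
theorem bo_of_le (hb : IsBestOffenderOn 2 W A) {B : Subgroup G} (hBA : B ≤ A)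
    (h : Nat.card A * Nat.card ↥(W ⊓ centralizer (A : Set G)) ≤ Nat.card B * Nat.card ↥(W ⊓ centralizer (B : Set G))) :
    IsBestOffenderOn 2 W B :=
  ⟨fun C hC => (hb.1 C (hC.trans hBA)).trans h, (commutator_mono hBA hBA).trans hb.2.1,
    fun a ha => hb.2.2 a (hBA ha)⟩

theorem bo_stab (hb : IsBestOffenderOn 2 W A) {u a₀ : G} (hu : u ∈ W) (ha₀ : a₀ ∈ A) (hne : a₀ * u ≠ u * a₀)
    (h2 : ∀ a ∈ A, a * u = u * a ∨ a * u * a⁻¹ = a₀ * u * a₀⁻¹) :
    IsBestOffenderOn 2 W (A ⊓ centralizer {u}) ∧ Nat.card A ≤ 2 * Nat.card ↥(A ⊓ centralizer ({u} : Set G)) := by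
  set B := A ⊓ centralizer ({u} : Set G) with hB
  have hmem : ∀ a, a ∈ B ↔ a ∈ A ∧ a * u = u * a := fun a => by
    rw [hB, mem_inf, mem_centralizer_singleton_iff]
  have h3 : Nat.card A ≤ 2 * Nat.card B := by
    have h4 : (A : Set G) ⊆ (B : Set G) ∪ (fun b => a₀ * b) '' (B : Set G) := by
      intro a ha
      rcases h2 a ha with h5 | h5
      · exact Or.inl ((hmem a).2 ⟨ha, h5⟩)
      · right
        refine ⟨a₀⁻¹ * a, (hmem _).2 ⟨mul_mem (inv_mem ha₀) ha, ?_⟩, by group⟩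
        calc a₀⁻¹ * a * u = a₀⁻¹ * (a * u * a⁻¹) * a := by group
          _ = a₀⁻¹ * (a₀ * u * a₀⁻¹) * a := by rw [h5]
          _ = u * (a₀⁻¹ * a) := by group
    have h5 := Set.ncard_le_ncard h4 (Set.toFinite _)
    have h6 := Set.ncard_union_le (B : Set G) ((fun b => a₀ * b) '' (B : Set G))
    have h7 : ((fun b => a₀ * b) '' (B : Set G)).ncard ≤ (B : Set G).ncard := Set.ncard_image_le (Set.toFinite _)
    have e1 : Nat.card A = (A : Set G).ncard := rfl
    have e2 : Nat.card B = (B : Set G).ncard := rfl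
    rw [e1, e2]
    omega
  refine ⟨bo_of_le hb inf_le_left ?_, h3⟩
  -- `|C_W(B)| ≥ 2 |C_W(A)|`
  have h4 : W ⊓ centralizer (A : Set G) ≤ W ⊓ centralizer (B : Set G) :=
    inf_le_inf_left _ (centralizer_le (SetLike.coe_subset_coe.2 inf_le_left))
  have h5 : u ∈ W ⊓ centralizer (B : Set G) := ⟨hu, mem_centralizer_iff.2 fun b hb' => ((hmem b).1 hb').2⟩
  have h6 : u ∉ W ⊓ centralizer (A : Set G) := fun h => hne (mem_centralizer_iff.1 h.2 a₀ ha₀)
  obtain ⟨k, hk⟩ := card_dvd_of_le h4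
  have h7 : 2 ≤ k := by
    by_contra hc
    have h8 : k = 0 ∨ k = 1 := by omega
    rcases h8 with rfl | rfl
    · rw [mul_zero] at hk
      exact Nat.card_pos.ne' hk
    · rw [mul_one] at hk
      exact h6 ((eq_of_le_of_card_ge h4 hk.le) ▸ h5)
  rw [hk]
  calc Nat.card A * Nat.card ↥(W ⊓ centralizer (A : Set G))
      ≤ 2 * Nat.card B * Nat.card ↥(W ⊓ centralizer (A : Set G)) := Nat.mul_le_mul_right _ h3
    _ = Nat.card B * (Nat.card ↥(W ⊓ centralizer (A : Set G)) * 2) := by ring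
    _ ≤ _ := Nat.mul_le_mul_left _ (Nat.mul_le_mul_left _ h7)

theorem bo_cj (hb : IsBestOffenderOn 2 W A) {g : G} (hg : g ∈ normalizer (W : Set G)) :
    IsBestOffenderOn 2 W (cj g A) := by
  have hW : cj g W = W := by
    ext x
    rw [mem_cj]
    have := mem_normalizer_iff.1 (inv_mem hg) x
    rw [inv_inv] at this
    exact this.symm
  have hc : ∀ B : Subgroup G, Nat.card ↥(W ⊓ centralizer ((cj g B : Subgroup G) : Set G)) =
      Nat.card ↥(W ⊓ centralizer (B : Set G)) := by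
    intro B
    rw [← cj_centralizer]
    nth_rw 1 [← hW]
    rw [← cj_inf, card_cj]
  have hcW : cj g (centralizer (W : Set G)) = centralizer (W : Set G) := by rw [cj_centralizer, hW]
  refine ⟨fun B hB => ?_, ?_, fun a ha => ?_⟩
  · have h1 := hb.1 (cj g⁻¹ B) (by rw [cj_le_iff, inv_inv]; exact hB)
    rw [card_cj] at h1
    have h2 := hc (cj g⁻¹ B)
    have e : cj g (cj g⁻¹ B) = B := by
      have := cj_inv_cj g⁻¹ B
      rwa [inv_inv] at this
    rw [e] at h2
    rw [h2, hc, card_cj]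
    exact h1
  · rw [commutator_le]
    intro a ha b hb'
    rw [mem_cj] at ha hb'
    rw [← hcW, mem_cj]
    have h1 := hb.2.1 (commutator_mem_commutator ha hb')
    have e : ⁅g⁻¹ * a * g, g⁻¹ * b * g⁆ = g⁻¹ * ⁅a, b⁆ * g := by
      simp only [commutatorElement_def]; group
    rwa [e] at h1
  · rw [mem_cj] at ha
    rw [← hcW, mem_cj]
    have h1 := hb.2.2 _ ha
    have e : (g⁻¹ * a * g) ^ 2 = g⁻¹ * a ^ 2 * g := by
      rw [pow_two, pow_two]; group
    rwa [e] at h1

/-- **Timmesfeld replacement** -/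
theorem bo_quad (hW : IsElementaryAbelian 2 W) (hAW : A ≤ normalizer (W : Set G)) (hb : IsBestOffenderOn 2 W A)
    {U : Subgroup G} (hU : U ≤ W) (hAU : A ≤ normalizer (U : Set G)) (hne : ¬ U ≤ centralizer (A : Set G)) :
    IsBestOffenderOn 2 W (A ⊓ centralizer ((⁅U, A⁆ : Subgroup G) : Set G)) ∧
      ¬ U ≤ centralizer ((A ⊓ centralizer ((⁅U, A⁆ : Subgroup G) : Set G) : Subgroup G) : Set G) := by
  have : Fact (Nat.Prime 2) := ⟨Nat.prime_two⟩
  obtain ⟨h1, h2, -⟩ := S0599.result W A hW hAW hb U hU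
  refine ⟨h1, fun hc => hne ?_⟩
  have h3 : U ≤ ⁅U, A⁆ ⊔ (W ⊓ centralizer (A : Set G)) := by
    rw [← h2]
    exact le_inf hU hc
  have hUA : ⁅U, A⁆ ≤ U := by
    rw [commutator_le]
    intro u hu a ha
    exact commutator_mem_of_mem hAU hu ha
  have hUe : IsElementaryAbelian 2 U :=
    ⟨⟨⟨fun a b => Subtype.ext (congrArg (fun t : W => (t : G))
      (hW.1.is_comm.comm ⟨a, hU a.2⟩ ⟨b, hU b.2⟩))⟩⟩, fun a ha => hW.2 a (hU ha)⟩
  have h4 : U ≤ ⁅U, A⁆ ⊔ (U ⊓ centralizer (A : Set G)) := by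
    have hab : ∀ x ∈ W, ∀ y ∈ W, x * y = y * x := fun x hx y hy =>
      congrArg Subtype.val (hW.1.1.1 (⟨x, hx⟩ : W) (⟨y, hy⟩ : W))
    intro u hu
    have h5 := h3 hu
    obtain ⟨x, hx, y, hy, e⟩ := mem_sup_of_comm (X := ⁅U, A⁆) (Y := W ⊓ centralizer (A : Set G))
      (fun x hx y hy => hab x (hU (hUA hx)) y hy.1) h5
    have hyU : y ∈ U := by
      have : y = x⁻¹ * u := by rw [← e]; group
      rw [this]
      exact mul_mem (inv_mem (hUA hx)) hu
    rw [← e]
    exact mul_mem (mem_sup_left hx) (mem_sup_right ⟨hyU, hy.2⟩)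
  have h5 := commutator_eq_bot_aux hUe hAU (fun a ha => by
    have := hb.2.2 a ha
    exact centralizer_le (SetLike.coe_subset_coe.2 hU) this) h4
  rwa [commutator_eq_bot_iff_le_centralizer] at h5

end Cfsg.Agent.Omega.NO3S.SN2.BA
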