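import Cfsg.Agent.Omega.NO3S.SN2.BADef
import Cfsg.Agent.Omega.NO3S.SN2.BAOff

/-!
# THEOREM BA' (bb #20031 (1)-(3), #21359 (1)): `A ∩ O₂(R) = C_A(U)`

`A ≤ T` a best offender on `W`, not contained in `K = O₂(R)`, of least order.  `U = ⟨V₀^R⟩`.

* `Sit.quad_cen` : quadratic action and (TI);
* `Sit.side` : a best offender in `L` has orbits of length `≤ 2` on the letters;
* `Mn` : minimality, for the conjugates;
* `Sit.mn_moved`, `Sit.mn_index`, `Sit.mn_fixed`;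
* `Sit.one` : **`A ∩ K` centralises `U`**.
-/

set_option autoImplicit false

namespace Cfsg.Agent.Omega.NO3S.SN2.BA

open Subgroup Cfsg Cfsg.Agent.ZN.ChoiceSit Cfsg.Agent.ZN.ChoiceBase
open Cfsg.Agent.ZN (o2)
open Cfsg.Agent.MinSimple.MinParabolic (IsMinPar)
open Cfsg.Agent.Omega.S5.Def
open Cfsg.Agent.Omega.NSix.Cen (cq)
open Cfsg.Agent.PLocal.Timmesfeld (conj_conj_comm)
open scoped commutatorElement

universe u

variable {G : Type u} [Group G]

/-- a best offender whose smaller best offenders lie in `O₂(R)` -/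
structure Mn (R W A : Subgroup G) : Prop where
  le : A ≤ R
  bo : IsBestOffenderOn 2 W A
  min : ∀ B : Subgroup G, B ≤ A → IsBestOffenderOn 2 W B → B ≤ o2 R ∨ Nat.card A ≤ Nat.card B

namespace Sit

variable {n : ℕ} {T R L V D W : Subgroup G} {ε : (Fin n → ZMod 2) → G} (h : Sit n T R L V D W ε)
include h

theorem K_le [Finite G] : o2 R ≤ T := Cfsg.Agent.ZN.o2_le_of_sylow h.TR h.syl.2.1 (syl_not_dvd h.syl)

omit h in
theorem K_conj {g k : G} (hg : g ∈ R) (hk : k ∈ o2 R) : g * k * g⁻¹ ∈ o2 R :=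
  (mem_normalizer_iff.1 (Cfsg.Agent.ZN.le_normalizer_o2 R hg) k).1 hk

theorem memV {g v : G} (hg : g ∈ L) (hv : v ∈ V) : g * v * g⁻¹ ∈ V := (mem_normalizer_iff.1 (h.LV hg) v).1 hv

theorem V0_W : V0 T h.ev ≤ W := h.V0_V.trans h.VW

theorem moved_fix {A : Subgroup G} (hA : A ≤ R) (hne : ¬ A ≤ L) {v : G} (hv : v ∈ V) (hc : ∀ a ∈ A, a * v = v * a) :
    v ∈ D := by
  obtain ⟨a, ha, haL⟩ := SetLike.not_le_iff_exists.1 hne
  refine h.ti a (hA ha) haL v hv ?_
  rw [hc a ha, mul_inv_cancel_right]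
  exact hv

/-- (1): quadratic action and (TI) -/
theorem quad_cen {x y : G} (hx : x ∈ R) (hxL : x ∉ L) (hy : y ∈ R) (hyL : y ∈ L)
    (hc : ∀ w ∈ W, x * (y * w * y⁻¹) * x⁻¹ = y * (x * w * x⁻¹) * y⁻¹)
    (hq : ∀ v ∈ V0 T h.ev, y * cq x v = cq x v * y) {v : G} (hv : v ∈ V0 T h.ev) : y * v = v * y := by
  refine h.cen_of_cq hy hyL (fun v hv => ?_) hv
  have hvV := h.V0_V hv
  have hvW := h.VW hvV
  have h1 : cq y v ∈ V := mul_mem (h.memV hyL hvV) (inv_mem hvV)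
  refine h.ti x hx hxL _ h1 ?_
  have hcW : cq x v ∈ W := mul_mem (h.nWm hx hvW) (inv_mem hvW)
  have h2 : x * cq y v * x⁻¹ = cq y v := by
    calc x * cq y v * x⁻¹ = (x * (y * v * y⁻¹) * x⁻¹) * (x * v * x⁻¹)⁻¹ := by rw [cq]; group
      _ = (y * (x * v * x⁻¹) * y⁻¹) * (x * v * x⁻¹)⁻¹ := by rw [hc v hvW]
      _ = (y * (cq x v) * (v * y⁻¹)) * (cq x v * v)⁻¹ := by rw [cq]; group
      _ = (cq x v * y * (v * y⁻¹)) * (cq x v * v)⁻¹ := by rw [hq v hv]
      _ = cq x v * cq y v * (cq x v)⁻¹ := by rw [cq, cq]; group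
      _ = cq y v := by rw [h.comm hcW (h.VW h1), mul_inv_cancel_right]
  rw [h2]
  exact h1

variable [Finite G]

/-- a best offender in `L` has orbits of length `≤ 2` on the letters -/
theorem side {A : Subgroup G} (hb : IsBestOffenderOn 2 W A) (hAL : A ≤ L) {a b : G} (ha : a ∈ A) (hb' : b ∈ A)
    {σ τ : Equiv.Perm (Fin n)} (hσ : Acts ε a σ) (hτ : Acts ε b τ) {i : Fin n} (hi : σ i ≠ i) (hj : τ i ≠ i) :
    τ i = σ i := by
  classical
  have h1 := bo_sub hb h.VW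
  have h2 := NSix.HT.OffEven.ineq h.ev h.three h.odd hAL h1
  set f := NSix.HT.OffEven.pf h.ev h.three hAL with hf
  have hfa : ∀ a : A, Acts ε (a : G) (f a) := NSix.HT.OffEven.pf_acts h.ev h.three hAL
  have hcW : ∀ a b : A, f a * f b = f b * f a := by
    intro a b
    have h3 : (⁅(a : G), (b : G)⁆ : G) ∈ centralizer (W : Set G) := hb.2.1 (commutator_mem_commutator a.2 b.2)
    have h4 : (⁅(a : G), (b : G)⁆ : G) ∈ centralizer (V : Set G) := centralizer_le (SetLike.coe_subset_coe.2 h.VW) h3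
    have h5 : Acts ε ((⁅a, b⁆ : A) : G) 1 := h.ev.acts_one_iff.2 h4
    have h6 : f ⁅a, b⁆ = 1 := h.ev.acts_unique h.three (hfa _) h5
    rw [map_commutatorElement, commutatorElement_eq_one_iff_mul_comm] at h6
    exact h6
  -- the image group
  have hc' : ∀ a b : f.range, a * b = b * a := by
    rintro ⟨_, a, rfl⟩ ⟨_, b, rfl⟩
    exact Subtype.ext (hcW a b)
  have hle : 2 ^ n * Nat.card (f.range.subtype).ker ≤
      Nat.card f.range * Nat.card (NSix.HT.OffEven.Inv f.range.subtype) := by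
    have e1 : Nat.card A = Nat.card f.ker * Nat.card f.range := by
      rw [← Subgroup.index_ker, Subgroup.card_mul_index]
    have e2 : Nat.card (f.range.subtype).ker = 1 := by
      rw [f.range.ker_subtype]
      exact card_bot
    have e3 : Nat.card (NSix.HT.OffEven.Inv f) = Nat.card (NSix.HT.OffEven.Inv f.range.subtype) :=
      Nat.card_congr (Equiv.subtypeEquivRight fun x =>
        ⟨by rintro hx ⟨_, a, rfl⟩; exact hx a, fun hx a => hx ⟨_, a, rfl⟩⟩)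
    rw [e2, mul_one, ← e3]
    have hK : 0 < Nat.card f.ker := Nat.card_pos
    refine Nat.le_of_mul_le_mul_left ?_ hK
    calc Nat.card f.ker * 2 ^ n = 2 ^ n * Nat.card f.ker := mul_comm _ _
      _ ≤ _ := h2
      _ = _ := by rw [e1]; ring
  have hσ' : f ⟨a, ha⟩ = σ := h.ev.acts_unique h.three (hfa _) hσ
  have hτ' : f ⟨b, hb'⟩ = τ := h.ev.acts_unique h.three (hfa _) hτ
  obtain ⟨-, ⟨c, hc⟩, e⟩ := NSix.HT.OffEven.comb f.range.subtype hc' hle ⟨f ⟨a, ha⟩, ⟨_, rfl⟩⟩ i (by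
    change f ⟨a, ha⟩ i ≠ i
    rw [hσ']; exact hi)
  have e' : c = Equiv.swap i (σ i) := by rw [← hσ']; exact e
  by_contra hne
  have h3 : c * τ = τ * c := by
    have := hc' ⟨c, hc⟩ ⟨f ⟨b, hb'⟩, ⟨_, rfl⟩⟩
    have := congrArg Subtype.val this
    rw [← hτ']
    exact this
  have h4 := congrArg (fun ρ : Equiv.Perm (Fin n) => ρ i) h3
  change c (τ i) = τ (c i) at h4
  rw [e', Equiv.swap_apply_left, Equiv.swap_apply_of_ne_of_ne hj hne] at h4
  exact hi (τ.injective h4).symm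

theorem index_aux {A : Subgroup G} (hA : A ≤ R) (hb : IsBestOffenderOn 2 W A) (hne : ¬ A ≤ L) {B : Subgroup G}
    (hBA : B ≤ A) (hB : ∀ y ∈ B, ∀ v ∈ V0 T h.ev, y * v = v * y) :
    Nat.card B * D.relIndex (V0 T h.ev) ≤ Nat.card A := by
  have h1 := bo_sub hb h.V0_W
  have h2 : V0 T h.ev ⊓ centralizer (A : Set G) ≤ D := fun v hv =>
    h.moved_fix hA hne (h.V0_V hv.1) (mem_centralizer_iff.1 hv.2)
  have h3 : Nat.card ↥(V0 T h.ev ⊓ centralizer (A : Set G)) ≤ Nat.card D := Subgroup.card_le_of_le h2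
  have h4 : B ≤ A ⊓ centralizer ((V0 T h.ev : Subgroup G) : Set G) := fun y hy =>
    ⟨hBA hy, mem_centralizer_iff.2 fun v hv => (hB y hy v hv).symm⟩
  have h5 : Nat.card B ≤ Nat.card ↥(A ⊓ centralizer ((V0 T h.ev : Subgroup G) : Set G)) := Subgroup.card_le_of_le h4
  have h6 : Nat.card D * D.relIndex (V0 T h.ev) = Nat.card ↥(V0 T h.ev) := by
    have h := relIndex_mul_relIndex (⊥ : Subgroup G) D (V0 T h.ev) bot_le h.D_V0
    rwa [relIndex_bot_left, relIndex_bot_left] at h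
  have h7 : 0 < Nat.card D := Nat.card_pos
  refine Nat.le_of_mul_le_mul_left ?_ h7
  calc Nat.card D * (Nat.card B * D.relIndex (V0 T h.ev))
      = (Nat.card D * D.relIndex (V0 T h.ev)) * Nat.card B := by ring
    _ = Nat.card ↥(V0 T h.ev) * Nat.card B := by rw [h6]
    _ ≤ Nat.card ↥(V0 T h.ev) * Nat.card ↥(A ⊓ centralizer ((V0 T h.ev : Subgroup G) : Set G)) :=
        Nat.mul_le_mul_left _ h5
    _ ≤ _ := h1
    _ ≤ Nat.card A * Nat.card D := Nat.mul_le_mul_left _ h3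
    _ = _ := mul_comm _ _

theorem mn_moved {i : Fin n} (hi : ¬ Sm T ε i) {A : Subgroup G} (hA : Mn R W A) (hne : ¬ A ≤ L) {y v : G}
    (hy : y ∈ A) (hyL : y ∈ L) (hv : v ∈ V0 T h.ev) : y * v = v * y := by
  obtain ⟨x, hx, hxL⟩ := SetLike.not_le_iff_exists.1 hne
  have hcc : ∀ a ∈ A, ∀ b ∈ A, ∀ w ∈ W, a * (b * w * b⁻¹) * a⁻¹ = b * (a * w * a⁻¹) * b⁻¹ :=
    fun a ha b hb w hw => conj_conj_comm hA.bo.2.1 ha hb hw
  let U : Subgroup G := closure {u | ∃ a ∈ A, ∃ v ∈ V0 T h.ev, a * v * a⁻¹ = u}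
  have hVU : V0 T h.ev ≤ U := fun v hv => subset_closure ⟨1, one_mem _, v, hv, by group⟩
  have hUW : U ≤ W := by
    refine (closure_le _).2 ?_
    rintro _ ⟨a, ha, v, hv, rfl⟩
    exact h.nWm (hA.le ha) (h.V0_W hv)
  have hAU : A ≤ normalizer (U : Set G) := by
    have key : ∀ a ∈ A, ∀ u ∈ U, a * u * a⁻¹ ∈ U := by
      intro a ha u hu
      have h1 : U ≤ U.comap (MulAut.conj a).toMonoidHom := by
        refine (closure_le _).2 ?_
        rintro _ ⟨b, hb, v, hv, rfl⟩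
        refine subset_closure ⟨a * b, mul_mem ha hb, v, hv, ?_⟩
        simp only [MulEquiv.toMonoidHom_eq_coe, MonoidHom.coe_coe, MulAut.conj_apply]
        group
      have h2 := h1 hu
      rw [mem_comap] at h2
      exact h2
    intro a ha
    rw [mem_normalizer_iff]
    refine fun u => ⟨key a ha u, fun hu => ?_⟩
    have h1 := key a⁻¹ (inv_mem ha) _ hu
    have e : a⁻¹ * (a * u * a⁻¹) * a⁻¹⁻¹ = u := by group
    rwa [e] at h1
  have hAW : A ≤ normalizer (W : Set G) := hA.le.trans h.nW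
  have hnc : ¬ U ≤ centralizer (A : Set G) := by
    intro hc
    have h1 := hc (hVU (h.single_V0 hi))
    exact h.D_lt hi (h.moved_fix hA.le hne (h.ev.mem _) (mem_centralizer_iff.1 h1))
  obtain ⟨hb1, hb2⟩ := bo_quad h.elW hAW hA.bo hUW hAU hnc
  set A₁ := A ⊓ centralizer ((⁅U, A⁆ : Subgroup G) : Set G) with hA₁
  -- the commutators
  have hcq : ∀ v ∈ V0 T h.ev, cq x v ∈ ⁅U, A⁆ := by
    intro v hv
    have h1 := commutator_mem_commutator (hVU hv) hx
    have h2 : cq x v = (⁅v, x⁆ : G)⁻¹ := by rw [cq, commutatorElement_def]; group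
    rw [h2]
    exact inv_mem h1
  have hq : ∀ y ∈ A₁, ∀ v ∈ V0 T h.ev, y * cq x v = cq x v * y := fun y hy v hv =>
    (mem_centralizer_iff.1 hy.2 _ (hcq v hv)).symm
  have h3 : ¬ A₁ ≤ L := by
    intro hL
    refine hb2 ?_
    rw [le_centralizer_iff]
    intro y hy
    have h4 : ∀ v ∈ V0 T h.ev, y * v = v * y := fun v hv =>
      h.quad_cen (hA.le hx) hxL (hA.le hy.1) (hL hy) (fun w hw => hcc x hx y hy.1 w hw) (hq y hy) hv
    have h5 : U ≤ centralizer ({y} : Set G) := by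
      refine (closure_le _).2 ?_
      rintro _ ⟨a, ha, v, hv, rfl⟩
      refine mem_centralizer_singleton_iff.2 ?_
      have h6 := hcc y hy.1 a ha v (h.V0_W hv)
      have h7 : y * v * y⁻¹ = v := by rw [h4 v hv, mul_inv_cancel_right]
      rw [h7] at h6
      exact (mul_inv_eq_iff_eq_mul.1 h6).symm
    refine mem_centralizer_iff.2 fun u hu => ?_
    exact mem_centralizer_singleton_iff.1 (h5 hu)
  rcases hA.min A₁ inf_le_left hb1 with h4 | h4
  · exact absurd (h4.trans (h.K_le.trans h.TL)) h3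
  · have h5 : A₁ = A := eq_of_le_of_card_ge inf_le_left h4
    exact h.quad_cen (hA.le hx) hxL (hA.le hy) hyL (fun w hw => hcc x hx y hy w hw)
      (hq y (h5 ▸ hy)) hv

omit [Finite G] in
/-- a subgroup of `T` not contained in `O₂(R)` has a conjugate which moves `V` -/
theorem moves [Finite G] {A : Subgroup G} (hA : A ≤ T) (hne : ¬ A ≤ o2 R) : ∃ g ∈ R, ¬ cj g A ≤ L := by
  have hfact : Fact (Nat.Prime 2) := ⟨Nat.prime_two⟩
  by_contra hcon
  push Not at hcon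
  let N : Subgroup G :=
    { carrier := {x | x ∈ R ∧ ∀ g ∈ R, g * x * g⁻¹ ∈ L}
      mul_mem' := by
        rintro x y ⟨hx, hx'⟩ ⟨hy, hy'⟩
        refine ⟨mul_mem hx hy, fun g hg => ?_⟩
        have e : g * (x * y) * g⁻¹ = (g * x * g⁻¹) * (g * y * g⁻¹) := by group
        rw [e]
        exact mul_mem (hx' g hg) (hy' g hg)
      one_mem' := ⟨one_mem _, fun g _ => by rw [mul_one, mul_inv_cancel]; exact one_mem _⟩
      inv_mem' := by
        rintro x ⟨hx, hx'⟩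
        refine ⟨inv_mem hx, fun g hg => ?_⟩
        have e : g * x⁻¹ * g⁻¹ = (g * x * g⁻¹)⁻¹ := by group
        rw [e]
        exact inv_mem (hx' g hg) }
  have hNn : R ≤ normalizer (N : Set G) := by
    have key : ∀ g ∈ R, ∀ x ∈ N, g * x * g⁻¹ ∈ N := by
      rintro g hg x ⟨hx, hx'⟩
      refine ⟨mul_mem (mul_mem hg hx) (inv_mem hg), fun k hk => ?_⟩
      have e : k * (g * x * g⁻¹) * k⁻¹ = (k * g) * x * (k * g)⁻¹ := by group
      rw [e]
      exact hx' _ (mul_mem hk hg)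
    intro g hg
    rw [mem_normalizer_iff]
    refine fun x => ⟨key g hg x, fun hx => ?_⟩
    have h1 := key g⁻¹ (inv_mem hg) _ hx
    have e : g⁻¹ * (g * x * g⁻¹) * g⁻¹⁻¹ = x := by group
    rwa [e] at h1
  have hNL : N ≤ L := fun x hx => by
    have := hx.2 1 (one_mem _)
    rwa [one_mul, inv_one, mul_one] at this
  rcases h.par.sup_eq_or_inf_le (p := 2) h.syl.2.1 (syl_not_dvd h.syl) (N := N) (fun a ha => ha.1) hNn with h1 | h1
  · exact h.nRL (h1 ▸ sup_le hNL h.TL)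
  · refine hne fun a ha => h1 ⟨hA ha, h.TR (hA ha), fun g hg => ?_⟩
    exact hcon g hg (mem_cj.2 (by
      have e : g⁻¹ * (g * a * g⁻¹) * g = a := by group
      rw [e]; exact ha))

omit h in
theorem mn_cj (hn : R ≤ normalizer (W : Set G)) {A : Subgroup G} (hA : Mn R W A) {g : G} (hg : g ∈ R) :
    Mn R W (cj g A) := by
  refine ⟨fun x hx => ?_, bo_cj hA.bo (hn hg), fun B hB hBb => ?_⟩
  · rw [mem_cj] at hx
    have := mul_mem (mul_mem hg (hA.le hx)) (inv_mem hg)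
    have e : g * (g⁻¹ * x * g) * g⁻¹ = x := by group
    rwa [e] at this
  · have h1 : cj g⁻¹ B ≤ A := by rw [cj_le_iff, inv_inv]; exact hB
    rcases hA.min (cj g⁻¹ B) h1 (bo_cj hBb (hn (inv_mem hg))) with h2 | h2
    · left
      intro b hb
      have h3 : g⁻¹ * b * g ∈ o2 R := h2 (mem_cj.2 (by
        have e : g⁻¹⁻¹ * (g⁻¹ * b * g) * g⁻¹ = b := by group
        rw [e]; exact hb))
      have h4 := K_conj hg h3
      have e : g * (g⁻¹ * b * g) * g⁻¹ = b := by group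
      rwa [e] at h4
    · right
      rw [card_cj] at h2
      rw [card_cj]
      exact h2

/-- the index of `A ∩ O₂(R)` -/
theorem mn_index {i : Fin n} (hi : ¬ Sm T ε i) {A : Subgroup G} (hA : Mn R W A) (hne : ∃ g ∈ R, ¬ cj g A ≤ L) :
    Nat.card ↥(A ⊓ o2 R) * D.relIndex (V0 T h.ev) ≤ Nat.card A := by
  obtain ⟨g, hg, hne⟩ := hne
  have hM := mn_cj h.nW hA hg
  have h1 := h.index_aux hM.le hM.bo hne (B := cj g A ⊓ o2 R) inf_le_left fun y hy v hv =>
    h.mn_moved hi hM hne hy.1 (h.TL (h.K_le hy.2)) hv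
  have e : Nat.card ↥(cj g A ⊓ o2 R) = Nat.card ↥(A ⊓ o2 R) := by
    have h2 : cj g (o2 R) = o2 R := by
      ext x
      rw [mem_cj]
      constructor
      · intro hx
        have := K_conj hg hx
        have e : g * (g⁻¹ * x * g) * g⁻¹ = x := by group
        rwa [e] at this
      · intro hx
        have := K_conj (inv_mem hg) hx
        rwa [inv_inv] at this
    nth_rw 1 [← h2]
    rw [← cj_inf, card_cj]
  rw [e, card_cj] at h1
  exact h1

theorem mn_fixed {i : Fin n} (hi : ¬ Sm T ε i) {A : Subgroup G} (hA : Mn R W A) (hne : ∃ g ∈ R, ¬ cj g A ≤ L)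
    (hAL : A ≤ L) {y v : G} (hy : y ∈ A) (hv : v ∈ V0 T h.ev) : y * v = v * y := by
  obtain ⟨σ, hσ⟩ := h.acts_of (hAL hy)
  refine h.cen_V0 (hA.le hy) hσ (fun j hj => ?_) hv
  by_contra hjσ
  -- the stabiliser of the point `j`
  set u : G := ε (Pi.single j 1) with hu
  have huW : u ∈ W := h.VW (h.ev.mem _)
  have hyu : y * u ≠ u * y := by
    intro hc
    have h1 := hσ.single j
    rw [← hu, hc, mul_inv_cancel_right, hu] at h1
    exact hjσ (h.ev.single_inj h.three h1).symm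
  have h2 : ∀ a ∈ A, a * u = u * a ∨ a * u * a⁻¹ = y * u * y⁻¹ := by
    intro a ha
    obtain ⟨τ, hτ⟩ := h.acts_of (hAL ha)
    by_cases h3 : τ j = j
    · left
      have h4 := hτ.single j
      rw [h3] at h4
      exact mul_inv_eq_iff_eq_mul.1 h4
    · right
      rw [hu, hτ.single, hσ.single, h.side hA.bo hAL hy ha hσ hτ hjσ h3]
  obtain ⟨h3, h4⟩ := bo_stab hA.bo huW hy hyu h2
  have hBne : A ⊓ centralizer ({u} : Set G) ≠ A := by
    intro he
    have h5 : A ≤ A ⊓ centralizer ({u} : Set G) := he.ge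
    exact hyu (mem_centralizer_singleton_iff.1 (h5 hy).2)
  rcases hA.min _ inf_le_left h3 with h5 | h5
  · have h6 : Nat.card ↥(A ⊓ centralizer ({u} : Set G)) ≤ Nat.card ↥(A ⊓ o2 R) :=
      Subgroup.card_le_of_le (le_inf inf_le_left h5)
    have h7 := h.mn_index hi hA hne
    have h8 : Nat.card ↥(A ⊓ o2 R) * D.relIndex (V0 T h.ev) ≤ Nat.card ↥(A ⊓ o2 R) * 2 := by omega
    exact h.two_lt hi (Nat.le_of_mul_le_mul_left h8 Nat.card_pos)
  · exact hBne (eq_of_le_of_card_ge inf_le_left h5)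

/-- **(1)** -/
theorem one {i : Fin n} (hi : ¬ Sm T ε i) (hA : ∃ A ≤ T, IsBestOffenderOn 2 W A ∧ ¬ A ≤ o2 R) :
    ∃ A ≤ T, IsBestOffenderOn 2 W A ∧ ¬ A ≤ o2 R ∧
      ∀ a ∈ A, a ∈ o2 R → ∀ g ∈ R, ∀ v ∈ V0 T h.ev, a * (g * v * g⁻¹) = g * v * g⁻¹ * a := by
  classical
  -- a smallest one
  obtain ⟨A, ⟨hAT, hb, hne⟩, hmin⟩ : ∃ A : Subgroup G, (A ≤ T ∧ IsBestOffenderOn 2 W A ∧ ¬ A ≤ o2 R) ∧
      ∀ B : Subgroup G, (B ≤ T ∧ IsBestOffenderOn 2 W B ∧ ¬ B ≤ o2 R) → Nat.card A ≤ Nat.card B := by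
    obtain ⟨A₀, hA₀⟩ := hA
    obtain ⟨A, hA1, hA2⟩ := Set.exists_min_image
      {A : Subgroup G | A ≤ T ∧ IsBestOffenderOn 2 W A ∧ ¬ A ≤ o2 R} (fun A => Nat.card A) (Set.toFinite _) ⟨A₀, hA₀⟩
    exact ⟨A, hA1, fun B hB => hA2 B hB⟩
  have hM : Mn R W A := ⟨hAT.trans h.TR, hb, fun B hB hBb => by
    by_cases h1 : B ≤ o2 R
    · exact Or.inl h1
    · exact Or.inr (hmin B ⟨hB.trans hAT, hBb, h1⟩)⟩
  have hmv := h.moves hAT hne
  refine ⟨A, hAT, hb, hne, fun a ha haK g hg v hv => ?_⟩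
  have hMg := mn_cj h.nW hM (inv_mem hg)
  have hag : g⁻¹ * a * g ∈ cj g⁻¹ A := by
    rw [mem_cj]
    have e : g⁻¹⁻¹ * (g⁻¹ * a * g) * g⁻¹ = a := by group
    rw [e]; exact ha
  have hagK : g⁻¹ * a * g ∈ o2 R := by
    have := K_conj (inv_mem hg) haK
    rwa [inv_inv] at this
  have key : (g⁻¹ * a * g) * v = v * (g⁻¹ * a * g) := by
    by_cases h1 : cj g⁻¹ A ≤ L
    · refine h.mn_fixed hi hMg ?_ h1 hag hv
      obtain ⟨k, hk, hkL⟩ := hmv
      refine ⟨k * g, mul_mem hk hg, fun hc => hkL fun x hx => hc ?_⟩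
      rw [mem_cj] at hx ⊢
      rw [mem_cj]
      have e : g⁻¹⁻¹ * ((k * g)⁻¹ * x * (k * g)) * g⁻¹ = k⁻¹ * x * k := by group
      rw [e]; exact hx
    · exact h.mn_moved hi hMg h1 hag (h.TL (h.K_le hagK)) hv
  calc a * (g * v * g⁻¹) = g * ((g⁻¹ * a * g) * v) * g⁻¹ := by group
    _ = g * (v * (g⁻¹ * a * g)) * g⁻¹ := by rw [key]
    _ = g * v * g⁻¹ * a := by group

end Sit

end Cfsg.Agent.Omega.NO3S.SN2.BA
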