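import Cfsg.Agent.Omega.NO3S.SN2.BAOne
import Cfsg.Agent.Omega.NSix.Cen.QFF

/-!
# THEOREM BA' (bb #21359 (2), (3)): `Y = ⟨w^R⟩D`, `K = O₂(R)` centralises `U`

* `exists_fix_mod` : fixed points of a 2-group on `M / N`;
* `Sit.exists_w` : `w ∈ V₀ - D` with `[w, T] ≤ D`;
* `UU`, `YY` : `U = ⟨V₀^R⟩`, `Y = ⟨w^R⟩D`;
* `Sit.qdat` : `R` acts on `Y / D`;
* `Sit.two` : (*) and `U = Y C_U(A)`;
* `Sit.cenK` : `K` centralises `V₀`.
-/

set_option autoImplicit false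

namespace Cfsg.Agent.Omega.NO3S.SN2.BA

open Subgroup Cfsg Cfsg.Agent.ZN.ChoiceSit Cfsg.Agent.ZN.ChoiceBase
open Cfsg.Agent.ZN (o2)
open Cfsg.Agent.MinSimple.MinParabolic (IsMinPar)
open Cfsg.Agent.Omega.S5.Def
open Cfsg.Agent.Omega.NSix.Cen
open Cfsg.Agent.PLocal.Timmesfeld (card_mul_card_le)
open scoped commutatorElement

universe u

variable {G : Type u} [Group G]

theorem exists_fix_mod [Finite G] {T M N : Subgroup G} (hT : IsPGroup 2 T) (hM : IsPGroup 2 M)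
    (hTM : T ≤ normalizer (M : Set G)) {v : G} (hv : v ∈ M) (hvN : v ∉ N) :
    ∃ w ∈ M, w ∉ N ∧ ∀ t ∈ T, cq t w ∈ N := by
  have hfact : Fact (Nat.Prime 2) := ⟨Nat.prime_two⟩
  by_contra hcon
  push Not at hcon
  have hH : IsPGroup 2 ↥(T ⊔ M) := IsPGroup.to_sup_of_normal_right' hT hM hTM
  have hnil : Group.IsNilpotent ↥(T ⊔ M) := hH.isNilpotent
  obtain ⟨n, hn⟩ := (Subgroup.isNilpotent_iff_lowerCentralSeries (T ⊔ M)).1 hnil
  have key : ∀ k, ∃ w ∈ M, w ∉ N ∧ w ∈ (T ⊔ M).lowerCentralSeries k := by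
    intro k
    induction k with
    | zero => exact ⟨v, hv, hvN, mem_sup_right hv⟩
    | succ k ih =>
      obtain ⟨w, hw, hwN, hwk⟩ := ih
      obtain ⟨t, ht, htw⟩ := hcon w hw hwN
      refine ⟨cq t w, mul_mem ((mem_normalizer_iff.1 (hTM ht) w).1 hw) (inv_mem hw), htw, ?_⟩
      have h1 : cq t w = (⁅w, t⁆ : G)⁻¹ := by rw [cq, commutatorElement_def]; group
      rw [h1]
      exact inv_mem (commutator_mem_commutator hwk (mem_sup_left ht))
  obtain ⟨w, -, hwN, hw⟩ := key n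
  rw [hn, mem_bot] at hw
  subst hw
  exact hwN (one_mem _)

/-- closed under conjugation by `R` -/
theorem conj_closed_le_normalizer {R M : Subgroup G} (h : ∀ g ∈ R, ∀ u ∈ M, g * u * g⁻¹ ∈ M) :
    R ≤ normalizer (M : Set G) := by
  intro g hg
  rw [mem_normalizer_iff]
  refine fun u => ⟨h g hg u, fun hu => ?_⟩
  have h1 := h g⁻¹ (inv_mem hg) _ hu
  have e : g⁻¹ * (g * u * g⁻¹) * g⁻¹⁻¹ = u := by group
  rwa [e] at h1

/-- `U = ⟨V₀^R⟩` -/
def UU (R M : Subgroup G) : Subgroup G := closure {u | ∃ g ∈ R, ∃ v ∈ M, g * v * g⁻¹ = u}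

/-- `Y = ⟨w^R⟩D` -/
def YY (R D : Subgroup G) (w : G) : Subgroup G := closure ({u | ∃ g ∈ R, g * w * g⁻¹ = u} ∪ (D : Set G))

theorem UU_conj {R M : Subgroup G} {g u : G} (hg : g ∈ R) (hu : u ∈ UU R M) : g * u * g⁻¹ ∈ UU R M := by
  have h1 : UU R M ≤ (UU R M).comap (MulAut.conj g).toMonoidHom := by
    refine (closure_le _).2 ?_
    rintro _ ⟨k, hk, v, hv, rfl⟩
    refine subset_closure ⟨g * k, mul_mem hg hk, v, hv, ?_⟩
    simp only [MulEquiv.toMonoidHom_eq_coe, MonoidHom.coe_coe, MulAut.conj_apply]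
    group
  exact mem_comap.1 (h1 hu)

namespace Sit

variable {n : ℕ} {T R L V D W : Subgroup G} {ε : (Fin n → ZMod 2) → G} (h : Sit n T R L V D W ε)
include h

theorem conjD {g d : G} (hg : g ∈ R) (hd : d ∈ D) : g * d * g⁻¹ = d := by
  rw [h.cen g hg d hd, mul_inv_cancel_right]

theorem DW : D ≤ W := h.DV.trans h.VW

theorem YY_conj {w g u : G} (hg : g ∈ R) (hu : u ∈ YY R D w) : g * u * g⁻¹ ∈ YY R D w := by
  have h1 : YY R D w ≤ (YY R D w).comap (MulAut.conj g).toMonoidHom := by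
    refine (closure_le _).2 ?_
    rintro _ (⟨k, hk, rfl⟩ | hd)
    · refine subset_closure (Or.inl ⟨g * k, mul_mem hg hk, ?_⟩)
      simp only [MulEquiv.toMonoidHom_eq_coe, MonoidHom.coe_coe, MulAut.conj_apply]
      group
    · change g * _ * g⁻¹ ∈ YY R D w
      rw [h.conjD hg hd]
      exact subset_closure (Or.inr hd)
  exact mem_comap.1 (h1 hu)

theorem V0_conj {t v : G} (ht : t ∈ T) (hv : v ∈ V0 T h.ev) : t * v * t⁻¹ ∈ V0 T h.ev := by
  obtain ⟨x, hx, rfl⟩ := hv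
  obtain ⟨σ, hσ⟩ := h.ev.perm t (h.TL ht)
  refine ⟨x ∘ σ.symm, fun i hi j hj => ?_, (hσ x).symm⟩
  rw [Function.comp_apply, Function.comp_apply]
  have h1 : ∀ k, Orb T ε k (σ.symm k) := fun k => ⟨t⁻¹, inv_mem ht, σ⁻¹, hσ.inv, rfl⟩
  exact hx _ (sm_of_orb (h1 i) hi) _ (orb_trans (orb_symm (h1 i)) (orb_trans hj (h1 j)))

theorem isPW {M : Subgroup G} (hM : M ≤ W) : IsPGroup 2 M := by
  intro v
  refine ⟨1, ?_⟩
  rw [pow_one, pow_two]
  exact Subtype.ext (h.sq (hM v.2))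

theorem exists_w [Finite G] {i : Fin n} (hi : ¬ Sm T ε i) : ∃ w ∈ V0 T h.ev, w ∉ D ∧ ∀ t ∈ T, cq t w ∈ D :=
  exists_fix_mod h.syl.2.1 (h.isPW h.V0_W) (conj_closed_le_normalizer fun _ ht _ hv => h.V0_conj ht hv)
    (h.single_V0 hi) (h.D_lt hi)

theorem UW : UU R (V0 T h.ev) ≤ W := by
  refine (closure_le _).2 ?_
  rintro _ ⟨g, hg, v, hv, rfl⟩
  exact h.nWm hg (h.V0_W hv)

theorem V0U : V0 T h.ev ≤ UU R (V0 T h.ev) := fun v hv => subset_closure ⟨1, one_mem _, v, hv, by group⟩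

theorem YU {w : G} (hw : w ∈ V0 T h.ev) : YY R D w ≤ UU R (V0 T h.ev) := by
  refine (closure_le _).2 ?_
  rintro _ (⟨g, hg, rfl⟩ | hd)
  · exact subset_closure ⟨g, hg, w, hw, rfl⟩
  · exact h.V0U (h.D_V0 hd)

omit h in
theorem wY {w : G} : w ∈ YY R D w := subset_closure (Or.inl ⟨1, one_mem _, by group⟩)

omit h in
theorem DY {w : G} : D ≤ YY R D w := fun _ hd => subset_closure (Or.inr hd)

/-- `w ∈ V - D` is moved modulo `D` -/
theorem mvd {w : G} (hw : w ∈ V) (hwD : w ∉ D) : ∃ g ∈ R, cq g w ∉ D := by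
  by_contra hcon
  push Not at hcon
  refine h.nRL fun g hg => ?_
  by_contra hgL
  refine hwD (h.ti g hg hgL w hw ?_)
  have h1 : g * w * g⁻¹ = cq g w * w := by rw [cq]; group
  rw [h1]
  exact mul_mem (h.DV (hcon g hg)) hw

theorem qdat {w : G} (hw : w ∈ V0 T h.ev) (hwD : w ∉ D) (hwT : ∀ t ∈ T, cq t w ∈ D) : QDat T R (YY R D w) D where
  syl := h.syl
  par := h.par
  nW := conj_closed_le_normalizer fun _ hg _ hu => h.YY_conj hg hu
  CW := DY
  cen := h.cen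
  ab v hv u hu := h.comm (h.UW (h.YU hw hv)) (h.UW (h.YU hw hu))
  sq v hv := h.sq (h.UW (h.YU hw hv))
  mv := ⟨w, wY, hwT, h.mvd (h.V0_V hw) hwD⟩
  gen K hDK hK := by
    refine (closure_le _).2 ?_
    rintro _ (⟨g, hg, rfl⟩ | hd)
    · exact hK w wY hwT g hg
    · exact hDK hd

/-- `K` is trivial on `Y / D` -/
theorem K_triv [Finite G] {w : G} (hw : w ∈ V0 T h.ev) (hwT : ∀ t ∈ T, cq t w ∈ D) {k : G} (hk : k ∈ o2 R) :
    TrQ (YY R D w) D k := by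
  have hkR : k ∈ R := h.TR (h.K_le hk)
  let Z : Subgroup G :=
    { carrier := {u | u ∈ W ∧ ∀ k ∈ o2 R, cq k u ∈ D}
      one_mem' := ⟨one_mem _, fun k _ => by
        have : cq k (1 : G) = 1 := by unfold cq; group
        rw [this]; exact one_mem _⟩
      mul_mem' := by
        rintro u v ⟨hu, hu'⟩ ⟨hv, hv'⟩
        refine ⟨mul_mem hu hv, fun k hk => ?_⟩
        have e : cq k (u * v) = cq k u * (u * cq k v * u⁻¹) := by unfold cq; group
        rw [e, h.comm hu (h.DW (hv' k hk)), mul_inv_cancel_right]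
        exact mul_mem (hu' k hk) (hv' k hk)
      inv_mem' := by
        rintro u ⟨hu, hu'⟩
        refine ⟨inv_mem hu, fun k hk => ?_⟩
        have e : cq k u⁻¹ = u⁻¹⁻¹⁻¹ * (cq k u)⁻¹ * u := by unfold cq; group
        have e2 : u⁻¹⁻¹⁻¹ = u⁻¹ := by group
        rw [e, e2, h.comm (inv_mem hu) (h.DW (inv_mem (hu' k hk))), inv_mul_cancel_right]
        exact inv_mem (hu' k hk) }
  have h1 : YY R D w ≤ Z := by
    refine (closure_le _).2 ?_
    rintro _ (⟨g, hg, rfl⟩ | hd)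
    · refine ⟨h.nWm hg (h.V0_W hw), fun k hk => ?_⟩
      have hk' : g⁻¹ * k * g ∈ o2 R := by
        have := K_conj (inv_mem hg) hk
        rwa [inv_inv] at this
      have e : cq k (g * w * g⁻¹) = g * cq (g⁻¹ * k * g) w * g⁻¹ := by unfold cq; group
      have h2 := hwT _ (h.K_le hk')
      rw [e, h.conjD hg h2]
      exact h2
    · refine ⟨h.DW hd, fun k hk => ?_⟩
      have := h.conjD (h.TR (h.K_le hk)) hd
      unfold cq
      rw [this, mul_inv_cancel]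
      exact one_mem _
  exact fun u hu => (h1 hu).2 k hk

/-- `C_A(Y / D) ≤ A ∩ K` centralises `U` -/
theorem tr_cen [Finite G] {w : G} (hw : w ∈ V0 T h.ev) (hwD : w ∉ D) (hwT : ∀ t ∈ T, cq t w ∈ D) {A : Subgroup G}
    (hAT : A ≤ T) (hK : ∀ a ∈ A, a ∈ o2 R → ∀ g ∈ R, ∀ v ∈ V0 T h.ev, a * (g * v * g⁻¹) = g * v * g⁻¹ * a) {a : G}
    (ha : a ∈ A) (hat : TrQ (YY R D w) D a) : a ∈ centralizer (UU R (V0 T h.ev) : Set G) := by
  have Q := h.qdat hw hwD hwT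
  have haK : a ∈ o2 R := Q.inf_kQ ⟨hAT ha, h.TR (hAT ha), hat⟩
  have h1 : UU R (V0 T h.ev) ≤ centralizer ({a} : Set G) := by
    refine (closure_le _).2 ?_
    rintro _ ⟨g, hg, v, hv, rfl⟩
    exact mem_centralizer_singleton_iff.2 (hK a ha haK g hg v hv).symm
  exact mem_centralizer_iff.2 fun u hu => mem_centralizer_singleton_iff.1 (h1 hu)

/-- **(2)** -/
theorem two [Finite G] {w : G} (hw : w ∈ V0 T h.ev) (hwD : w ∉ D) (hwT : ∀ t ∈ T, cq t w ∈ D)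
    (hno : NoOverQ R (YY R D w) D) {A : Subgroup G} (hAT : A ≤ T) (hb : IsBestOffenderOn 2 W A)
    (hK : ∀ a ∈ A, a ∈ o2 R → ∀ g ∈ R, ∀ v ∈ V0 T h.ev, a * (g * v * g⁻¹) = g * v * g⁻¹ * a) :
    (∀ y ∈ YY R D w, (∀ a ∈ A, cq a y ∈ D) → ∀ a ∈ A, a * y = y * a) ∧
      (∀ u ∈ UU R (V0 T h.ev), ∀ a ∈ A, cq a u ∈ YY R D w) ∧
      ∀ KA CW : Subgroup G, (∀ a, a ∈ KA ↔ a ∈ A ∧ TrQ (YY R D w) D a) →
        (∀ y, y ∈ CW ↔ y ∈ YY R D w ∧ ∀ a ∈ A, cq a y ∈ D) → CW.relIndex (YY R D w) ≤ KA.relIndex A := by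
  have Q := h.qdat hw hwD hwT
  have hAR : A ≤ R := hAT.trans h.TR
  set Y := YY R D w with hY
  set U := UU R (V0 T h.ev) with hU
  have hYU : Y ≤ U := h.YU hw
  have hUW : U ≤ W := h.UW
  -- no over-offender
  have n1 : ∀ a ∈ A, TrQ Y D (a * a) := fun a ha => by
    have h1 := hb.2.2 a ha
    rw [pow_two] at h1
    exact trQ_of_cen (centralizer_le (SetLike.coe_subset_coe.2 (hYU.trans hUW)) h1)
  have n2 : ∀ a ∈ A, ∀ b ∈ A, TrQ Y D (a * b * a⁻¹ * b⁻¹) := fun a ha b hb' =>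
    trQ_of_cen (centralizer_le (SetLike.coe_subset_coe.2 (hYU.trans hUW))
      (hb.2.1 (commutator_mem_commutator ha hb')))
  let KA : Subgroup G := A ⊓ Q.kQ
  let CW : Subgroup G := Q.cQ A hAR
  have hKA : ∀ a, a ∈ KA ↔ a ∈ A ∧ TrQ Y D a := fun a =>
    ⟨fun h1 => ⟨h1.1, h1.2.2⟩, fun h1 => ⟨h1.1, hAR h1.1, h1.2⟩⟩
  have hCW : ∀ y, y ∈ CW ↔ y ∈ Y ∧ ∀ a ∈ A, cq a y ∈ D := fun y => Iff.rfl
  have hrr : KA.relIndex A ≤ CW.relIndex Y := hno A hAR n1 n2 KA CW hKA hCW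
  have hKAle : KA ≤ A := inf_le_left
  have hCWle : CW ≤ Y := fun y hy => hy.1
  have e1 : Nat.card KA * KA.relIndex A = Nat.card A := by
    have h := relIndex_mul_relIndex (⊥ : Subgroup G) KA A bot_le hKAle
    rwa [relIndex_bot_left, relIndex_bot_left] at h
  have e2 : Nat.card CW * CW.relIndex Y = Nat.card Y := by
    have h := relIndex_mul_relIndex (⊥ : Subgroup G) CW Y bot_le hCWle
    rwa [relIndex_bot_left, relIndex_bot_left] at h
  have hKAU : KA ≤ centralizer (U : Set G) := fun a ha =>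
    h.tr_cen hw hwD hwT hAT hK ((hKA a).1 ha).1 ((hKA a).1 ha).2
  -- the offender inequality on `U`
  have i1 : Nat.card U * Nat.card KA ≤ Nat.card A * Nat.card ↥(U ⊓ centralizer (A : Set G)) :=
    (Nat.mul_le_mul_left _ (Subgroup.card_le_of_le (le_inf hKAle hKAU))).trans (bo_sub hb hUW)
  have i1' : Nat.card Y * Nat.card KA ≤ Nat.card A * Nat.card ↥(Y ⊓ centralizer (A : Set G)) :=
    (Nat.mul_le_mul_left _ (Subgroup.card_le_of_le
      (le_inf hKAle (hKAU.trans (centralizer_le (SetLike.coe_subset_coe.2 hYU)))))).trans (bo_sub hb (hYU.trans hUW))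
  -- `|Y| |C_U(A)| = |Y C_U(A)| |C_Y(A)|`
  have hcomm : U ⊓ centralizer (A : Set G) ≤ centralizer (Y : Set G) := fun u hu =>
    mem_centralizer_iff.2 fun y hy => h.comm (hUW (hYU hy)) (hUW hu.1)
  have e3 := Cfsg.Agent.PLocal.ElemAbSup.card_sup_mul_card_inf hcomm
  have e4 : Y ⊓ (U ⊓ centralizer (A : Set G)) = Y ⊓ centralizer (A : Set G) := by
    rw [← inf_assoc, inf_eq_left.2 hYU]
  rw [e4] at e3
  have hsupU : Y ⊔ U ⊓ centralizer (A : Set G) ≤ U := sup_le hYU inf_le_left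
  have i2 : Nat.card ↥(Y ⊔ U ⊓ centralizer (A : Set G)) ≤ Nat.card U := Subgroup.card_le_of_le hsupU
  have hCY : Y ⊓ centralizer (A : Set G) ≤ CW := fun y hy =>
    (hCW y).2 ⟨hy.1, fun a ha => by
      rw [cq_one_iff.2 (mem_centralizer_iff.1 hy.2 a ha)]
      exact one_mem _⟩
  have i3 : Nat.card ↥(Y ⊓ centralizer (A : Set G)) ≤ Nat.card CW := Subgroup.card_le_of_le hCY
  have p1 : 0 < Nat.card KA := Nat.card_pos
  have p2 : 0 < Nat.card ↥(U ⊓ centralizer (A : Set G)) := Nat.card_pos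
  have p3 : 0 < CW.relIndex Y := Nat.pos_of_ne_zero index_ne_zero_of_finite
  have p4 : 0 < Nat.card CW := Nat.card_pos
  -- `|U| ≤ rY |C_U(A)|`
  have i4 : Nat.card U ≤ CW.relIndex Y * Nat.card ↥(U ⊓ centralizer (A : Set G)) := by
    refine Nat.le_of_mul_le_mul_left ?_ p1
    calc Nat.card KA * Nat.card U = Nat.card U * Nat.card KA := mul_comm _ _
      _ ≤ Nat.card A * Nat.card ↥(U ⊓ centralizer (A : Set G)) := i1
      _ = Nat.card KA * (KA.relIndex A * Nat.card ↥(U ⊓ centralizer (A : Set G))) := by rw [← e1]; ring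
      _ ≤ _ := Nat.mul_le_mul_left _ (Nat.mul_le_mul_right _ hrr)
  have i5 : Nat.card CW ≤ Nat.card ↥(Y ⊓ centralizer (A : Set G)) := by
    refine Nat.le_of_mul_le_mul_left ?_ (Nat.mul_pos p3 p2)
    calc CW.relIndex Y * Nat.card ↥(U ⊓ centralizer (A : Set G)) * Nat.card CW
        = Nat.card Y * Nat.card ↥(U ⊓ centralizer (A : Set G)) := by rw [← e2]; ring
      _ = Nat.card ↥(Y ⊔ U ⊓ centralizer (A : Set G)) * Nat.card ↥(Y ⊓ centralizer (A : Set G)) := e3.symm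
      _ ≤ Nat.card U * Nat.card ↥(Y ⊓ centralizer (A : Set G)) := Nat.mul_le_mul_right _ i2
      _ ≤ _ := Nat.mul_le_mul_right _ i4
  have hEq : Y ⊓ centralizer (A : Set G) = CW := eq_of_le_of_card_ge hCY i5
  refine ⟨fun y hy hc a ha => ?_, fun u hu a ha => ?_, fun KA' CW' hKA' hCW' => ?_⟩
  · have h1 : y ∈ Y ⊓ centralizer (A : Set G) := hEq ▸ (hCW y).2 ⟨hy, hc⟩
    exact mem_centralizer_iff.1 h1.2 a ha
  · have h1 : U ≤ Y ⊔ U ⊓ centralizer (A : Set G) := by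
      refine (eq_of_le_of_card_ge hsupU ?_).ge
      have p5 : 0 < Nat.card ↥(Y ⊓ centralizer (A : Set G)) := Nat.card_pos
      refine Nat.le_of_mul_le_mul_right ?_ p5
      rw [e3, hEq, ← e2]
      calc Nat.card U * Nat.card CW ≤ CW.relIndex Y * Nat.card ↥(U ⊓ centralizer (A : Set G)) * Nat.card CW :=
            Nat.mul_le_mul_right _ i4
        _ = _ := by ring
    obtain ⟨y, hy, c, hc, e⟩ := mem_sup_of_comm (X := Y) (Y := U ⊓ centralizer (A : Set G)) (fun y hy c hc => h.comm (hUW (hYU hy)) (hUW hc.1)) (h1 hu)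
    have h2 : a * c = c * a := mem_centralizer_iff.1 hc.2 a ha
    have h3 : cq a u = cq a y := by
      rw [← e, cq, cq]
      calc a * (y * c) * a⁻¹ * (y * c)⁻¹ = a * y * (c * a⁻¹) * c⁻¹ * y⁻¹ := by group
        _ = a * y * (a⁻¹ * (a * c) * a⁻¹) * c⁻¹ * y⁻¹ := by group
        _ = a * y * (a⁻¹ * (c * a) * a⁻¹) * c⁻¹ * y⁻¹ := by rw [h2]
        _ = a * y * a⁻¹ * y⁻¹ := by group
    rw [h3]
    exact Q.cqW (hAR ha) hy
  · have e5 : KA' = KA := by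
      ext a; rw [hKA', hKA]
    have e6 : CW' = CW := by
      ext y; rw [hCW', hCW]
    rw [e5, e6]
    refine Nat.le_of_mul_le_mul_left ?_ (Nat.mul_pos p1 p4)
    calc Nat.card KA * Nat.card CW * CW.relIndex Y = Nat.card Y * Nat.card KA := by rw [← e2]; ring
      _ ≤ Nat.card A * Nat.card ↥(Y ⊓ centralizer (A : Set G)) := i1'
      _ = _ := by rw [hEq, ← e1]; ring

/-- **(3)** `K` centralises `V₀` -/
theorem cenK [Finite G] {w : G} (hw : w ∈ V0 T h.ev) (hwT : ∀ t ∈ T, cq t w ∈ D)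
    {A : Subgroup G} (hAT : A ≤ T) (hne : ¬ A ≤ o2 R)
    (h2 : ∀ u ∈ UU R (V0 T h.ev), ∀ a ∈ A, cq a u ∈ YY R D w) {k v : G} (hk : k ∈ o2 R) (hv : v ∈ V0 T h.ev) :
    k * v = v * k := by
  have hfact : Fact (Nat.Prime 2) := ⟨Nat.prime_two⟩
  have hKR : ∀ k ∈ o2 R, k ∈ R := fun k hk => h.TR (h.K_le hk)
  suffices hmain : ∀ v ∈ V0 T h.ev, ∀ k ∈ o2 R, cq k v ∈ D from
    h.cen_of_cq (hKR k hk) (h.TL (h.K_le hk)) (fun v hv => hmain v hv k hk) hv
  set U := UU R (V0 T h.ev) with hU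
  -- the vectors centralised by `K` modulo `D`
  let Z : Subgroup G :=
    { carrier := {u | u ∈ U ∧ ∀ k ∈ o2 R, cq k u ∈ D}
      one_mem' := ⟨one_mem _, fun k _ => by
        have : cq k (1 : G) = 1 := by unfold cq; group
        rw [this]; exact one_mem _⟩
      mul_mem' := by
        rintro u v ⟨hu, hu'⟩ ⟨hv, hv'⟩
        refine ⟨mul_mem hu hv, fun k hk => ?_⟩
        have e : cq k (u * v) = cq k u * (u * cq k v * u⁻¹) := by unfold cq; group
        rw [e, h.comm (h.UW hu) (h.DW (hv' k hk)), mul_inv_cancel_right]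
        exact mul_mem (hu' k hk) (hv' k hk)
      inv_mem' := by
        rintro u ⟨hu, hu'⟩
        refine ⟨inv_mem hu, fun k hk => ?_⟩
        have e : cq k u⁻¹ = u⁻¹⁻¹⁻¹ * (cq k u)⁻¹ * u := by unfold cq; group
        have e2 : u⁻¹⁻¹⁻¹ = u⁻¹ := by group
        rw [e, e2, h.comm (inv_mem (h.UW hu)) (h.DW (inv_mem (hu' k hk))), inv_mul_cancel_right]
        exact inv_mem (hu' k hk) }
  have hYZ : YY R D w ≤ Z := fun y hy => ⟨h.YU hw hy, fun k hk => h.K_triv hw hwT hk y hy⟩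
  have hZW : Z ≤ W := fun u hu => h.UW hu.1
  have hZc : ∀ g ∈ R, ∀ u ∈ Z, g * u * g⁻¹ ∈ Z := by
    rintro g hg u ⟨hu, hu'⟩
    refine ⟨UU_conj hg hu, fun k hk => ?_⟩
    have hk' : g⁻¹ * k * g ∈ o2 R := by
      have := K_conj (inv_mem hg) hk
      rwa [inv_inv] at this
    have e : cq k (g * u * g⁻¹) = g * cq (g⁻¹ * k * g) u * g⁻¹ := by unfold cq; group
    rw [e, h.conjD hg (hu' _ hk')]
    exact hu' _ hk'
  by_contra hcon
  push Not at hcon
  obtain ⟨v₁, hv₁, k₁, hk₁, hcq₁⟩ := hcon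
  have hv₁Z : v₁ ∉ Z := fun h1 => hcq₁ (h1.2 k₁ hk₁)
  obtain ⟨v, hv, hvZ, hvT⟩ := exists_fix_mod (N := Z) h.syl.2.1 (h.isPW h.V0_W)
    (conj_closed_le_normalizer fun _ ht _ hv => h.V0_conj ht hv) hv₁ hv₁Z
  have hvU : v ∈ U := h.V0U hv
  have hvW : v ∈ W := h.V0_W hv
  -- `R` fixes `v` modulo `Z`
  let F : Subgroup G :=
    { carrier := {x | x ∈ R ∧ cq x v ∈ Z}
      one_mem' := ⟨one_mem _, by
        have : cq (1 : G) v = 1 := by unfold cq; group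
        rw [this]; exact one_mem _⟩
      mul_mem' := by
        rintro x y ⟨hx, hx'⟩ ⟨hy, hy'⟩
        refine ⟨mul_mem hx hy, ?_⟩
        rw [QDat.cq_mul']
        exact mul_mem (hZc x hx _ hy') hx'
      inv_mem' := by
        rintro x ⟨hx, hx'⟩
        refine ⟨inv_mem hx, ?_⟩
        have e : cq x⁻¹ v = x⁻¹ * (cq x v)⁻¹ * x⁻¹⁻¹ := by unfold cq; group
        rw [e]
        exact hZc _ (inv_mem hx) _ (inv_mem hx') }
  let N : Subgroup G :=
    { carrier := {x | x ∈ R ∧ ∀ u ∈ U, cq x u ∈ YY R D w}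
      one_mem' := ⟨one_mem _, fun u _ => by
        have : cq (1 : G) u = 1 := by unfold cq; group
        rw [this]; exact one_mem _⟩
      mul_mem' := by
        rintro x y ⟨hx, hx'⟩ ⟨hy, hy'⟩
        refine ⟨mul_mem hx hy, fun u hu => ?_⟩
        rw [QDat.cq_mul']
        exact mul_mem (h.YY_conj hx (hy' u hu)) (hx' u hu)
      inv_mem' := by
        rintro x ⟨hx, hx'⟩
        refine ⟨inv_mem hx, fun u hu => ?_⟩
        have e : cq x⁻¹ u = x⁻¹ * (cq x u)⁻¹ * x⁻¹⁻¹ := by unfold cq; group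
        rw [e]
        exact h.YY_conj (inv_mem hx) (inv_mem (hx' u hu)) }
  have hNn : R ≤ normalizer (N : Set G) := by
    refine conj_closed_le_normalizer ?_
    rintro g hg x ⟨hx, hx'⟩
    refine ⟨mul_mem (mul_mem hg hx) (inv_mem hg), fun u hu => ?_⟩
    have e : cq (g * x * g⁻¹) u = g * cq x (g⁻¹ * u * g⁻¹⁻¹) * g⁻¹ := by unfold cq; group
    rw [e]
    exact h.YY_conj hg (hx' _ (UU_conj (inv_mem hg) hu))
  have hRF : R ≤ F := by
    rcases h.par.sup_eq_or_inf_le (p := 2) h.syl.2.1 (syl_not_dvd h.syl) (N := N) (fun a ha => ha.1) hNn with h1 | h1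
    · rw [← h1]
      exact sup_le (fun x hx => ⟨hx.1, hYZ (hx.2 v hvU)⟩) fun t ht => ⟨h.TR ht, hvT t ht⟩
    · exact absurd (fun a ha => h1 ⟨hAT ha, h.TR (hAT ha), fun u hu => h2 u hu a ha⟩) hne
  -- an element of `R - L`
  obtain ⟨r, hr, hrL⟩ := SetLike.not_le_iff_exists.1 h.nRL
  refine hvZ ⟨hvU, fun k hk => ?_⟩
  have hkL : k ∈ L := h.TL (h.K_le hk)
  have hvV : v ∈ V := h.V0_V hv
  have h3 : cq k v ∈ V := mul_mem (h.memV hkL hvV) (inv_mem hvV)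
  refine h.ti r hr hrL _ h3 ?_
  have hrk : r * k * r⁻¹ ∈ o2 R := K_conj hr hk
  have hrkL : r * k * r⁻¹ ∈ L := h.TL (h.K_le hrk)
  have hz : cq r v ∈ Z := (hRF hr).2
  have h4 : r * cq k v * r⁻¹ = cq (r * k * r⁻¹) (cq r v) * (cq r v * cq (r * k * r⁻¹) v * (cq r v)⁻¹) := by
    unfold cq; group
  have h5 : cq (r * k * r⁻¹) v ∈ V := mul_mem (h.memV hrkL hvV) (inv_mem hvV)
  rw [h4, h.comm (hZW hz) (h.VW h5), mul_inv_cancel_right]
  exact mul_mem (h.DV (hz.2 _ hrk)) h5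

end Sit

end Cfsg.Agent.Omega.NO3S.SN2.BA
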