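import Cfsg.Agent.Omega.NSix.Cen.QFF
import Cfsg.Agent.Omega.NSix.Cen.QFacts
import Cfsg.Agent.Omega.NO3S.OneLine.LevSym
import Cfsg.Agent.Omega.SQ1.FFSymMain

/-!
# THEOREM BA' (bb #21359 (4)): averaging

* `avg_pure` : `X ≤ R` normalised by `T`, `R = XT`, `T ∩ X` centralises `w`, `w` fixed by `T` modulo the central
  subgroup `C`, `C_Y(T) ≤ C`: then `X` centralises `w`;
* `kcen` : the kernel on `Y / C` centralises `Y`;
* `natX`, `symX` : such an `X` from the FF theorem;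
* `avg` : the theorem.
-/

set_option autoImplicit false

namespace Cfsg.Agent.Omega.NO3S.SN2.BAavg

open Subgroup Cfsg Cfsg.Agent.ZN.ChoiceBase Cfsg.Agent.ZN.ChoiceSit
open Cfsg.Agent.ZN (zc zl o2)
open Cfsg.Agent.MinSimple.MinParabolic (IsMinPar)
open Cfsg.Agent.MinSimple.VModule (le_normalizer_zl)
open Cfsg.Agent.Omega.FFThm
open Cfsg.Agent.Omega.FrameFF (cv)
open Cfsg.Agent.Omega.HOne (cv_le le_normalizer_cv conj_mem_zl conj_mem_cv)
open Cfsg.Agent.Omega.NO3S.ThmB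
open Cfsg.Agent.Lib.SL2Mat
open Cfsg.Agent.Omega.NatPair (ap)
open Cfsg.Agent.Omega.NSix.Cen

universe u

variable {G : Type u} [Group G]

section pure

variable {T R X Y C : Subgroup G}

/-- averaging -/
theorem avg_pure [Finite G] (hT : Syl T R) (hXR : X ≤ R) (hXn : ∀ t ∈ T, ∀ x ∈ X, t * x * t⁻¹ ∈ X)
    (hgen : ∀ K : Subgroup G, X ≤ K → T ≤ K → R ≤ K) (cen : ∀ g ∈ R, ∀ c ∈ C, g * c = c * g)
    (ab : ∀ v ∈ Y, ∀ w ∈ Y, v * w = w * v) (sq : ∀ v ∈ Y, v * v = 1) (nY : R ≤ normalizer (Y : Set G)) (hCY : C ≤ Y)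
    {w : G} (hw : w ∈ Y) (hwT : ∀ t ∈ T, cq t w ∈ C) (hTX : ∀ x ∈ X, x ∈ T → x * w = w * x)
    (hfix : ∀ y ∈ Y, (∀ t ∈ T, t * y = y * t) → y ∈ C) : ∀ x ∈ X, x * w = w * x := by
  classical
  have hTR : T ≤ R := hT.1
  -- every element of `R` is in `X T`
  have hXT : ∀ r ∈ R, ∃ x ∈ X, ∃ t ∈ T, r = x * t := by
    let K : Subgroup G :=
      { carrier := {r | ∃ x ∈ X, ∃ t ∈ T, r = x * t}
        one_mem' := ⟨1, one_mem _, 1, one_mem _, by rw [mul_one]⟩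
        mul_mem' := by
          rintro _ _ ⟨x, hx, t, ht, rfl⟩ ⟨x', hx', t', ht', rfl⟩
          exact ⟨x * (t * x' * t⁻¹), mul_mem hx (hXn t ht x' hx'), t * t', mul_mem ht ht', by group⟩
        inv_mem' := by
          rintro _ ⟨x, hx, t, ht, rfl⟩
          refine ⟨t⁻¹ * x⁻¹ * t⁻¹⁻¹, hXn _ (inv_mem ht) _ (inv_mem hx), t⁻¹, inv_mem ht, by group⟩ }
    exact hgen K (fun x hx => ⟨x, hx, 1, one_mem _, by rw [mul_one]⟩) fun t ht => ⟨1, one_mem _, t, ht, by rw [one_mul]⟩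
  let _ : CommGroup Y := { (inferInstance : Group Y) with mul_comm := fun a b => Subtype.ext (ab a a.2 b b.2) }
  have hcj : ∀ g ∈ R, ∀ y ∈ Y, g * y * g⁻¹ ∈ Y := fun g hg y hy => (mem_normalizer_iff.1 (nY hg) y).1 hy
  -- the conjugation
  let cg : R → (Y →* Y) := fun g =>
    { toFun := fun y => ⟨g * y * (g : G)⁻¹, hcj g g.2 y y.2⟩
      map_one' := Subtype.ext (by simp)
      map_mul' := fun a b => Subtype.ext (by simp) }
  have hcg : ∀ (g : R) (y : Y), ((cg g y : Y) : G) = g * y * (g : G)⁻¹ := fun _ _ => rfl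
  let Q := R ⧸ T.subgroupOf R
  have : Fintype Q := Fintype.ofFinite _
  have hex : ∀ q : Q, ∃ x : R, (x : G) ∈ X ∧ (QuotientGroup.mk x : Q) = q := by
    intro q
    obtain ⟨r, rfl⟩ := QuotientGroup.mk_surjective q
    obtain ⟨x, hx, t, ht, e⟩ := hXT r r.2
    refine ⟨⟨x, hXR hx⟩, hx, ?_⟩
    rw [QuotientGroup.eq, mem_subgroupOf]
    have : ((⟨x, hXR hx⟩⁻¹ * r : R) : G) = t := by
      change x⁻¹ * (r : G) = t
      rw [e]; group
    rw [this]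
    exact ht
  choose xr hxr hxq using hex
  let f : Q → Y := fun q => cg (xr q) ⟨w, hw⟩
  have hf : ∀ x : R, (x : G) ∈ X → f (QuotientGroup.mk x) = cg x ⟨w, hw⟩ := by
    intro x hx
    have h1 := hxq (QuotientGroup.mk x)
    rw [QuotientGroup.eq, mem_subgroupOf] at h1
    set z := xr (QuotientGroup.mk x) with hz
    have h2 : ((z⁻¹ * x : R) : G) * w = w * ((z⁻¹ * x : R) : G) :=
      hTX _ (mul_mem (inv_mem (hxr _)) hx) h1
    apply Subtype.ext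
    change (z : G) * w * (z : G)⁻¹ = x * w * (x : G)⁻¹
    have h3 : (x : G) = z * ((z⁻¹ * x : R) : G) := by
      change (x : G) = z * ((z : G)⁻¹ * x)
      group
    rw [h3]
    calc (z : G) * w * (z : G)⁻¹ = z * (w * ((z⁻¹ * x : R) : G)) * ((z⁻¹ * x : R) : G)⁻¹ * (z : G)⁻¹ := by group
      _ = z * (((z⁻¹ * x : R) : G) * w) * ((z⁻¹ * x : R) : G)⁻¹ * (z : G)⁻¹ := by rw [h2]
      _ = _ := by group
  let N : Y := ∏ q, f q
  -- `X` fixes `N`
  have hXN : ∀ x : R, (x : G) ∈ X → cg x N = N := by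
    intro x hx
    change cg x (∏ q, f q) = ∏ q, f q
    rw [map_prod]
    refine Fintype.prod_bijective (fun q : Q => x • q) (MulAction.bijective x) _ _ fun q => ?_
    obtain ⟨z, hz, rfl⟩ : ∃ z : R, (z : G) ∈ X ∧ (QuotientGroup.mk z : Q) = q := ⟨_, hxr q, hxq q⟩
    have e : (x • (QuotientGroup.mk z : Q)) = QuotientGroup.mk (x * z) := rfl
    rw [e, hf z hz, hf (x * z) (mul_mem hx hz)]
    apply Subtype.ext
    change (x : G) * (z * w * (z : G)⁻¹) * (x : G)⁻¹ = (x : G) * z * w * ((x : G) * z)⁻¹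
    group
  -- the index is odd
  have hodd : Odd (Fintype.card Q) := by
    have h1 := syl_not_dvd hT
    rw [← Nat.not_even_iff_odd, even_iff_two_dvd, ← Nat.card_eq_fintype_card]
    exact h1
  -- `T` moves `N` as `w`
  have hTN : ∀ (t : R) (ht : (t : G) ∈ T), cg t N = ⟨cq (t : G) w, hCY (hwT t ht)⟩ * N := by
    intro t ht
    set c : Y := ⟨cq (t : G) w, hCY (hwT t ht)⟩ with hc
    have h1 : ∀ q : Q, cg t (f q) = c * f (t • q) := by
      intro q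
      obtain ⟨z, hz, rfl⟩ : ∃ z : R, (z : G) ∈ X ∧ (QuotientGroup.mk z : Q) = q := ⟨_, hxr q, hxq q⟩
      have e : (t • (QuotientGroup.mk z : Q)) = QuotientGroup.mk (t * z * t⁻¹) := by
        change QuotientGroup.mk (t * z) = _
        rw [QuotientGroup.eq, mem_subgroupOf]
        have e2 : (((t * z)⁻¹ * (t * z * t⁻¹) : R) : G) = (t : G)⁻¹ := by
          have : (t * z)⁻¹ * (t * z * t⁻¹) = t⁻¹ := by group
          rw [this]; rfl
        rw [e2]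
        exact inv_mem ht
      have hz' : ((t * z * t⁻¹ : R) : G) ∈ X := hXn t ht z hz
      rw [e, hf z hz, hf _ hz']
      apply Subtype.ext
      change (t : G) * (z * w * (z : G)⁻¹) * (t : G)⁻¹ =
        cq (t : G) w * ((t * z * (t : G)⁻¹) * w * (t * z * (t : G)⁻¹)⁻¹)
      have h2 := cen _ (t * z * t⁻¹ : R).2 _ (hwT t ht)
      have h3 : ((t * z * t⁻¹ : R) : G) = t * z * (t : G)⁻¹ := rfl
      rw [h3] at h2
      calc (t : G) * (z * w * (z : G)⁻¹) * (t : G)⁻¹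
          = (t * z * (t : G)⁻¹ * cq (t : G) w) * w * (t * z * (t : G)⁻¹)⁻¹ := by unfold cq; group
        _ = (cq (t : G) w * (t * z * (t : G)⁻¹)) * w * (t * z * (t : G)⁻¹)⁻¹ := by rw [h2]
        _ = _ := by group
    have hcc : c * c = 1 := Subtype.ext (sq _ c.2)
    have hcn : c ^ Fintype.card Q = c := by
      obtain ⟨k, hk⟩ := hodd
      rw [hk, pow_succ, pow_mul, pow_two, hcc, one_pow, one_mul]
    change cg t (∏ q, f q) = c * ∏ q, f q
    rw [map_prod, Finset.prod_congr rfl fun q _ => h1 q, Finset.prod_mul_distrib, Finset.prod_const,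
      Finset.card_univ, hcn]
    congr 1
    exact Fintype.prod_bijective (fun q : Q => t • q) (MulAction.bijective t) _ _ fun q => rfl
  -- `n = w N⁻¹` is centralised by `T`
  have hnC : w * ((N : Y) : G)⁻¹ ∈ C := by
    refine hfix _ (mul_mem hw (inv_mem N.2)) fun t ht => ?_
    have h1 := congrArg (fun y : Y => (y : G)) (hTN ⟨t, hTR ht⟩ ht)
    change t * (N : G) * t⁻¹ = cq t w * (N : G) at h1
    have h2 : t * w * t⁻¹ = cq t w * w := by unfold cq; group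
    have h3 : t * (w * (N : G)⁻¹) * t⁻¹ = w * (N : G)⁻¹ := by
      calc t * (w * (N : G)⁻¹) * t⁻¹ = (t * w * t⁻¹) * (t * (N : G) * t⁻¹)⁻¹ := by group
        _ = (cq t w * w) * (cq t w * (N : G))⁻¹ := by rw [h1, h2]
        _ = cq t w * (w * (N : G)⁻¹) * (cq t w)⁻¹ := by group
        _ = w * (N : G)⁻¹ := by
          rw [ab _ (hCY (hwT t ht)) _ (mul_mem hw (inv_mem N.2)), mul_inv_cancel_right]
    exact mul_inv_eq_iff_eq_mul.1 h3
  intro x hx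
  have h1 := congrArg (fun y : Y => (y : G)) (hXN ⟨x, hXR hx⟩ hx)
  change x * (N : G) * x⁻¹ = (N : G) at h1
  have h2 := cen x (hXR hx) _ hnC
  have h3 : x * w * x⁻¹ = w := by
    calc x * w * x⁻¹ = (x * (w * (N : G)⁻¹)) * (N : G) * x⁻¹ := by group
      _ = (w * (N : G)⁻¹) * (x * (N : G) * x⁻¹) := by rw [h2]; group
      _ = (w * (N : G)⁻¹) * (N : G) := by rw [h1]
      _ = w := by group
  exact mul_inv_eq_iff_eq_mul.1 h3

end pure

/-! ### The kernel -/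

section model

variable {T R Y C : Subgroup G} {G' : Type u} [Group G'] {T' H' : Subgroup G'} {φ : Y →* G'} {π : R →* G'}

/-- **the kernel on `Y / C` centralises `Y`** if `O₂(R)` does -/
theorem kcen [Finite G] (Q : QDat T R Y C) (hK : ∀ k ∈ o2 R, ∀ y ∈ Y, k * y = y * k) {x : G} (hx : x ∈ R)
    (htr : TrQ Y C x) {y : G} (hy : y ∈ Y) : x * y = y * x := by
  obtain ⟨a, o, ho, e⟩ := Nat.exists_eq_two_pow_mul_odd (n := orderOf x) (orderOf_pos x).ne'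
  have hpow : ∀ n : ℕ, x ^ n * y * (x ^ n)⁻¹ = (cq x y) ^ n * y := by
    intro n
    induction n with
    | zero => simp
    | succ n ih =>
      have h2 : Commute (x ^ n) (cq x y) := (show Commute x (cq x y) from Q.cen x hx _ (htr y hy)).pow_left n
      calc x ^ (n + 1) * y * (x ^ (n + 1))⁻¹ = x ^ n * (cq x y * y) * (x ^ n)⁻¹ := by rw [cq, pow_succ]; group
        _ = (x ^ n * cq x y) * y * (x ^ n)⁻¹ := by group
        _ = (cq x y * x ^ n) * y * (x ^ n)⁻¹ := by rw [h2.eq]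
        _ = cq x y * (x ^ n * y * (x ^ n)⁻¹) := by group
        _ = (cq x y) ^ (n + 1) * y := by rw [ih, pow_succ']; group
  -- the 2-part
  have hxo : x ^ o ∈ Q.kQ := pow_mem (Q.mem_kQ.2 ⟨hx, htr⟩) o
  obtain ⟨g, hg, hgT⟩ := SQ1.FFSym.syl_elt Q.syl (pow_mem hx o) ⟨a, by rw [← pow_mul, mul_comm, ← e, pow_orderOf_eq_one]⟩
  have h1 : g * x ^ o * g⁻¹ ∈ o2 R :=
    Q.inf_kQ ⟨hgT, (mem_normalizer_iff.1 (Q.kQ_norm hg) _).1 hxo⟩
  have h2 : x ^ o ∈ o2 R := by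
    have h3 := (mem_normalizer_iff.1 (Cfsg.Agent.ZN.le_normalizer_o2 R (inv_mem hg)) _).1 h1
    have e2 : g⁻¹ * (g * x ^ o * g⁻¹) * g⁻¹⁻¹ = x ^ o := by group
    rwa [e2] at h3
  have h3 := hK _ h2 y hy
  have h4 := hpow o
  rw [h3, mul_inv_cancel_right] at h4
  have h5 : (cq x y) ^ o = 1 := right_eq_mul.1 h4
  obtain ⟨k, hk⟩ := ho
  rw [hk, pow_succ, pow_mul, pow_two, Q.sqC (htr y hy), one_pow, one_mul] at h5
  exact cq_one_iff.1 h5

/-- generation in `R` from generation in `H'` -/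
theorem genK [Finite G'] (M : Model T R Y C T' H' φ π) (P : G' → Prop)
    (hP : ∀ p ∈ H', ∀ v ∈ zl T' H', P (v * p) → P p) (hP1 : ∀ v ∈ zl T' H', P v)
    (hgen : ∀ K : Subgroup G', T' ≤ K → (∀ g ∈ H', P g → g ∈ K) → H' ≤ K) (K : Subgroup G) (hTK : T ≤ K)
    (hK : ∀ x : R, P (π x) → (x : G) ∈ K) : R ≤ K := by
  have hVn : ∀ (x : R), ∀ v ∈ zl T' H', π x * v * (π x)⁻¹ ∈ zl T' H' := fun x v hv => conj_mem_zl (M.piH x) hv
  let K' : Subgroup G' :=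
    { carrier := {g | ∃ v ∈ zl T' H', ∃ y : R, (y : G) ∈ K ∧ g = v * π y}
      one_mem' := ⟨1, one_mem _, 1, one_mem _, by rw [map_one, mul_one]⟩
      mul_mem' := by
        rintro _ _ ⟨v, hv, y, hy, rfl⟩ ⟨v', hv', y', hy', rfl⟩
        refine ⟨v * (π y * v' * (π y)⁻¹), mul_mem hv (hVn y v' hv'), y * y', mul_mem hy hy', ?_⟩
        rw [map_mul]; group
      inv_mem' := by
        rintro _ ⟨v, hv, y, hy, rfl⟩
        refine ⟨π y⁻¹ * v⁻¹ * (π y⁻¹)⁻¹, hVn y⁻¹ _ (inv_mem hv), y⁻¹, inv_mem hy, ?_⟩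
        rw [map_inv]; group }
  have h1 : H' ≤ K' := by
    refine hgen K' (fun t ht => ?_) fun g hg hPg => ?_
    · obtain ⟨x, hxT, v, hv, rfl⟩ := M.Tpi t ht
      exact ⟨v, hv, x, hTK hxT, rfl⟩
    · obtain ⟨x, v, hv, rfl⟩ := M.Hpi g hg
      exact ⟨v, hv, x, hK x (hP _ (M.piH x) v hv hPg), rfl⟩
  intro r hr
  obtain ⟨v, hv, y, hy, e⟩ := h1 (M.piH ⟨r, hr⟩)
  have h2 : π (⟨r, hr⟩ * y⁻¹) = v := by rw [map_mul, map_inv, e]; group
  have h3 := hK (⟨r, hr⟩ * y⁻¹) (by rw [h2]; exact hP1 v hv)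
  have h4 : r = ((⟨r, hr⟩ * y⁻¹ : R) : G) * y := by
    change r = r * (y : G)⁻¹ * y
    group
  rw [h4]
  exact mul_mem h3 hy

/-- a conjugate by `t ∈ T` of an element which centralises `w` -/
theorem conj_comm (Q : QDat T R Y C) {w : G} (hT : ∀ t ∈ T, cq t w ∈ C) {t a : G} (ht : t ∈ T) (haR : a ∈ R)
    (ha : a * w = w * a) : t * a * t⁻¹ * w = w * (t * a * t⁻¹) := by
  have h1 := hT _ (inv_mem ht)
  have h2 := Q.cen a haR _ h1
  have h3 : t⁻¹ * w * t = cq t⁻¹ w * w := by unfold cq; group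
  have h4 : a * (t⁻¹ * w * t) * a⁻¹ = t⁻¹ * w * t := by
    rw [h3]
    calc a * (cq t⁻¹ w * w) * a⁻¹ = (a * cq t⁻¹ w) * w * a⁻¹ := by group
      _ = cq t⁻¹ w * (a * w) * a⁻¹ := by rw [h2]; group
      _ = cq t⁻¹ w * (w * a) * a⁻¹ := by rw [ha]
      _ = _ := by group
  have h5 : t * a * t⁻¹ * w * (t * a * t⁻¹)⁻¹ = w := by
    calc t * a * t⁻¹ * w * (t * a * t⁻¹)⁻¹ = t * (a * (t⁻¹ * w * t) * a⁻¹) * t⁻¹ := by group
      _ = t * (t⁻¹ * w * t) * t⁻¹ := by rw [h4]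
      _ = w := by group
  exact mul_inv_eq_iff_eq_mul.1 h5

/-- `w` is fixed by `T'` -/
theorem fixT' (Q : QDat T R Y C) (M : Model T R Y C T' H' φ π) {w : G} (hw : w ∈ Y) (hT : ∀ t ∈ T, cq t w ∈ C)
    {t : G'} (ht : t ∈ T') : t * φ ⟨w, hw⟩ = φ ⟨w, hw⟩ * t := by
  obtain ⟨x, hxT, v, hv, rfl⟩ := M.Tpi t ht
  have h1 := (M.cq_iff Q x ⟨w, hw⟩).1 (hT x hxT)
  obtain ⟨v', rfl⟩ := M.exists_eq hv
  have h2 : φ v' * φ ⟨w, hw⟩ = φ ⟨w, hw⟩ * φ v' := by
    rw [← map_mul, ← map_mul]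
    congr 1
    exact Subtype.ext (Q.ab _ v'.2 _ hw)
  rw [mul_assoc, h1, ← mul_assoc, h2, mul_assoc]

/-- elements of `R` whose images act in the same way on `Y / C` -/
theorem comm_of_same (Q : QDat T R Y C) (M : Model T R Y C T' H' φ π)
    (hkc : ∀ x ∈ R, TrQ Y C x → ∀ y ∈ Y, x * y = y * x) {w : G} (hw : w ∈ Y) {x y : R}
    (h : ∀ v ∈ zl T' H', π x * v * (π x)⁻¹ = π y * v * (π y)⁻¹) (hy : (y : G) * w = w * y) :
    (x : G) * w = w * x := by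
  have h1 : TrQ Y C ((y⁻¹ * x : R) : G) := by
    rw [M.tr_iff Q, mem_centralizer_iff]
    intro v hv
    have h2 := h v hv
    rw [map_mul, map_inv]
    calc v * ((π y)⁻¹ * π x) = (π y)⁻¹ * (π y * v * (π y)⁻¹) * π x := by group
      _ = (π y)⁻¹ * (π x * v * (π x)⁻¹) * π x := by rw [h2]
      _ = _ := by group
  have h2 := hkc _ (y⁻¹ * x : R).2 h1 w hw
  have h3 : (x : G) = y * ((y⁻¹ * x : R) : G) := by
    change (x : G) = y * ((y : G)⁻¹ * x)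
    group
  rw [h3, mul_assoc, h2, ← mul_assoc, hy, mul_assoc]

end model

/-! ### Natural modules -/

section nat

variable {T R Y C : Subgroup G} {G' : Type u} [Group G'] {T' H' : Subgroup G'} {φ : Y →* G'} {π : R →* G'}
variable {F : Type} [Field F] [CharP F 2] {k : ℕ}

omit [CharP F 2] in
theorem eq_one_of_ap {A : Matrix.SpecialLinearGroup (Fin 2) F} (h : ∀ x, ap A x = x) : A = 1 :=
  NatPair.ap_inj fun x => by rw [h, NatPair.ap_one]

omit [CharP F 2] in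
theorem eq_up_of_ap {A : Matrix.SpecialLinearGroup (Fin 2) F} {x : Fin 2 → F} (h : ap A x = x) (h1 : x 1 = 0)
    (h0 : x ≠ 0) : ∃ b, A = up b := by
  have hx : x 0 ≠ 0 := fun h2 => h0 (vec_eq h2 h1)
  have e1 := congrFun h 0
  have e2 := congrFun h 1
  rw [NatPair.ap_zero', h1, mul_zero, add_zero] at e1
  rw [NatPair.ap_one', h1, mul_zero, add_zero] at e2
  have e3 : ent A 0 0 = 1 := mul_right_cancel₀ hx (by rw [e1, one_mul])
  have e4 : ent A 1 0 = 0 := (mul_eq_zero.1 e2).resolve_right hx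
  have e5 := det_eq A
  rw [e3, e4, one_mul, mul_zero, sub_zero] at e5
  exact ⟨ent A 0 1, ext_ent e3 rfl e4 e5⟩

/-- elements of `R` acting as `SL₂(F)^k` whose images lie in the group generated by good ones centralise `w` -/
theorem natX [Finite G] [Finite G'] (Q : QDat T R Y C) (M : Model T R Y C T' H' φ π)
    (N : NatKM F T' H' (zl T' H') (cv T' H') k) {A : Subgroup G} (hA : A ≤ T)
    (hoff : OffM (zl T' H') (im π A)) (hkc : ∀ x ∈ R, TrQ Y C x → ∀ y ∈ Y, x * y = y * x)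
    (star : ∀ y ∈ Y, (∀ a ∈ A, cq a y ∈ C) → ∀ a ∈ A, a * y = y * a)
    {w : G} (hw : w ∈ Y) (hT : ∀ t ∈ T, cq t w ∈ C) (hmv : ∃ g ∈ R, cq g w ∉ C) :
    ∃ X : Subgroup G, X ≤ R ∧ (∀ t ∈ T, ∀ x ∈ X, t * x * t⁻¹ ∈ X) ∧
      (∀ K : Subgroup G, X ≤ K → T ≤ K → R ≤ K) ∧ ∀ x ∈ X, x ∈ T → x * w = w * x := by
  classical
  have hN := nb_of M.syl M.char2 N
  have hAR : A ≤ R := hA.trans Q.TR
  set v₀ : G' := φ ⟨w, hw⟩ with hv₀
  have hv₀V : v₀ ∈ zl T' H' := M.mem _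
  have hfix : ∀ t ∈ T', t * v₀ * t⁻¹ = v₀ := fun t ht => by rw [fixT' Q M hw hT ht, mul_inv_cancel_right]
  -- coordinates of `v₀`
  have hc1 : ∀ i, N.e v₀ i 1 = 0 := by
    intro i
    obtain ⟨t, ht, hact⟩ := N.unip fun _ => 1
    have h1 := hact.1 v₀ hv₀V i
    rw [hfix t ht] at h1
    have h2 := congrFun h1 0
    rw [ap_up_0, one_mul] at h2
    exact left_eq_add.1 h2
  have hc0 : ∀ i, N.e v₀ i ≠ 0 := by
    intro i hi
    have h1 : N.e v₀ = 0 := by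
      funext j
      obtain ⟨t, ht, h2⟩ := N.trans i j
      have h3 := (h2 v₀ hv₀V).2 hi
      rw [hfix t ht] at h3
      exact h3
    have h2 : v₀ ∈ cv T' H' := (N.ker v₀ hv₀V).1 h1
    have h3 : H' ≤ centralizer ({v₀} : Set G') := by
      refine N.gen _ (fun t ht => ?_) fun x hx B hB => ?_
      · exact mem_centralizer_singleton_iff.2 (mul_inv_eq_iff_eq_mul.1 (hfix t ht))
      · exact mem_centralizer_singleton_iff.2 (hB.2 v₀ h2)
    obtain ⟨g, hg, hgw⟩ := hmv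
    refine hgw ((M.cq_iff Q ⟨g, hg⟩ ⟨w, hw⟩).2 ?_)
    exact mem_centralizer_singleton_iff.1 (h3 (M.piH ⟨g, hg⟩))
  -- the good families
  let 𝒯 : Subgroup (Fin k → Matrix.SpecialLinearGroup (Fin 2) F) :=
    { carrier := {B | ∃ y : R, (y : G) * w = w * y ∧ ActsSL N.e (zl T' H') (cv T' H') (π y) B}
      one_mem' := ⟨1, by rw [Subgroup.coe_one, one_mul, mul_one], by rw [map_one]; exact Nb.acts_one⟩
      mul_mem' := by
        rintro B B' ⟨y, hy, hyB⟩ ⟨y', hy', hyB'⟩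
        refine ⟨y * y', ?_, ?_⟩
        · rw [Subgroup.coe_mul, mul_assoc, hy', ← mul_assoc, hy, mul_assoc]
        · rw [map_mul]
          exact hN.acts_mul (M.piH y') hyB hyB'
      inv_mem' := by
        rintro B ⟨y, hy, hyB⟩
        refine ⟨y⁻¹, ?_, ?_⟩
        · exact (show Commute (y : G) w from hy).inv_left
        · rw [map_inv]
          exact hN.acts_inv (M.piH y) hyB }
  have good : ∀ (x : R) (B : Fin k → Matrix.SpecialLinearGroup (Fin 2) F), ActsSL N.e (zl T' H') (cv T' H') (π x) B → B ∈ 𝒯 →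
      (x : G) * w = w * x := by
    rintro x B hx ⟨y, hy, hyB⟩
    exact comm_of_same Q M hkc hw (fun v hv => hN.same (M.piH x) (M.piH y) hx hyB hv) hy
  -- the offender
  obtain ⟨I, hI1, hI2⟩ := N.offM (im π A) (M.im_le hA) hoff
  obtain ⟨i₀, hi₀⟩ : ∃ i, i ∈ I := by
    by_contra hcon
    push Not at hcon
    refine hoff.ne fun a ha => ?_
    obtain ⟨b, hb, hact⟩ := hI1 a ha
    have h1 : (fun i => up (b i)) = (1 : Fin k → Matrix.SpecialLinearGroup (Fin 2) F) := by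
      funext i
      rw [hb i (hcon i), up_zero]
      rfl
    rw [h1] at hact
    exact mem_centralizer_iff.2 fun v hv => (hN.comm_of_one (M.im_le' A ha) hact hv).symm
  have hstar : ∀ a ∈ A, a * w = w * a := star w hw fun a ha => hT a (hA ha)
  have hsg : ∀ (i : Fin k) (s : F), (fun j => up ((Pi.single i s : Fin k → F) j)) = Pi.mulSingle i (up s) := by
    intro i s
    funext j
    by_cases hj : j = i
    · subst hj
      rw [Pi.single_eq_same, Pi.mulSingle_eq_same]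
    · rw [Pi.single_eq_of_ne hj, Pi.mulSingle_eq_of_ne hj, up_zero]
  have hbase : ∀ s : F, ∃ a : R, (a : G) * w = w * a ∧ ActsSL N.e (zl T' H') (cv T' H') (π a) (Pi.mulSingle i₀ (up s)) := by
    intro s
    obtain ⟨a', ha', hact⟩ := hI2 (Pi.single i₀ s) fun j hj =>
      Pi.single_eq_of_ne (fun e : j = i₀ => hj (by rw [e]; exact hi₀)) _
    obtain ⟨a, ha, rfl⟩ := mem_im.1 ha'
    rw [hsg] at hact
    exact ⟨a, hstar a ha, hact⟩
  have hall : ∀ (i : Fin k) (s : F), Pi.mulSingle i (up s) ∈ 𝒯 := by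
    intro i s
    obtain ⟨t', ht', htr⟩ := N.trans i₀ i
    obtain ⟨t, htT, v₁, hv₁, rfl⟩ := M.Tpi t' ht'
    set p := π t with hp
    have hpH : p ∈ H' := M.piH t
    have hpT : p ∈ T' := M.piT t htT
    have htr' : ∀ v ∈ zl T' H', N.e (p * v * p⁻¹) i = 0 ↔ N.e v i₀ = 0 := by
      intro v hv
      rw [← htr v hv]
      have h1 : p * v * p⁻¹ ∈ zl T' H' := hN.memV hpH hv
      have h2 : v₁ * p * v * (v₁ * p)⁻¹ = p * v * p⁻¹ := by
        calc v₁ * p * v * (v₁ * p)⁻¹ = v₁ * (p * v * p⁻¹) * v₁⁻¹ := by group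
          _ = p * v * p⁻¹ := by rw [hN.cm hv₁ h1, mul_inv_cancel_right]
      rw [h2]
    obtain ⟨g, hg, hgA⟩ := N.unip (Pi.single i s)
    rw [hsg] at hgA
    have hgH : g ∈ H' := M.syl.1 hg
    have hg1 : p⁻¹ * g * p⁻¹⁻¹ ∈ H' := mul_mem (mul_mem (inv_mem hpH) hgH) (inv_mem (inv_mem hpH))
    have hg1T : p⁻¹ * g * p⁻¹⁻¹ ∈ T' := mul_mem (mul_mem (inv_mem hpT) hg) (inv_mem (inv_mem hpT))
    obtain ⟨B, hB⟩ := N.norm p⁻¹ (inv_mem hpH) g hgH _ hgA.1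
    have hBD : ActsSL N.e (zl T' H') (cv T' H') (p⁻¹ * g * p⁻¹⁻¹) B := by
      refine ⟨hB, fun d hd => ?_⟩
      have h1 : p * d * p⁻¹ ∈ cv T' H' := conj_mem_cv hpH hd
      have h2 := hgA.2 _ h1
      calc p⁻¹ * g * p⁻¹⁻¹ * d = p⁻¹ * (g * (p * d * p⁻¹)) * p := by group
        _ = p⁻¹ * ((p * d * p⁻¹) * g) * p := by rw [h2]
        _ = d * (p⁻¹ * g * p⁻¹⁻¹) := by group
    have hB1 : ∀ l, l ≠ i₀ → B l = 1 := by
      intro l hl
      refine eq_one_of_ap fun x => ?_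
      obtain ⟨v, hv, hvl, hvo⟩ := Nb.exists_single N l x
      have h1 : N.e (p * v * p⁻¹) i = 0 := (htr' v hv).2 (hvo i₀ (Ne.symm hl))
      have hpv : p * v * p⁻¹ ∈ zl T' H' := hN.memV hpH hv
      have h2 : N.e (g * (p * v * p⁻¹) * g⁻¹) = N.e (p * v * p⁻¹) := by
        funext j
        rw [hgA.1 _ hpv j]
        by_cases hj : j = i
        · subst hj
          rw [h1, ap_zr]
        · rw [Pi.mulSingle_eq_of_ne hj, NatPair.ap_one]
      have h3 : g * (p * v * p⁻¹) * g⁻¹ * (p * v * p⁻¹)⁻¹ ∈ cv T' H' := (hN.mem_D (hN.memV hgH hpv) hpv).2 h2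
      have h4 : p⁻¹ * g * p⁻¹⁻¹ * v * (p⁻¹ * g * p⁻¹⁻¹)⁻¹ * v⁻¹ ∈ cv T' H' := by
        have h5 := conj_mem_cv (inv_mem hpH) h3
        have e : p⁻¹ * (g * (p * v * p⁻¹) * g⁻¹ * (p * v * p⁻¹)⁻¹) * p⁻¹⁻¹ =
            p⁻¹ * g * p⁻¹⁻¹ * v * (p⁻¹ * g * p⁻¹⁻¹)⁻¹ * v⁻¹ := by group
        rwa [e] at h5
      have h5 := (hN.mem_D (hN.memV hg1 hv) hv).1 h4
      have h6 := hB v hv l
      rw [h5, hvl] at h6
      exact h6.symm
    obtain ⟨s', hs'⟩ : ∃ b, B i₀ = up b := by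
      refine eq_up_of_ap (x := N.e v₀ i₀) ?_ (hc1 i₀) (hc0 i₀)
      have h1 := hB v₀ hv₀V i₀
      rw [hfix _ hg1T] at h1
      exact h1.symm
    have hBe : B = Pi.mulSingle i₀ (up s') := by
      funext l
      by_cases hl : l = i₀
      · subst hl
        rw [Pi.mulSingle_eq_same, hs']
      · rw [Pi.mulSingle_eq_of_ne hl, hB1 l hl]
    rw [hBe] at hBD
    obtain ⟨a, haw, ha⟩ := hbase s'
    refine ⟨t * a * t⁻¹, ?_, ?_⟩
    · have := conj_comm Q hT htT a.2 haw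
      exact this
    · have hsame : ∀ v ∈ zl T' H', π (t * a * t⁻¹) * v * (π (t * a * t⁻¹))⁻¹ = g * v * g⁻¹ := by
        intro v hv
        have hv' : p⁻¹ * v * p⁻¹⁻¹ ∈ zl T' H' := hN.memV (inv_mem hpH) hv
        have h1 := hN.same (M.piH a) hg1 ha hBD hv'
        rw [map_mul, map_mul, map_inv, ← hp]
        calc p * π a * p⁻¹ * v * (p * π a * p⁻¹)⁻¹
            = p * (π a * (p⁻¹ * v * p⁻¹⁻¹) * (π a)⁻¹) * p⁻¹ := by group
          _ = p * (p⁻¹ * g * p⁻¹⁻¹ * (p⁻¹ * v * p⁻¹⁻¹) * (p⁻¹ * g * p⁻¹⁻¹)⁻¹) * p⁻¹ := by rw [h1]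
          _ = g * v * g⁻¹ := by group
      refine ⟨fun v hv j => by rw [hsame v hv]; exact hgA.1 v hv j, fun d hd => ?_⟩
      have h1 := hsame d (cv_le T' H' hd)
      rw [hgA.2 d hd, mul_inv_cancel_right] at h1
      exact mul_inv_eq_iff_eq_mul.1 h1
  -- the group `X`
  let X : Subgroup G :=
    { carrier := {x | ∃ hx : x ∈ R, ∃ B, ActsSL N.e (zl T' H') (cv T' H') (π ⟨x, hx⟩) B}
      one_mem' := ⟨one_mem _, 1, by
        have : (⟨1, one_mem _⟩ : R) = 1 := rfl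
        rw [this, map_one]; exact Nb.acts_one⟩
      mul_mem' := by
        rintro x y ⟨hx, B, hB⟩ ⟨hy, B', hB'⟩
        refine ⟨mul_mem hx hy, B * B', ?_⟩
        have : (⟨x * y, mul_mem hx hy⟩ : R) = ⟨x, hx⟩ * ⟨y, hy⟩ := rfl
        rw [this, map_mul]
        exact hN.acts_mul (M.piH _) hB hB'
      inv_mem' := by
        rintro x ⟨hx, B, hB⟩
        refine ⟨inv_mem hx, B⁻¹, ?_⟩
        have : (⟨x⁻¹, inv_mem hx⟩ : R) = ⟨x, hx⟩⁻¹ := rfl
        rw [this, map_inv]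
        exact hN.acts_inv (M.piH _) hB }
  refine ⟨X, fun x hx => hx.1, ?_, ?_, ?_⟩
  · rintro t ht x ⟨hx, B, hB⟩
    have htR := Q.TR ht
    obtain ⟨B', hB'⟩ := N.norm (π ⟨t, htR⟩) (M.piH _) (π ⟨x, hx⟩) (M.piH _) B hB.1
    refine ⟨mul_mem (mul_mem htR hx) (inv_mem htR), B', ?_⟩
    have e : (⟨t * x * t⁻¹, mul_mem (mul_mem htR hx) (inv_mem htR)⟩ : R) = ⟨t, htR⟩ * ⟨x, hx⟩ * ⟨t, htR⟩⁻¹ := rfl
    rw [e, map_mul, map_mul, map_inv]
    refine ⟨hB', fun d hd => ?_⟩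
    set p := π ⟨t, htR⟩ with hp
    have hpH : p ∈ H' := M.piH _
    have h1 : p⁻¹ * d * p⁻¹⁻¹ ∈ cv T' H' := conj_mem_cv (inv_mem hpH) hd
    have h2 := hB.2 _ h1
    calc p * π ⟨x, hx⟩ * p⁻¹ * d = p * (π ⟨x, hx⟩ * (p⁻¹ * d * p⁻¹⁻¹)) * p⁻¹ := by group
      _ = p * ((p⁻¹ * d * p⁻¹⁻¹) * π ⟨x, hx⟩) * p⁻¹ := by rw [h2]
      _ = d * (p * π ⟨x, hx⟩ * p⁻¹) := by group
  · intro K hXK hTK
    refine genK M (fun g => ∃ B, ActsSL N.e (zl T' H') (cv T' H') g B) ?_ ?_ ?_ K hTK fun x hx => hXK ⟨x.2, hx⟩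
    · rintro p hp v hv ⟨B, hB⟩
      have hs : ∀ u ∈ zl T' H', v * p * u * (v * p)⁻¹ = p * u * p⁻¹ := by
        intro u hu
        calc v * p * u * (v * p)⁻¹ = v * (p * u * p⁻¹) * v⁻¹ := by group
          _ = p * u * p⁻¹ := by rw [hN.cm hv (hN.memV hp hu), mul_inv_cancel_right]
      refine ⟨B, fun u hu i => by rw [← hs u hu]; exact hB.1 u hu i, fun d hd => ?_⟩
      have h1 := hs d (cv_le T' H' hd)
      rw [hB.2 d hd, mul_inv_cancel_right] at h1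
      exact (mul_inv_eq_iff_eq_mul.1 h1.symm)
    · intro v hv
      refine ⟨1, fun u hu i => ?_, fun d hd => hN.cm hv (cv_le T' H' hd)⟩
      rw [hN.cm hv hu, mul_inv_cancel_right, Pi.one_apply, NatPair.ap_one]
    · intro K' hT'K' hK'
      exact N.gen K' hT'K' fun g hg B hB => hK' g hg ⟨B, hB⟩
  · rintro x ⟨hx, B, hB⟩ hxT
    refine good ⟨x, hx⟩ B hB ?_
    refine Subgroup.pi_mem_of_mulSingle_mem _ fun i => ?_
    obtain ⟨b, hb⟩ : ∃ b, B i = up b := by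
      refine eq_up_of_ap (x := N.e v₀ i) ?_ (hc1 i) (hc0 i)
      have h1 := hB.1 v₀ hv₀V i
      rw [hfix _ (M.piT ⟨x, hx⟩ hxT)] at h1
      exact h1.symm
    rw [hb]
    exact hall i b

end nat

end Cfsg.Agent.Omega.NO3S.SN2.BAavg
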