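import Cfsg.Agent.Omega.NO3S.SN2.TwoPar

/-!
# (b') of SN.Two (helper347, #22022), module part

As in `TwoPar`, with a subgroup `P` (image of `N = ⟨V ^ y : [V ^ y, Q] ≤ V⟩`) in place of the vector `y₀`; `K` is now
`C_K(W₁₂)`, `B = ker f₁₂`.
-/

set_option autoImplicit false
set_option linter.unusedSectionVars false

namespace Cfsg.Agent.Omega.NO3S.SN2.BpAbs

open Subgroup
open Cfsg.Agent.Omega.NO3S.SN2.TwoPar (fx mem_fx kr mem_kr pair_le mem_zm)

universe u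

variable {R Y : Type u} [Group R] [AddCommGroup Y] [DistribMulAction R Y]

/-- The situation. -/
structure Sit (T K B : Subgroup R) (P : AddSubgroup Y) (w₀ w₁ w₂ : Y) : Prop where
  finR : Finite R
  finY : Finite Y
  two : ∀ y : Y, y + y = 0
  Kn : K.Normal
  KT : K ≤ T
  sum : w₀ = w₁ + w₂
  ne1 : w₁ ≠ 0
  ne2 : w₂ ≠ 0
  ne : w₁ ≠ w₂
  perm : ∀ r : R, r • w₀ = w₀ ∨ r • w₀ = w₁ ∨ r • w₀ = w₂
  tr1 : ∃ r : R, r • w₀ = w₁
  tr2 : ∃ r : R, r • w₀ = w₂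
  Tw : ∀ t ∈ T, t • w₀ = w₀
  KP : ∀ k ∈ K, ∀ y ∈ P, k • y + y ∈ AddSubgroup.zmultiples w₀
  w1P : w₁ ∈ P
  w2P : w₂ ∈ P
  span : AddSubgroup.closure {z : Y | ∃ r : R, ∃ y ∈ P, z = r • y} = ⊤
  BT : B ≤ T
  comm : ∀ a ∈ B, ∀ b ∈ B, a * b = b * a
  BK : ∀ b ∈ B, b • w₁ = w₁ → b ∈ K
  nle : ¬ B ≤ K
  card : (fx Y B).index ≤ (kr R Y).relIndex B

namespace Sit

variable {T K B : Subgroup R} {P : AddSubgroup Y} {w₀ w₁ w₂ : Y} (h : Sit T K B P w₀ w₁ w₂)

include h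

theorem add1 : w₀ + w₁ = w₂ := by
  rw [h.sum, add_comm w₁, add_assoc, h.two, add_zero]

theorem add2 : w₀ + w₂ = w₁ := by
  rw [h.sum, add_assoc, h.two, add_zero]

theorem ne01 : w₀ ≠ w₁ := fun e => h.ne2 (by rw [← h.add1, e, h.two])

theorem ne02 : w₀ ≠ w₂ := fun e => h.ne1 (by rw [← h.add2, e, h.two])

omit h in
/-- the four-group -/
def VR (w₁ w₂ : Y) : AddSubgroup Y := AddSubgroup.zmultiples w₁ ⊔ AddSubgroup.zmultiples w₂

omit h in
theorem w1_mem : w₁ ∈ VR w₁ w₂ := AddSubgroup.mem_sup_left (AddSubgroup.mem_zmultiples _)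

omit h in
theorem w2_mem : w₂ ∈ VR w₁ w₂ := AddSubgroup.mem_sup_right (AddSubgroup.mem_zmultiples _)

theorem w0_mem : w₀ ∈ VR w₁ w₂ := by rw [h.sum]; exact add_mem w1_mem w2_mem

theorem VR_le : VR w₁ w₂ ≤ P := sup_le (AddSubgroup.zmultiples_le_of_mem h.w1P) (AddSubgroup.zmultiples_le_of_mem h.w2P)

theorem mem_VR {x : Y} (hx : x ∈ VR w₁ w₂) : x = 0 ∨ x = w₀ ∨ x = w₁ ∨ x = w₂ := by
  rw [VR, AddSubgroup.mem_sup] at hx
  obtain ⟨y, hy, z, hz, rfl⟩ := hx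
  rw [mem_zm h.two] at hy hz
  rcases hy with rfl | rfl <;> rcases hz with rfl | rfl
  · left; simp
  · right; right; right; simp
  · right; right; left; simp
  · right; left; exact h.sum.symm

theorem orb (r : R) {x : Y} (hx : x = w₀ ∨ x = w₁ ∨ x = w₂) : r • x = w₀ ∨ r • x = w₁ ∨ r • x = w₂ := by
  have h1 : ∃ s : R, s • w₀ = x := by
    rcases hx with rfl | rfl | rfl
    · exact ⟨1, one_smul _ _⟩
    · exact h.tr1
    · exact h.tr2
  obtain ⟨s, rfl⟩ := h1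
  rw [← mul_smul]
  exact h.perm _

theorem VR_inv (r : R) {x : Y} (hx : x ∈ VR w₁ w₂) : r • x ∈ VR w₁ w₂ := by
  rcases h.mem_VR hx with rfl | h1
  · rw [smul_zero]; exact zero_mem _
  · rcases h.orb r h1 with h2 | h2 | h2 <;> rw [h2]
    · exact h.w0_mem
    · exact w1_mem
    · exact w2_mem

theorem K_w0 {k : R} (hk : k ∈ K) : k • w₀ = w₀ := h.Tw k (h.KT hk)

theorem conj_mem {k : R} (hk : k ∈ K) (d : R) : d⁻¹ * k * d ∈ K := by
  have := h.Kn.conj_mem k hk d⁻¹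
  rwa [inv_inv] at this

theorem smul_conj (k d : R) (y : Y) : k • d • y = d • (d⁻¹ * k * d) • y := by
  rw [← mul_smul, ← mul_smul]
  congr 1
  group

theorem K_VR {k : R} (hk : k ∈ K) {x : Y} (hx : x ∈ VR w₁ w₂) : k • x = x := by
  rcases h.mem_VR hx with rfl | h1
  · exact smul_zero _
  · have h1 : ∃ s : R, s • w₀ = x := by
      rcases h1 with rfl | rfl | rfl
      · exact ⟨1, one_smul _ _⟩
      · exact h.tr1
      · exact h.tr2
    obtain ⟨s, rfl⟩ := h1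
    rw [h.smul_conj, h.K_w0 (h.conj_mem hk s)]

theorem K_orb {k : R} (hk : k ∈ K) (d : R) {y : Y} (hy : y ∈ P) :
    k • d • y + d • y ∈ AddSubgroup.zmultiples (d • w₀) := by
  rw [h.smul_conj, ← smul_add]
  have h1 := h.KP _ (h.conj_mem hk d) y hy
  rw [mem_zm h.two] at h1 ⊢
  rcases h1 with h1 | h1 <;> rw [h1]
  · left; exact smul_zero _
  · right; rfl

theorem K_all {k : R} (hk : k ∈ K) (y : Y) : k • y + y ∈ VR w₁ w₂ := by
  have hy : y ∈ AddSubgroup.closure {z : Y | ∃ r : R, ∃ y ∈ P, z = r • y} := by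
    rw [h.span]; trivial
  induction hy using AddSubgroup.closure_induction with
  | mem x hx =>
    obtain ⟨r, y, hy, rfl⟩ := hx
    exact (AddSubgroup.zmultiples_le_of_mem (h.VR_inv r h.w0_mem)) (h.K_orb hk r hy)
  | zero => rw [smul_zero, add_zero]; exact zero_mem _
  | add x y _ _ hx hy =>
    have : k • (x + y) + (x + y) = (k • x + x) + (k • y + y) := by rw [smul_add]; abel
    rw [this]
    exact add_mem hx hy
  | neg x _ hx =>
    have : k • (-x) + (-x) = -(k • x + x) := by rw [smul_neg]; abel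
    rw [this]
    exact neg_mem hx

theorem B_w0 {b : R} (hb : b ∈ B) : b • w₀ = w₀ := h.Tw b (h.BT hb)

theorem swap {c : R} (hc : c ∈ B) (hcK : c ∉ K) : c • w₁ = w₂ ∧ c • w₂ = w₁ := by
  have h1 : c • w₁ = w₂ := by
    rcases h.orb c (Or.inr (Or.inl rfl) : w₁ = w₀ ∨ w₁ = w₁ ∨ w₁ = w₂) with h1 | h1 | h1
    · exact absurd (smul_left_cancel c (h1.trans (h.B_w0 hc).symm)) h.ne01.symm
    · exact absurd (h.BK c hc h1) hcK
    · exact h1
  refine ⟨h1, ?_⟩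
  rw [← h.add1, smul_add, h.B_w0 hc, h1, h.add2]

theorem mem_B1 {b : R} (hb : b ∈ B) : b ∈ B ⊓ K ↔ b • w₁ = w₁ :=
  ⟨fun h1 => h.K_VR h1.2 w1_mem, fun h1 => ⟨hb, h.BK b hb h1⟩⟩

theorem relIndex_B1 : (B ⊓ K).relIndex B = 2 := by
  obtain ⟨c, hc, hcK⟩ := SetLike.not_le_iff_exists.1 h.nle
  obtain ⟨h1, h3⟩ := h.swap hc hcK
  rw [Subgroup.relIndex_eq_two_iff]
  refine ⟨c, hc, fun b hb => ?_⟩
  by_cases hbK : b ∈ K
  · right
    refine ⟨⟨hb, hbK⟩, fun h4 => ?_⟩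
    rw [h.mem_B1 (mul_mem hb hc), mul_smul, h1, h.K_VR hbK w2_mem] at h4
    exact h.ne h4.symm
  · left
    refine ⟨?_, fun h4 => hbK h4.2⟩
    rw [h.mem_B1 (mul_mem hb hc), mul_smul, h1]
    exact (h.swap hb hbK).2

theorem kr_relIndex : (kr R Y).relIndex B = 2 * (kr R Y).relIndex (B ⊓ K) := by
  have := h.finR
  have h1 : kr R Y ⊓ B = kr R Y ⊓ (B ⊓ K) := by
    apply le_antisymm
    · intro x hx
      exact ⟨hx.1, (h.mem_B1 hx.2).2 (hx.1 w₁)⟩
    · exact inf_le_inf_left _ inf_le_left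
  rw [← Subgroup.inf_relIndex_right (kr R Y) B, h1, ← Subgroup.inf_relIndex_right (kr R Y) (B ⊓ K),
    ← Subgroup.relIndex_mul_relIndex _ (B ⊓ K) B inf_le_right inf_le_left, h.relIndex_B1, mul_comm]

/-- `Z_i` -/
def ZZ (_ : Sit T K B P w₀ w₁ w₂) (w : Y) : AddSubgroup Y where
  carrier := {y | ∀ k ∈ B ⊓ K, k • y + y ∈ AddSubgroup.zmultiples w}
  zero_mem' := fun k _ => by rw [smul_zero, add_zero]; exact zero_mem _
  add_mem' := by
    intro x y hx hy k hk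
    have : k • (x + y) + (x + y) = (k • x + x) + (k • y + y) := by rw [smul_add]; abel
    rw [this]
    exact add_mem (hx k hk) (hy k hk)
  neg_mem' := by
    intro x hx k hk
    have : k • (-x) + (-x) = -(k • x + x) := by rw [smul_neg]; abel
    rw [this]
    exact neg_mem (hx k hk)

theorem le_ZZ (w : Y) : fx Y (B ⊓ K) ≤ h.ZZ w := by
  intro y hy k hk
  rw [hy k hk, h.two]
  exact zero_mem _

theorem index_ZZ {w w' : Y} (hw : (w = w₁ ∧ w' = w₂) ∨ (w = w₂ ∧ w' = w₁)) :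
    (kr R Y).relIndex (B ⊓ K) ≤ (h.ZZ w).index := by
  have := h.finR
  have := h.finY
  obtain ⟨c, hc, hcK⟩ := SetLike.not_le_iff_exists.1 h.nle
  have h1 : c • w' = w ∧ w ≠ w' ∧ w ≠ 0 ∧ w' ≠ 0 := by
    rcases hw with ⟨rfl, rfl⟩ | ⟨rfl, rfl⟩
    · exact ⟨(h.swap hc hcK).2, h.ne, h.ne1, h.ne2⟩
    · exact ⟨(h.swap hc hcK).1, h.ne.symm, h.ne2, h.ne1⟩
  obtain ⟨h1, h3, h4, h5⟩ := h1
  apply pair_le (P := VR w₁ w₂) (W := AddSubgroup.zmultiples w) h.two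
  · intro x hx y hy hxW hyW
    rw [mem_zm h.two] at hxW hyW ⊢
    have e1 := h.add1
    have e2 := h.add2
    have e3 := h.sum
    rcases h.mem_VR hx with rfl | rfl | rfl | rfl <;> rcases h.mem_VR hy with rfl | rfl | rfl | rfl <;>
      rcases hw with ⟨rfl, rfl⟩ | ⟨rfl, rfl⟩ <;>
      first
        | exact Or.inl (h.two _)
        | (exfalso; exact hxW (Or.inl rfl))
        | (exfalso; exact hxW (Or.inr rfl))
        | (exfalso; exact hyW (Or.inl rfl))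
        | (exfalso; exact hyW (Or.inr rfl))
        | exact Or.inr e1
        | exact Or.inr e2
        | exact Or.inr ((add_comm _ _).trans e1)
        | exact Or.inr ((add_comm _ _).trans e2)
  · intro b hb y
    exact h.K_all hb.2 y
  · intro b hb x hx
    exact h.K_VR hb.2 hx
  · intro b hb hy y
    have h6 := hy y
    have h7 := hy (c • y)
    have h8 : b • c • y + c • y = c • (b • y + y) := by
      rw [smul_add, ← mul_smul, ← mul_smul, h.comm b hb.1 c hc]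
    rw [h8, mem_zm h.two] at h7
    rw [mem_zm h.two] at h6
    have h9 : b • y + y = 0 := by
      rcases h6 with h6 | h6
      · exact h6
      · rw [h6] at h7
        rcases h7 with h7 | h7
        · exact absurd ((smul_eq_zero_iff_eq c).1 h7) h4
        · exact absurd (smul_left_cancel c (h7.trans h1.symm)) h3
    have h10 : b • y = b • y + y + y := by rw [add_assoc, h.two, add_zero]
    rw [h10, h9, zero_add]
  · intro y hy b hb
    exact hy b hb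

theorem main_index : (∀ w, w = w₁ ∨ w = w₂ → h.ZZ w ≤ fx Y (B ⊓ K)) ∧
    (fx Y B).relIndex (fx Y (B ⊓ K)) = 2 ∧ (kr R Y).relIndex B ≤ (fx Y B).index := by
  have := h.finR
  have := h.finY
  obtain ⟨c, hc, hcK⟩ := SetLike.not_le_iff_exists.1 h.nle
  have hle : fx Y B ≤ fx Y (B ⊓ K) := fun y hy b hb => hy b hb.1
  have h1 : 2 ≤ (fx Y B).relIndex (fx Y (B ⊓ K)) := by
    have p1 : (fx Y B).relIndex (fx Y (B ⊓ K)) ≠ 0 :=
      (AddSubgroup.index_ne_zero_of_finite : ((fx Y B).addSubgroupOf (fx Y (B ⊓ K))).index ≠ 0)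
    have p2 : (fx Y B).relIndex (fx Y (B ⊓ K)) ≠ 1 := by
      intro e
      rw [AddSubgroup.relIndex_eq_one] at e
      have h3 : w₁ ∈ fx Y B := e fun b hb => h.K_VR hb.2 w1_mem
      exact h.ne ((h3 c hc).symm.trans (h.swap hc hcK).1)
    omega
  have h3 := AddSubgroup.relIndex_mul_index hle
  have h4 := h.card
  rw [h.kr_relIndex] at h4
  have key : ∀ w w', (w = w₁ ∧ w' = w₂) ∨ (w = w₂ ∧ w' = w₁) → (fx Y (B ⊓ K)).index ≤ (h.ZZ w).index ∧
      (fx Y B).relIndex (fx Y (B ⊓ K)) ≤ 2 ∧ h.ZZ w ≤ fx Y (B ⊓ K) := by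
    intro w w' hw
    have h5 := h.index_ZZ hw
    have h6 := AddSubgroup.relIndex_mul_index (h.le_ZZ w)
    have p0 : 0 < (fx Y (B ⊓ K)).index := Nat.pos_of_ne_zero AddSubgroup.index_ne_zero_of_finite
    have p1 : 0 < (h.ZZ w).index := Nat.pos_of_ne_zero AddSubgroup.index_ne_zero_of_finite
    have p2 : 0 < (fx Y (B ⊓ K)).relIndex (h.ZZ w) := Nat.pos_of_ne_zero
      (AddSubgroup.index_ne_zero_of_finite : ((fx Y (B ⊓ K)).addSubgroupOf (h.ZZ w)).index ≠ 0)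
    have h7 : (fx Y (B ⊓ K)).index ≤ (h.ZZ w).index := by nlinarith
    have h8 : (h.ZZ w).index ≤ (fx Y (B ⊓ K)).index := by nlinarith
    refine ⟨h7, ?_, ?_⟩
    · have h9 : (fx Y B).relIndex (fx Y (B ⊓ K)) * (fx Y (B ⊓ K)).index ≤ 2 * (fx Y (B ⊓ K)).index := by
        rw [h3]
        exact h4.trans (Nat.mul_le_mul_left _ (h5.trans h8))
      exact Nat.le_of_mul_le_mul_right h9 p0
    · rw [← AddSubgroup.relIndex_eq_one]
      have h9 : (fx Y (B ⊓ K)).relIndex (h.ZZ w) * (h.ZZ w).index ≤ 1 * (h.ZZ w).index := by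
        rw [h6, one_mul]
        exact h7
      have h10 := Nat.le_of_mul_le_mul_right h9 p1
      omega
  have key2 := (key _ _ (Or.inl ⟨rfl, rfl⟩))
  refine ⟨?_, le_antisymm key2.2.1 h1, ?_⟩
  · rintro w (rfl | rfl)
    · exact key2.2.2
    · exact (key _ _ (Or.inr ⟨rfl, rfl⟩)).2.2
  · rw [h.kr_relIndex, ← h3, le_antisymm key2.2.1 h1]
    have h5 := h.index_ZZ (Or.inl ⟨rfl, rfl⟩)
    have h6 : (h.ZZ w₁).index ≤ (fx Y (B ⊓ K)).index := by
      have h7 := AddSubgroup.relIndex_mul_index (h.le_ZZ w₁)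
      have p1 : 0 < (h.ZZ w₁).index := Nat.pos_of_ne_zero AddSubgroup.index_ne_zero_of_finite
      have p2 : 0 < (fx Y (B ⊓ K)).relIndex (h.ZZ w₁) := Nat.pos_of_ne_zero
        (AddSubgroup.index_ne_zero_of_finite : ((fx Y (B ⊓ K)).addSubgroupOf (h.ZZ w₁)).index ≠ 0)
      nlinarith
    exact Nat.mul_le_mul_left _ (h5.trans h6)

theorem orb_mem {d : R} (hd : d • w₀ ≠ w₀) {y : Y} (hy : y ∈ P) : d • y ∈ fx Y (B ⊓ K) := by
  have h1 : d • w₀ = w₁ ∨ d • w₀ = w₂ := (h.perm d).resolve_left hd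
  exact h.main_index.1 _ h1 fun k hk => h.K_orb hk.2 d hy

theorem c_mem {c : R} (hc : c ∈ B) (hcK : c ∉ K) {y : Y} (hy : y ∈ fx Y (B ⊓ K)) : c • y + y ∈ VR w₁ w₂ := by
  by_cases h1 : y ∈ fx Y B
  · rw [h1 c hc, h.two]
    exact zero_mem _
  · have h3 : ((fx Y B).addSubgroupOf (fx Y (B ⊓ K))).index = 2 := h.main_index.2.1
    have hw : w₁ ∈ fx Y (B ⊓ K) := fun b hb => h.K_VR hb.2 w1_mem
    have h4 : w₁ ∉ fx Y B := fun h5 => h.ne ((h5 c hc).symm.trans (h.swap hc hcK).1)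
    have h5 : y + w₁ ∈ fx Y B := by
      have h6 := (AddSubgroup.add_mem_iff_of_index_two h3 (a := ⟨y, hy⟩) (b := ⟨w₁, hw⟩)).2
        ⟨fun h7 => absurd h7 h1, fun h7 => absurd h7 h4⟩
      exact h6
    have h6 := h5 c hc
    rw [smul_add, (h.swap hc hcK).1] at h6
    have h7 : c • y + y = w₁ + w₂ := by
      have h8 : c • y + w₂ + (w₂ + y) = y + w₁ + (w₂ + y) := by rw [h6]
      have h9 : c • y + w₂ + (w₂ + y) = c • y + y := by
        rw [add_assoc, ← add_assoc w₂, h.two, zero_add]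
      have h10 : y + w₁ + (w₂ + y) = w₁ + w₂ + (y + y) := by abel
      rw [h9, h10, h.two, add_zero] at h8
      exact h8
    rw [h7]
    exact add_mem w1_mem w2_mem

/-- **helper347, #22022 (2)**: `P ≤ C_Y(B ⊓ K)`, and some `g` with `g • w₀ ≠ w₀` normalises `P`. -/
theorem main : (∀ y ∈ P, ∀ b ∈ B, b ∈ K → b • y = y) ∧ (∃ g : R, g • w₀ ≠ w₀ ∧ ∀ y ∈ P, g • y + y ∈ P) := by
  obtain ⟨c, hc, hcK⟩ := SetLike.not_le_iff_exists.1 h.nle
  obtain ⟨d, hd⟩ := h.tr1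
  have h1 : d • w₀ ≠ w₀ := by rw [hd]; exact h.ne01.symm
  set g : R := d⁻¹ * c * d with hg
  have h4 : ∀ y ∈ P, g • y + y ∈ VR w₁ w₂ := by
    intro y hy
    have h5 := h.VR_inv d⁻¹ (h.c_mem hc hcK (h.orb_mem h1 hy))
    rw [smul_add, ← mul_smul, ← mul_smul, inv_smul_smul] at h5
    exact h5
  have h5 : g • w₀ ≠ w₀ := by
    intro e
    rw [hg, mul_smul, mul_smul, hd, inv_smul_eq_iff, hd] at e
    exact h.ne (e.symm.trans (h.swap hc hcK).1)
  refine ⟨fun y hy b hb hbK => ?_, g, h5, fun y hy => h.VR_le (h4 y hy)⟩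
  have h6 := h.orb_mem h5 hy
  have h7 : y ∈ fx Y (B ⊓ K) := by
    have h8 : y = g • y + (g • y + y) := by rw [← add_assoc, h.two, zero_add]
    rw [h8]
    exact add_mem h6 fun b hb => h.K_VR hb.2 (h4 y hy)
  exact h7 b ⟨hb, hbK⟩

end Sit

end Cfsg.Agent.Omega.NO3S.SN2.BpAbs
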