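import Cfsg.Agent.Omega.S5.Def

/-!
# SN.Two, `alt` of THEOREM (b') over `F₂ⁿ / 1`

`v ∉ V_ij` and `v ^ (g²) ∈ {v, v x_ij}` for elements `g` inducing the 3-cycles of the letters `≠ i, j`: `v = z_i` or `z_j`.
-/

set_option autoImplicit false
set_option linter.unusedSectionVars false

namespace Cfsg.Agent.Omega.NO3S.SN2

open Subgroup Cfsg.Agent.Omega.S5.Def

universe u

variable {G : Type u} [Group G]

theorem form_of_const {n : ℕ} {V L : Subgroup G} {ε : (Fin n → ZMod 2) → G} (hE : EvenSet n V L ε) (hn : 5 ≤ n)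
    {i j : Fin n} {d : Fin n → ZMod 2} (hdij : d i ≠ d j)
    (hcon : ∀ k l : Fin n, k ≠ i → k ≠ j → l ≠ i → l ≠ j → d k = d l) :
    ε d = ε (Pi.single i 1) ∨ ε d = ε (Pi.single j 1) := by
  classical
  have h7 : ∃ p : Fin n, p ≠ i ∧ p ≠ j := by
    by_contra hcon
    push Not at hcon
    have h8 : (Finset.univ : Finset (Fin n)) ⊆ {i, j} := by
      intro p _
      simp only [Finset.mem_insert, Finset.mem_singleton]
      by_contra h9
      push Not at h9
      exact h9.2 (hcon p h9.1)
    have h9 := Finset.card_le_card h8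
    rw [Finset.card_univ, Fintype.card_fin] at h9
    have h10 := h9.trans Finset.card_le_two
    omega
  obtain ⟨p, hpi, hpj⟩ := h7
  have hp : ∀ q : Fin n, q ≠ i → q ≠ j → d q = d p := fun q hq hq' => hcon q p hq hq' hpi hpj
  have h01 : ∀ y : ZMod 2, y = 0 ∨ y = 1 := by decide
  have key : ∀ d' : Fin n → ZMod 2, (∀ q : Fin n, q ≠ i → q ≠ j → d' q = 0) → d' i ≠ d' j →
      d' = Pi.single i 1 ∨ d' = Pi.single j 1 := by
    intro d' h0 hd'
    rcases h01 (d' i) with h1 | h1
    · right
      have h2 : d' j = 1 := (h01 (d' j)).resolve_left fun h3 => hd' (h1.trans h3.symm)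
      funext q
      by_cases hqj : q = j
      · subst hqj; rw [Pi.single_eq_same, h2]
      · rw [Pi.single_eq_of_ne hqj]
        by_cases hqi : q = i
        · subst hqi; exact h1
        · exact h0 q hqi hqj
    · left
      have h2 : d' j = 0 := (h01 (d' j)).resolve_right fun h3 => hd' (h1.trans h3.symm)
      funext q
      by_cases hqi : q = i
      · subst hqi; rw [Pi.single_eq_same, h1]
      · rw [Pi.single_eq_of_ne hqi]
        by_cases hqj : q = j
        · subst hqj; exact h2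
        · exact h0 q hqi hqj
  rcases h01 (d p) with h1 | h1
  · rcases key d (fun q hq hq' => (hp q hq hq').trans h1) hdij with h2 | h2
    · left; rw [h2]
    · right; rw [h2]
  · have h3 : ε (d + 1) = ε d := by
      rw [hE.add, (hE.ker 1).2 (Or.inr rfl), mul_one]
    have h4 : ∀ q : Fin n, q ≠ i → q ≠ j → (d + 1) q = 0 := by
      intro q hq hq'
      rw [Pi.add_apply, hp q hq hq', h1, Pi.one_apply, CharTwo.add_self_eq_zero]
    have h5 : (d + 1) i ≠ (d + 1) j := by
      rw [Pi.add_apply, Pi.add_apply]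
      intro h6
      exact hdij (add_right_cancel h6)
    rcases key (d + 1) h4 h5 with h2 | h2
    · left; rw [← h3, h2]
    · right; rw [← h3, h2]

/-- the hypothesis `alt` of `second_layer` -/
theorem alt_of_evenSet {n : ℕ} {V L : Subgroup G} {ε : (Fin n → ZMod 2) → G} (hE : EvenSet n V L ε) (hn : 5 ≤ n)
    {i j : Fin n} (hij : i ≠ j) {D : Subgroup G} (hD : ∀ d : Fin n → ZMod 2, d i = d j → ε d ∈ D) {Pn : Set G}
    (h3 : ∀ k l m : Fin n, k ≠ i → k ≠ j → l ≠ i → l ≠ j → m ≠ i → m ≠ j → k ≠ l → l ≠ m → k ≠ m →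
      ∃ g ∈ Pn, Acts ε g (Equiv.swap k l * Equiv.swap l m))
    {v : G} (hv : v ∈ V) (hvD : v ∉ D)
    (hinv : ∀ g ∈ Pn, (g * g) * v * (g * g)⁻¹ = v ∨
      (g * g) * v * (g * g)⁻¹ = v * ε (Pi.single i 1 + Pi.single j 1)) :
    v = ε (Pi.single i 1) ∨ v = ε (Pi.single j 1) := by
  classical
  obtain ⟨d, rfl⟩ := hE.surj v hv
  have hdij : d i ≠ d j := fun e => hvD (hD d e)
  refine form_of_const hE hn hdij fun k l hki hkj hli hlj => ?_
  by_cases hkl : k = l
  · rw [hkl]
  have h7 : ∃ m : Fin n, m ≠ i ∧ m ≠ j ∧ m ≠ k ∧ m ≠ l := by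
    by_contra hcon
    push Not at hcon
    have h8 : (Finset.univ : Finset (Fin n)) ⊆ {i, j, k, l} := by
      intro p _
      simp only [Finset.mem_insert, Finset.mem_singleton]
      by_contra h9
      push Not at h9
      exact h9.2.2.2 (hcon p h9.1 h9.2.1 h9.2.2.1)
    have h9 := Finset.card_le_card h8
    rw [Finset.card_univ, Fintype.card_fin] at h9
    have h10 := h9.trans Finset.card_le_four
    omega
  obtain ⟨m, hmi, hmj, hmk, hml⟩ := h7
  obtain ⟨g, hg, hact⟩ := h3 k l m hki hkj hli hlj hmi hmj hkl (Ne.symm hml) (Ne.symm hmk)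
  set σ : Equiv.Perm (Fin n) := Equiv.swap k l * Equiv.swap l m with hσ
  set d' : Fin n → ZMod 2 := (d ∘ σ.symm) ∘ σ.symm with hd'
  have hg2 : (g * g) * ε d * (g * g)⁻¹ = ε d' := by
    have e1 : (g * g) * ε d * (g * g)⁻¹ = g * (g * ε d * g⁻¹) * g⁻¹ := by group
    rw [e1, hact, hact]
  have hs : ∀ p q : Fin n, σ q = p → σ.symm p = q := fun p q e => by rw [← e, Equiv.symm_apply_apply]
  have sk : σ k = l := by
    rw [hσ, Equiv.Perm.mul_apply, Equiv.swap_apply_of_ne_of_ne hkl (Ne.symm hmk), Equiv.swap_apply_left]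
  have sl : σ l = m := by
    rw [hσ, Equiv.Perm.mul_apply, Equiv.swap_apply_left, Equiv.swap_apply_of_ne_of_ne hmk hml]
  have sm : σ m = k := by
    rw [hσ, Equiv.Perm.mul_apply, Equiv.swap_apply_right, Equiv.swap_apply_right]
  have si : σ i = i := by
    rw [hσ, Equiv.Perm.mul_apply, Equiv.swap_apply_of_ne_of_ne hli.symm hmi.symm,
      Equiv.swap_apply_of_ne_of_ne hki.symm hli.symm]
  have dk : d' k = d l := by
    change d (σ.symm (σ.symm k)) = d l
    rw [hs k m sm, hs m l sl]
  have dl : d' l = d m := by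
    change d (σ.symm (σ.symm l)) = d m
    rw [hs l k sk, hs k m sm]
  have dm : d' m = d k := by
    change d (σ.symm (σ.symm m)) = d k
    rw [hs m l sl, hs l k sk]
  have di : d' i = d i := by
    change d (σ.symm (σ.symm i)) = d i
    rw [hs i i si, hs i i si]
  have hsq : ∀ e : Fin n → ZMod 2, ε e * ε e = 1 := fun e => by
    rw [← hE.add, add_self, hE.ker]; left; rfl
  rcases hinv g hg with h1 | h1
  · rw [hg2] at h1
    have h2 : ε (d' + d) = 1 := by rw [hE.add, h1, hsq]
    rcases (hE.ker _).1 h2 with h4 | h4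
    · have h5 := congrFun h4 k
      rw [Pi.add_apply, dk, Pi.zero_apply] at h5
      exact (CharTwo.add_eq_zero.1 h5).symm
    · have h5 := congrFun h4 i
      rw [Pi.add_apply, di, CharTwo.add_self_eq_zero] at h5
      exact absurd h5 zero_ne_one
  · exfalso
    rw [hg2, ← hE.add] at h1
    set s : Fin n → ZMod 2 := Pi.single i 1 + Pi.single j 1 with hsdef
    have h2 : ε (d' + (d + s)) = 1 := by rw [hE.add, h1, hsq]
    have s0 : ∀ p : Fin n, p ≠ i → p ≠ j → s p = 0 := by
      intro p hp hp'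
      rw [hsdef, Pi.add_apply, Pi.single_eq_of_ne hp, Pi.single_eq_of_ne hp', add_zero]
    have s1 : s i = 1 := by
      rw [hsdef, Pi.add_apply, Pi.single_eq_same, Pi.single_eq_of_ne hij, add_zero]
    rcases (hE.ker _).1 h2 with h4 | h4
    · have h5 := congrFun h4 i
      rw [Pi.add_apply, Pi.add_apply, di, s1, ← add_assoc, CharTwo.add_self_eq_zero, zero_add] at h5
      exact one_ne_zero h5
    · have e1 := congrFun h4 k
      have e2 := congrFun h4 l
      have e3 := congrFun h4 m
      rw [Pi.add_apply, Pi.add_apply, dk, s0 k hki hkj, add_zero] at e1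
      rw [Pi.add_apply, Pi.add_apply, dl, s0 l hli hlj, add_zero] at e2
      rw [Pi.add_apply, Pi.add_apply, dm, s0 m hmi hmj, add_zero] at e3
      have : ∀ p q r : ZMod 2, q + p = 1 → r + q = 1 → p + r = 1 → False := by decide
      exact this _ _ _ e1 e2 e3

end Cfsg.Agent.Omega.NO3S.SN2
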