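import Cfsg.Agent.Omega.NO3S.SN2.Uniq
import Cfsg.Agent.Omega.NO3S.SN2.BpAbs

/-!
# (b') of SN.Two (helper347, #22022): the second layer, base

`Bq` : `Box` + `Par` + `C_T(V) ≤ Q` + the vector `z = z₂` (`Z = {1, x, z, x z}`, `a` fixes `z`).  `SQ`, `NN` : the lines
`V ^ y` with `[V ^ y, Q] ≤ V` and the group `N` they generate.  `C1 = ker f₁₂`; exactness holds for `C1`.
-/

set_option autoImplicit false
set_option linter.unusedSectionVars false

namespace Cfsg.Agent.Omega.NO3S.SN2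

open Subgroup

universe u

variable {G : Type u} [Group G]

/-- `[b, e] = b e b⁻¹ e⁻¹` -/
local notation "κ(" b "," e ")" => b * e * b⁻¹ * e⁻¹

theorem comm_mul_left {b b' e : G} (h : b * κ(b', e) = κ(b', e) * b) : κ((b * b'), e) = κ(b', e) * κ(b, e) := by
  have h4 : b * κ(b', e) * b⁻¹ = κ(b', e) := by rw [h, mul_inv_cancel_right]
  calc κ((b * b'), e) = (b * κ(b', e) * b⁻¹) * κ(b, e) := by group
    _ = _ := by rw [h4]

theorem conj_comm_a {a b : G} (h : a * b = b * a) (e : G) : κ(b, (a * e * a⁻¹)) = a * κ(b, e) * a⁻¹ := by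
  have h3 : a⁻¹ * b⁻¹ = b⁻¹ * a⁻¹ := by rw [← mul_inv_rev, ← mul_inv_rev, h]
  calc b * (a * e * a⁻¹) * b⁻¹ * (a * e * a⁻¹)⁻¹ = (b * a) * e * (a⁻¹ * b⁻¹) * a * e⁻¹ * a⁻¹ := by group
    _ = (a * b) * e * (b⁻¹ * a⁻¹) * a * e⁻¹ * a⁻¹ := by rw [h3, h]
    _ = _ := by group

/-- the conjugators of the second layer -/
def SQ (V D Q : Subgroup G) : Set G := {y | y ∈ centralizer (D : Set G) ∧ ∀ v ∈ V, ∀ q ∈ Q, κ(q, (y * v * y⁻¹)) ∈ V}

/-- the second layer -/
def NN (V D Q : Subgroup G) : Subgroup G := cz (SQ V D Q) V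

theorem cz_conj {S S' : Set G} {V : Subgroup G} {r : G} (hr : ∀ s ∈ S, ∀ v ∈ V, r * (s * v * s⁻¹) * r⁻¹ ∈ cz S' V) :
    ∀ e ∈ cz S V, r * e * r⁻¹ ∈ cz S' V := by
  intro e he
  have h1 : cz S V ≤ (cz S' V).comap (MulAut.conj r).toMonoidHom := by
    conv_lhs => rw [cz]
    rw [Subgroup.closure_le]
    rintro _ ⟨y, hy, v, hv, rfl⟩
    exact hr y hy v hv
  exact h1 he

/-- The situation. -/
structure Bq (V D T Q B U : Subgroup G) (a x z : G) (R W K Z : Subgroup G) : Prop where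
  box : Box V D T Q B U a x
  par : Par V D T Q a x R W K Z
  TQ : ∀ t ∈ T, (∀ v ∈ V, t * v = v * t) → t ∈ Q
  zZ : z ∈ Z
  zD : z ∉ D
  az : a * z * a⁻¹ = z

namespace Bq

variable {V D T Q B U R W K Z : Subgroup G} {a x z : G} (h : Bq V D T Q B U a x z R W K Z)
include h

theorem sqV {v : G} (hv : v ∈ V) : v * v = 1 := h.box.sq v (h.box.V_le_U hv)

theorem invV {v : G} (hv : v ∈ V) : v⁻¹ = v := inv_eq_of_mul_eq_one_left (h.sqV hv)

theorem zV : z ∈ V := h.par.ZV h.zZ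

theorem xV : x ∈ V := h.box.DV h.box.xD

theorem z_mul : z * z = 1 := h.sqV h.zV

theorem cV {v w : G} (hv : v ∈ V) (hw : w ∈ V) : v * w = w * v := h.box.comm_U (h.box.V_le_U hv) (h.box.V_le_U hw)

theorem mem_Z {y : G} (hy : y ∈ Z) : y = 1 ∨ y = x ∨ y = z ∨ y = x * z := by
  by_cases hyD : y ∈ D
  · rcases h.par.ZD y hy hyD with h1 | h1
    · exact Or.inl h1
    · exact Or.inr (Or.inl h1)
  · right; right
    have h1 := h.box.idx y (h.par.ZV hy) z h.zV hyD h.zD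
    have h2 : y = (y * z) * z := by rw [mul_assoc, h.z_mul, mul_one]
    rcases h.par.ZD _ (mul_mem hy h.zZ) h1 with h3 | h3
    · left; rw [h2, h3, one_mul]
    · right; rw [h2, h3]

theorem x1 : x ≠ 1 := by
  rintro rfl
  exact h.box.ax (by group)

theorem z1 : z ≠ 1 := by
  rintro rfl
  exact h.zD (one_mem _)

theorem xz_x : x * z ≠ x := fun e => h.z1 (mul_eq_left.1 e)

theorem xa_not : a * x * a⁻¹ ∉ Z := by
  intro h1
  obtain ⟨y, hy, hay⟩ := h.par.aZ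
  apply hay
  rcases h.mem_Z hy with rfl | rfl | rfl | rfl
  · rw [mul_one, mul_inv_cancel]; exact one_mem _
  · exact h1
  · rw [h.az]; exact h.zZ
  · have e : a * (x * z) * a⁻¹ = (a * x * a⁻¹) * (a * z * a⁻¹) := by group
    rw [e, h.az]
    exact mul_mem h1 h.zZ

/-- `Z ⊓ Z ^ a = {1, z}` -/
theorem Z_inf {y y' : G} (hy : y ∈ Z) (hy' : y' ∈ Z) (e : y = a * y' * a⁻¹) : y = 1 ∨ y = z := by
  have e2 : a * (x * z) * a⁻¹ = (a * x * a⁻¹) * (a * z * a⁻¹) := by group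
  rcases h.mem_Z hy' with rfl | rfl | rfl | rfl
  · left; rw [e]; group
  · exact absurd (e ▸ hy) h.xa_not
  · right; rw [e, h.az]
  · exfalso
    apply h.xa_not
    have h1 : a * x * a⁻¹ = y * z := by rw [e, e2, h.az, mul_assoc (a * x * a⁻¹), h.z_mul, mul_one]
    rw [h1]
    exact mul_mem hy h.zZ

theorem exu : ∃ u ∈ W, u ∉ V := SetLike.not_le_iff_exists.1 h.par.ne

theorem exv : ∃ v ∈ V, v ∉ D := ⟨z, h.zV, h.zD⟩

theorem Tx {t : G} (ht : t ∈ T) {d : G} (hd : d ∈ D) : t * d = d * t := (mem_centralizer_iff.1 (h.box.Tc ht) d hd).symm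

/-- `T` normalises `Q` -/
theorem TnQ {t q : G} (ht : t ∈ T) (hq : q ∈ Q) : t * q * t⁻¹ ∈ Q := by
  refine h.TQ _ (mul_mem (mul_mem ht (h.box.QT hq)) (inv_mem ht)) fun v hv => ?_
  have h1 : t⁻¹ * v * t ∈ V := by
    have := h.box.TV t⁻¹ (inv_mem ht) v hv
    rwa [inv_inv] at this
  have h2 := h.box.Qc q hq _ h1
  calc t * q * t⁻¹ * v = t * (q * (t⁻¹ * v * t)) * t⁻¹ := by group
    _ = t * ((t⁻¹ * v * t) * q) * t⁻¹ := by rw [h2]
    _ = _ := by group

/-- the functional `f₁₂` -/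
theorem comm_ua {u b : G} (hu : u ∈ W) (hb : b ∈ B) :
    κ(b, (u * (a * u * a⁻¹))) = κ(b, u) * (a * κ(b, u) * a⁻¹) := by
  have h1 := h.par.ZV (h.par.Zc b (h.box.BQ hb) u hu)
  have h2 := conj_comm_a (h.box.aB b hb) u
  rw [comm_mul, h2]
  rw [h2]
  exact h.box.comm_U (h.par.W_le_U h.box hu) (h.box.V_le_U (h.box.aV _ h1))

theorem f12_iff {u b : G} (hu : u ∈ W) (hb : b ∈ B) :
    b * (u * (a * u * a⁻¹)) = (u * (a * u * a⁻¹)) * b ↔ κ(b, u) = 1 ∨ κ(b, u) = z := by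
  rw [← comm_iff, h.comm_ua hu hb]
  have e2 : a * (x * z) * a⁻¹ = (a * x * a⁻¹) * (a * z * a⁻¹) := by group
  have hx : x * (a * x * a⁻¹) ≠ 1 := by
    intro e
    apply h.box.ax
    rw [← inv_eq_of_mul_eq_one_right e, h.box.x_inv]
  rcases h.mem_Z (h.par.Zc b (h.box.BQ hb) u hu) with h1 | h1 | h1 | h1 <;> rw [h1]
  · refine ⟨fun _ => Or.inl rfl, fun _ => by group⟩
  · refine ⟨fun e => absurd e hx, ?_⟩
    rintro (e | e)
    · exact absurd e h.x1
    · exact absurd (e ▸ h.box.xD) h.zD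
  · refine ⟨fun _ => Or.inr rfl, fun _ => by rw [h.az, h.z_mul]⟩
  · have e3 : x * z * (a * (x * z) * a⁻¹) = x * (a * x * a⁻¹) := by
      rw [e2, h.az]
      have h3 : z * ((a * x * a⁻¹) * z) = a * x * a⁻¹ := by
        rw [h.cV (h.box.aV _ h.xV) h.zV, ← mul_assoc, h.z_mul, one_mul]
      rw [mul_assoc, h3]
    refine ⟨fun e => absurd (e3 ▸ e) hx, ?_⟩
    rintro (e | e)
    · exact absurd (by have := h.box.DV h.box.xD; exact
        (show z ∈ D by
          have h5 : z = x * (x * z) := by rw [← mul_assoc, h.box.x_mul, one_mul]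
          rw [h5, e, mul_one]; exact h.box.xD)) h.zD
    · exact absurd (mul_eq_right.1 e) h.x1

omit h in
/-- `ker f₁₂` -/
def C1 (_ : Bq V D T Q B U a x z R W K Z) (u : G) : Subgroup G := B ⊓ centralizer ({u * (a * u * a⁻¹)} : Set G)

theorem C1_le {u : G} : h.C1 u ≤ B := inf_le_left

theorem mem_C1 {u b : G} : b ∈ h.C1 u ↔ b ∈ B ∧ b * (u * (a * u * a⁻¹)) = (u * (a * u * a⁻¹)) * b := by
  constructor
  · rintro ⟨h1, h2⟩
    exact ⟨h1, (mem_centralizer_iff.1 h2 _ rfl).symm⟩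
  · rintro ⟨h1, h2⟩
    refine ⟨h1, mem_centralizer_iff.2 ?_⟩
    rintro _ rfl
    exact h2.symm

/-- exactness for `C1` -/
theorem exC1 [Finite G] {u : G} (hu : u ∈ W) {E : Subgroup G} (hWE : W ≤ E) (hEU : E ≤ U)
    (hBE : ∀ b ∈ B, ∀ e ∈ E, b * e * b⁻¹ ∈ E) (haE : ∀ e ∈ E, a * e * a⁻¹ ∈ E) :
    Nat.card E * Nat.card ↥(h.C1 u ⊓ centralizer (E : Set G)) ≤
      Nat.card (h.C1 u) * Nat.card ↥(E ⊓ centralizer (h.C1 u : Set G)) := by
  have hex := h.box.ex E (h.par.V_le_W.trans hWE) hEU hBE haE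
  set w := u * (a * u * a⁻¹) with hw
  have hwE : w ∈ E := mul_mem (hWE hu) (haE u (hWE hu))
  have e1 : h.C1 u ⊓ centralizer (E : Set G) = B ⊓ centralizer (E : Set G) := by
    apply le_antisymm
    · exact inf_le_inf_right _ h.C1_le
    · intro b hb
      have h1 := mem_centralizer_iff.1 hb.2
      refine ⟨h.mem_C1.2 ⟨hb.1, ?_⟩, hb.2⟩
      exact (h1 w hwE).symm
  rw [e1]
  by_cases hall : ∀ b ∈ B, b * w = w * b
  · have e2 : h.C1 u = B := le_antisymm h.C1_le fun b hb => h.mem_C1.2 ⟨hb, hall b hb⟩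
    rw [e2]
    exact hex
  · push Not at hall
    obtain ⟨b₀, hb₀, hb₀w⟩ := hall
    have hval : ∀ b ∈ B, b ∉ h.C1 u → κ(b, w) = x * (a * x * a⁻¹) := by
      intro b hb hbC
      have h1 : ¬ (κ(b, u) = 1 ∨ κ(b, u) = z) := fun h2 => hbC (h.mem_C1.2 ⟨hb, (h.f12_iff hu hb).2 h2⟩)
      push Not at h1
      rw [hw, h.comm_ua hu hb]
      rcases h.mem_Z (h.par.Zc b (h.box.BQ hb) u hu) with h2 | h2 | h2 | h2
      · exact absurd h2 h1.1
      · rw [h2]
      · exact absurd h2 h1.2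
      · rw [h2]
        have e2 : a * (x * z) * a⁻¹ = (a * x * a⁻¹) * (a * z * a⁻¹) := by group
        rw [e2, h.az]
        have h3 : z * ((a * x * a⁻¹) * z) = a * x * a⁻¹ := by
          rw [h.cV (h.box.aV _ h.xV) h.zV, ← mul_assoc, h.z_mul, one_mul]
        rw [mul_assoc, h3]
    have hyV : x * (a * x * a⁻¹) ∈ V := mul_mem h.xV (h.box.aV _ h.xV)
    have hb₀C : b₀ ∉ h.C1 u := fun h1 => hb₀w (h.mem_C1.1 h1).2
    have hrel : (h.C1 u).relIndex B = 2 := by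
      rw [Subgroup.relIndex_eq_two_iff]
      refine ⟨b₀, hb₀, fun b hb => ?_⟩
      by_cases hbC : b ∈ h.C1 u
      · right
        refine ⟨hbC, fun h4 => hb₀C ?_⟩
        have := mul_mem (inv_mem hbC) h4
        rwa [inv_mul_cancel_left] at this
      · left
        refine ⟨?_, hbC⟩
        refine h.mem_C1.2 ⟨mul_mem hb hb₀, comm_iff.1 ?_⟩
        have h1 := hval b hb hbC
        have h2 := hval b₀ hb₀ hb₀C
        rw [comm_mul_left, h1, h2, h.sqV hyV]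
        rw [h2]
        exact h.box.Qc b (h.box.BQ hb) _ hyV
    have hBc : Nat.card B = 2 * Nat.card (h.C1 u) := by
      have := Cfsg.Agent.ZN.Block.card_mul_relIndex' (h.C1_le (u := u))
      rw [hrel] at this
      omega
    have hrel2 : 2 ≤ (E ⊓ centralizer (B : Set G)).relIndex (E ⊓ centralizer (h.C1 u : Set G)) := by
      have p1 : (E ⊓ centralizer (B : Set G)).relIndex (E ⊓ centralizer (h.C1 u : Set G)) ≠ 0 :=
        (Subgroup.index_ne_zero_of_finite :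
          ((E ⊓ centralizer (B : Set G)).subgroupOf (E ⊓ centralizer (h.C1 u : Set G))).index ≠ 0)
      have p2 : (E ⊓ centralizer (B : Set G)).relIndex (E ⊓ centralizer (h.C1 u : Set G)) ≠ 1 := by
        intro e
        rw [Subgroup.relIndex_eq_one] at e
        have h1 : w ∈ E ⊓ centralizer (h.C1 u : Set G) :=
          ⟨hwE, mem_centralizer_iff.2 fun b hb => (h.mem_C1.1 hb).2⟩
        exact hb₀w (mem_centralizer_iff.1 (e h1).2 b₀ hb₀)
      omega
    have hle : E ⊓ centralizer (B : Set G) ≤ E ⊓ centralizer (h.C1 u : Set G) :=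
      inf_le_inf_left _ (centralizer_le h.C1_le)
    have h5 := Cfsg.Agent.ZN.Block.card_mul_relIndex' hle
    have h6 : 2 * Nat.card ↥(E ⊓ centralizer (B : Set G)) ≤ Nat.card ↥(E ⊓ centralizer (h.C1 u : Set G)) := by
      rw [← h5, mul_comm]
      exact Nat.mul_le_mul_left _ hrel2
    calc _ ≤ Nat.card B * Nat.card ↥(E ⊓ centralizer (B : Set G)) := hex
      _ = Nat.card (h.C1 u) * (2 * Nat.card ↥(E ⊓ centralizer (B : Set G))) := by rw [hBc]; ring
      _ ≤ _ := Nat.mul_le_mul_left _ h6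

end Bq

end Cfsg.Agent.Omega.NO3S.SN2
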