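import Cfsg.Agent.Omega.NO3S.SN2.BpTwo

/-!
# THEOREM (b') of SN.Two (helper347, #22022): the second layer is `W₁₂`

* `Bq.full` : exactness for `N N ^ a` : the functionals `f₂` on `N / V` are independent of each other and of the `f₁`.
* **`second_layer`** : every `y ∈ X₁₂` with `[V ^ y, Q] ≤ V` has `V ^ y ≤ W₁₂`; so `W₁₂` depends on `Q` only.
-/

set_option autoImplicit false
set_option linter.unusedSectionVars false

namespace Cfsg.Agent.Omega.NO3S.SN2

open Subgroup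

universe u

variable {G : Type u} [Group G]

/-- `[b, e] = b e b⁻¹ e⁻¹` -/
local notation "κ(" b "," e ")" => b * e * b⁻¹ * e⁻¹

/-- `Par` for the smaller group `R ⊓ N(N)` -/
theorem Par.shrink {V D T Q R W K Z : Subgroup G} {a x : G} (p : Par V D T Q a x R W K Z)
    {R' : Subgroup G} (hR : R' ≤ R) (hT : T ≤ R') (hg : ∃ g ∈ R', ∃ v ∈ V, g * v * g⁻¹ ∉ V) :
    Par V D T Q a x R' W K Z where
  TR := hT
  RX := fun r hr => p.RX (hR hr)
  W_eq := by
    apply le_antisymm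
    · obtain ⟨g, hg, v, hv, hgv⟩ := hg
      have h1 : V ≤ cz (R' : Set G) V := fun v hv => by
        have := mem_cz (S := (R' : Set G)) (one_mem R') hv
        simpa using this
      have h2 : g * v * g⁻¹ ∈ cz (R' : Set G) V := mem_cz (S := (R' : Set G)) hg hv
      have h3 : g * v * g⁻¹ ∈ W := p.W_inv (hR hg) (p.V_le_W hv)
      intro w hw
      by_cases hwV : w ∈ V
      · exact h1 hwV
      · have h4 := h1 (p.idx w hw _ h3 hwV hgv)
        have h5 := mul_mem h4 (inv_mem h2)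
        rwa [mul_inv_cancel_right] at h5
    · rw [p.W_eq, cz, Subgroup.closure_le]
      rintro _ ⟨y, hy, v, hv, rfl⟩
      exact mem_cz (S := (R : Set G)) (hR hy) hv
  idx := p.idx
  ne := p.ne
  KT := p.KT
  Kn := fun r hr => p.Kn r (hR hr)
  memK := p.memK
  Kc := p.Kc
  ZV := p.ZV
  xZ := p.xZ
  ZD := p.ZD
  Zc := p.Zc
  full := p.full
  aZ := p.aZ

namespace Bq

variable {V D T Q B U R W K Z : Subgroup G} {a x z : G} (h : Bq V D T Q B U a x z R W K Z)
include h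

theorem ainv (e : G) : a * (a * e * a⁻¹) * a⁻¹ = e := by
  have h4 : a⁻¹ = a := inv_eq_of_mul_eq_one_left h.box.aa
  calc a * (a * e * a⁻¹) * a⁻¹ = (a * a) * e * (a⁻¹ * a⁻¹) := by group
    _ = e := by rw [h4, h.box.aa, one_mul, mul_one]

theorem val_mul {α β : G} (hα : α = 1 ∨ α = z) (hβ : β = 1 ∨ β = z) : α * β = 1 ∨ α * β = z := by
  rcases hα with rfl | rfl <;> rcases hβ with rfl | rfl
  · left; exact mul_one _
  · right; exact one_mul _
  · right; exact mul_one _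
  · left; exact h.z_mul

/-- `Z = ⟨z⟩ ∪ x ⟨z⟩` -/
theorem Z_mul {α β : G} (hα : α ∈ Z) (hβ : β ∈ Z) (hα' : ¬ (α = 1 ∨ α = z)) (hβ' : ¬ (β = 1 ∨ β = z)) :
    α * β = 1 ∨ α * β = z := by
  push Not at hα' hβ'
  have hxz : x * z = z * x := h.cV h.xV h.zV
  rcases h.mem_Z hα with h1 | h1 | h1 | h1
  · exact absurd h1 hα'.1
  · rcases h.mem_Z hβ with h2 | h2 | h2 | h2
    · exact absurd h2 hβ'.1
    · left; rw [h1, h2]; exact h.box.x_mul
    · exact absurd h2 hβ'.2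
    · right; rw [h1, h2, ← mul_assoc, h.box.x_mul, one_mul]
  · exact absurd h1 hα'.2
  · rcases h.mem_Z hβ with h2 | h2 | h2 | h2
    · exact absurd h2 hβ'.1
    · right; rw [h1, h2, hxz, mul_assoc, h.box.x_mul, mul_one]
    · exact absurd h2 hβ'.2
    · left
      rw [h1, h2]
      exact h.sqV (mul_mem h.xV h.zV)

/-- exactness for `N N ^ a` -/
theorem full [Finite G] {u n : G} (hu : u ∈ W) (huV : u ∉ V) (hn : n ∈ NN V D Q) (hnW : n ∉ W)
    (hidx : ∀ n ∈ NN V D Q, ∀ n' ∈ NN V D Q, n ∉ W → n' ∉ W → n * n' ∈ W)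
    (hZ : ∀ m ∈ NN V D Q, ∀ q ∈ Q, κ(q, m) ∈ Z) {α β : G} (hα : α = 1 ∨ α = z) (hβ : β = 1 ∨ β = z) :
    ∃ b ∈ B, κ(b, u) = α ∧ κ(b, n) = β := by
  classical
  set N := NN V D Q with hNdef
  have hWN : W ≤ N := h.W_NN
  have hVN : V ≤ N := h.VW.trans hWN
  have hNU : N ≤ U := h.NN_U
  have hBN : ∀ b ∈ B, ∀ e ∈ N, b * e * b⁻¹ ∈ N := fun b hb => h.NN_T (h.box.QT (h.box.BQ hb))
  obtain ⟨k1, k2, k3, k4⟩ := h.box.XX_ok hVN hNU h.NN_a hBN
  set E := N ⊔ cj a N with hE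
  have hcjU : cj a N ≤ U := le_sup_right.trans k2
  have hVcj : V ≤ cj a N := fun v hv => mem_cj.2 ⟨a * v * a⁻¹, hVN (h.box.aV _ hv), (h.ainv v).symm⟩
  have hcN : Nat.card N = 4 * Nat.card V := by
    have h1 := card_two hWN (fun v hv w hw => hidx v hv w hw) (fun h1 => hnW (h1 hn))
    rw [h1, h.card_W]
    ring
  have hQa : ∀ q ∈ Q, a⁻¹ * q * a ∈ Q := by
    intro q hq
    have h4 : a⁻¹ = a := inv_eq_of_mul_eq_one_left h.box.aa
    have := h.box.aQ q hq
    rwa [h4] at this ⊢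
  -- `N ⊓ N ^ a = V`
  have hint : N ⊓ cj a N ≤ V := by
    rintro m ⟨hm, hm'⟩
    obtain ⟨m', hm'N, he⟩ := mem_cj.1 hm'
    have hval : ∀ q ∈ Q, κ(q, m) = 1 ∨ κ(q, m) = z := by
      intro q hq
      refine h.Z_inf (hZ m hm q hq) (hZ m' hm'N _ (hQa q hq)) ?_
      rw [he]
      group
    refine h.box.lemQ m (h.NN_Q hm) (h.sqU (hNU hm)) (fun q hq => h.par.ZV (hZ m hm q hq)) fun q hq q' hq' => ?_
    rcases hval q hq with h1 | h1
    · left; exact h1
    · rcases hval q' hq' with h2 | h2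
      · right; left; exact h2
      · right; right; rw [h1, h2]
  have hcE : 16 * Nat.card V ≤ Nat.card E := by
    have h2 := card_sup_ab hNU hcjU h.box.ab
    have h3 : Nat.card ↥(N ⊓ cj a N) ≤ Nat.card V := Nat.card_le_card_of_injective _ (inclusion_injective hint)
    rw [card_cj, hcN] at h2
    have p : 0 < Nat.card V := Nat.card_pos
    have h4 : Nat.card E * Nat.card ↥(N ⊓ cj a N) ≤ Nat.card E * Nat.card V := Nat.mul_le_mul_left _ h3
    rw [h2] at h4
    have h5 : 16 * Nat.card V * Nat.card V ≤ Nat.card E * Nat.card V := by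
      calc 16 * Nat.card V * Nat.card V = 4 * Nat.card V * (4 * Nat.card V) := by ring
        _ ≤ _ := h4
    exact Nat.le_of_mul_le_mul_right h5 p
  have hex := h.box.ex E k1 k2 k3 k4
  have hcomm : ∀ b ∈ B, ∀ m ∈ N, ∀ m' ∈ N, κ(b, (m * m')) = κ(b, m) * κ(b, m') := by
    intro b hb m hm m' hm'
    exact comm_mul (h.cU (hNU hm) (h.VU (h.par.ZV (hZ m' hm' b (h.box.BQ hb)))))
  have hcomm' : ∀ b ∈ B, ∀ b' ∈ B, ∀ m ∈ N, κ((b * b'), m) = κ(b, m) * κ(b', m) := by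
    intro b hb b' hb' m hm
    have h1 := h.par.ZV (hZ m hm b' (h.box.BQ hb'))
    have h2 := h.par.ZV (hZ m hm b (h.box.BQ hb))
    rw [comm_mul_left (h.box.Qc b (h.box.BQ hb) _ h1)]
    exact h.cV h1 h2
  -- `N_B`
  let NB : Subgroup G :=
    { carrier := {m | m ∈ N ∧ ∀ b ∈ B, κ(b, m) = 1 ∨ κ(b, m) = z}
      one_mem' := ⟨one_mem _, fun b hb => by left; group⟩
      mul_mem' := by
        rintro m m' ⟨hm, h1⟩ ⟨hm', h2⟩
        refine ⟨mul_mem hm hm', fun b hb => ?_⟩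
        rw [hcomm b hb m hm m' hm']
        exact h.val_mul (h1 b hb) (h2 b hb)
      inv_mem' := by
        rintro m ⟨hm, h1⟩
        rw [h.invU (hNU hm)]
        exact ⟨hm, h1⟩ }
  have memNB : ∀ m, m ∈ NB ↔ m ∈ N ∧ ∀ b ∈ B, κ(b, m) = 1 ∨ κ(b, m) = z := fun m => Iff.rfl
  have hNBN : NB ≤ N := fun m hm => hm.1
  have hVNB : V ≤ NB := fun v hv => ⟨hVN hv, fun b hb => Or.inl (comm_iff.2 (h.box.Qc b (h.box.BQ hb) v hv))⟩
  let Bz : Subgroup G :=
    { carrier := {b | b ∈ B ∧ ∀ m ∈ N, κ(b, m) = 1 ∨ κ(b, m) = z}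
      one_mem' := ⟨one_mem _, fun m hm => by left; group⟩
      mul_mem' := by
        rintro b b' ⟨hb, h1⟩ ⟨hb', h2⟩
        refine ⟨mul_mem hb hb', fun m hm => ?_⟩
        rw [hcomm' b hb b' hb' m hm]
        exact h.val_mul (h1 m hm) (h2 m hm)
      inv_mem' := by
        rintro b ⟨hb, h1⟩
        refine ⟨B.inv_mem hb, fun m hm => ?_⟩
        have h2 := hcomm' b⁻¹ (B.inv_mem hb) b hb m hm
        rw [inv_mul_cancel] at h2
        have h3 : κ((1 : G), m) = 1 := by group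
        rw [h3] at h2
        have h4 : κ(b⁻¹, m) = κ(b, m) := by
          rw [eq_inv_of_mul_eq_one_left h2.symm, h.invV (h.par.ZV (hZ m hm b (h.box.BQ hb)))]
        rw [h4]
        exact h1 m hm }
  have hBzB : Bz ≤ B := fun b hb => hb.1
  -- `|C_E(B)| ≤ |N_B|`
  set P := E ⊓ centralizer (B : Set G) with hP
  have hPU : P ≤ U := inf_le_left.trans k2
  have hPdec : ∀ e ∈ P, ∃ m ∈ NB, ∃ y ∈ cj a N, e = m * y ∧ (m ∈ V → y ∈ V) := by
    rintro e ⟨heE, heB⟩
    have heB' : ∀ b ∈ B, b * e = e * b := fun b hb => mem_centralizer_iff.1 heB b hb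
    have hfix := h.box.fix E k1 k2 k3 k4 e heE heB'
    obtain ⟨m, hm, y, hy, rfl⟩ := mem_sup_of_ab hNU hcjU h.box.ab heE
    obtain ⟨m', hm', rfl⟩ := mem_cj.1 hy
    have hval : ∀ b ∈ B, κ(b, m) = 1 ∨ κ(b, m) = z := by
      intro b hb
      have h1 := comm_iff.2 (heB' b hb)
      have h2 := conj_comm_a (h.box.aB b hb) m'
      have h3 := hZ m' hm' b (h.box.BQ hb)
      rw [comm_mul, h2] at h1
      · refine h.Z_inf (hZ m hm b (h.box.BQ hb)) h3 ?_
        rw [eq_inv_of_mul_eq_one_left h1, h.invV (h.box.aV _ (h.par.ZV h3))]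
      · rw [h2]
        exact h.cU (hNU hm) (h.VU (h.box.aV _ (h.par.ZV h3)))
    refine ⟨m, ⟨hm, hval⟩, _, hy, rfl, fun hmV => ?_⟩
    -- `m ∈ V` implies `m' ∈ V`
    have h1 : a * (m * (a * m' * a⁻¹)) * a⁻¹ = (a * m * a⁻¹) * m' := by
      have : a * (m * (a * m' * a⁻¹)) * a⁻¹ = (a * m * a⁻¹) * (a * (a * m' * a⁻¹) * a⁻¹) := by group
      rw [this, h.ainv]
    rw [h1] at hfix
    have hmaV := h.box.aV _ hmV
    -- `m' (a m' a⁻¹)⁻¹ ∈ V`
    have h2 : m' * (a * m' * a⁻¹)⁻¹ ∈ V := by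
      have h3 : m' * (a * m' * a⁻¹)⁻¹ = (a * m * a⁻¹)⁻¹ * ((a * m * a⁻¹) * m' * (m * (a * m' * a⁻¹))⁻¹) *
          m := by group
      rw [h3]
      exact mul_mem (mul_mem (inv_mem hmaV) hfix) hmV
    have h4 : m' ∈ cj a N := by
      have h5 : m' = (m' * (a * m' * a⁻¹)⁻¹) * (a * m' * a⁻¹) := by group
      rw [h5]
      exact mul_mem (hVcj h2) (mem_cj.2 ⟨m', hm', rfl⟩)
    exact h.box.aV _ (hint ⟨hm', h4⟩)
  have hcP : Nat.card P ≤ Nat.card NB := by
    have hNBU : NB ≤ U := hNBN.trans hNU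
    have c1 := card_sup_ab hPU hcjU h.box.ab
    have c2 := card_sup_ab hNBU hcjU h.box.ab
    have c3 : Nat.card ↥(P ⊓ cj a N) ≤ Nat.card V := by
      refine Nat.card_le_card_of_injective _ (inclusion_injective (?_ : P ⊓ cj a N ≤ V))
      rintro e ⟨heP, hea⟩
      obtain ⟨m, hm, y, hy, rfl, hmy⟩ := hPdec e heP
      have hmcj : m ∈ cj a N := by
        have := (cj a N).mul_mem hea ((cj a N).inv_mem hy)
        rwa [mul_inv_cancel_right] at this
      have hmV : m ∈ V := hint ⟨hNBN hm, hmcj⟩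
      exact mul_mem hmV (hmy hmV)
    have c4 : Nat.card V ≤ Nat.card ↥(NB ⊓ cj a N) :=
      Nat.card_le_card_of_injective _ (inclusion_injective (le_inf hVNB hVcj))
    have c5 : Nat.card ↥(P ⊔ cj a N) ≤ Nat.card ↥(NB ⊔ cj a N) := by
      refine Nat.card_le_card_of_injective _ (inclusion_injective (sup_le ?_ le_sup_right))
      intro e he
      obtain ⟨m, hm, y, hy, rfl, -⟩ := hPdec e he
      exact mul_mem_sup hm hy
    have p : 0 < Nat.card ↥(cj a N) := Nat.card_pos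
    have c6 : Nat.card P * Nat.card ↥(cj a N) ≤ Nat.card NB * Nat.card ↥(cj a N) := by
      rw [← c1, ← c2]
      exact Nat.mul_le_mul c5 (c3.trans c4)
    exact Nat.le_of_mul_le_mul_right c6 p
  -- the pairing
  have hpair : Nat.card B * Nat.card NB ≤ Nat.card N * Nat.card Bz := by
    refine Cfsg.Agent.Omega.Lin.card_pair' (F := ZMod 2) N B NB Bz hNBN hBzB
      (fun m b => if κ(b, m) = 1 ∨ κ(b, m) = z then 0 else 1) ?_ ?_ ?_ ?_ ?_
    · intro m hm m' hm' b hb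
      rw [hcomm b hb m hm m' hm']
      have y1 := hZ m hm b (h.box.BQ hb)
      have y2 := hZ m' hm' b (h.box.BQ hb)
      have y2i : κ(b, m')⁻¹ = κ(b, m') := h.invV (h.par.ZV y2)
      have y1i : κ(b, m)⁻¹ = κ(b, m) := h.invV (h.par.ZV y1)
      set α := κ(b, m)
      set β := κ(b, m')
      by_cases h1 : α = 1 ∨ α = z <;> by_cases h2 : β = 1 ∨ β = z
      · rw [if_pos h1, if_pos h2, if_pos (h.val_mul h1 h2), add_zero]
      · rw [if_pos h1, if_neg h2, if_neg, zero_add]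
        intro h3
        apply h2
        have h4 : β = α * (α * β) := by
          have : α * α = 1 := h.sqV (h.par.ZV y1)
          rw [← mul_assoc, this, one_mul]
        rw [h4]
        exact h.val_mul h1 h3
      · rw [if_neg h1, if_pos h2, if_neg, add_zero]
        intro h3
        apply h1
        have h4 : α = (α * β) * β := by
          have : β * β = 1 := h.sqV (h.par.ZV y2)
          rw [mul_assoc, this, mul_one]
        rw [h4]
        exact h.val_mul h3 h2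
      · rw [if_neg h1, if_neg h2, if_pos (h.Z_mul y1 y2 h1 h2)]
        decide
    · intro m hm b hb b' hb'
      rw [hcomm' b hb b' hb' m hm]
      have y1 := hZ m hm b (h.box.BQ hb)
      have y2 := hZ m hm b' (h.box.BQ hb')
      set α := κ(b, m)
      set β := κ(b', m)
      by_cases h1 : α = 1 ∨ α = z <;> by_cases h2 : β = 1 ∨ β = z
      · rw [if_pos h1, if_pos h2, if_pos (h.val_mul h1 h2), add_zero]
      · rw [if_pos h1, if_neg h2, if_neg, zero_add]
        intro h3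
        apply h2
        have h4 : β = α * (α * β) := by
          have : α * α = 1 := h.sqV (h.par.ZV y1)
          rw [← mul_assoc, this, one_mul]
        rw [h4]
        exact h.val_mul h1 h3
      · rw [if_neg h1, if_pos h2, if_neg, add_zero]
        intro h3
        apply h1
        have h4 : α = (α * β) * β := by
          have : β * β = 1 := h.sqV (h.par.ZV y2)
          rw [mul_assoc, this, mul_one]
        rw [h4]
        exact h.val_mul h3 h2
      · rw [if_neg h1, if_neg h2, if_pos (h.Z_mul y1 y2 h1 h2)]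
        decide
    · intro c m hm
      fin_cases c
      · refine ⟨1, one_mem _, fun b hb => ?_⟩
        have h3 : κ(b, (1 : G)) = 1 := by group
        rw [if_pos (Or.inl h3)]
        exact (zero_mul _).symm
      · exact ⟨m, hm, fun b hb => (one_mul _).symm⟩
    · intro m hm b hb
      exact if_pos (hm.2 b hb)
    · intro b hb hall
      refine ⟨hb, fun m hm => ?_⟩
      by_contra h1
      have h2 := hall m hm
      rw [if_neg h1] at h2
      exact one_ne_zero h2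
  -- `4 |C_B(E)| ≤ |B_z|`
  set B0 := B ⊓ centralizer (E : Set G) with hB0
  have pV : 0 < Nat.card V := Nat.card_pos
  have hfour : 4 * Nat.card B0 ≤ Nat.card Bz := by
    have h1 : 16 * Nat.card V * Nat.card B0 ≤ 4 * Nat.card V * Nat.card Bz := by
      calc _ ≤ Nat.card E * Nat.card B0 := Nat.mul_le_mul_right _ hcE
        _ ≤ Nat.card B * Nat.card P := hex
        _ ≤ Nat.card B * Nat.card NB := Nat.mul_le_mul_left _ hcP
        _ ≤ Nat.card N * Nat.card Bz := hpair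
        _ = _ := by rw [hcN]
    have h2 : (4 * Nat.card B0) * (4 * Nat.card V) ≤ Nat.card Bz * (4 * Nat.card V) := by
      calc _ = 16 * Nat.card V * Nat.card B0 := by ring
        _ ≤ _ := h1
        _ = _ := by ring
    exact Nat.le_of_mul_le_mul_right h2 (by omega)
  -- the map `B_z → F₂ ^ 2`
  have huN := hWN hu
  have hval2 : ∀ y y' : G, (y = 1 ∨ y = z) → (y' = 1 ∨ y' = z) →
      ((if y * y' = 1 then 0 else 1 : ZMod 2) = (if y = 1 then 0 else 1) + (if y' = 1 then 0 else 1)) := by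
    rintro y y' (rfl | rfl) (rfl | rfl)
    · simp
    · simp [h.z1]
    · simp [h.z1]
    · simp only [h.z_mul, if_true, h.z1, if_false]
      decide
  let φ : Bz →* Multiplicative (ZMod 2 × ZMod 2) :=
    { toFun := fun b => Multiplicative.ofAdd ((if κ((b : G), u) = 1 then 0 else 1), (if κ((b : G), n) = 1 then 0 else 1))
      map_one' := by
        have h1 : ∀ m : G, κ(((1 : Bz) : G), m) = 1 := fun m => by
          change κ((1 : G), m) = 1
          group
        simp only [h1, if_true]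
        rfl
      map_mul' := by
        intro b b'
        have h1 := hcomm' b (hBzB b.2) b' (hBzB b'.2)
        change Multiplicative.ofAdd ((if κ(((b : G) * (b' : G)), u) = 1 then 0 else 1),
          (if κ(((b : G) * (b' : G)), n) = 1 then 0 else 1)) = _
        rw [h1 u huN, h1 n hn, hval2 _ _ (b.2.2 u huN) (b'.2.2 u huN), hval2 _ _ (b.2.2 n hn) (b'.2.2 n hn)]
        rfl }
  have hker : φ.ker.map Bz.subtype ≤ B0 := by
    rintro _ ⟨b, hb, rfl⟩
    have hb' := Multiplicative.ofAdd.injective (MonoidHom.mem_ker.1 hb)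
    have h1 : κ((b : G), u) = 1 := by
      by_contra h2
      have h3 : (if κ((b : G), u) = 1 then 0 else 1 : ZMod 2) = 0 := congrArg Prod.fst hb'
      rw [if_neg h2] at h3
      exact one_ne_zero h3
    have h2 : κ((b : G), n) = 1 := by
      by_contra h2
      have h3 : (if κ((b : G), n) = 1 then 0 else 1 : ZMod 2) = 0 := congrArg Prod.snd hb'
      rw [if_neg h2] at h3
      exact one_ne_zero h3
    have hbB : (b : G) ∈ B := hBzB b.2
    have hbQ := h.box.BQ hbB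
    have hW : ∀ w ∈ W, (b : G) * w = w * b := by
      intro w hw
      by_cases hwV : w ∈ V
      · exact h.box.Qc b hbQ w hwV
      · obtain ⟨v, hv, rfl⟩ := h.W_split hu huV hw hwV
        have h4 := h.box.Qc b hbQ v hv
        rw [← mul_assoc (b : G), h4, mul_assoc v (b : G) u, comm_iff.1 h1, mul_assoc]
    have hN : ∀ m ∈ N, (b : G) * m = m * b := by
      intro m hm
      by_cases hmW : m ∈ W
      · exact hW m hmW
      · have h4 := hW _ (hidx m hm n hn hmW hnW)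
        have h5 : m = (m * n) * n := by rw [mul_assoc, h.sqU (hNU hn), mul_one]
        rw [h5, ← mul_assoc, h4, mul_assoc _ (b : G) n, comm_iff.1 h2]
        simp only [mul_assoc]
    refine ⟨hbB, mem_centralizer_iff.2 fun e he => ?_⟩
    obtain ⟨m, hm, y, hy, rfl⟩ := mem_sup_of_ab hNU hcjU h.box.ab he
    obtain ⟨m', hm', rfl⟩ := mem_cj.1 hy
    have h4 : (b : G) * (a * m' * a⁻¹) = (a * m' * a⁻¹) * b := by
      apply comm_iff.1
      rw [conj_comm_a (h.box.aB _ hbB), comm_iff.2 (hN m' hm')]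
      group
    change m * (a * m' * a⁻¹) * (b : G) = (b : G) * (m * (a * m' * a⁻¹))
    rw [← mul_assoc (b : G), hN m hm, mul_assoc m (b : G), h4]
    simp only [mul_assoc]
  have hkc : Nat.card φ.ker ≤ Nat.card B0 := by
    rw [Nat.card_congr (φ.ker.equivMapOfInjective _ (Subgroup.subtype_injective Bz)).toEquiv]
    exact Nat.card_le_card_of_injective _ (inclusion_injective hker)
  have hrange : φ.range = ⊤ := by
    apply Subgroup.eq_top_of_card_eq
    have h1 : Nat.card φ.ker * Nat.card φ.range = Nat.card Bz := by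
      rw [mul_comm, ← Subgroup.index_ker φ, mul_comm]
      exact Subgroup.card_mul_index φ.ker
    have h2 : Nat.card (Multiplicative (ZMod 2 × ZMod 2)) = 4 := by
      rw [Nat.card_congr Multiplicative.toAdd, Nat.card_prod, Nat.card_zmod]
    have h3 : Nat.card φ.range ≤ 4 := by
      rw [← h2]
      exact Nat.card_le_card_of_injective _ (Subgroup.subtype_injective φ.range)
    have p0 : 0 < Nat.card B0 := Nat.card_pos
    have h4 : 4 * Nat.card B0 ≤ Nat.card φ.range * Nat.card B0 := by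
      calc _ ≤ Nat.card Bz := hfour
        _ = Nat.card φ.ker * Nat.card φ.range := h1.symm
        _ ≤ Nat.card B0 * Nat.card φ.range := Nat.mul_le_mul_right _ hkc
        _ = _ := mul_comm _ _
    have h5 := Nat.le_of_mul_le_mul_right h4 p0
    omega
  have hsur : ∀ i j : ZMod 2, ∃ b : Bz, φ b = Multiplicative.ofAdd (i, j) := by
    intro i j
    have : Multiplicative.ofAdd (i, j) ∈ φ.range := by rw [hrange]; trivial
    exact this
  obtain ⟨b, hb⟩ := hsur (if α = 1 then 0 else 1) (if β = 1 then 0 else 1)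
  have hb' := Multiplicative.ofAdd.injective hb
  have e1 := congrArg Prod.fst hb'
  have e2 := congrArg Prod.snd hb'
  have fin : ∀ y y' : G, (y = 1 ∨ y = z) → (y' = 1 ∨ y' = z) →
      ((if y = 1 then 0 else 1 : ZMod 2) = (if y' = 1 then 0 else 1)) → y = y' := by
    rintro y y' (rfl | rfl) (rfl | rfl) he
    · rfl
    · simp [h.z1] at he
    · simp [h.z1] at he
    · rfl
  exact ⟨b, hBzB b.2, fin _ _ (b.2.2 u huN) hα e1, fin _ _ (b.2.2 n hn) hβ e2⟩

theorem memK_iffQ {u q : G} (hu : u ∈ W) (huV : u ∉ V) (hq : q ∈ Q) : q ∈ K ↔ κ(q, u) ∈ D := by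
  refine ⟨fun h1 => h.par.Kc q h1 u hu, fun h1 => h.par.memK q (h.box.QT hq) fun w hw => ?_⟩
  by_cases hwV : w ∈ V
  · rw [comm_iff.2 (h.box.Qc q hq w hwV)]; exact one_mem _
  · obtain ⟨v, hv, rfl⟩ := h.W_split hu huV hw hwV
    rw [comm_mul (h.cU (h.VU hv) (h.VU (h.box.DV h1))), comm_iff.2 (h.box.Qc q hq v hv), one_mul]
    exact h1

end Bq

/-- **THEOREM (b')** (helper347, #22022): every line `V ^ y`, `y ∈ X₁₂`, with `[V ^ y, Q] ≤ V` lies in `W₁₂`. -/
theorem second_layer [Finite G] {V D T Q B B' U R W K Z : Subgroup G} {a a' x z : G}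
    (h : Bq V D T Q B U a x z R W K Z) (h' : Bq V D T Q B' U a' x (x * z) R W K Z) (Pn : Set G)
    (PV : ∀ g ∈ Pn, ∀ v, g * v * g⁻¹ ∈ V ↔ v ∈ V) (PD : ∀ g ∈ Pn, ∀ v, g * v * g⁻¹ ∈ D ↔ v ∈ D)
    (PQ : ∀ g ∈ Pn, ∀ v, g * v * g⁻¹ ∈ Q ↔ v ∈ Q) (PW : ∀ g ∈ Pn, ∀ v, g * v * g⁻¹ ∈ W ↔ v ∈ W)
    (alt : ∀ v ∈ V, v ∉ D → (∀ g ∈ Pn, (g * g) * v * (g * g)⁻¹ = v ∨ (g * g) * v * (g * g)⁻¹ = v * x) → v ∈ Z) :
    NN V D Q = W := by
  classical
  obtain ⟨u, hu, huV⟩ := h.exu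
  obtain ⟨s1, s2, g, hgR, hgV, hgN⟩ := h.stage1 hu huV
  obtain ⟨c, hc, hcu⟩ := h.exC hu huV
  set N := NN V D Q with hNdef
  have hWN : W ≤ N := h.W_NN
  have hVN : V ≤ N := h.VW.trans hWN
  have hNU : N ≤ U := h.NN_U
  -- the group `R' = N_R(N)`
  set R' : Subgroup G := R ⊓ normalizer (N : Set G) with hR'
  have hnorm : ∀ r : G, (∀ n ∈ N, r * n * r⁻¹ ∈ N) → r ∈ normalizer (N : Set G) := by
    intro r hr
    have h1 : cj r N = N := by
      refine Subgroup.eq_of_le_of_card_ge ?_ ?_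
      · intro y hy
        obtain ⟨n, hn, rfl⟩ := mem_cj.1 hy
        exact hr n hn
      · rw [card_cj]
    refine mem_normalizer_iff.2 fun n => ⟨hr n, fun hn => ?_⟩
    have hn' : r * n * r⁻¹ ∈ cj r N := by rw [h1]; exact hn
    obtain ⟨n', hn'', he⟩ := mem_cj.1 hn'
    have h2 : n = n' := mul_left_cancel (mul_right_cancel he)
    rw [h2]
    exact hn''
  have hTR' : T ≤ R' := fun t ht => ⟨h.par.TR ht, hnorm t (h.NN_T ht)⟩
  have hgR' : ∃ g ∈ R', ∃ v ∈ V, g * v * g⁻¹ ∉ V := ⟨g, ⟨hgR, hnorm g hgN⟩, hgV⟩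
  have hRN : ∀ r ∈ R', ∀ n ∈ N, r * n * r⁻¹ ∈ N := fun r hr n hn => (mem_normalizer_iff.1 hr.2 n).1 hn
  have k : Bq V D T Q B U a x z R' W K Z :=
    ⟨h.box, h.par.shrink inf_le_left hTR' hgR', h.TQ, h.zZ, h.zD, h.az⟩
  have k' : Bq V D T Q B' U a' x (x * z) R' W K Z :=
    ⟨h'.box, h'.par.shrink inf_le_left hTR' hgR', h'.TQ, h'.zZ, h'.zD, h'.az⟩
  obtain ⟨-, t2, t3, t4⟩ := k.stage2 hu huV hRN
  refine le_antisymm ?_ hWN
  by_contra hne
  obtain ⟨n₀, hn₀, hn₀W⟩ := SetLike.not_le_iff_exists.1 hne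
  have hcQ : c ∈ Q := h.box.BQ (h.mem_C1.1 hc).1
  have hQV : ∀ q ∈ Q, ∀ m ∈ N, κ(q, m) ∈ V := fun q hq m hm => h.NN_comm hq hm
  have hcomm : ∀ q ∈ Q, ∀ m ∈ N, ∀ m' ∈ N, κ(q, (m * m')) = κ(q, m) * κ(q, m') := by
    intro q hq m hm m' hm'
    exact comm_mul (h.cU (hNU hm) (h.VU (hQV q hq m' hm')))
  have hcomm' : ∀ q ∈ Q, ∀ q' ∈ Q, ∀ m ∈ N, κ((q * q'), m) = κ(q, m) * κ(q', m) := by
    intro q hq q' hq' m hm
    have h1 := hQV q' hq' m hm
    have h2 := hQV q hq m hm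
    rw [comm_mul_left (h.box.Qc q hq _ h1)]
    exact h.cV h1 h2
  -- `n ∉ W` with `[c, n] ∈ D`
  have hn : ∃ n ∈ N, n ∉ W ∧ κ(c, n) ∈ D := by
    by_cases h1 : κ(c, n₀) ∈ D
    · exact ⟨n₀, hn₀, hn₀W, h1⟩
    · refine ⟨n₀ * u, mul_mem hn₀ (hWN hu), fun h2 => hn₀W ?_, ?_⟩
      · have := mul_mem h2 (inv_mem hu)
        rwa [mul_inv_cancel_right] at this
      · rw [hcomm c hcQ n₀ hn₀ u (hWN hu)]
        exact h.box.idx _ (hQV c hcQ n₀ hn₀) _ (hQV c hcQ u (hWN hu)) h1 (by rw [hcu]; exact h.zD)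
  obtain ⟨n, hn, hnW, hcn⟩ := hn
  have hcn1 : κ(c, n) = 1 := by
    refine s2 n hn (fun c' hc' => ?_) c hc
    have hc'Q : c' ∈ Q := h.box.BQ (h.mem_C1.1 hc').1
    rcases (h.f12_iff hu (h.mem_C1.1 hc').1).1 (h.mem_C1.1 hc').2 with h1 | h1
    · exact s1 n hn c' hc' h1
    · have hb : c' * c ∈ h.C1 u := mul_mem hc' hc
      have h2 : κ((c' * c), u) = 1 := by
        rw [hcomm' c' hc'Q c hcQ u (hWN hu), hcu, h1, h.z_mul]
      have h3 := s1 n hn _ hb h2
      rw [hcomm' c' hc'Q c hcQ n hn] at h3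
      have h4 := mul_mem h3 (inv_mem hcn)
      rwa [mul_inv_cancel_right] at h4
  obtain ⟨k₀, hk₀, hk₀Q, hk₀n, hdich⟩ := t4 n hn hnW
  set v₀ := κ(k₀, n) with hv₀
  have hv₀V : v₀ ∈ V := hQV k₀ hk₀Q n hn
  have hsm : ∀ q ∈ K, (∀ m ∈ N, κ(q, m) ∈ D) → ∀ m ∈ N, κ(q, m) = 1 ∨ κ(q, m) = x := by
    intro q hq h1 m hm
    exact h.box.comm_czT h.SQ_cent (h.box.Tc (h.par.KT hq)) h1 hm
  have hKQval : ∀ q ∈ K, q ∈ Q → (κ(q, n) = 1 ∨ κ(q, n) = x) ∨ (κ(q, n) = v₀ ∨ κ(q, n) = v₀ * x) := by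
    intro q hq hqQ
    rcases hdich q hq hqQ with h1 | h1
    · left; exact hsm q hq h1 n hn
    · right
      have h2 := hsm _ (mul_mem hq hk₀) h1 n hn
      rw [hcomm' q hqQ k₀ hk₀Q n hn, ← hv₀] at h2
      have h3 : κ(q, n) = (κ(q, n) * v₀) * v₀ := by rw [mul_assoc (κ(q, n)), h.sqV hv₀V, mul_one]
      rcases h2 with h2 | h2
      · left; rw [h3, h2, one_mul]
      · right; rw [h3, h2, h.cV h.xV hv₀V]
  have hQval : ∀ q ∈ Q, (κ(q, n) = 1 ∨ κ(q, n) = x) ∨ (κ(q, n) = v₀ ∨ κ(q, n) = v₀ * x) := by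
    intro q hq
    by_cases hqK : q ∈ K
    · exact hKQval q hqK hq
    · have hqc : q * c ∈ K := by
        rw [h.memK_iffQ hu huV (mul_mem hq hcQ), hcomm' q hq c hcQ u (hWN hu)]
        refine h.box.idx _ (hQV q hq u (hWN hu)) _ (hQV c hcQ u (hWN hu)) (fun h1 => hqK ?_) (by rw [hcu]; exact h.zD)
        exact (h.memK_iffQ hu huV hq).2 h1
      have h1 := hKQval _ hqc (mul_mem hq hcQ)
      rwa [hcomm' q hq c hcQ n hn, hcn1, mul_one] at h1
  -- `v₀ ∈ Z`
  have hv₀Z : v₀ ∈ Z := by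
    refine alt v₀ hv₀V hk₀n fun g hg => ?_
    have hgN : ∀ m ∈ N, g * m * g⁻¹ ∈ N := h.NN_norm (PV g hg) (PD g hg) (PQ g hg)
    have hgnW : g * n * g⁻¹ ∉ W := fun h1 => hnW ((PW g hg n).1 h1)
    set w := g * n * g⁻¹ * n with hw
    have hwW : w ∈ W := t2 _ (hgN n hn) n hn hgnW hnW
    have hn2 : n * n = 1 := h.sqU (hNU hn)
    have hgn : g * n * g⁻¹ = w * n := by rw [hw, mul_assoc _ n n, hn2, mul_one]
    have hv' : g * w * g⁻¹ * w ∈ V := by
      by_cases hwV : w ∈ V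
      · exact mul_mem ((PV g hg w).2 hwV) hwV
      · exact h.par.idx _ ((PW g hg w).2 hwW) _ hwW (fun h1 => hwV ((PV g hg w).1 h1)) hwV
    set v' := g * w * g⁻¹ * w with hv'def
    have hg2n : (g * g) * n * (g * g)⁻¹ = v' * n := by
      have h1 : (g * g) * n * (g * g)⁻¹ = g * (g * n * g⁻¹) * g⁻¹ := by group
      rw [h1, hgn]
      have h2 : g * (w * n) * g⁻¹ = (g * w * g⁻¹) * (g * n * g⁻¹) := by group
      rw [h2, hgn, hv'def]
      group
    set q' := (g * g) * k₀ * (g * g)⁻¹ with hq'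
    have hq'Q : q' ∈ Q := by
      have h1 : q' = g * (g * k₀ * g⁻¹) * g⁻¹ := by rw [hq']; group
      rw [h1]
      exact (PQ g hg _).2 ((PQ g hg _).2 hk₀Q)
    have hconj : (g * g) * v₀ * (g * g)⁻¹ = κ(q', n) := by
      have h1 : (g * g) * v₀ * (g * g)⁻¹ = κ(q', ((g * g) * n * (g * g)⁻¹)) := by rw [hv₀, hq']; group
      rw [h1, hg2n, hcomm q' hq'Q v' (hVN hv') n hn, comm_iff.2 (h.box.Qc q' hq'Q v' hv'), one_mul]
    have hnD : (g * g) * v₀ * (g * g)⁻¹ ∉ D := by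
      intro h1
      have h2 : (g * g) * v₀ * (g * g)⁻¹ = g * (g * v₀ * g⁻¹) * g⁻¹ := by group
      rw [h2, PD g hg, PD g hg] at h1
      exact hk₀n h1
    rw [hconj] at hnD ⊢
    rcases hQval q' hq'Q with (h1 | h1) | h1
    · exact absurd (h1 ▸ one_mem D) hnD
    · exact absurd (h1 ▸ h.box.xD) hnD
    · exact h1
  have hZn : ∀ q ∈ Q, κ(q, n) ∈ Z := by
    intro q hq
    rcases hQval q hq with (h1 | h1) | (h1 | h1) <;> rw [h1]
    · exact one_mem _
    · exact h.par.xZ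
    · exact hv₀Z
    · exact mul_mem hv₀Z h.par.xZ
  have hZ : ∀ m ∈ N, ∀ q ∈ Q, κ(q, m) ∈ Z := by
    intro m hm q hq
    by_cases hmW : m ∈ W
    · exact h.par.Zc q hq m hmW
    · have h1 := t2 m hm n hn hmW hnW
      have h2 := h.par.Zc q hq _ h1
      rw [hcomm q hq m hm n hn] at h2
      have h3 := mul_mem h2 (inv_mem (hZn q hq))
      rwa [mul_inv_cancel_right] at h3
  -- the end
  obtain ⟨b, hb, hbu, hbn⟩ := h.full hu huV hn hnW t2 hZ (Or.inr rfl : z = 1 ∨ z = z) (Or.inl rfl : (1 : G) = 1 ∨ (1 : G) = z)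
  obtain ⟨b', hb', hb'u, hb'n⟩ := h'.full hu huV hn hnW t2 hZ (Or.inr rfl : x * z = 1 ∨ x * z = x * z)
    (Or.inl rfl : (1 : G) = 1 ∨ (1 : G) = x * z)
  have hbQ := h.box.BQ hb
  have hb'Q := h'.box.BQ hb'
  set q := b * b' with hq
  have hqQ : q ∈ Q := mul_mem hbQ hb'Q
  have hqu : κ(q, u) = x := by
    rw [hq, hcomm' b hbQ b' hb'Q u (hWN hu), hbu, hb'u, h.cV h.xV h.zV, ← mul_assoc, h.z_mul, one_mul]
  have hqn : κ(q, n) = 1 := by
    rw [hq, hcomm' b hbQ b' hb'Q n hn, hbn, hb'n, one_mul]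
  have hqW : ∀ w ∈ W, κ(q, w) ∈ D := by
    intro w hw
    have h1 : q ∈ K := by rw [h.memK_iffQ hu huV hqQ, hqu]; exact h.box.xD
    exact h.par.Kc q h1 w hw
  have hqN : ∀ m ∈ N, κ(q, m) ∈ D := by
    intro m hm
    by_cases hmW : m ∈ W
    · exact hqW m hmW
    · have h1 := hqW _ (t2 m hm n hn hmW hnW)
      rwa [hcomm q hqQ m hm n hn, hqn, mul_one] at h1
  have h1 := t3 q (h.box.QT hqQ) hqN ⟨n, hn, hnW⟩ u hu
  rw [comm_iff.2 h1] at hqu
  exact h.x1 hqu.symm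

end Cfsg.Agent.Omega.NO3S.SN2
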