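import Cfsg.Agent.Omega.NO3S.SN2.BpBase

/-!
# (b') of SN.Two (helper347, #22022), (1) and (2)

* `Bq.exC` : `f₂₁ ≠ 0` on `C1 = ker f₁₂`.
* `Bq.stage1` : `C1⁻` centralises `N / D`; `[n, C1] ≤ D` implies `[n, C1] = 1`; some `g ∈ R` moving `V` normalises `N`.
-/

set_option autoImplicit false
set_option linter.unusedSectionVars false

namespace Cfsg.Agent.Omega.NO3S.SN2

open Subgroup
open Cfsg.Agent.ZN.Block (card_sup_mul_card_inf)

universe u

variable {G : Type u} [Group G]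

/-- `[b, e] = b e b⁻¹ e⁻¹` -/
local notation "κ(" b "," e ")" => b * e * b⁻¹ * e⁻¹

theorem card_two [Finite G] {A A' : Subgroup G} (hle : A ≤ A') (hidx : ∀ v ∈ A', ∀ w ∈ A', v ∉ A → w ∉ A → v * w ∈ A)
    (hne : ¬ A' ≤ A) : Nat.card A' = 2 * Nat.card A := by
  obtain ⟨u, hu, huA⟩ := SetLike.not_le_iff_exists.1 hne
  have h1 : A.relIndex A' = 2 := by
    rw [Subgroup.relIndex_eq_two_iff]
    refine ⟨u, hu, fun b hb => ?_⟩
    by_cases hbA : b ∈ A
    · right
      refine ⟨hbA, fun h4 => huA ?_⟩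
      have := mul_mem (inv_mem hbA) h4
      rwa [inv_mul_cancel_left] at this
    · left
      exact ⟨hidx b hb u hu hbA huA, hbA⟩
  have h2 := Cfsg.Agent.ZN.Block.card_mul_relIndex' hle
  rw [h1] at h2
  omega

theorem mem_sup_of_ab {U A A' : Subgroup G} (hA : A ≤ U) (hA' : A' ≤ U) (ab : ∀ u ∈ U, ∀ v ∈ U, u * v = v * u) {e : G}
    (he : e ∈ A ⊔ A') : ∃ y ∈ A, ∃ y' ∈ A', e = y * y' := by
  have hn : A' ≤ normalizer (A : Set G) := by
    intro y hy
    refine mem_normalizer_iff.2 fun z => ?_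
    have h2 : ∀ z ∈ A, y * z * y⁻¹ ∈ A := fun z hz => by
      rw [ab y (hA' hy) z (hA hz), mul_inv_cancel_right]; exact hz
    have h3 : ∀ z ∈ A, y⁻¹ * z * y ∈ A := fun z hz => by
      rw [mul_assoc, ← ab y (hA' hy) z (hA hz), inv_mul_cancel_left]; exact hz
    refine ⟨h2 z, fun h4 => ?_⟩
    have := h3 _ h4
    have e : y⁻¹ * (y * z * y⁻¹) * y = z := by group
    rwa [e] at this
  have he' : e ∈ ((A ⊔ A' : Subgroup G) : Set G) := he
  rw [Subgroup.coe_mul_of_right_le_normalizer_left A A' hn] at he'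
  obtain ⟨y, h1, y', h2, rfl⟩ := he'
  exact ⟨y, h1, y', h2, rfl⟩

theorem card_sup_ab [Finite G] {U A A' : Subgroup G} (hA : A ≤ U) (hA' : A' ≤ U)
    (ab : ∀ u ∈ U, ∀ v ∈ U, u * v = v * u) :
    Nat.card ↥(A ⊔ A') * Nat.card ↥(A ⊓ A') = Nat.card A * Nat.card A' := by
  apply card_sup_mul_card_inf
  intro y hy
  refine mem_normalizer_iff.2 fun z => ?_
  have h2 : ∀ z ∈ A', y * z * y⁻¹ ∈ A' := fun z hz => by
    rw [ab y (hA hy) z (hA' hz), mul_inv_cancel_right]; exact hz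
  have h3 : ∀ z ∈ A', y⁻¹ * z * y ∈ A' := fun z hz => by
    rw [mul_assoc, ← ab y (hA hy) z (hA' hz), inv_mul_cancel_left]; exact hz
  refine ⟨h2 z, fun h4 => ?_⟩
  have := h3 _ h4
  have e : y⁻¹ * (y * z * y⁻¹) * y = z := by group
  rwa [e] at this

/-- `[E, t] ≤ ⟨x⟩` for all `E` generated by `X`-conjugates of `V` and `t ∈ X` with `[E, t] ≤ D` -/
theorem Box.comm_czT {V D T Q B U : Subgroup G} {a x : G} (h : Box V D T Q B U a x) {S : Set G}
    (hS : S ⊆ centralizer (D : Set G)) {t : G} (ht : t ∈ centralizer (D : Set G)) (htD : ∀ e ∈ cz S V, κ(t, e) ∈ D)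
    {e : G} (he : e ∈ cz S V) : κ(t, e) = 1 ∨ κ(t, e) = x := by
  have hinv : ∀ y ∈ cz S V, κ(t, y) ∈ D := htD
  induction he using Subgroup.closure_induction with
  | mem e he =>
    obtain ⟨y, hy, v, hv, rfl⟩ := he
    have hyX : y ∈ centralizer (D : Set G) := hS hy
    have hyD : ∀ d ∈ D, y⁻¹ * d * y = d := fun d hd => by
      have h1 := mem_centralizer_iff.1 hyX d hd
      rw [mul_assoc, h1, inv_mul_cancel_left]
    have hyD' : ∀ d ∈ D, y * d * y⁻¹ = d := fun d hd => by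
      have h1 := mem_centralizer_iff.1 hyX d hd
      rw [← h1, mul_inv_cancel_right]
    have hg : y⁻¹ * t * y ∈ centralizer (D : Set G) := mul_mem (mul_mem (inv_mem hyX) ht) hyX
    have hgV : ∀ v ∈ V, (y⁻¹ * t * y) * v * (y⁻¹ * t * y)⁻¹ ∈ V := by
      intro v hv
      have h1 := htD _ (mem_cz hy hv)
      have h2 := hyD _ h1
      have h3 : (y⁻¹ * t * y) * v * (y⁻¹ * t * y)⁻¹ =
          (y⁻¹ * (t * (y * v * y⁻¹) * t⁻¹ * (y * v * y⁻¹)⁻¹) * y) * v := by group
      rw [h3, h2]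
      exact mul_mem (h.DV h1) hv
    have h4 : t * (y * v * y⁻¹) * t⁻¹ * (y * v * y⁻¹)⁻¹ =
        y * ((y⁻¹ * t * y) * v * (y⁻¹ * t * y)⁻¹ * v⁻¹) * y⁻¹ := by group
    rcases h.nx _ hg hgV v hv with h5 | h5
    · left; rw [h4, h5]; group
    · right; rw [h4, h5, hyD' x h.xD]
  | one => left; group
  | mul e f he hf h1 h2 =>
    rw [comm_mul (h.comm_U (h.cz_le hS he) (h.V_le_U (h.DV (htD f hf))))]
    rcases h1 with h1 | h1 <;> rcases h2 with h2 | h2 <;> rw [h1, h2]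
    · left; exact mul_one _
    · right; exact one_mul _
    · right; exact mul_one _
    · left; exact h.x_mul
  | inv e he h1 =>
    have h2 : t * e⁻¹ * t⁻¹ * e⁻¹⁻¹ = e⁻¹ * (t * e * t⁻¹ * e⁻¹)⁻¹ * e := by group
    rw [h2]
    rcases h1 with h1 | h1
    · left; rw [h1]; group
    · right
      have hxU : x ∈ U := h.V_le_U (h.DV h.xD)
      rw [h1, h.x_inv, h.comm_U (inv_mem (h.cz_le hS he)) hxU, inv_mul_cancel_right]

namespace Bq

variable {V D T Q B U R W K Z : Subgroup G} {a x z : G} (h : Bq V D T Q B U a x z R W K Z)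
include h

theorem sqU {v : G} (hv : v ∈ U) : v * v = 1 := h.box.sq v hv

theorem invU {v : G} (hv : v ∈ U) : v⁻¹ = v := inv_eq_of_mul_eq_one_left (h.sqU hv)

theorem cU {v w : G} (hv : v ∈ U) (hw : w ∈ U) : v * w = w * v := h.box.comm_U hv hw

theorem WU : W ≤ U := h.par.W_le_U h.box

theorem VU : V ≤ U := h.box.V_le_U

theorem VW : V ≤ W := h.par.V_le_W

theorem card_W [Finite G] : Nat.card W = 2 * Nat.card V := card_two h.VW h.par.idx h.par.ne

/-- elements of `W ∖ V` times `u` -/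
theorem W_split {u w : G} (hu : u ∈ W) (huV : u ∉ V) (hw : w ∈ W) (hwV : w ∉ V) : ∃ v ∈ V, w = v * u :=
  ⟨w * u, h.par.idx w hw u hu hwV huV, by rw [mul_assoc, h.sqU (h.WU hu), mul_one]⟩

theorem card_B_le [Finite G] {u : G} (hu : u ∈ W) : Nat.card B ≤ 2 * Nat.card (h.C1 u) := by
  set w := u * (a * u * a⁻¹) with hw
  by_cases hall : ∀ b ∈ B, b ∈ h.C1 u
  · have e2 : h.C1 u = B := le_antisymm h.C1_le hall
    rw [e2]
    omega
  · push Not at hall
    obtain ⟨b₀, hb₀, hb₀C⟩ := hall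
    have hyV : x * (a * x * a⁻¹) ∈ V := mul_mem h.xV (h.box.aV _ h.xV)
    have hval : ∀ b ∈ B, b ∉ h.C1 u → κ(b, w) = x * (a * x * a⁻¹) := by
      intro b hb hbC
      have h1 : ¬ (κ(b, u) = 1 ∨ κ(b, u) = z) := fun h2 => hbC (h.mem_C1.2 ⟨hb, (h.f12_iff hu hb).2 h2⟩)
      push Not at h1
      rw [hw, h.comm_ua hu hb]
      rcases h.mem_Z (h.par.Zc b (h.box.BQ hb) u hu) with h2 | h2 | h2 | h2
      · exact absurd h2 h1.1
      · rw [h2]
      · exact absurd h2 h1.2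
      · rw [h2]
        have e2 : a * (x * z) * a⁻¹ = (a * x * a⁻¹) * (a * z * a⁻¹) := by group
        rw [e2, h.az]
        have h3 : z * ((a * x * a⁻¹) * z) = a * x * a⁻¹ := by
          rw [h.cV (h.box.aV _ h.xV) h.zV, ← mul_assoc, h.z_mul, one_mul]
        rw [mul_assoc, h3]
    have hrel : (h.C1 u).relIndex B = 2 := by
      rw [Subgroup.relIndex_eq_two_iff]
      refine ⟨b₀, hb₀, fun b hb => ?_⟩
      by_cases hbC : b ∈ h.C1 u
      · right
        refine ⟨hbC, fun h4 => hb₀C ?_⟩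
        have := mul_mem (inv_mem hbC) h4
        rwa [inv_mul_cancel_left] at this
      · left
        refine ⟨?_, hbC⟩
        refine h.mem_C1.2 ⟨mul_mem hb hb₀, comm_iff.1 ?_⟩
        have h1 := hval b hb hbC
        have h2 := hval b₀ hb₀ hb₀C
        rw [comm_mul_left, h1, h2, h.sqV hyV]
        rw [h2]
        exact h.box.Qc b (h.box.BQ hb) _ hyV
    have := Cfsg.Agent.ZN.Block.card_mul_relIndex' (h.C1_le (u := u))
    rw [hrel] at this
    omega

/-- `f₂₁ ≠ 0` on `ker f₁₂` -/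
theorem exC [Finite G] {u : G} (hu : u ∈ W) (huV : u ∉ V) : ∃ c ∈ h.C1 u, κ(c, u) = z := by
  by_contra hcon
  push Not at hcon
  have h1 : ∀ c ∈ h.C1 u, κ(c, u) = 1 := by
    intro c hc
    have h2 := h.mem_C1.1 hc
    exact ((h.f12_iff hu h2.1).1 h2.2).resolve_right (hcon c hc)
  obtain ⟨k1, k2, k3, k4⟩ := h.box.XX_ok h.VW h.WU (h.par.W_a h.box) (h.par.B_W h.box)
  set E := W ⊔ cj a W with hE
  have hcjU : cj a W ≤ U := le_sup_right.trans k2
  have haW : ∀ w ∈ W, a * w * a⁻¹ ∈ cj a W := fun w hw => mem_cj.2 ⟨w, hw, rfl⟩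
  have ainv : ∀ e : G, a * (a * e * a⁻¹) * a⁻¹ = e := fun e => by
    have h4 : a⁻¹ = a := inv_eq_of_mul_eq_one_left h.box.aa
    calc a * (a * e * a⁻¹) * a⁻¹ = (a * a) * e * (a⁻¹ * a⁻¹) := by group
      _ = e := by rw [h4, h.box.aa, one_mul, mul_one]
  have haV : ∀ w : G, a * w * a⁻¹ ∈ V → w ∈ V := fun w hw => by
    have := h.box.aV _ hw
    rwa [ainv] at this
  -- `W ⊓ W ^ a = V`
  have hint : W ⊓ cj a W ≤ V := by
    rintro e ⟨he, he'⟩
    by_contra heV
    obtain ⟨w', hw', rfl⟩ := mem_cj.1 he'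
    have hw'V : w' ∉ V := fun h2 => heV (h.box.aV _ h2)
    refine h.par.not_fix h.box he heV ?_
    rw [ainv]
    have h3 := h.par.idx w' hw' _ he hw'V heV
    rw [h.invU (h.WU he)]
    exact h3
  have hcE : 4 * Nat.card V ≤ Nat.card E := by
    have h2 := card_sup_ab h.WU hcjU h.box.ab
    have h3 : Nat.card ↥(W ⊓ cj a W) ≤ Nat.card V := Nat.card_le_card_of_injective _ (inclusion_injective hint)
    rw [card_cj, h.card_W] at h2
    have p : 0 < Nat.card V := Nat.card_pos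
    have h4 : Nat.card E * Nat.card ↥(W ⊓ cj a W) ≤ Nat.card E * Nat.card V := Nat.mul_le_mul_left _ h3
    rw [h2] at h4
    have h5 : 4 * Nat.card V * Nat.card V ≤ Nat.card E * Nat.card V := by
      calc 4 * Nat.card V * Nat.card V = 2 * Nat.card V * (2 * Nat.card V) := by ring
        _ ≤ _ := h4
    exact Nat.le_of_mul_le_mul_right h5 p
  have hex := h.box.ex E k1 k2 k3 k4
  -- `C1` centralises `E`
  have hC1E : h.C1 u ≤ B ⊓ centralizer (E : Set G) := by
    intro c hc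
    refine ⟨(h.mem_C1.1 hc).1, mem_centralizer_iff.2 fun e he => ?_⟩
    have hW : ∀ w ∈ W, c * w = w * c := by
      intro w hw
      by_cases hwV : w ∈ V
      · exact h.box.Qc c (h.box.BQ (h.mem_C1.1 hc).1) w hwV
      · obtain ⟨v, hv, rfl⟩ := h.W_split hu huV hw hwV
        have h2 := h.box.Qc c (h.box.BQ (h.mem_C1.1 hc).1) v hv
        have h3 := comm_iff.1 (h1 c hc)
        rw [← mul_assoc, h2, mul_assoc, h3, mul_assoc]
    have h4 : E ≤ centralizer ({c} : Set G) := by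
      apply sup_le
      · intro w hw
        rw [mem_centralizer_iff]
        rintro _ rfl
        exact hW w hw
      · intro y hy
        obtain ⟨w, hw, rfl⟩ := mem_cj.1 hy
        rw [mem_centralizer_iff]
        rintro _ rfl
        apply comm_iff.1
        rw [conj_comm_a (h.box.aB _ (h.mem_C1.1 hc).1), comm_iff.2 (hW w hw)]
        group
    exact (mem_centralizer_iff.1 (h4 he) c rfl).symm
  have h5 : Nat.card (h.C1 u) ≤ Nat.card ↥(B ⊓ centralizer (E : Set G)) :=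
    Nat.card_le_card_of_injective _ (inclusion_injective hC1E)
  have h6 := h.card_B_le hu
  have pC : 0 < Nat.card (h.C1 u) := Nat.card_pos
  have pV : 0 < Nat.card V := Nat.card_pos
  have h7 : 2 * Nat.card V ≤ Nat.card ↥(E ⊓ centralizer (B : Set G)) := by
    have h8 : 4 * Nat.card V * Nat.card (h.C1 u) ≤ 2 * Nat.card (h.C1 u) * Nat.card ↥(E ⊓ centralizer (B : Set G)) := by
      calc _ ≤ Nat.card E * Nat.card ↥(B ⊓ centralizer (E : Set G)) := Nat.mul_le_mul hcE h5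
        _ ≤ _ := hex
        _ ≤ _ := Nat.mul_le_mul_right _ h6
    have h9 : (2 * Nat.card V) * (2 * Nat.card (h.C1 u)) ≤
        Nat.card ↥(E ⊓ centralizer (B : Set G)) * (2 * Nat.card (h.C1 u)) := by
      calc _ = 4 * Nat.card V * Nat.card (h.C1 u) := by ring
        _ ≤ _ := h8
        _ = _ := by ring
    exact Nat.le_of_mul_le_mul_right h9 (by omega)
  have h8 : ¬ (E ⊓ centralizer (B : Set G) ≤ V) := by
    intro h9
    have h10 : Nat.card ↥(E ⊓ centralizer (B : Set G)) ≤ Nat.card V :=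
      Nat.card_le_card_of_injective _ (inclusion_injective h9)
    omega
  obtain ⟨e, ⟨heE, heB⟩, heV⟩ := SetLike.not_le_iff_exists.1 h8
  have heB' : ∀ b ∈ B, b * e = e * b := fun b hb => mem_centralizer_iff.1 heB b hb
  have hfix := h.box.fix E k1 k2 k3 k4 e heE heB'
  obtain ⟨w, hw, y, hy, rfl⟩ := mem_sup_of_ab h.WU hcjU h.box.ab heE
  obtain ⟨w', hw', rfl⟩ := mem_cj.1 hy
  by_cases hwV : w ∈ V
  · by_cases hw'V : w' ∈ V
    · exact heV (mul_mem hwV (h.box.aV _ hw'V))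
    · -- `a e a⁻¹ = (a w a⁻¹) w'`
      set e := w * (a * w' * a⁻¹) with he
      have h9 : a * e * a⁻¹ = (a * w * a⁻¹) * w' := by
        have : a * e * a⁻¹ = (a * w * a⁻¹) * (a * (a * w' * a⁻¹) * a⁻¹) := by rw [he]; group
        rw [this, ainv]
      have h10 : a * e * a⁻¹ ∈ W := by rw [h9]; exact mul_mem (h.VW (h.box.aV _ hwV)) hw'
      have h11 : a * e * a⁻¹ ∉ V := fun h12 => heV (haV _ h12)
      refine h.par.not_fix h.box h10 h11 ?_
      rw [ainv]
      have h12 : e * (a * e * a⁻¹)⁻¹ = (a * e * a⁻¹ * e⁻¹)⁻¹ := by group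
      rw [h12]
      exact inv_mem hfix
  · by_cases hw'V : w' ∈ V
    · have h9 : w * (a * w' * a⁻¹) ∈ W := mul_mem hw (h.VW (h.box.aV _ hw'V))
      exact h.par.not_fix h.box h9 heV hfix
    · obtain ⟨v, hv, rfl⟩ := h.W_split hu huV hw hwV
      obtain ⟨v', hv', rfl⟩ := h.W_split hu huV hw' hw'V
      have hva := h.box.aV _ hv'
      have huaU : a * u * a⁻¹ ∈ U := h.par.W_a h.box u hu
      have h9 : v * u * (a * (v' * u) * a⁻¹) = (v * (a * v' * a⁻¹)) * (u * (a * u * a⁻¹)) := by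
        have h10 : u * (a * v' * a⁻¹) = (a * v' * a⁻¹) * u := h.cU (h.WU hu) (h.VU hva)
        calc v * u * (a * (v' * u) * a⁻¹) = v * (u * (a * v' * a⁻¹)) * (a * u * a⁻¹) := by group
          _ = v * ((a * v' * a⁻¹) * u) * (a * u * a⁻¹) := by rw [h10]
          _ = _ := by group
      apply h.par.B_nle h.box
      intro b hb
      have h10 := heB' b hb
      have h11 := h.box.Qc b (h.box.BQ hb) _ (mul_mem hv hva)
      have h12 : b * (u * (a * u * a⁻¹)) = (u * (a * u * a⁻¹)) * b := by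
        rw [h9] at h10
        set p := v * (a * v' * a⁻¹)
        set w := u * (a * u * a⁻¹)
        have h13 : p * (b * w) = p * (w * b) := by
          calc p * (b * w) = (p * b) * w := by group
            _ = (b * p) * w := by rw [h11]
            _ = b * (p * w) := by group
            _ = p * w * b := h10
            _ = _ := by group
        exact mul_left_cancel h13
      rw [h.par.memK_iff h.box hu huV hb, h1 b (h.mem_C1.2 ⟨hb, h12⟩)]
      exact one_mem _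

/-! ### the second layer -/

theorem SQ_cent : SQ V D Q ⊆ centralizer (D : Set G) := fun _ hy => hy.1

theorem R_SQ {r : G} (hr : r ∈ R) : r ∈ SQ V D Q :=
  ⟨h.par.RX hr, fun v hv q hq => h.par.ZV (h.par.Zc q hq _ (h.par.W_inv hr (h.VW hv)))⟩

theorem W_NN : W ≤ NN V D Q := by
  rw [h.par.W_eq, cz, Subgroup.closure_le]
  rintro _ ⟨y, hy, v, hv, rfl⟩
  exact mem_cz (h.R_SQ hy) hv

theorem NN_U : NN V D Q ≤ U := h.box.cz_le h.SQ_cent

theorem NN_Q : NN V D Q ≤ Q := h.box.cz_le_Q h.SQ_cent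

theorem NN_a : ∀ e ∈ NN V D Q, a * e * a⁻¹ ∈ U := h.box.cz_a h.SQ_cent

theorem NN_comm {q n : G} (hq : q ∈ Q) (hn : n ∈ NN V D Q) : κ(q, n) ∈ V := by
  have hn' := hn
  rw [NN, cz] at hn'
  induction hn' using Subgroup.closure_induction with
  | mem e he =>
    obtain ⟨y, hy, v, hv, rfl⟩ := he
    exact hy.2 v hv q hq
  | one => rw [mul_one, mul_inv_cancel, one_mul, inv_one]; exact one_mem _
  | mul e f he hf h1 h2 =>
    have he' : e ∈ NN V D Q := he
    have hf' : f ∈ NN V D Q := hf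
    have h1' := h1 he'
    have h2' := h2 hf'
    rw [comm_mul (h.cU (h.NN_U he') (h.VU h2'))]
    exact mul_mem h1' h2'
  | inv e he h1 =>
    have he' : e ∈ NN V D Q := he
    rw [h.invU (h.NN_U he')]
    exact h1 he'

/-- elements normalising `V`, `D`, `Q` normalise `N` -/
theorem NN_norm {g : G} (hV : ∀ v, g * v * g⁻¹ ∈ V ↔ v ∈ V) (hD : ∀ v, g * v * g⁻¹ ∈ D ↔ v ∈ D)
    (hQ : ∀ v, g * v * g⁻¹ ∈ Q ↔ v ∈ Q) : ∀ n ∈ NN V D Q, g * n * g⁻¹ ∈ NN V D Q := by
  refine cz_conj fun s hs v hv => ?_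
  have hgs : g * s * g⁻¹ ∈ SQ V D Q := by
    refine ⟨mem_centralizer_iff.2 fun d hd => ?_, fun v hv q hq => ?_⟩
    · have h1 : g⁻¹ * d * g ∈ D := by
        rw [← hD]
        have : g * (g⁻¹ * d * g) * g⁻¹ = d := by group
        rwa [this]
      have h2 := mem_centralizer_iff.1 hs.1 _ h1
      calc d * (g * s * g⁻¹) = g * ((g⁻¹ * d * g) * s) * g⁻¹ := by group
        _ = g * (s * (g⁻¹ * d * g)) * g⁻¹ := by rw [h2]
        _ = _ := by group
    · have h1 : g⁻¹ * v * g ∈ V := by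
        rw [← hV]
        have : g * (g⁻¹ * v * g) * g⁻¹ = v := by group
        rwa [this]
      have h2 : g⁻¹ * q * g ∈ Q := by
        rw [← hQ]
        have : g * (g⁻¹ * q * g) * g⁻¹ = q := by group
        rwa [this]
      have h3 := hs.2 _ h1 _ h2
      have h4 : κ(q, (g * s * g⁻¹ * v * (g * s * g⁻¹)⁻¹)) =
          g * κ((g⁻¹ * q * g), (s * (g⁻¹ * v * g) * s⁻¹)) * g⁻¹ := by group
      rw [h4, hV]
      exact h3
  have h1 : g * (s * v * s⁻¹) * g⁻¹ = (g * s * g⁻¹) * (g * v * g⁻¹) * (g * s * g⁻¹)⁻¹ := by group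
  rw [h1]
  exact mem_cz hgs ((hV v).2 hv)

theorem NN_T {t : G} (ht : t ∈ T) : ∀ n ∈ NN V D Q, t * n * t⁻¹ ∈ NN V D Q := by
  refine h.NN_norm (fun v => ⟨fun h1 => ?_, h.box.TV t ht v⟩) (fun v => ?_) fun v => ⟨fun h1 => ?_, fun h1 => h.TnQ ht h1⟩
  · have h2 := h.box.TV t⁻¹ (inv_mem ht) _ h1
    have h3 : t⁻¹ * (t * v * t⁻¹) * t⁻¹⁻¹ = v := by group
    rwa [h3] at h2
  · constructor
    · intro h1
      have h2 := h.Tx (inv_mem ht) h1
      have h3 : v = t * v * t⁻¹ := by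
        calc v = t⁻¹ * (t * v * t⁻¹) * t := by group
          _ = (t * v * t⁻¹) * t⁻¹ * t := by rw [h2]
          _ = _ := by group
      rw [h3]
      exact h1
    · intro h1
      rw [h.Tx ht h1, mul_inv_cancel_right]
      exact h1
  · have h2 := h.TnQ (inv_mem ht) h1
    have h3 : t⁻¹ * (t * v * t⁻¹) * t⁻¹⁻¹ = v := by group
    rwa [h3] at h2

end Bq

end Cfsg.Agent.Omega.NO3S.SN2
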