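import Cfsg.Agent.Omega.NO3S.SN2.BpOne

/-!
# (b') of SN.Two (helper347, #22022), (2)

`Bq.stage1` : `C1⁻` centralises `N / D`; `[n, C1] ≤ D` implies `[n, C1] = 1`; some `g ∈ R` moving `V` normalises `N`.
-/

set_option autoImplicit false
set_option linter.unusedSectionVars false

namespace Cfsg.Agent.Omega.NO3S.SN2

open Subgroup
open TwoPar (fx kr mem_zm)
open Cfsg.Agent.Omega.NOThreeL.RA (img)

universe u

variable {G : Type u} [Group G]

/-- `[b, e] = b e b⁻¹ e⁻¹` -/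
local notation "κ(" b "," e ")" => b * e * b⁻¹ * e⁻¹

namespace Bq

variable {V D T Q B U R W K Z : Subgroup G} {a x z : G} (h : Bq V D T Q B U a x z R W K Z)
include h

theorem stage1 [Finite G] {u : G} (hu : u ∈ W) (huV : u ∉ V) :
    (∀ n ∈ NN V D Q, ∀ b ∈ h.C1 u, κ(b, u) = 1 → κ(b, n) ∈ D) ∧
    (∀ n ∈ NN V D Q, (∀ c ∈ h.C1 u, κ(c, n) ∈ D) → ∀ c ∈ h.C1 u, κ(c, n) = 1) ∧
    ∃ g ∈ R, (∃ v ∈ V, g * v * g⁻¹ ∉ V) ∧ ∀ n ∈ NN V D Q, g * n * g⁻¹ ∈ NN V D Q := by
  classical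
  set C := h.C1 u with hCdef
  set N := NN V D Q with hNdef
  set S : Set G := {y | ∃ r ∈ R, ∃ s ∈ SQ V D Q, y = r * s} with hSdef
  have hS : S ⊆ centralizer (D : Set G) := by
    rintro _ ⟨r, hr, s, hs, rfl⟩
    exact mul_mem (h.par.RX hr) (h.SQ_cent hs)
  set E := cz S V with hE
  have hNE : N ≤ E := by
    rw [hNdef, NN, cz, Subgroup.closure_le]
    rintro _ ⟨y, hy, v, hv, rfl⟩
    exact mem_cz (S := S) ⟨1, one_mem _, y, hy, by rw [one_mul]⟩ hv
  have hRE : ∀ r ∈ R, ∀ e ∈ E, r * e * r⁻¹ ∈ E := by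
    intro r hr
    refine cz_conj fun s hs v hv => ?_
    obtain ⟨r', hr', s, hs, rfl⟩ := hs
    have h2 : r * (r' * s * v * (r' * s)⁻¹) * r⁻¹ = (r * r' * s) * v * (r * r' * s)⁻¹ := by group
    rw [h2]
    exact mem_cz (S := S) ⟨r * r', mul_mem hr hr', s, hs, rfl⟩ hv
  have hWE : W ≤ E := h.W_NN.trans hNE
  have hVE : V ≤ E := h.VW.trans hWE
  have hEU : E ≤ U := h.box.cz_le hS
  have hCB : C ≤ B := h.C1_le
  have hCQ : C ≤ Q := hCB.trans h.box.BQ
  have hBR : B ≤ R := h.box.BQ.trans (h.box.QT.trans h.par.TR)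
  have hCR : C ≤ R := hCB.trans hBR
  have hBE : ∀ b ∈ B, ∀ e ∈ E, b * e * b⁻¹ ∈ E := fun b hb e he => hRE b (hBR hb) e he
  have hDR : ∀ r ∈ R, ∀ d ∈ D, r * d * r⁻¹ = d := fun r hr d hd => by
    rw [← mem_centralizer_iff.1 (h.par.RX hr) d hd, mul_inv_cancel_right]
  obtain ⟨M, _, Γ, _, _, ρ, π, m⟩ := Cfsg.Agent.Omega.NOThreeL.RA.exists_md (U := E) (R := D) (H := R)
    (h.box.DV.trans hVE) (fun x hx y hy => h.cU (hEU hx) (hEU hy)) hRE
    (fun r hr d hd => by rw [hDR r hr d hd]; exact hd)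
  let _ : DistribMulAction R M := DistribMulAction.compHom M ρ
  have act : ∀ (r : R), ∀ e ∈ E, r • π e = π ((r : G) * e * (r : G)⁻¹) := fun r e he => m.act r e he
  have π1 : π 1 = 0 := (m.ker 1 (one_mem _)).2 (one_mem _)
  have hsq : ∀ e ∈ E, e * e = 1 := fun e he => h.sqU (hEU he)
  have hcm : ∀ e ∈ E, ∀ f ∈ E, e * f = f * e := fun e he f hf => h.cU (hEU he) (hEU hf)
  have hin : ∀ e ∈ E, e⁻¹ = e := fun e he => h.invU (hEU he)
  have heq : ∀ e ∈ E, ∀ f ∈ E, (π e = π f ↔ e * f ∈ D) := by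
    intro e he f hf
    rw [m.eq_iff he hf, hin f hf]
  have hfe : ∀ (r : R), ∀ e ∈ E, (r • π e = π e ↔ κ((r : G), e) ∈ D) := by
    intro r e he
    rw [act r e he, m.eq_iff (hRE r r.2 e he) he]
  have hzE : z ∈ E := hVE h.zV
  have huE : u ∈ E := hWE hu
  have huD : u ∉ D := fun h1 => huV (h.box.DV h1)
  obtain ⟨c, hc, hcu⟩ := h.exC hu huV
  have hf12 : ∀ b ∈ C, κ(b, u) = 1 ∨ κ(b, u) = z := fun b hb =>
    (h.f12_iff hu (h.mem_C1.1 hb).1).1 (h.mem_C1.1 hb).2
  -- `C_C(W)`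
  have hCW : ∀ b ∈ C, κ(b, u) = 1 → b ∈ K ⊓ centralizer (W : Set G) := by
    intro b hb h1
    refine ⟨?_, ?_⟩
    · change b ∈ K
      rw [h.par.memK_iff h.box hu huV (hCB hb), h1]
      exact one_mem _
    · refine mem_centralizer_iff.2 fun w hw => ?_
      by_cases hwV : w ∈ V
      · exact (h.box.Qc b (hCQ hb) w hwV).symm
      · obtain ⟨v, hv, rfl⟩ := h.W_split hu huV hw hwV
        have h2 := h.box.Qc b (hCQ hb) v hv
        have h3 := comm_iff.1 h1
        rw [← mul_assoc b, h2, mul_assoc v b u, h3, mul_assoc]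
  -- the three vectors
  have hD3 : ∀ y ∈ W, y ∉ D → π y = π z ∨ π y = π u ∨ π y = π (z * u) := by
    intro y hy hyD
    have hyE := hWE hy
    by_cases hyV : y ∈ V
    · left
      rw [heq y hyE z hzE]
      exact h.box.idx y hyV z h.zV hyD h.zD
    · right
      have h1 := h.par.idx y hy u hu hyV huV
      by_cases h2 : y * u ∈ D
      · left
        rwa [heq y hyE u huE]
      · right
        rw [heq y hyE _ (mul_mem hzE huE)]
        have h3 := h.box.idx _ h1 z h.zV h2 h.zD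
        have h4 : y * (z * u) = y * u * z := by rw [hcm z hzE u huE, mul_assoc]
        rwa [h4]
  have hrD : ∀ r ∈ R, ∀ y : G, y ∉ D → r * y * r⁻¹ ∉ D := by
    intro r hr y hy h1
    apply hy
    have h2 := hDR r⁻¹ (inv_mem hr) _ h1
    have h3 : r⁻¹ * (r * y * r⁻¹) * r⁻¹⁻¹ = y := by group
    rw [h3] at h2
    rw [h2]
    exact h1
  have hcu' : π (c * u * c⁻¹) = π (z * u) := by
    rw [heq _ (hBE c (hCB hc) u huE) _ (mul_mem hzE huE)]
    have h5 : c * u * c⁻¹ * (z * u) = κ(c, u) * z := by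
      rw [hin u huE, hcm z hzE u huE, ← mul_assoc]
    rw [h5, hcu, h.z_mul]
    exact one_mem _
  have hcuu : ((⟨c, hCR hc⟩ : R) • π u) = π (z * u) := by rw [act _ _ huE]; exact hcu'
  have hc2 : ((⟨c, hCR hc⟩ : R) • π (z * u)) = π u := by
    rw [act _ _ (mul_mem hzE huE)]
    change π (c * (z * u) * c⁻¹) = π u
    have h1 : c * (z * u) * c⁻¹ = z * (c * u * c⁻¹) := by
      have h2 := h.box.Qc c (hCQ hc) z h.zV
      calc c * (z * u) * c⁻¹ = (c * z) * u * c⁻¹ := by group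
        _ = _ := by rw [h2]; group
    rw [h1, m.mul z hzE _ (hBE c (hCB hc) u huE), hcu', ← m.mul z hzE _ (mul_mem hzE huE), ← mul_assoc,
      h.z_mul, one_mul]
  -- an element of `R` moving `V`
  have hmove : ∃ r : R, r • π z = π u ∨ r • π z = π (z * u) := by
    by_contra hcon
    push Not at hcon
    apply h.par.ne
    rw [h.par.W_eq, cz, Subgroup.closure_le]
    rintro _ ⟨r, hr, v, hv, rfl⟩
    change r * v * r⁻¹ ∈ V
    by_cases hvD : v ∈ D
    · rw [hDR r hr v hvD]; exact hv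
    · have hrv₀ : r * z * r⁻¹ ∈ V := by
        have h1 : r * z * r⁻¹ ∈ W := h.par.W_inv hr (h.VW h.zV)
        have h2 := hcon ⟨r, hr⟩
        rw [act _ _ hzE] at h2
        rcases hD3 _ h1 (hrD r hr z h.zD) with h3 | h3 | h3
        · rw [heq _ (hWE h1) _ hzE] at h3
          have := mul_mem (h.box.DV h3) (inv_mem h.zV)
          rwa [mul_inv_cancel_right] at this
        · exact absurd h3 h2.1
        · exact absurd h3 h2.2
      have h4 := h.box.idx v hv z h.zV hvD h.zD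
      have h5 : r * v * r⁻¹ = (r * (v * z) * r⁻¹) * (r * z * r⁻¹)⁻¹ := by group
      rw [h5, hDR r hr _ h4]
      exact mul_mem (h.box.DV h4) (inv_mem hrv₀)
  have htr : (∃ r : R, r • π z = π u) ∧ ∃ r : R, r • π z = π (z * u) := by
    obtain ⟨r, hr | hr⟩ := hmove
    · exact ⟨⟨r, hr⟩, ⟨⟨c, hCR hc⟩ * r, by rw [mul_smul, hr, hcuu]⟩⟩
    · exact ⟨⟨⟨c, hCR hc⟩ * r, by rw [mul_smul, hr, hc2]⟩, ⟨r, hr⟩⟩
  have hfinM : Finite M := by
    refine Finite.of_surjective (fun e : E => π e) fun y => ?_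
    obtain ⟨e, he, rfl⟩ := m.surj y
    exact ⟨⟨e, he⟩, rfl⟩
  -- the count
  set K1 : Subgroup G := K ⊓ centralizer (W : Set G) with hK1
  set C' : Subgroup R := C.subgroupOf R with hC'
  set N₁ : Subgroup R := kr R M ⊓ C' with hN₁
  set B₁ : Subgroup G := N₁.map R.subtype with hB₁
  have memB₁ : ∀ b : G, b ∈ B₁ ↔ b ∈ C ∧ ∀ e ∈ E, κ(b, e) ∈ D := by
    intro b
    constructor
    · rintro ⟨b', ⟨hb1, hb2⟩, rfl⟩
      refine ⟨hb2, fun e he => ?_⟩
      exact (hfe b' e he).1 (hb1 (π e))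
    · rintro ⟨hb, hbE⟩
      refine ⟨⟨b, hCR hb⟩, ⟨fun y => ?_, hb⟩, rfl⟩
      obtain ⟨e, he, rfl⟩ := m.surj y
      exact (hfe ⟨b, hCR hb⟩ e he).2 (hbE e he)
  have hXX := h.box.XX_ok hVE hEU (h.box.cz_a hS) hBE
  obtain ⟨k1, k2, k3, k4⟩ := hXX
  have hX := lemX0 (B := C) (B₁ := B₁) (x := x) hEU (h.box.cz_a hS) h.box.ab h.box.sq (fun b hb => h.box.aB b (hCB hb))
    (fun b hb e he => hBE b (hCB hb) e he) (fun b hb => ((memB₁ b).1 hb).1)
    (fun b hb hce => (memB₁ b).2 ⟨hb, fun e he => by rw [comm_iff.2 (hce e he)]; exact one_mem _⟩) h.box.ax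
    (fun b hb => h.box.B_D (hCB ((memB₁ b).1 hb).1) h.box.xD)
    (fun b hb e he => h.box.comm_czT hS (h.box.Tc (h.box.QT (hCQ ((memB₁ b).1 hb).1))) ((memB₁ b).1 hb).2 he)
    (h.exC1 hu (hWE.trans le_sup_left) k2 k3 k4)
  have hcardN : Nat.card B₁ = Nat.card N₁ :=
    Nat.card_congr (N₁.equivMapOfInjective _ (Subgroup.subtype_injective R)).symm.toEquiv
  have hcardC' : Nat.card C' = Nat.card C := Nat.card_congr (Subgroup.subgroupOfEquivOfLe hCR).toEquiv
  have hrel : Nat.card N₁ * (kr R M).relIndex C' = Nat.card C := by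
    rw [← Subgroup.inf_relIndex_right, ← hcardC']
    exact Cfsg.Agent.ZN.Block.card_mul_relIndex' (inf_le_right : N₁ ≤ C')
  let φ : E →* Multiplicative M :=
    { toFun := fun e => Multiplicative.ofAdd (π e)
      map_one' := by change Multiplicative.ofAdd (π 1) = 1; rw [π1]; rfl
      map_mul' := fun e f => by
        change Multiplicative.ofAdd (π (e * f)) = _
        rw [m.mul e e.2 f f.2]; rfl }
  have hφs : Function.Surjective φ := fun y => by
    obtain ⟨e, he, h1⟩ := m.surj (Multiplicative.toAdd y)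
    exact ⟨⟨e, he⟩, congrArg Multiplicative.ofAdd h1⟩
  set F : Subgroup E := (AddSubgroup.toSubgroup (fx M C')).comap φ with hF
  have hFi : F.index = (fx M C').index := Subgroup.index_comap_of_surjective _ hφs
  set F' : Subgroup E := (E ⊓ centralizer (C : Set G)).subgroupOf E with hF'
  have hFF : F' ≤ F := by
    intro e he
    change (π e) ∈ fx M C'
    intro b hb
    rw [hfe b e e.2, comm_iff.2 (mem_centralizer_iff.1 (Subgroup.mem_subgroupOf.1 he).2 b hb)]
    exact one_mem _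
  have hF'c : Nat.card F' = Nat.card ↥(E ⊓ centralizer (C : Set G)) :=
    Nat.card_congr (Subgroup.subgroupOfEquivOfLe (inf_le_left : E ⊓ centralizer (C : Set G) ≤ E)).toEquiv
  have hFc : Nat.card ↥(E ⊓ centralizer (C : Set G)) ≤ Nat.card F := by
    rw [← hF'c]
    exact Nat.card_le_card_of_injective _ (inclusion_injective hFF)
  have hFE : Nat.card F * F.index = Nat.card E := F.card_mul_index
  have hcard : (fx M C').index ≤ (kr R M).relIndex C' := by
    rw [hcardN] at hX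
    have pF : 0 < Nat.card F := Nat.card_pos
    have pN : 0 < Nat.card N₁ := Nat.card_pos
    rw [← hFi]
    refine Nat.le_of_mul_le_mul_right (c := Nat.card F * Nat.card N₁) ?_ (Nat.mul_pos pF pN)
    calc F.index * (Nat.card F * Nat.card N₁) = (Nat.card F * F.index) * Nat.card N₁ := by ring
      _ = Nat.card E * Nat.card N₁ := by rw [hFE]
      _ ≤ Nat.card C * Nat.card ↥(E ⊓ centralizer (C : Set G)) := hX
      _ ≤ Nat.card C * Nat.card F := Nat.mul_le_mul_left _ hFc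
      _ = (kr R M).relIndex C' * (Nat.card F * Nat.card N₁) := by rw [← hrel]; ring
  have hVD : ∀ v ∈ V, π v = 0 ∨ π v = π z := by
    intro v hv
    by_cases hvD : v ∈ D
    · left; exact (m.ker v (hVE hv)).2 hvD
    · right
      rw [heq v (hVE hv) z hzE]
      exact h.box.idx v hv z h.zV hvD h.zD
  have two : ∀ y : M, y + y = 0 := by
    intro y
    obtain ⟨e, he, rfl⟩ := m.surj y
    rw [← m.mul e he e he, hsq e he, π1]
  have hsit : BpAbs.Sit (R := R) (Y := M) (T.subgroupOf R) (K1.subgroupOf R) C' (img π N) (π z) (π u)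
      (π (z * u)) := by
    refine
      { finR := inferInstance
        finY := hfinM
        two := two
        Kn := ?_
        KT := fun k hk => h.par.KT (Subgroup.mem_subgroupOf.1 hk).1
        sum := ?_
        ne1 := fun h1 => huD ((m.ker _ huE).1 h1)
        ne2 := ?_
        ne := ?_
        perm := ?_
        tr1 := htr.1
        tr2 := htr.2
        Tw := ?_
        KP := ?_
        w1P := (m.mem_img hNE).2 ⟨u, h.W_NN hu, rfl⟩
        w2P := (m.mem_img hNE).2 ⟨z * u, mul_mem (h.W_NN (h.VW h.zV)) (h.W_NN hu), rfl⟩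
        span := ?_
        BT := fun b hb => h.box.QT (hCQ hb)
        comm := ?_
        BK := ?_
        nle := ?_
        card := hcard }
    · refine ⟨fun k hk r => ?_⟩
      have hk' := Subgroup.mem_subgroupOf.1 hk
      refine ⟨h.par.Kn r r.2 k hk'.1, mem_centralizer_iff.2 fun w hw => ?_⟩
      have h1 : (r : G)⁻¹ * w * r ∈ W := by
        have := h.par.W_inv (inv_mem r.2) hw
        rwa [inv_inv] at this
      have h2 := mem_centralizer_iff.1 hk'.2 _ h1
      change w * ((r : G) * k * (r : G)⁻¹) = ((r : G) * k * (r : G)⁻¹) * w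
      calc w * ((r : G) * k * (r : G)⁻¹) = r * (((r : G)⁻¹ * w * r) * k) * (r : G)⁻¹ := by group
        _ = r * (k * ((r : G)⁻¹ * w * r)) * (r : G)⁻¹ := by rw [h2]
        _ = _ := by group
    · rw [← m.mul u huE _ (mul_mem hzE huE), hcm z hzE u huE, ← mul_assoc, hsq u huE, one_mul]
    · intro h1
      have h2 := (m.ker _ (mul_mem hzE huE)).1 h1
      apply huV
      have := mul_mem (inv_mem h.zV) (h.box.DV h2)
      rwa [inv_mul_cancel_left] at this
    · intro h1
      rw [m.mul z hzE u huE] at h1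
      exact (fun h2 => h.zD ((m.ker _ hzE).1 h2)) (left_eq_add.1 (by rw [add_comm] at h1; exact h1))
    · intro r
      rw [act r _ hzE]
      exact hD3 _ (h.par.W_inv r.2 (h.VW h.zV)) (hrD r r.2 z h.zD)
    · intro t ht
      have ht' : (t : G) ∈ T := ht
      rw [act t _ hzE, heq _ (hRE t t.2 _ hzE) _ hzE]
      exact h.box.idx _ (h.box.TV t ht' z h.zV) z h.zV (hrD t t.2 z h.zD) h.zD
    · intro k hk y hy
      obtain ⟨n, hn, rfl⟩ := (m.mem_img hNE).1 hy
      have hk' := Subgroup.mem_subgroupOf.1 hk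
      have hkQ : (k : G) ∈ Q := h.TQ _ (h.par.KT hk'.1) fun v hv =>
        (mem_centralizer_iff.1 hk'.2 v (h.VW hv)).symm
      have h1 := h.NN_comm hkQ hn
      rw [act k n (hNE hn), ← m.mul _ (hRE k k.2 n (hNE hn)) n (hNE hn), mem_zm two]
      rw [hin n (hNE hn)] at h1
      exact hVD _ h1
    · rw [eq_top_iff]
      rintro y -
      obtain ⟨e, he, rfl⟩ := m.surj y
      set Cl := AddSubgroup.closure {w : M | ∃ r : R, ∃ y ∈ img π N, w = r • y} with hCl
      induction he using Subgroup.closure_induction with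
      | mem e he =>
        obtain ⟨y, ⟨r, hr, s, hs, rfl⟩, v, hv, rfl⟩ := he
        have hw : s * v * s⁻¹ ∈ N := mem_cz hs hv
        have h1 : r * s * v * (r * s)⁻¹ = r * (s * v * s⁻¹) * r⁻¹ := by group
        have h2 : π (r * (s * v * s⁻¹) * r⁻¹) = (⟨r, hr⟩ : R) • π (s * v * s⁻¹) := (act ⟨r, hr⟩ _ (hNE hw)).symm
        rw [h1, h2]
        exact AddSubgroup.subset_closure ⟨_, _, (m.mem_img hNE).2 ⟨_, hw, rfl⟩, rfl⟩
      | one => rw [π1]; exact zero_mem _
      | mul e f he hf h1 h2 =>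
        rw [m.mul e he f hf]
        exact add_mem h1 h2
      | inv e he h1 =>
        rw [hin e he]; exact h1
    · intro b hb b' hb'
      exact Subtype.ext (h.box.Bab b (hCB hb) b' (hCB hb'))
    · intro b hb hbw
      rw [hfe b u huE] at hbw
      refine Subgroup.mem_subgroupOf.2 (hCW b hb ?_)
      refine (hf12 b hb).resolve_right fun h1 => h.zD ?_
      rw [← h1]
      exact hbw
    · intro h1
      have h2 : (⟨c, hCR hc⟩ : R) ∈ K1.subgroupOf R := h1 (show (⟨c, hCR hc⟩ : R) ∈ C' from hc)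
      have h3 := mem_centralizer_iff.1 (Subgroup.mem_subgroupOf.1 h2).2 u hu
      have h4 : κ(c, u) = 1 := comm_iff.2 h3.symm
      rw [hcu] at h4
      exact h.z1 h4
  obtain ⟨o1, g, hg, o2⟩ := hsit.main
  have o3 := hsit.main_index.2.2
  refine ⟨fun n hn b hb hbu => ?_, fun n hn hcn c' hc' => ?_, g, g.2, ⟨z, h.zV, fun h1 => hg ?_⟩, fun n hn => ?_⟩
  · have h1 := o1 (π n) ((m.mem_img hNE).2 ⟨n, hn, rfl⟩) ⟨b, hCR hb⟩ hb (Subgroup.mem_subgroupOf.2 (hCW b hb hbu))
    exact (hfe _ n (hNE hn)).1 h1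
  · have hle : Nat.card F ≤ Nat.card F' := by
      rw [hF'c]
      have pI : 0 < F.index := Nat.pos_of_ne_zero (Subgroup.index_ne_zero_of_finite)
      have pN : 0 < Nat.card N₁ := Nat.card_pos
      rw [hcardN] at hX
      have h1 : (Nat.card F) * (F.index * Nat.card N₁) ≤
          Nat.card ↥(E ⊓ centralizer (C : Set G)) * (F.index * Nat.card N₁) := by
        calc (Nat.card F) * (F.index * Nat.card N₁) = Nat.card E * Nat.card N₁ := by rw [← hFE]; ring
          _ ≤ Nat.card C * Nat.card ↥(E ⊓ centralizer (C : Set G)) := hX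
          _ = Nat.card ↥(E ⊓ centralizer (C : Set G)) * ((kr R M).relIndex C' * Nat.card N₁) := by rw [← hrel]; ring
          _ ≤ _ := Nat.mul_le_mul_left _ (Nat.mul_le_mul_right _ (by rw [hFi]; exact o3))
      exact Nat.le_of_mul_le_mul_right h1 (Nat.mul_pos pI pN)
    have hFeq : F' = F := Subgroup.eq_of_le_of_card_ge hFF hle
    have h2 : (⟨n, hNE hn⟩ : E) ∈ F := by
      change π n ∈ fx M C'
      intro b hb
      exact (hfe b n (hNE hn)).2 (hcn b hb)
    rw [← hFeq] at h2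
    exact comm_iff.2 (mem_centralizer_iff.1 (Subgroup.mem_subgroupOf.1 h2).2 c' hc')
  · rw [act g z hzE, heq _ (hRE g g.2 z hzE) z hzE]
    exact h.box.idx _ h1 z h.zV (hrD g g.2 z h.zD) h.zD
  · have h1 := o2 (π n) ((m.mem_img hNE).2 ⟨n, hn, rfl⟩)
    rw [act g n (hNE hn), ← m.mul _ (hRE g g.2 n (hNE hn)) n (hNE hn)] at h1
    obtain ⟨n', hn', r, hr, he⟩ := (m.pi_mem_iff hNE (mul_mem (hRE g g.2 n (hNE hn)) (hNE hn))).1 h1
    have h2 : (g : G) * n * (g : G)⁻¹ = r * n' * n⁻¹ := eq_mul_inv_of_mul_eq he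
    rw [h2]
    exact mul_mem (mul_mem (h.W_NN (h.VW (h.box.DV hr))) hn') (inv_mem hn)

end Bq

end Cfsg.Agent.Omega.NO3S.SN2
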