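import Cfsg.Agent.Omega.NO3S.SN2.BpStage

/-!
# (b') of SN.Two (helper347, #22022), (3)

* `Cen.ker_eq` : if every `k ∈ K` moves `Y` by one vector of the orbit `w₀ ^ R`, then all non-trivial `k` have the same
  fixed points.
* `Bq.stage2` : the preimage of `C_{N/D}(K)` is `W`.
-/

set_option autoImplicit false
set_option linter.unusedSectionVars false

namespace Cfsg.Agent.Omega.NO3S.SN2

open Subgroup
open TwoPar (fx kr mem_zm)
open Cfsg.Agent.Omega.NOThreeL.RA (img)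

universe u

section abs

variable {R Y : Type u} [Group R] [AddCommGroup Y] [DistribMulAction R Y]

structure Cen (K : Subgroup R) (w₀ : Y) : Prop where
  two : ∀ y : Y, y + y = 0
  Kn : K.Normal
  w0 : w₀ ≠ 0
  mv : ∀ d : R, ∃ r : R, r • d • w₀ ≠ d • w₀
  Kw : ∀ k ∈ K, ∀ d : R, k • d • w₀ = d • w₀
  cov : ∀ k ∈ K, ∃ d : R, ∀ y : Y, k • y = y ∨ k • y = y + d • w₀

namespace Cen

variable {K : Subgroup R} {w₀ : Y} (h : Cen K w₀)
include h

theorem dw0 (d : R) : d • w₀ ≠ 0 := fun e => h.w0 ((smul_eq_zero_iff_eq d).1 e)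

theorem aux {k k' : R} (hk : k ∈ K) (hk' : k' ∈ K) (hn' : ∃ y : Y, k' • y ≠ y) {d d' : R}
    (hd : ∀ y : Y, k • y = y ∨ k • y = y + d • w₀) (hd' : ∀ y : Y, k' • y = y ∨ k' • y = y + d' • w₀)
    (hne : d • w₀ ≠ d' • w₀) {y : Y} (hy : k' • y = y) : k • y = y := by
  obtain ⟨e, he⟩ := h.cov _ (mul_mem hk hk')
  rcases hd y with h1 | h1
  · exact h1
  · exfalso
    have h2 : (k * k') • y = y + d • w₀ := by rw [mul_smul, hy, h1]
    have h3 : e • w₀ = d • w₀ := by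
      rcases he y with h4 | h4
      · rw [h4] at h2
        exact absurd (left_eq_add.1 h2) (h.dw0 d)
      · rw [h4] at h2
        exact add_left_cancel h2
    obtain ⟨y₂, hy₂⟩ := hn'
    have h4 := (hd' y₂).resolve_left hy₂
    rcases hd y₂ with h5 | h5
    · have h6 : (k * k') • y₂ = y₂ + d' • w₀ := by rw [mul_smul, h4, smul_add, h5, h.Kw k hk]
      rcases he y₂ with h7 | h7
      · rw [h7] at h6
        exact absurd (left_eq_add.1 h6) (h.dw0 d')
      · rw [h7] at h6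
        exact hne (h3.symm.trans (add_left_cancel h6))
    · have h6 : (k * k') • y₂ = y₂ + (d • w₀ + d' • w₀) := by
        rw [mul_smul, h4, smul_add, h5, h.Kw k hk, add_assoc]
      rcases he y₂ with h7 | h7
      · rw [h7] at h6
        have h8 := left_eq_add.1 h6
        exact hne (by
          have h9 : d • w₀ = d • w₀ + (d' • w₀ + d' • w₀) := by rw [h.two, add_zero]
          rw [h9, ← add_assoc, h8, zero_add])
      · rw [h7] at h6
        have h8 := add_left_cancel h6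
        rw [h3] at h8
        exact h.dw0 d' (left_eq_add.1 h8)

theorem ker_eq' {k k' : R} (hk : k ∈ K) (hk' : k' ∈ K) (hn' : ∃ y : Y, k' • y ≠ y) {y : Y} (hy : k' • y = y) :
    k • y = y := by
  obtain ⟨d, hd⟩ := h.cov k hk
  obtain ⟨d', hd'⟩ := h.cov k' hk'
  by_cases hne : d • w₀ = d' • w₀
  · obtain ⟨r, hr⟩ := h.mv d'
    set k'' := r * k' * r⁻¹ with hk''
    have hk''K : k'' ∈ K := h.Kn.conj_mem k' hk' r
    have hd'' : ∀ y : Y, k'' • y = y ∨ k'' • y = y + (r * d') • w₀ := by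
      intro y
      have e1 : k'' • y = r • k' • r⁻¹ • y := by rw [hk'', mul_smul, mul_smul]
      rcases hd' (r⁻¹ • y) with h1 | h1
      · left; rw [e1, h1, smul_inv_smul]
      · right; rw [e1, h1, smul_add, smul_inv_smul, mul_smul]
    have hn'' : ∃ y : Y, k'' • y ≠ y := by
      obtain ⟨y₁, hy₁⟩ := hn'
      refine ⟨r • y₁, fun e => hy₁ ?_⟩
      rw [hk'', mul_smul, mul_smul, inv_smul_smul] at e
      exact smul_left_cancel r e
    have e1 : (r * d') • w₀ ≠ d' • w₀ := by rw [mul_smul]; exact hr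
    have h1 : k'' • y = y := h.aux hk''K hk' hn' hd'' hd' e1 hy
    exact h.aux hk hk''K hn'' hd hd'' (by rw [hne]; exact e1.symm) h1
  · exact h.aux hk hk' hn' hd hd' hne hy

/-- `C_Y(K)` has index at most `2` -/
theorem hyp {k k' : R} (hk : k ∈ K) (hk' : k' ∈ K) {y y' : Y} (hy : k • y ≠ y) (hy' : k' • y' ≠ y') :
    ∀ s ∈ K, s • (y + y') = y + y' := by
  intro s hs
  have h1 : k • y' ≠ y' := fun e => hy' (h.ker_eq' hk' hk ⟨y, hy⟩ e)
  obtain ⟨d, hd⟩ := h.cov k hk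
  have h2 := (hd y).resolve_left hy
  have h3 := (hd y').resolve_left h1
  refine h.ker_eq' hs hk ⟨y, hy⟩ ?_
  rw [smul_add, h2, h3]
  have : y + d • w₀ + (y' + d • w₀) = y + y' + (d • w₀ + d • w₀) := by abel
  rw [this, h.two, add_zero]

end Cen

end abs

variable {G : Type u} [Group G]

/-- `[b, e] = b e b⁻¹ e⁻¹` -/
local notation "κ(" b "," e ")" => b * e * b⁻¹ * e⁻¹

namespace Bq

variable {V D T Q B U R W K Z : Subgroup G} {a x z : G} (h : Bq V D T Q B U a x z R W K Z)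
include h

theorem hDR {r d : G} (hr : r ∈ R) (hd : d ∈ D) : r * d * r⁻¹ = d := by
  rw [← mem_centralizer_iff.1 (h.par.RX hr) d hd, mul_inv_cancel_right]

theorem KQ_conj {r k : G} (hr : r ∈ R) (hk : k ∈ K) : r⁻¹ * k * r ∈ K := by
  have := h.par.Kn _ (inv_mem hr) k hk
  rwa [inv_inv] at this

/-- elements of `K` move `W` by `⟨x⟩` -/
theorem K_W {k w : G} (hk : k ∈ K) (hw : w ∈ W) : κ(k, w) = 1 ∨ κ(k, w) = x := by
  have h1 : (R : Set G) ⊆ centralizer (D : Set G) := h.par.RX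
  have h2 : w ∈ cz (R : Set G) V := by rw [← h.par.W_eq]; exact hw
  refine h.box.comm_czT h1 (h.box.Tc (h.par.KT hk)) (fun e he => ?_) h2
  rw [← h.par.W_eq] at he
  exact h.par.Kc k hk e he

theorem cent_V {k : G} (hk : k ∈ K) {v : G} (hv : v ∈ V) (hvD : v ∉ D) (h1 : κ(k, v) = 1) : k ∈ Q := by
  refine h.TQ k (h.par.KT hk) fun w hw => ?_
  by_cases hwD : w ∈ D
  · exact h.Tx (h.par.KT hk) hwD
  · have h2 := h.box.idx w hw v hv hwD hvD
    have h3 := h.Tx (h.par.KT hk) h2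
    have h4 := comm_iff.1 h1
    have h5 : w = (w * v) * v := by rw [mul_assoc, h.sqV hv, mul_one]
    rw [h5, ← mul_assoc, h3, mul_assoc (w * v), h4]
    simp only [mul_assoc]

theorem cent_W {k u : G} (hu : u ∈ W) (huV : u ∉ V) (hkQ : k ∈ Q) (h1 : κ(k, u) = 1) {w : G} (hw : w ∈ W) :
    k * w = w * k := by
  by_cases hwV : w ∈ V
  · exact h.box.Qc k hkQ w hwV
  · obtain ⟨v, hv, rfl⟩ := h.W_split hu huV hw hwV
    have h2 := h.box.Qc k hkQ v hv
    have h3 := comm_iff.1 h1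
    rw [← mul_assoc k, h2, mul_assoc v k u, h3, mul_assoc]

theorem stage2 [Finite G] {u : G} (hu : u ∈ W) (huV : u ∉ V)
    (hRN : ∀ r ∈ R, ∀ n ∈ NN V D Q, r * n * r⁻¹ ∈ NN V D Q) :
    (∀ n ∈ NN V D Q, (∀ k ∈ K, κ(k, n) ∈ D) → n ∈ W) ∧
    (∀ n ∈ NN V D Q, ∀ n' ∈ NN V D Q, n ∉ W → n' ∉ W → n * n' ∈ W) ∧
    (∀ t ∈ T, (∀ n ∈ NN V D Q, κ(t, n) ∈ D) → (∃ n ∈ NN V D Q, n ∉ W) → ∀ w ∈ W, t * w = w * t) ∧
    (∀ n ∈ NN V D Q, n ∉ W → ∃ k₀ ∈ K, k₀ ∈ Q ∧ κ(k₀, n) ∉ D ∧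
      ∀ q ∈ K, q ∈ Q → (∀ m ∈ NN V D Q, κ(q, m) ∈ D) ∨ (∀ m ∈ NN V D Q, κ((q * k₀), m) ∈ D)) := by
  classical
  obtain ⟨s1, s2, -⟩ := h.stage1 hu huV
  obtain ⟨c, hc, hcu⟩ := h.exC hu huV
  set N := NN V D Q with hNdef
  have hWN : W ≤ N := h.W_NN
  have hVN : V ≤ N := h.VW.trans hWN
  have hNU : N ≤ U := h.NN_U
  have hcQ : c ∈ Q := h.box.BQ (h.mem_C1.1 hc).1
  have hQR : Q ≤ R := h.box.QT.trans h.par.TR
  have hcR : c ∈ R := hQR hcQ
  have hKR : K ≤ R := h.par.KT.trans h.par.TR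
  obtain ⟨M, _, Γ, _, _, ρ, π, m⟩ := Cfsg.Agent.Omega.NOThreeL.RA.exists_md (U := N) (R := D) (H := R)
    (h.box.DV.trans hVN) (fun x hx y hy => h.cU (hNU hx) (hNU hy)) hRN
    (fun r hr d hd => by rw [h.hDR hr hd]; exact hd)
  let _ : DistribMulAction R M := DistribMulAction.compHom M ρ
  have act : ∀ (r : R), ∀ e ∈ N, r • π e = π ((r : G) * e * (r : G)⁻¹) := fun r e he => m.act r e he
  have π1 : π 1 = 0 := (m.ker 1 (one_mem _)).2 (one_mem _)
  have hsq : ∀ e ∈ N, e * e = 1 := fun e he => h.sqU (hNU he)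
  have hcm : ∀ e ∈ N, ∀ f ∈ N, e * f = f * e := fun e he f hf => h.cU (hNU he) (hNU hf)
  have hin : ∀ e ∈ N, e⁻¹ = e := fun e he => h.invU (hNU he)
  have heq : ∀ e ∈ N, ∀ f ∈ N, (π e = π f ↔ e * f ∈ D) := by
    intro e he f hf
    rw [m.eq_iff he hf, hin f hf]
  have hfe : ∀ (r : R), ∀ e ∈ N, (r • π e = π e ↔ κ((r : G), e) ∈ D) := by
    intro r e he
    rw [act r e he, m.eq_iff (hRN r r.2 e he) he]
  have hadd : ∀ (r : R), ∀ e ∈ N, r • π e = π e + π (κ((r : G), e)) := by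
    intro r e he
    have h1 : κ((r : G), e) ∈ N := mul_mem (hRN r r.2 e he) (inv_mem he)
    rw [← m.mul e he _ h1, hcm e he _ h1, act r e he]
    congr 1
    group
  have two : ∀ y : M, y + y = 0 := by
    intro y
    obtain ⟨e, he, rfl⟩ := m.surj y
    rw [← m.mul e he e he, hsq e he, π1]
  have hzN : z ∈ N := hVN h.zV
  have huN : u ∈ N := hWN hu
  have huD : u ∉ D := fun h1 => huV (h.box.DV h1)
  have hVD : ∀ v ∈ V, π v = 0 ∨ π v = π z := by
    intro v hv
    by_cases hvD : v ∈ D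
    · left; exact (m.ker v (hVN hv)).2 hvD
    · right
      rw [heq v (hVN hv) z hzN]
      exact h.box.idx v hv z h.zV hvD h.zD
  have hrD : ∀ r ∈ R, ∀ y : G, y ∉ D → r * y * r⁻¹ ∉ D := by
    intro r hr y hy h1
    apply hy
    have h2 := h.hDR (inv_mem hr) h1
    have h3 : r⁻¹ * (r * y * r⁻¹) * r⁻¹⁻¹ = y := by group
    rw [h3] at h2
    rw [h2]
    exact h1
  have hD3 : ∀ y ∈ W, y ∉ D → π y = π z ∨ π y = π u ∨ π y = π z + π u := by
    intro y hy hyD
    have hyN := hWN hy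
    by_cases hyV : y ∈ V
    · left
      exact (hVD y hyV).resolve_left fun h1 => hyD ((m.ker y hyN).1 h1)
    · right
      obtain ⟨v, hv, rfl⟩ := h.W_split hu huV hy hyV
      rw [m.mul v (hVN hv) u huN]
      rcases hVD v hv with h1 | h1 <;> rw [h1]
      · left; rw [zero_add]
      · right; rfl
  have hπz : π z ≠ 0 := fun h1 => h.zD ((m.ker z hzN).1 h1)
  have hπu : π u ≠ 0 := fun h1 => huD ((m.ker u huN).1 h1)
  have hπzu : π z + π u ≠ 0 := by
    intro h1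
    rw [← m.mul z hzN u huN, m.ker _ (mul_mem hzN huN)] at h1
    apply huV
    have := mul_mem (inv_mem h.zV) (h.box.DV h1)
    rwa [inv_mul_cancel_left] at this
  have hzu : π z ≠ π u := fun e => hπzu (by rw [e, two])
  -- action of `R`, `Q`, `K`
  have perm : ∀ r : R, r • π z = π z ∨ r • π z = π u ∨ r • π z = π z + π u := by
    intro r
    rw [act r z hzN]
    exact hD3 _ (h.par.W_inv r.2 (h.VW h.zV)) (hrD r r.2 z h.zD)
  have hQ : ∀ q : R, (q : G) ∈ Q → ∀ y : M, q • y = y ∨ q • y = y + π z := by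
    intro q hq y
    obtain ⟨e, he, rfl⟩ := m.surj y
    rw [hadd q e he]
    rcases hVD _ (h.NN_comm hq he) with h1 | h1 <;> rw [h1]
    · left; exact add_zero _
    · right; rfl
  have hcc : (⟨c, hcR⟩ : R) • π u = π z + π u := by
    rw [hadd _ u huN]
    change π u + π (κ(c, u)) = _
    rw [hcu, add_comm]
  have hQz : ∀ q : R, (q : G) ∈ Q → q • π z = π z := by
    intro q hq
    rw [hfe q z hzN, comm_iff.2 (h.box.Qc q hq z h.zV)]
    exact one_mem _
  have hcz : (⟨c, hcR⟩ : R) • π z = π z := hQz _ hcQ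
  have hKw : ∀ k : R, (k : G) ∈ K → ∀ w ∈ W, k • π w = π w := by
    intro k hk w hw
    rw [hfe k w (hWN hw)]
    exact h.par.Kc k hk w hw
  -- transitivity
  have hmove : ∃ r : R, r • π z ≠ π z := by
    by_contra hcon
    push Not at hcon
    apply h.par.ne
    rw [h.par.W_eq, cz, Subgroup.closure_le]
    rintro _ ⟨r, hr, v, hv, rfl⟩
    change r * v * r⁻¹ ∈ V
    by_cases hvD : v ∈ D
    · rw [h.hDR hr hvD]; exact hv
    · have hrv₀ : r * z * r⁻¹ ∈ V := by
        have h2 := hcon ⟨r, hr⟩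
        rw [act _ _ hzN, heq _ (hRN r hr z hzN) z hzN] at h2
        have := mul_mem (h.box.DV h2) (inv_mem h.zV)
        rwa [mul_inv_cancel_right] at this
      have h4 := h.box.idx v hv z h.zV hvD h.zD
      have h5 : r * v * r⁻¹ = (r * (v * z) * r⁻¹) * (r * z * r⁻¹)⁻¹ := by group
      rw [h5, h.hDR hr h4]
      exact mul_mem (h.box.DV h4) (inv_mem hrv₀)
  have cc2 : (⟨c, hcR⟩ : R) • (π z + π u) = π u := by
    rw [smul_add, hcz, hcc, ← add_assoc, two, zero_add]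
  have tr : (∃ r : R, r • π z = π u) ∧ ∃ r : R, r • π z = π z + π u := by
    obtain ⟨r, hr⟩ := hmove
    rcases (perm r).resolve_left hr with h1 | h1
    · exact ⟨⟨r, h1⟩, ⟨⟨c, hcR⟩ * r, by rw [mul_smul, h1, hcc]⟩⟩
    · exact ⟨⟨⟨c, hcR⟩ * r, by rw [mul_smul, h1, cc2]⟩, ⟨r, h1⟩⟩
  -- every `k ∈ K` centralises one of the three lines
  have hcovQ : ∀ k : R, (k : G) ∈ K → ∃ d : R, ((d⁻¹ * k * d : R) : G) ∈ Q := by
    intro k hk
    have key : ∀ d : R, ∀ w ∈ W, d • π z = π w → κ((k : G), w) = 1 → ((d⁻¹ * k * d : R) : G) ∈ Q := by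
      intro d w hw hdw h1
      have hdK : ((d⁻¹ * k * d : R) : G) ∈ K := h.KQ_conj d.2 hk
      refine h.cent_V hdK h.zV h.zD ?_
      rw [act d z hzN, heq _ (hRN d d.2 z hzN) w (hWN hw)] at hdw
      have h2 : (d : G) * z * (d : G)⁻¹ = ((d : G) * z * (d : G)⁻¹ * w) * w := by
        rw [mul_assoc _ w w, hsq w (hWN hw), mul_one]
      have h3 := h.Tx (h.par.KT hk) hdw
      have h4 : (k : G) * ((d : G) * z * (d : G)⁻¹) = ((d : G) * z * (d : G)⁻¹) * k := by
        rw [h2, ← mul_assoc, h3, mul_assoc _ (k : G) w, comm_iff.1 h1]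
        simp only [mul_assoc]
      rw [comm_iff]
      change ((d : G)⁻¹ * k * d) * z = z * ((d : G)⁻¹ * k * d)
      calc ((d : G)⁻¹ * k * d) * z = (d : G)⁻¹ * (k * ((d : G) * z * (d : G)⁻¹)) * d := by group
        _ = (d : G)⁻¹ * (((d : G) * z * (d : G)⁻¹) * k) * d := by rw [h4]
        _ = _ := by group
    rcases h.K_W hk (h.VW h.zV) with h1 | h1
    · exact ⟨1, key 1 z (h.VW h.zV) (one_smul _ _) h1⟩
    · rcases h.K_W hk hu with h2 | h2
      · obtain ⟨d, hd⟩ := tr.1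
        exact ⟨d, key d u hu hd h2⟩
      · obtain ⟨d, hd⟩ := tr.2
        refine ⟨d, key d (z * u) (mul_mem (h.VW h.zV) hu) (by rw [hd, m.mul z hzN u huN]) ?_⟩
        rw [comm_mul, h1, h2, h.box.x_mul]
        rw [h2]
        exact h.cV h.zV h.xV
  have hfin : Cen (K.subgroupOf R) (π z) := by
    refine ⟨two, ⟨fun k hk r => h.par.Kn r r.2 k hk⟩, hπz, ?_, ?_, ?_⟩
    · intro d
      obtain ⟨r, hr⟩ := hmove
      refine ⟨d * r * d⁻¹, fun e => hr ?_⟩
      rw [← mul_smul, inv_mul_cancel_right, mul_smul] at e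
      exact smul_left_cancel d e
    · intro k hk d
      rw [act d z hzN]
      exact hKw k hk _ (h.par.W_inv d.2 (h.VW h.zV))
    · intro k hk
      obtain ⟨d, hd⟩ := hcovQ k hk
      refine ⟨d, fun y => ?_⟩
      have e1 : k • y = d • (d⁻¹ * k * d) • d⁻¹ • y := by
        rw [← mul_smul, ← mul_smul]
        congr 1
        group
      rcases hQ _ hd (d⁻¹ • y) with h1 | h1
      · left; rw [e1, h1, smul_inv_smul]
      · right; rw [e1, h1, smul_add, smul_inv_smul]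
  -- fixed by `K`, `c`, `c₁` implies in `D`
  have F4 : ∀ e ∈ N, ∀ c₁ : R, c₁ • π z ≠ π z → (∀ k : R, (k : G) ∈ K → k • π e = π e) →
      (⟨c, hcR⟩ : R) • π e = π e → c₁ • π e = π e → e ∈ D := by
    intro e he c₁ hc₁ heK hec hec₁
    -- `β`
    have hβ : ∀ r s : R, r • π e = π e → s • π e = π e → κ(((r * s : R) : G), e) = κ((r : G), e) * κ((s : G), e) := by
      intro r s hr hs
      rw [hfe r e he] at hr
      rw [hfe s e he] at hs
      have h1 := h.hDR r.2 hs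
      have h2 : (r : G) * κ((s : G), e) = κ((s : G), e) * r := mul_inv_eq_iff_eq_mul.1 h1
      change κ(((r : G) * (s : G)), e) = _
      rw [comm_mul_left h2]
      exact h.cV (h.box.DV hs) (h.box.DV hr)
    have hβi : ∀ r : R, r • π e = π e → κ(((r⁻¹ : R) : G), e) = κ((r : G), e) := by
      intro r hr
      have hr' : r⁻¹ • π e = π e := by rw [inv_smul_eq_iff, hr]
      have h1 := hβ r r⁻¹ hr hr'
      rw [mul_inv_cancel] at h1
      have h2 : κ(((1 : R) : G), e) = 1 := by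
        change κ((1 : G), e) = 1
        group
      rw [h2] at h1
      have h3 := (hfe r e he).1 hr
      rw [← inv_eq_of_mul_eq_one_right h1.symm, h.invV (h.box.DV h3)]
    have hβc : ∀ s k : R, s • π e = π e → k • π e = π e → (s * k * s⁻¹) • π e = π e ∧
        κ(((s * k * s⁻¹ : R) : G), e) = κ((k : G), e) := by
      intro s k hs hk
      have hs' : s⁻¹ • π e = π e := by rw [inv_smul_eq_iff, hs]
      have hsk : (s * k) • π e = π e := by rw [mul_smul, hk, hs]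
      refine ⟨by rw [mul_smul, hs', hsk], ?_⟩
      have h3 := h.box.DV ((hfe s e he).1 hs)
      have h4 := h.box.DV ((hfe k e he).1 hk)
      rw [hβ _ _ hsk hs', hβ _ _ hs hk, hβi s hs, h.cV h3 h4, mul_assoc, h.sqV h3, mul_one]
    -- `r₁`, `r₂`
    have hrr : (∃ r₁ : R, r₁ • π e = π e ∧ r₁ • π z = π u) ∧ ∃ r₂ : R, r₂ • π e = π e ∧ r₂ • π z = π z + π u := by
      rcases (perm c₁).resolve_left hc₁ with h1 | h1
      · exact ⟨⟨c₁, hec₁, h1⟩, ⟨⟨c, hcR⟩ * c₁, by rw [mul_smul, hec₁, hec], by rw [mul_smul, h1, hcc]⟩⟩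
      · exact ⟨⟨⟨c, hcR⟩ * c₁, by rw [mul_smul, hec₁, hec], by rw [mul_smul, h1, cc2]⟩, ⟨c₁, hec₁, h1⟩⟩
    obtain ⟨⟨r₁, hr₁, hr₁z⟩, r₂, hr₂, hr₂z⟩ := hrr
    -- `K ⊓ Q`
    have hKQ : ∀ k : R, (k : G) ∈ K → (k : G) ∈ Q → κ((k : G), e) = 1 ∨ κ((k : G), e) = x := by
      intro k hk hkQ
      have hk1 : r₁ * k * r₁⁻¹ ∈ K.subgroupOf R := hfin.Kn.conj_mem k hk r₁
      have hk2 : r₂ * k * r₂⁻¹ ∈ K.subgroupOf R := hfin.Kn.conj_mem k hk r₂
      set g : R := k * (r₁ * k * r₁⁻¹) * (r₂ * k * r₂⁻¹) with hg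
      have hgK : (g : G) ∈ K := (K.subgroupOf R).mul_mem ((K.subgroupOf R).mul_mem hk hk1) hk2
      have hdisp : ∀ r : R, ∀ y : M, (r * k * r⁻¹) • y = y ∨ (r * k * r⁻¹) • y = y + r • π z := by
        intro r y
        have e1 : (r * k * r⁻¹) • y = r • k • r⁻¹ • y := by rw [mul_smul, mul_smul]
        rcases hQ k hkQ (r⁻¹ • y) with h1 | h1
        · left; rw [e1, h1, smul_inv_smul]
        · right; rw [e1, h1, smul_add, smul_inv_smul]
      have hnt : ∀ r : R, (∃ y : M, k • y ≠ y) → ∃ y : M, (r * k * r⁻¹) • y ≠ y := by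
        rintro r ⟨y₁, hy₁⟩
        refine ⟨r • y₁, fun e => hy₁ ?_⟩
        rw [mul_smul, mul_smul, inv_smul_smul] at e
        exact smul_left_cancel r e
      have hgt : ∀ y : M, g • y = y := by
        intro y
        by_cases hkt : ∃ y : M, k • y ≠ y
        · have e1 : g • y = k • (r₁ * k * r₁⁻¹) • (r₂ * k * r₂⁻¹) • y := by rw [hg, mul_smul, mul_smul]
          by_cases hky : k • y = y
          · have h1 := hfin.ker_eq' hk1 hk hkt hky
            have h2 := hfin.ker_eq' hk2 hk hkt hky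
            rw [e1, h2, h1, hky]
          · have h0 := (hQ k hkQ y).resolve_left hky
            have h1 := (hdisp r₁ y).resolve_left fun h3 => hky (hfin.ker_eq' hk hk1 (hnt r₁ hkt) h3)
            have h2 := (hdisp r₂ y).resolve_left fun h3 => hky (hfin.ker_eq' hk hk2 (hnt r₂ hkt) h3)
            rw [hr₁z] at h1
            rw [hr₂z] at h2
            have h4 : ∀ s : R, s ∈ K.subgroupOf R → s • (π z + π u) = π z + π u := by
              intro s hs
              rw [smul_add, hKw s hs z (h.VW h.zV), hKw s hs u hu]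
            rw [e1, h2, smul_add, h1, h4 _ hk1, smul_add, smul_add, h0, hKw k hk u hu, h4 k hk]
            have h5 : y + π z + π u + (π z + π u) = y + ((π z + π z) + (π u + π u)) := by abel
            rw [h5, two, two, add_zero, add_zero]
        · push Not at hkt
          have e1 : ∀ r : R, ∀ y : M, (r * k * r⁻¹) • y = y := by
            intro r y
            rw [mul_smul, mul_smul, hkt, smul_inv_smul]
          rw [hg, mul_smul, mul_smul, e1, e1, hkt]
      have h1 : κ((g : G), e) = 1 ∨ κ((g : G), e) = x := by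
        refine h.box.comm_czT h.SQ_cent (h.box.Tc (h.par.KT hgK)) (fun n hn => ?_) he
        exact (hfe g n hn).1 (hgt (π n))
      obtain ⟨b1, b1'⟩ := hβc r₁ k hr₁ (heK k hk)
      obtain ⟨b2, b2'⟩ := hβc r₂ k hr₂ (heK k hk)
      have h2 : κ((g : G), e) = κ((k : G), e) := by
        have h3 : (k * (r₁ * k * r₁⁻¹)) • π e = π e := by rw [mul_smul, b1, heK k hk]
        have h4 := h.box.DV ((hfe k e he).1 (heK k hk))
        rw [hg, hβ _ _ h3 b2, hβ _ _ (heK k hk) b1, b1', b2', h.sqV h4, one_mul]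
      rwa [h2] at h1
    -- `c`
    have hβcc : κ(c, e) = 1 := by
      refine s2 e he (fun c' hc' => ?_) c hc
      have hc'Q : c' ∈ Q := h.box.BQ (h.mem_C1.1 hc').1
      rcases (h.f12_iff hu (h.mem_C1.1 hc').1).1 (h.mem_C1.1 hc').2 with h1 | h1
      · exact s1 e he c' hc' h1
      · have hb : c' * c ∈ h.C1 u := mul_mem hc' hc
        have h2 : κ((c' * c), u) = 1 := by
          rw [comm_mul_left, hcu, h1, h.z_mul]
          rw [hcu]
          exact h.box.Qc c' hc'Q z h.zV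
        have h3 := s1 e he _ hb h2
        have h4 : ((⟨c' * c, mul_mem (hQR hc'Q) hcR⟩ : R)) • π e = π e := (hfe _ e he).2 h3
        have h5 : (⟨c', hQR hc'Q⟩ : R) • π e = π e := by
          have h6 : (⟨c' * c, mul_mem (hQR hc'Q) hcR⟩ : R) = ⟨c', hQR hc'Q⟩ * ⟨c, hcR⟩ := rfl
          rw [h6, mul_smul, hec] at h4
          exact h4
        exact (hfe _ e he).1 h5
    have hβQ : ∀ q ∈ Q, κ(q, e) = 1 ∨ κ(q, e) = x := by
      intro q hq
      have hqR := hQR hq
      by_cases hqK : q ∈ K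
      · exact hKQ ⟨q, hqR⟩ hqK hq
      · have hqcQ : q * c ∈ Q := mul_mem hq hcQ
        have hqcK : q * c ∈ K := by
          refine h.par.memK _ (h.box.QT hqcQ) fun w hw => ?_
          have h1 : (⟨q, hqR⟩ : R) • π u = π u + π z := by
            refine (hQ ⟨q, hqR⟩ hq (π u)).resolve_left fun h2 => hqK ?_
            refine h.par.memK _ (h.box.QT hq) fun w hw => ?_
            refine (hfe ⟨q, hqR⟩ w (hWN hw)).1 ?_
            by_cases hwD : w ∈ D
            · rw [(m.ker w (hWN hw)).2 hwD, smul_zero]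
            · rcases hD3 w hw hwD with h3 | h3 | h3 <;> rw [h3]
              · exact hQz _ hq
              · exact h2
              · rw [smul_add, hQz _ hq, h2]
          refine (hfe ⟨q * c, hQR hqcQ⟩ w (hWN hw)).1 ?_
          have h6 : (⟨q * c, hQR hqcQ⟩ : R) = ⟨q, hqR⟩ * ⟨c, hcR⟩ := rfl
          have h7 : (⟨q * c, hQR hqcQ⟩ : R) • π u = π u := by
            rw [h6, mul_smul, hcc, smul_add, hQz _ hq, h1]
            have h5 : π z + (π u + π z) = π u + (π z + π z) := by abel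
            rw [h5, two, add_zero]
          by_cases hwD : w ∈ D
          · rw [(m.ker w (hWN hw)).2 hwD, smul_zero]
          · rcases hD3 w hw hwD with h3 | h3 | h3 <;> rw [h3]
            · exact hQz _ hqcQ
            · exact h7
            · rw [smul_add, hQz _ hqcQ, h7]
        have h1 := hKQ ⟨q * c, hQR hqcQ⟩ hqcK hqcQ
        have h2 : (⟨q * c, hQR hqcQ⟩ : R) • π e = π e := heK _ hqcK
        have h6 : (⟨q * c, hQR hqcQ⟩ : R) = ⟨q, hqR⟩ * ⟨c, hcR⟩ := rfl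
        have h3 : (⟨q, hqR⟩ : R) • π e = π e := by
          rw [h6, mul_smul, hec] at h2
          exact h2
        have h4 := hβ ⟨q, hqR⟩ ⟨c, hcR⟩ h3 hec
        change κ((q * c), e) = κ(q, e) * κ(c, e) at h4
        rw [hβcc, mul_one] at h4
        rwa [← h4]
    have heV : e ∈ V := by
      refine h.box.lemQ e (h.NN_Q he) (hsq e he) (fun q hq => ?_) fun q hq q' hq' => ?_
      · rcases hβQ q hq with h1 | h1 <;> rw [h1]
        · exact one_mem _
        · exact h.xV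
      · rcases hβQ q hq with h1 | h1
        · left; exact h1
        · rcases hβQ q' hq' with h2 | h2
          · right; left; exact h2
          · right; right; rw [h1, h2]
    by_contra heD
    have h1 := (hVD e heV).resolve_left fun h2 => heD ((m.ker e he).1 h2)
    rw [h1] at hec₁
    exact hc₁ hec₁
  -- the element `c₁`
  obtain ⟨⟨d, hd⟩, -⟩ := tr
  set c₁ : R := d * ⟨c, hcR⟩ * d⁻¹ with hc₁
  have hc₁y : ∀ y : M, c₁ • y = y ∨ c₁ • y = y + π u := by
    intro y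
    have e1 : c₁ • y = d • (⟨c, hcR⟩ : R) • d⁻¹ • y := by rw [hc₁, mul_smul, mul_smul]
    rcases hQ ⟨c, hcR⟩ hcQ (d⁻¹ • y) with h1 | h1
    · left; rw [e1, h1, smul_inv_smul]
    · right; rw [e1, h1, smul_add, smul_inv_smul, hd]
  have hc₁z : c₁ • π z ≠ π z := by
    intro e
    rw [hc₁, mul_smul, mul_smul, smul_eq_iff_eq_inv_smul] at e
    have h1 : d⁻¹ • π z ≠ π z := by
      intro e2
      rw [inv_smul_eq_iff, hd] at e2
      exact hzu e2
    rcases (perm d⁻¹).resolve_left h1 with h2 | h2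
    · rw [h2, hcc] at e
      exact hπz (add_eq_right.1 e)
    · rw [h2, cc2] at e
      exact hπz (right_eq_add.1 e)
  have hc₁z' : c₁ • π z = π z + π u := (hc₁y _).resolve_left hc₁z
  -- (i)
  have o1 : ∀ n ∈ N, (∀ k ∈ K, κ(k, n) ∈ D) → n ∈ W := by
    intro n hn hk
    have hK : ∀ k : R, (k : G) ∈ K → k • π n = π n := fun k hk' => (hfe k n hn).2 (hk k hk')
    -- `w ∈ W` with `c`, `c₁` fixing `π n + π w`
    have h1 : ∃ w ∈ W, (⟨c, hcR⟩ : R) • (π n + π w) = π n + π w := by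
      rcases hQ ⟨c, hcR⟩ hcQ (π n) with h1 | h1
      · exact ⟨1, one_mem _, by rw [π1, add_zero, h1]⟩
      · refine ⟨u, hu, ?_⟩
        rw [smul_add, h1, hcc]
        have h5 : π n + π z + (π z + π u) = π n + π u + (π z + π z) := by abel
        rw [h5, two, add_zero]
    obtain ⟨w, hw, hcw⟩ := h1
    have h2 : ∃ w ∈ W, (⟨c, hcR⟩ : R) • (π n + π w) = π n + π w ∧ c₁ • (π n + π w) = π n + π w := by
      rcases hc₁y (π n + π w) with h2 | h2
      · exact ⟨w, hw, hcw, h2⟩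
      · refine ⟨w * z, mul_mem hw (h.VW h.zV), ?_, ?_⟩
        · rw [m.mul w (hWN hw) z hzN, ← add_assoc, smul_add, hcw, hcz]
        · rw [m.mul w (hWN hw) z hzN, ← add_assoc, smul_add, h2, hc₁z']
          have h5 : π n + π w + π u + (π z + π u) = π n + π w + π z + (π u + π u) := by abel
          rw [h5, two, add_zero]
    obtain ⟨w, hw, hcw, hcw₁⟩ := h2
    have hnw : n * w ∈ N := mul_mem hn (hWN hw)
    have h3 : π (n * w) = π n + π w := m.mul n hn w (hWN hw)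
    have h4 : n * w ∈ D := by
      refine F4 (n * w) hnw c₁ hc₁z (fun k hk' => ?_) (by rw [h3]; exact hcw) (by rw [h3]; exact hcw₁)
      rw [h3, smul_add, hK k hk', hKw k hk' w hw]
    have h5 : n = (n * w) * w⁻¹ := by group
    rw [h5]
    exact mul_mem (h.VW (h.box.DV h4)) (inv_mem hw)
  have hmv : ∀ n ∈ N, n ∉ W → ∃ k : R, (k : G) ∈ K ∧ k • π n ≠ π n := by
    intro n hn hnW
    by_contra hcon
    push Not at hcon
    exact hnW (o1 n hn fun k hk => (hfe ⟨k, hKR hk⟩ n hn).1 (hcon ⟨k, hKR hk⟩ hk))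
  -- `K ⊓ C(W)` acts trivially
  have hKC : ∀ k : R, (k : G) ∈ K → (∀ w ∈ W, (k : G) * w = w * k) → ∀ y : M, k • y = y := by
    intro k hk hkW y
    have hkQ : (k : G) ∈ Q := h.TQ _ (h.par.KT hk) fun v hv => hkW v (h.VW hv)
    have hdK : ((d⁻¹ * k * d : R) : G) ∈ K := h.KQ_conj d.2 hk
    have hdQ : ((d⁻¹ * k * d : R) : G) ∈ Q := by
      refine h.TQ _ (h.par.KT hdK) fun v hv => ?_
      have h1 := hkW _ (h.par.W_inv d.2 (h.VW hv))
      change ((d : G)⁻¹ * k * d) * v = v * ((d : G)⁻¹ * k * d)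
      calc ((d : G)⁻¹ * k * d) * v = (d : G)⁻¹ * (k * ((d : G) * v * (d : G)⁻¹)) * d := by group
        _ = (d : G)⁻¹ * (((d : G) * v * (d : G)⁻¹) * k) * d := by rw [h1]
        _ = _ := by group
    have e1 : k • y = d • (d⁻¹ * k * d) • d⁻¹ • y := by
      rw [← mul_smul, ← mul_smul]
      congr 1
      group
    rcases hQ k hkQ y with h1 | h1
    · exact h1
    · exfalso
      rcases hQ _ hdQ (d⁻¹ • y) with h2 | h2
      · rw [h2, smul_inv_smul] at e1
        rw [e1] at h1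
        exact hπz (left_eq_add.1 h1)
      · rw [h2, smul_add, smul_inv_smul, hd] at e1
        rw [e1] at h1
        exact hzu (add_left_cancel h1).symm
  -- a non-trivial element of `K ⊓ Q`
  have hk0 : (∃ n ∈ N, n ∉ W) → ∃ k₀ : R, (k₀ : G) ∈ K ∧ (k₀ : G) ∈ Q ∧ ∃ y : M, k₀ • y ≠ y := by
    rintro ⟨n, hn, hnW⟩
    obtain ⟨k, hk, hkn⟩ := hmv n hn hnW
    obtain ⟨e, he⟩ := hcovQ k hk
    refine ⟨e⁻¹ * k * e, h.KQ_conj e.2 hk, he, e⁻¹ • π n, fun e2 => hkn ?_⟩
    rw [mul_smul, mul_smul, smul_inv_smul] at e2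
    exact smul_left_cancel e⁻¹ e2
  have hux : ∀ k : R, (k : G) ∈ K → (k : G) ∈ Q → (¬ ∀ y : M, k • y = y) → κ((k : G), u) = x := by
    intro k hk hkQ hn
    refine (h.K_W hk hu).resolve_left fun h1 => hn ?_
    exact hKC k hk fun w hw => h.cent_W hu huV hkQ h1 hw
  refine ⟨o1, fun n hn n' hn' hnW hn'W => ?_, fun t ht htN hex w hw => ?_, fun n hn hnW => ?_⟩
  · obtain ⟨k, hk, hkn⟩ := hmv n hn hnW
    obtain ⟨k', hk', hkn'⟩ := hmv n' hn' hn'W
    refine o1 _ (mul_mem hn hn') fun s hs => ?_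
    have h1 := hfin.hyp (k := k) (k' := k') hk hk' hkn hkn' ⟨s, hKR hs⟩ hs
    rw [← m.mul n hn n' hn'] at h1
    exact (hfe _ _ (mul_mem hn hn')).1 h1
  · -- `C_T(N / D) ≤ C(W)`
    have htK : t ∈ K := h.par.memK t ht fun w hw => htN w (hWN hw)
    by_contra hcon
    obtain ⟨e, he⟩ := hcovQ ⟨t, hKR htK⟩ htK
    set t' : R := e⁻¹ * ⟨t, hKR htK⟩ * e with ht'
    have ht'K : (t' : G) ∈ K := h.KQ_conj e.2 htK
    have ht1 : ∀ y : M, (⟨t, hKR htK⟩ : R) • y = y := by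
      intro y
      obtain ⟨n, hn, rfl⟩ := m.surj y
      exact (hfe _ n hn).2 (htN n hn)
    have ht'1 : ∀ y : M, t' • y = y := by
      intro y
      rw [ht', mul_smul, mul_smul, ht1, inv_smul_smul]
    have ht'u : κ((t' : G), u) = x := by
      refine (h.K_W ht'K hu).resolve_left fun h1 => hcon ?_
      have h2 := h.cent_W hu huV he h1 (h.par.W_inv (inv_mem e.2) hw)
      rw [inv_inv] at h2
      change ((e : G)⁻¹ * t * e) * ((e : G)⁻¹ * w * e) = ((e : G)⁻¹ * w * e) * ((e : G)⁻¹ * t * e) at h2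
      calc t * w = e * (((e : G)⁻¹ * t * e) * ((e : G)⁻¹ * w * e)) * (e : G)⁻¹ := by group
        _ = e * (((e : G)⁻¹ * w * e) * ((e : G)⁻¹ * t * e)) * (e : G)⁻¹ := by rw [h2]
        _ = _ := by group
    obtain ⟨k₀, hk₀, hk₀Q, y₀, hy₀⟩ := hk0 hex
    have hk₀u := hux k₀ hk₀ hk₀Q fun h1 => hy₀ (h1 y₀)
    have hp : κ(((t' * k₀ : R) : G), u) = 1 := by
      change κ(((t' : G) * (k₀ : G)), u) = 1
      rw [comm_mul_left, hk₀u, ht'u, h.box.x_mul]
      rw [hk₀u]
      exact h.Tx (h.par.KT ht'K) h.box.xD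
    have h1 := hKC (t' * k₀) (mul_mem ht'K hk₀) fun w hw =>
      h.cent_W hu huV (mul_mem he hk₀Q) hp hw
    apply hy₀
    have h2 := h1 y₀
    rw [mul_smul, ht'1] at h2
    exact h2
  · obtain ⟨k₀, hk₀, hk₀Q, y₀, hy₀⟩ := hk0 ⟨n, hn, hnW⟩
    obtain ⟨k, hk, hkn⟩ := hmv n hn hnW
    have hk₀n : k₀ • π n ≠ π n := fun h1 => hkn (hfin.ker_eq' hk hk₀ ⟨y₀, hy₀⟩ h1)
    have hk₀u := hux k₀ hk₀ hk₀Q fun h1 => hy₀ (h1 y₀)
    refine ⟨k₀, hk₀, hk₀Q, fun h1 => hk₀n ((hfe k₀ n hn).2 h1), fun q hq hqQ => ?_⟩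
    by_cases hqt : ∀ y : M, (⟨q, hKR hq⟩ : R) • y = y
    · left
      intro p hp
      exact (hfe _ p hp).1 (hqt (π p))
    · right
      intro p hp
      have hqu := hux ⟨q, hKR hq⟩ hq hqQ hqt
      have h2 : κ((((⟨q, hKR hq⟩ : R) * k₀ : R) : G), u) = 1 := by
        change κ((q * (k₀ : G)), u) = 1
        rw [comm_mul_left, hk₀u]
        · change x * κ(q, u) = 1
          change κ(q, u) = x at hqu
          rw [hqu, h.box.x_mul]
        · rw [hk₀u]
          exact h.Tx (h.par.KT hq) h.box.xD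
      have h3 := hKC ((⟨q, hKR hq⟩ : R) * k₀) (mul_mem hq hk₀) fun w hw =>
        h.cent_W hu huV (mul_mem hqQ hk₀Q) h2 hw
      exact (hfe ((⟨q, hKR hq⟩ : R) * k₀) p hp).1 (h3 (π p))

end Bq

end Cfsg.Agent.Omega.NO3S.SN2
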