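import Cfsg.Agent.Omega.NO3S.SN2.CPlusD

/-!
# SN.Two, THEOREM (C+) (helper933, #22887), step (5) and the result

`main1` : `R` fixes `u₁₃ ⟨u₁₂, z₁, z₂, z₃⟩`; `main2` : `u₁₂ u₁₃ u₁₃ ^ t ∈ ⟨z₁, z₂, z₃⟩`; `C12` : **(C)**.
-/

set_option autoImplicit false
set_option linter.unusedSectionVars false

namespace Cfsg.Agent.Omega.NO3S.SN2.CPlus

open Subgroup

universe u

variable {G : Type u} [Group G]

namespace CP

variable {V Q T C R N B U : Subgroup G} {a t z1 z2 z3 u2 u3 : G} {f12 f21 f13 f31 : G → ZMod 2}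
  (h : CP V Q T C R N B U a t z1 z2 z3 u2 u3 f12 f21 f13 f31)
include h

/-- `t` exchanges `f12` and `f21` -/
theorem ft {q : G} (hq : q ∈ Q) : f12 (t * q * t⁻¹) = f21 q ∧ f21 (t * q * t⁻¹) = f12 q := by
  have h1 := (h.k12 hq).conj t
  rw [h.tz] at h1
  have hq' := h.TQ t h.tT q hq
  have hv := h.tu2
  set v := t * u2 * t⁻¹ * u2⁻¹ with hvd
  have e : t * u2 * t⁻¹ = v * u2 := by rw [hvd]; group
  have h2 := (h.kV hq' hv).mul (h.k12 hq') (by rw [one_mul, mul_one])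
  rw [← e, one_mul] at h2
  obtain ⟨h3, h4, _⟩ := h.zv_inj (h2.uniq h1)
  exact ⟨h3, h4⟩

/-- `Q = ⟨B, B ^ t⟩ C` -/
theorem Qgen [Finite G] {q : G} (hq : q ∈ Q) : ∃ b ∈ B, ∃ b' ∈ B, ∃ c ∈ C, q = b * (t * b' * t⁻¹) * c := by
  have key : ∀ b ∈ B, ∀ b' ∈ B, f12 b + f21 b' = f12 q → f21 b + f12 b' = f21 q →
      (b * (t * b' * t⁻¹))⁻¹ * q ∈ C := by
    intro b hb b' hb' e1 e2
    have hb'' := h.TQ t h.tT b' (h.BQ hb')
    have hm := mul_mem (h.BQ hb) hb''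
    obtain ⟨h1, h2⟩ := h.hom12 (h.BQ hb) hb''
    obtain ⟨h3, h4⟩ := h.ft (h.BQ hb')
    rw [h3, e1] at h1
    rw [h4, e2] at h2
    refine (h.C_iff _ (mul_mem (inv_mem hm) hq)).2 ?_
    obtain ⟨h5, h6⟩ := h.hom12 (inv_mem hm) hq
    rw [(h.inv12 hm).1, h1, CharTwo.add_self_eq_zero] at h5
    rw [(h.inv12 hm).2, h2, CharTwo.add_self_eq_zero] at h6
    exact ⟨h5, h6⟩
  have key2 : ∃ b ∈ B, ∃ b' ∈ B, f12 b + f21 b' = f12 q ∧ f21 b + f12 b' = f21 q := by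
    rcases h.phi_cases with ⟨h0, b1, hb1, hb1'⟩ | hon
    · have hp : ∀ i : ZMod 2, pz b1 i ∈ B ∧ f12 (pz b1 i) = 0 ∧ f21 (pz b1 i) = i := by
        intro i
        refine ⟨pz_mem hb1 i, h0 _ (pz_mem hb1 i), ?_⟩
        rcases h01 i with rfl | rfl
        · rw [pz_zero]; exact h.one12.2
        · rw [pz_one]; exact hb1'
      obtain ⟨p1, p2, p3⟩ := hp (f21 q)
      obtain ⟨q1, q2, q3⟩ := hp (f12 q)
      exact ⟨_, p1, _, q1, by rw [p2, q3, zero_add], by rw [p3, q2, add_zero]⟩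
    · obtain ⟨b, hb, p1, p2⟩ := hon (f12 q) (f21 q)
      exact ⟨b, hb, 1, one_mem _, by rw [p1, h.one12.2, add_zero], by rw [p2, h.one12.1, add_zero]⟩
  obtain ⟨b, hb, b', hb', e1, e2⟩ := key2
  exact ⟨b, hb, b', hb', _, key b hb b' hb' e1 e2, by group⟩

theorem Bfix [Finite G] {r : G} (hr : r ∈ R) (hrN : r ∉ N) : ∀ b ∈ B, Fx u2 z1 z2 z3 b (r * u3 * r⁻¹) := by
  rcases h.phi_cases with ⟨h0, _⟩ | hon
  · exact h.three hr hrN h0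
  · exact h.four hon hr hrN

theorem Cfix {r : G} (hr : r ∈ R) (hrN : r ∉ N) {c : G} (hc : c ∈ C) : Fx u2 z1 z2 z3 c (r * u3 * r⁻¹) := by
  obtain ⟨i0, j0, k0, hy⟩ := h.y_ex hr hrN
  have m0 := h.keta hr hy (one_mem Q) hc
  have e0' : (1 : G) * (r * u3 * r⁻¹) * 1⁻¹ = r * u3 * r⁻¹ := by group
  rw [e0'] at m0
  exact ⟨_, h.zt_mem _ _ _ _, m0⟩

/-- **(5)**, first part -/
theorem Qfix [Finite G] {r : G} (hr : r ∈ R) (hrN : r ∉ N) {q : G} (hq : q ∈ Q) :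
    Fx u2 z1 z2 z3 q (r * u3 * r⁻¹) := by
  obtain ⟨b, hb, b', hb', c, hc, rfl⟩ := h.Qgen hq
  have htR := h.TR h.tT
  have h1 := h.Bfix hr hrN b hb
  have hr' : t⁻¹ * r ∈ R := mul_mem (inv_mem htR) hr
  have hrN' : t⁻¹ * r ∉ N := by
    intro hcon
    apply hrN
    have := mul_mem (h.TN h.tT) hcon
    rwa [mul_inv_cancel_left] at this
  have h2 := h.Fx_conj htR (h.Bfix hr' hrN' b' hb')
  have e : t * (t⁻¹ * r * u3 * (t⁻¹ * r)⁻¹) * t⁻¹ = r * u3 * r⁻¹ := by group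
  rw [e] at h2
  have hbt : t * b' * t⁻¹ ∈ R := mul_mem (mul_mem htR (h.BR hb')) (inv_mem htR)
  exact h.Fx_comp (mul_mem (h.BR hb) hbt) (h.Fx_comp (h.BR hb) h1 h2) (h.Cfix hr hrN hc)

/-- **(5)**: `R` fixes `u₁₃ Zs` -/
theorem Rfix [Finite G] {ρ : G} (hρ : ρ ∈ R) : Fx u2 z1 z2 z3 ρ u3 := by
  let H : Subgroup G :=
    { carrier := {g | g ∈ R ∧ Fx u2 z1 z2 z3 g u3}
      mul_mem' := by
        rintro x y ⟨hx, hx'⟩ ⟨hy, hy'⟩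
        exact ⟨mul_mem hx hy, h.Fx_comp hx hx' hy'⟩
      one_mem' := ⟨one_mem R, Fx_one (Cm.one_iff.2 (by rw [one_mul, mul_one]))⟩
      inv_mem' := by
        rintro x ⟨hx, hx'⟩
        exact ⟨inv_mem hx, h.Fx_inv hx hx'⟩ }
  obtain ⟨r, hr, hrN⟩ := h.mvex
  have hQH : Q ≤ H := fun q hq => ⟨h.TR (h.QT hq), _, h.zv_mem' _ _ _, h.k13 hq⟩
  have hQrH : cj r⁻¹ Q ≤ H := by
    intro x hx
    obtain ⟨q, hq, rfl⟩ := mem_cj.1 hx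
    refine ⟨mul_mem (mul_mem (inv_mem hr) (h.TR (h.QT hq))) (inv_mem (inv_mem hr)), ?_⟩
    have h1 := h.Fx_conj (inv_mem hr) (h.Qfix hr hrN hq)
    have e : r⁻¹ * (r * u3 * r⁻¹) * r⁻¹⁻¹ = u3 := by group
    rwa [e] at h1
  have hrN' : r⁻¹ ∉ N := fun hcon => hrN (by have := inv_mem hcon; rwa [inv_inv] at this)
  exact ((h.g1 r⁻¹ (inv_mem hr) hrN').trans (sup_le hQH hQrH) hρ).2

/-- **helper933, #22887 (5)** -/
theorem main1 [Finite G] : ∀ ρ ∈ R, ρ * u3 * ρ⁻¹ * u3⁻¹ ∈ closure {u2, z1, z2, z3} := by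
  intro ρ hρ
  obtain ⟨z, hz, e⟩ := h.Rfix hρ
  rw [e.comm_eq (h.ab _ (h.ZsU hz) _ h.u3U)]
  exact hz

/-- **helper933, #22887, (C)** -/
theorem main2 [Finite G] : ∃ i j k : ZMod 2, u2 * u3 * (t * u3 * t⁻¹) = pz z1 i * pz z2 j * pz z3 k := by
  obtain ⟨z, hz, e⟩ := h.Rfix (h.TR h.tT)
  obtain ⟨s, i, j, k, rfl⟩ := h.mem_Zs.1 hz
  rw [Cm] at e
  rcases h01 s with rfl | rfl
  · exfalso
    obtain ⟨q, hq, hq1⟩ := h.on13
    rw [zt_zv] at e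
    have h1 := (h.k13 hq).mul (h.kV hq (h.zvV i j k)) (h.ab _ (h.zvU _ _ _) _ (h.zvU _ _ _))
    rw [mul_one, ← e] at h1
    have h2 := (h.zv_inj (h1.uniq (h.ktu3 hq))).1
    rw [hq1] at h2
    exact one_ne_zero h2
  · refine ⟨i, j, k, ?_⟩
    rw [e, zt, pz_one]
    change _ = zv z1 z2 z3 i j k
    calc u2 * u3 * (u3 * (u2 * zv z1 z2 z3 i j k)) = u2 * (u3 * u3) * u2 * zv z1 z2 z3 i j k := by group
      _ = _ := by rw [h.sq _ h.u3U, mul_one, h.sq _ h.u2U, one_mul]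

/-- **helper933, #22887, (C)** in coordinates -/
theorem C12 [Finite G] : ∀ q ∈ Q, f12 q = f13 q ∧ f21 q = f13 (t⁻¹ * q * t) ∧ f31 q = f31 (t⁻¹ * q * t) := by
  intro q hq
  obtain ⟨i, j, k, e⟩ := h.main2
  have htu : t * u3 * t⁻¹ ∈ U := (h.box t (h.TR h.tT)).1
  have h1 := ((h.k12 hq).mul (h.k13 hq) (h.ab _ (h.zvU _ _ _) _ h.u3U)).mul (h.ktu3 hq)
    (h.ab _ (U.mul_mem (h.zvU _ _ _) (h.zvU _ _ _)) _ htu)
  have e' : u2 * u3 * (t * u3 * t⁻¹) = zv z1 z2 z3 i j k := e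
  rw [e', h.zvm, h.zvm] at h1
  obtain ⟨h2, h3, h4⟩ := h.zv_eq (h1.uniq (h.kV hq (h.zvV i j k)))
  rw [add_zero] at h2
  rw [add_zero] at h3
  rw [zero_add] at h4
  exact ⟨add_eq_zero2 h2, add_eq_zero2 h3, add_eq_zero2 h4⟩

end CP

end Cfsg.Agent.Omega.NO3S.SN2.CPlus
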