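import Cfsg.Agent.Omega.NO3S.SN2.LemXGen

/-!
# SN.Two, THEOREM (C+) (helper933, #22887), part A: calculus of commutators, counting lemmas

`pz z i` : `z ^ i` for `i : ZMod 2`; `Cm b e w` : `[b, e] = w`; `zv`, `zt` : products of `pz`.
-/

set_option autoImplicit false
set_option linter.unusedSectionVars false

namespace Cfsg.Agent.Omega.NO3S.SN2.CPlus

open Subgroup

universe u

variable {G : Type u} [Group G]

/-- `z ^ i` -/
def pz (z : G) (i : ZMod 2) : G := if i = 0 then 1 else z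

theorem h01 : ∀ i : ZMod 2, i = 0 ∨ i = 1 := by decide

theorem pz_zero (z : G) : pz z 0 = 1 := if_pos rfl

theorem pz_one (z : G) : pz z 1 = z := if_neg one_ne_zero

theorem one_pz (i : ZMod 2) : pz (1 : G) i = 1 := by
  rcases h01 i with rfl | rfl
  · exact pz_zero _
  · exact pz_one _

theorem two0 : (1 : ZMod 2) + 1 = 0 := by decide

theorem add_eq_zero2 {i j : ZMod 2} (h : i + j = 0) : i = j := by
  revert i j
  decide

theorem pz_mul {z : G} (hz : z * z = 1) (i j : ZMod 2) : pz z i * pz z j = pz z (i + j) := by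
  rcases h01 i with rfl | rfl
  · rw [pz_zero, one_mul, zero_add]
  · rcases h01 j with rfl | rfl
    · rw [pz_zero, mul_one, add_zero]
    · rw [pz_one, hz, two0, pz_zero]

theorem pz_mem {H : Subgroup G} {z : G} (hz : z ∈ H) (i : ZMod 2) : pz z i ∈ H := by
  rcases h01 i with rfl | rfl
  · rw [pz_zero]; exact H.one_mem
  · rw [pz_one]; exact hz

theorem pz_conj (g z : G) (i : ZMod 2) : g * pz z i * g⁻¹ = pz (g * z * g⁻¹) i := by
  rcases h01 i with rfl | rfl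
  · rw [pz_zero, pz_zero, mul_one, mul_inv_cancel]
  · rw [pz_one, pz_one]

theorem pz_pz {z : G} (i j : ZMod 2) : pz (pz z i) j = pz z (j * i) := by
  rcases h01 j with rfl | rfl
  · rw [pz_zero, zero_mul, pz_zero]
  · rw [pz_one, one_mul]

/-- `(pq)(rs) = (pr)(qs)` -/
theorem mmmc {p q r s : G} (h : q * r = r * q) : (p * q) * (r * s) = (p * r) * (q * s) := by
  rw [mul_assoc, ← mul_assoc q, h, mul_assoc r, ← mul_assoc]

/-- `z1 ^ i z2 ^ j z3 ^ k` -/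
def zv (z1 z2 z3 : G) (i j k : ZMod 2) : G := pz z1 i * pz z2 j * pz z3 k

section zv

variable {U : Subgroup G} (ab : ∀ u ∈ U, ∀ v ∈ U, u * v = v * u) (sq : ∀ u ∈ U, u * u = 1)
  {z1 z2 z3 : G} (h1 : z1 ∈ U) (h2 : z2 ∈ U) (h3 : z3 ∈ U)
include ab sq h1 h2 h3

omit ab sq in
theorem zv_mem (i j k : ZMod 2) : zv z1 z2 z3 i j k ∈ U :=
  U.mul_mem (U.mul_mem (pz_mem h1 i) (pz_mem h2 j)) (pz_mem h3 k)

theorem zv_mul (i j k i' j' k' : ZMod 2) :
    zv z1 z2 z3 i j k * zv z1 z2 z3 i' j' k' = zv z1 z2 z3 (i + i') (j + j') (k + k') := by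
  rw [zv, zv, zv, mmmc (ab _ (pz_mem h3 k) _ (U.mul_mem (pz_mem h1 i') (pz_mem h2 j'))),
    mmmc (ab _ (pz_mem h2 j) _ (pz_mem h1 i')), pz_mul (sq _ h1), pz_mul (sq _ h2), pz_mul (sq _ h3)]

end zv

theorem zv_conj (g : G) {z1 z2 z3 : G} (i j k : ZMod 2) :
    g * zv z1 z2 z3 i j k * g⁻¹ = zv (g * z1 * g⁻¹) (g * z2 * g⁻¹) (g * z3 * g⁻¹) i j k := by
  rw [zv, zv, ← pz_conj, ← pz_conj, ← pz_conj]
  group

theorem zv_zero (z1 z2 z3 : G) : zv z1 z2 z3 0 0 0 = 1 := by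
  rw [zv, pz_zero, pz_zero, pz_zero, one_mul, one_mul]

theorem pz_zv (z1 z2 z3 : G) (i j k p : ZMod 2) : pz (zv z1 z2 z3 i j k) p = zv z1 z2 z3 (p * i) (p * j) (p * k) := by
  rcases h01 p with rfl | rfl
  · rw [pz_zero, zero_mul, zero_mul, zero_mul, zv_zero]
  · rw [pz_one, one_mul, one_mul, one_mul]

/-- `[b, e] = w` -/
def Cm (b e w : G) : Prop := b * e * b⁻¹ = e * w

namespace Cm

variable {b b' e f w w' : G}

theorem self (b e : G) : Cm b e (e⁻¹ * (b * e * b⁻¹)) := by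
  rw [Cm, mul_inv_cancel_left]

theorem uniq (h : Cm b e w) (h' : Cm b e w') : w = w' := mul_left_cancel (Eq.trans h.symm h')

theorem mul (h : Cm b e w) (h' : Cm b f w') (hc : w * f = f * w) : Cm b (e * f) (w * w') := by
  rw [Cm] at h h' ⊢
  calc b * (e * f) * b⁻¹ = (b * e * b⁻¹) * (b * f * b⁻¹) := by group
    _ = e * (w * f) * w' := by rw [h, h']; group
    _ = e * f * (w * w') := by rw [hc]; group

theorem conj (g : G) (h : Cm b e w) : Cm (g * b * g⁻¹) (g * e * g⁻¹) (g * w * g⁻¹) := by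
  rw [Cm] at h ⊢
  calc g * b * g⁻¹ * (g * e * g⁻¹) * (g * b * g⁻¹)⁻¹ = g * (b * e * b⁻¹) * g⁻¹ := by group
    _ = g * e * g⁻¹ * (g * w * g⁻¹) := by rw [h]; group

theorem comp (h : Cm b e w) (h' : Cm b' e w') (hc : b * w' = w' * b) : Cm (b * b') e (w * w') := by
  rw [Cm] at h h' ⊢
  calc b * b' * e * (b * b')⁻¹ = b * (b' * e * b'⁻¹) * b⁻¹ := by group
    _ = (b * e * b⁻¹) * (b * w' * b⁻¹) := by rw [h']; group
    _ = e * (w * w') := by rw [h, hc, mul_inv_cancel_right, mul_assoc]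

theorem one_iff : Cm b e 1 ↔ b * e = e * b := by
  rw [Cm, mul_one, mul_inv_eq_iff_eq_mul]

theorem one (b : G) : Cm b 1 1 := by
  rw [Cm]; group

theorem pz (h : Cm b e w) (i : ZMod 2) : Cm b (pz e i) (pz w i) := by
  rcases h01 i with rfl | rfl
  · rw [pz_zero, pz_zero]; exact one b
  · rw [pz_one, pz_one]; exact h

theorem inv (h : Cm b e w) (hc : w * e = e * w) : Cm b e⁻¹ w⁻¹ := by
  rw [Cm] at h ⊢
  calc b * e⁻¹ * b⁻¹ = (b * e * b⁻¹)⁻¹ := by group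
    _ = (w * e)⁻¹ := by rw [h, hc]
    _ = _ := by group

theorem comm_eq (h : Cm b e w) (hc : w * e = e * w) : b * e * b⁻¹ * e⁻¹ = w := by
  rw [Cm] at h
  rw [h, ← hc, mul_inv_cancel_right]

end Cm

/-! ## Counting -/

theorem card_ge {ι : Type} [Finite ι] [Finite G] {L : Subgroup G} (g : ι → G) (hg : ∀ i, g i ∈ L)
    (hi : Function.Injective g) : Nat.card ι ≤ Nat.card L :=
  Nat.card_le_card_of_injective (fun i => (⟨g i, hg i⟩ : L)) fun _ _ h => hi (congrArg Subtype.val h)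

theorem sep_card {ι : Type*} [Finite ι] [Finite G] {E F : Subgroup G} (hFE : F ≤ E) (g : ι → G) (hg : ∀ i, g i ∈ E)
    (hi : ∀ i j, (g i)⁻¹ * g j ∈ F → i = j) : Nat.card ι * Nat.card F ≤ Nat.card E := by
  rw [← Nat.card_prod]
  refine Nat.card_le_card_of_injective (fun p : ι × F => (⟨g p.1 * p.2, E.mul_mem (hg _) (hFE p.2.2)⟩ : E)) ?_
  rintro ⟨i, x⟩ ⟨j, y⟩ h
  have h1 : g i * x = g j * y := congrArg Subtype.val h
  have h2 : i = j := by
    apply hi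
    have h3 : (g i)⁻¹ * g j = x * (y : G)⁻¹ := by
      rw [inv_mul_eq_iff_eq_mul, ← mul_assoc, h1, mul_inv_cancel_right]
    rw [h3]
    exact F.mul_mem x.2 (F.inv_mem y.2)
  subst h2
  have h3 : x = y := Subtype.ext (mul_left_cancel h1)
  rw [h3]

theorem map_card {ι : Type*} [Finite ι] [Finite G] {B F : Subgroup G} (φ : G → ι)
    (hφ : ∀ b ∈ B, ∀ b' ∈ B, φ b = φ b' → b⁻¹ * b' ∈ F) : Nat.card B ≤ Nat.card ι * Nat.card F := by
  classical
  rw [← Nat.card_prod]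
  have hch : ∀ i : ι, ∃ g : G, (∃ b ∈ B, φ b = i) → g ∈ B ∧ φ g = i := fun i => by
    by_cases h : ∃ b ∈ B, φ b = i
    · obtain ⟨b, hb, hi⟩ := h
      exact ⟨b, fun _ => ⟨hb, hi⟩⟩
    · exact ⟨1, fun h' => absurd h' h⟩
  choose g hg using hch
  have hgb : ∀ b : B, (g (φ b))⁻¹ * b ∈ F := fun b => by
    obtain ⟨h1, h2⟩ := hg (φ b) ⟨b, b.2, rfl⟩
    exact hφ _ h1 _ b.2 h2
  refine Nat.card_le_card_of_injective (fun b : B => ((φ b, ⟨_, hgb b⟩) : ι × F)) ?_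
  intro b b' h
  obtain ⟨h1, h2⟩ := Prod.mk.inj h
  have h3 : (g (φ b))⁻¹ * (b : G) = (g (φ b'))⁻¹ * b' := congrArg Subtype.val h2
  rw [h1] at h3
  exact Subtype.ext (mul_left_cancel h3)

section

variable {U : Subgroup G} (ab : ∀ u ∈ U, ∀ v ∈ U, u * v = v * u) (sq : ∀ u ∈ U, u * u = 1)
include ab sq

theorem zv_inv_mul {z1 z2 z3 : G} (h1 : z1 ∈ U) (h2 : z2 ∈ U) (h3 : z3 ∈ U) (i j k i' j' k' : ZMod 2) :
    (zv z1 z2 z3 i j k)⁻¹ * zv z1 z2 z3 i' j' k' = zv z1 z2 z3 (i + i') (j + j') (k + k') := by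
  rw [← zv_mul ab sq h1 h2 h3, inv_eq_of_mul_eq_one_left (sq _ (zv_mem h1 h2 h3 i j k))]

theorem octo [Finite G] {E F : Subgroup G} (hEU : E ≤ U) (hFE : F ≤ E) {e1 e2 e3 : G} (h1 : e1 ∈ E) (h2 : e2 ∈ E)
    (h3 : e3 ∈ E) (h : ∀ x y s : ZMod 2, pz e1 x * pz e2 y * pz e3 s ∈ F → x = 0 ∧ y = 0 ∧ s = 0) :
    8 * Nat.card F ≤ Nat.card E := by
  have h4 := sep_card (ι := ZMod 2 × ZMod 2 × ZMod 2) hFE (fun p => zv e1 e2 e3 p.1 p.2.1 p.2.2)
    (fun p => zv_mem h1 h2 h3 _ _ _) (by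
      rintro ⟨i, j, k⟩ ⟨i', j', k'⟩ h5
      rw [zv_inv_mul ab sq (hEU h1) (hEU h2) (hEU h3)] at h5
      obtain ⟨a1, a2, a3⟩ := h _ _ _ h5
      have b1 : i = i' := add_eq_zero2 a1
      have b2 : j = j' := add_eq_zero2 a2
      have b3 : k = k' := add_eq_zero2 a3
      rw [b1, b2, b3])
  have h5 : Nat.card (ZMod 2 × ZMod 2 × ZMod 2) = 8 := by
    rw [Nat.card_eq_fintype_card]; decide
  rwa [h5] at h4

theorem quad [Finite G] {E F : Subgroup G} (hEU : E ≤ U) (hFE : F ≤ E) {e1 e2 : G} (h1 : e1 ∈ E) (h2 : e2 ∈ E)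
    (h : ∀ x y : ZMod 2, pz e1 x * pz e2 y ∈ F → x = 0 ∧ y = 0) :
    4 * Nat.card F ≤ Nat.card E := by
  have h4 := sep_card (ι := ZMod 2 × ZMod 2) hFE (fun p => zv e1 e2 1 p.1 p.2 0)
    (fun p => zv_mem h1 h2 (one_mem _) _ _ _) (by
      rintro ⟨i, j⟩ ⟨i', j'⟩ h5
      rw [zv_inv_mul ab sq (hEU h1) (hEU h2) (one_mem _), zv, one_pz, mul_one] at h5
      obtain ⟨a1, a2⟩ := h _ _ h5
      have b1 : i = i' := add_eq_zero2 a1
      have b2 : j = j' := add_eq_zero2 a2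
      rw [b1, b2])
  have h5 : Nat.card (ZMod 2 × ZMod 2) = 4 := by
    rw [Nat.card_eq_fintype_card]; decide
  rwa [h5] at h4

omit sq in
/-- `[X, c]` is a subgroup, and `|[X, c]| |C_X(c)| ≤ |X|` -/
theorem lam [Finite G] {X : Subgroup G} (hXU : X ≤ U) {c : G} (hcX : ∀ x ∈ X, c * x * c⁻¹ ∈ X) :
    ∃ L : Subgroup G, (∀ x ∈ X, ∀ w, Cm c x w → w ∈ L) ∧ L ≤ X ∧
      Nat.card L * Nat.card ↥(X ⊓ centralizer ({c} : Set G)) ≤ Nat.card X := by
  have hw : ∀ x ∈ X, ∀ w, Cm c x w → w ∈ X := by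
    intro x hx w h
    have h1 : w = x⁻¹ * (c * x * c⁻¹) := h.uniq (Cm.self c x)
    rw [h1]
    exact X.mul_mem (X.inv_mem hx) (hcX x hx)
  have hcc : ∀ x ∈ X, ∀ y ∈ X, x * y = y * x := fun x hx y hy => ab x (hXU hx) y (hXU hy)
  let L : Subgroup G :=
    { carrier := {w | ∃ x ∈ X, Cm c x w}
      mul_mem' := by
        rintro w w' ⟨x, hx, h⟩ ⟨x', hx', h'⟩
        exact ⟨x * x', X.mul_mem hx hx', h.mul h' (hcc _ (hw x hx w h) _ hx')⟩
      one_mem' := ⟨1, X.one_mem, Cm.one c⟩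
      inv_mem' := by
        rintro w ⟨x, hx, h⟩
        exact ⟨x⁻¹, X.inv_mem hx, h.inv (hcc _ (hw x hx w h) _ hx)⟩ }
  refine ⟨L, fun x hx w h => ⟨x, hx, h⟩, ?_, ?_⟩
  · rintro w ⟨x, hx, h⟩
    exact hw x hx w h
  · have hL : ∀ w : L, ∃ x ∈ X, Cm c x w := fun w => w.2
    choose g hg hgw using hL
    refine sep_card inf_le_left g hg fun w w' h => ?_
    apply Subtype.ext
    have h1 : Cm c ((g w)⁻¹ * g w') 1 := by
      rw [Cm.one_iff]
      exact mem_centralizer_iff.1 h.2 c rfl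
    have h2 := (hgw w).mul h1 (hcc _ (hw _ (hg w) _ (hgw w)) _ (X.mul_mem (X.inv_mem (hg w)) (hg w')))
    rw [mul_inv_cancel_left, mul_one] at h2
    exact h2.uniq (hgw w')

omit sq in
/-- commutators with a closure -/
theorem comm_closure {S : Set G} {P : Subgroup G} {b : G} (hS : ∀ e ∈ S, e ∈ U) (hP : P ≤ U)
    (h : ∀ e ∈ S, b * e * b⁻¹ * e⁻¹ ∈ P) : ∀ e ∈ closure S, b * e * b⁻¹ * e⁻¹ ∈ P := by
  have hSU : closure S ≤ U := (closure_le _).2 hS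
  intro e he
  induction he using closure_induction with
  | mem e he => exact h e he
  | one =>
    have : b * 1 * b⁻¹ * 1⁻¹ = (1 : G) := by group
    rw [this]; exact P.one_mem
  | mul x y hx hy h1 h2 =>
    rw [SN2.comm_mul (ab _ (hSU hx) _ (hP h2))]
    exact P.mul_mem h1 h2
  | inv x hx h1 =>
    have h3 : b * x⁻¹ * b⁻¹ * x⁻¹⁻¹ = x⁻¹ * (b * x * b⁻¹ * x⁻¹)⁻¹ * x := by
      group
    have h4 : (b * x * b⁻¹ * x⁻¹)⁻¹ ∈ P := P.inv_mem h1
    rw [h3, ab _ (U.inv_mem (hSU hx)) _ (hP h4), inv_mul_cancel_right]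
    exact h4

end

theorem mem_zpowers2 {x y : G} (hx : x * x = 1) : y ∈ zpowers x ↔ y = 1 ∨ y = x := by
  constructor
  · intro h
    obtain ⟨n, rfl⟩ := mem_zpowers_iff.1 h
    rcases Int.even_or_odd n with ⟨k, hk⟩ | ⟨k, hk⟩
    · left
      rw [hk, zpow_add, ← (Commute.refl x).mul_zpow, hx, one_zpow]
    · right
      rw [hk, zpow_add, zpow_mul, zpow_two, hx, one_zpow, zpow_one, one_mul]
  · rintro (h | h)
    · rw [h]; exact one_mem _
    · rw [h]; exact mem_zpowers x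

end Cfsg.Agent.Omega.NO3S.SN2.CPlus
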