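import Cfsg.Agent.Omega.NO3S.SN2.CPlusA

/-!
# SN.Two, THEOREM (C+) (helper933, #22887), part B: the situation `CP`, step (0)

Notation: `u2 = u₁₂`, `u3 = u₁₃`, `z1, z2, z3` the vectors of the letters `1, 2, 3`, `T = ⟨Q, t⟩` over the duad `12`,
`C = C_T(W₁₂)`, `R` a parabolic over `T`, `N = N_R(V)`, `A` exact for `(13)`, `B = C_A(V)`, `a ∈ A - B`.
-/

set_option autoImplicit false
set_option linter.unusedSectionVars false

namespace Cfsg.Agent.Omega.NO3S.SN2.CPlus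

open Subgroup

universe u

variable {G : Type u} [Group G]

/-- `⟨u₁₂, z₁, z₂, z₃⟩` -/
def Zs (u2 z1 z2 z3 : G) : Subgroup G := closure {u2, z1, z2, z3}

/-- The situation of THEOREM (C+). -/
structure CP (V Q T C R N B U : Subgroup G) (a t z1 z2 z3 u2 u3 : G) (f12 f21 f13 f31 : G → ZMod 2) : Prop where
  ab : ∀ u ∈ U, ∀ v ∈ U, u * v = v * u
  sq : ∀ u ∈ U, u * u = 1
  VU : V ≤ U
  u2U : u2 ∈ U
  au2U : a * u2 * a⁻¹ ∈ U
  box : ∀ r ∈ R, r * u3 * r⁻¹ ∈ U ∧ a * (r * u3 * r⁻¹) * a⁻¹ ∈ U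
  z1V : z1 ∈ V
  z2V : z2 ∈ V
  z3V : z3 ∈ V
  ind : ∀ i j k : ZMod 2, pz z1 i * pz z2 j * pz z3 k = 1 → i = 0 ∧ j = 0 ∧ k = 0
  az1 : a * z1 * a⁻¹ = z3
  az2 : a * z2 * a⁻¹ = z2
  az3 : a * z3 * a⁻¹ = z1
  aV : ∀ v ∈ V, a * v * a⁻¹ ∈ V
  aQ : ∀ q ∈ Q, a * q * a⁻¹ ∈ Q
  aa : a * a = 1
  aB : ∀ b ∈ B, a * b = b * a
  Bab : ∀ b ∈ B, ∀ b' ∈ B, b * b' = b' * b
  BQ : B ≤ Q
  Qc : ∀ q ∈ Q, ∀ v ∈ V, q * v = v * q
  h12 : ∀ q ∈ Q, q * u2 * q⁻¹ = u2 * (pz z1 (f12 q) * pz z2 (f21 q))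
  h13 : ∀ q ∈ Q, q * u3 * q⁻¹ = u3 * (pz z1 (f13 q) * pz z3 (f31 q))
  on12 : ∃ q ∈ Q, f12 q = 1
  on13 : ∃ q ∈ Q, f13 q = 1
  on31 : ∃ q ∈ Q, f31 q = 1
  QT : Q ≤ T
  TR : T ≤ R
  TN : T ≤ N
  TQ : ∀ t ∈ T, ∀ q ∈ Q, t * q * t⁻¹ ∈ Q
  tT : t ∈ T
  tz1 : t * z1 * t⁻¹ = z2
  tz2 : t * z2 * t⁻¹ = z1
  tu2 : t * u2 * t⁻¹ * u2⁻¹ ∈ V
  Rz3 : ∀ r ∈ R, r * z3 * r⁻¹ = z3
  CQ : C ≤ Q
  CR : ∀ r ∈ R, ∀ c ∈ C, r * c * r⁻¹ ∈ C
  C_iff : ∀ q ∈ Q, q ∈ C ↔ f12 q = 0 ∧ f21 q = 0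
  RZ : ∀ r ∈ R, ∀ w ∈ Zs u2 z1 z2 z3, r * w * r⁻¹ ∈ Zs u2 z1 z2 z3
  mv : ∀ r ∈ R, r ∉ N → r * z1 * r⁻¹ ∉ V
  mvex : ∃ r ∈ R, r ∉ N
  g1 : ∀ r ∈ R, r ∉ N → R ≤ Q ⊔ cj r Q
  /-- exactness -/
  ex : ∀ E : Subgroup G, V ≤ E → E ≤ U → (∀ b ∈ B, ∀ u ∈ E, b * u * b⁻¹ ∈ E) → (∀ u ∈ E, a * u * a⁻¹ ∈ E) →
    Nat.card E * Nat.card ↥(B ⊓ centralizer (E : Set G)) ≤ Nat.card B * Nat.card ↥(E ⊓ centralizer (B : Set G))
  /-- exactness -/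
  fix : ∀ E : Subgroup G, V ≤ E → E ≤ U → (∀ b ∈ B, ∀ u ∈ E, b * u * b⁻¹ ∈ E) → (∀ u ∈ E, a * u * a⁻¹ ∈ E) →
    ∀ u ∈ E, (∀ b ∈ B, b * u = u * b) → a * u * a⁻¹ * u⁻¹ ∈ V

/-- `E` is `B`-invariant, `V ≤ E`, and `E`, `E ^ a ≤ U`. -/
structure Good (V B U : Subgroup G) (a : G) (E : Subgroup G) : Prop where
  VE : V ≤ E
  EU : E ≤ U
  Ea : ∀ e ∈ E, a * e * a⁻¹ ∈ U
  BE : ∀ b ∈ B, ∀ e ∈ E, b * e * b⁻¹ ∈ E

namespace Good

variable {V B U E : Subgroup G} {a : G} (g : Good V B U a E)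
include g

theorem XX (aB : ∀ b ∈ B, a * b = b * a) (aa : a * a = 1) : V ≤ E ⊔ cj a E ∧ E ⊔ cj a E ≤ U ∧
      (∀ b ∈ B, ∀ u ∈ E ⊔ cj a E, b * u * b⁻¹ ∈ E ⊔ cj a E) ∧ (∀ u ∈ E ⊔ cj a E, a * u * a⁻¹ ∈ E ⊔ cj a E) := by
  refine ⟨g.VE.trans le_sup_left, sup_le g.EU ?_, ?_, ?_⟩
  · intro y hy
    obtain ⟨e, he, rfl⟩ := mem_cj.1 hy
    exact g.Ea e he
  · intro b hb u hu
    have h1 : E ⊔ cj a E ≤ (E ⊔ cj a E).comap (MulAut.conj b).toMonoidHom := by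
      apply sup_le
      · intro e he
        exact le_sup_left (a := E) (g.BE b hb e he)
      · intro y hy
        obtain ⟨e, he, rfl⟩ := mem_cj.1 hy
        change b * (a * e * a⁻¹) * b⁻¹ ∈ (E ⊔ cj a E : Subgroup G)
        have h2 := aB b hb
        have h3 : b * (a * e * a⁻¹) * b⁻¹ = a * (b * e * b⁻¹) * a⁻¹ := by
          have h4 : a⁻¹ * b⁻¹ = b⁻¹ * a⁻¹ := by rw [← mul_inv_rev, ← mul_inv_rev, h2]
          calc b * (a * e * a⁻¹) * b⁻¹ = (b * a) * e * (a⁻¹ * b⁻¹) := by group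
            _ = (a * b) * e * (b⁻¹ * a⁻¹) := by rw [h2, h4]
            _ = _ := by group
        rw [h3]
        exact le_sup_right (a := E) (mem_cj.2 ⟨_, g.BE b hb e he, rfl⟩)
    exact h1 hu
  · intro u hu
    have h1 : E ⊔ cj a E ≤ (E ⊔ cj a E).comap (MulAut.conj a).toMonoidHom := by
      apply sup_le
      · intro e he
        exact le_sup_right (a := E) (mem_cj.2 ⟨e, he, rfl⟩)
      · intro y hy
        obtain ⟨e, he, rfl⟩ := mem_cj.1 hy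
        change a * (a * e * a⁻¹) * a⁻¹ ∈ (E ⊔ cj a E : Subgroup G)
        have h3 : a * (a * e * a⁻¹) * a⁻¹ = e := by
          have h4 : a⁻¹ = a := inv_eq_of_mul_eq_one_left aa
          calc a * (a * e * a⁻¹) * a⁻¹ = (a * a) * e * (a⁻¹ * a⁻¹) := by group
            _ = e := by rw [h4, aa, one_mul, mul_one]
        rw [h3]
        exact le_sup_left (a := E) he
    exact h1 hu

end Good

theorem good_closure {V B U : Subgroup G} {a : G} {X : Set G} (VU : V ≤ U) (aV : ∀ v ∈ V, a * v * a⁻¹ ∈ V)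
    (hBV : ∀ b ∈ B, ∀ v ∈ V, b * v = v * b) (hX : ∀ x ∈ X, x ∈ U) (hXa : ∀ x ∈ X, a * x * a⁻¹ ∈ U)
    (hB : ∀ b ∈ B, ∀ x ∈ X, b * x * b⁻¹ ∈ closure ((V : Set G) ∪ X)) : Good V B U a (closure ((V : Set G) ∪ X)) := by
  have hV : V ≤ closure ((V : Set G) ∪ X) := fun v hv => subset_closure (Or.inl hv)
  refine ⟨hV, ?_, ?_, ?_⟩
  · rw [closure_le]
    rintro x (hx | hx)
    · exact VU hx
    · exact hX x hx
  · intro e he
    have h1 : closure ((V : Set G) ∪ X) ≤ U.comap (MulAut.conj a).toMonoidHom := by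
      rw [closure_le]
      rintro x (hx | hx)
      · exact VU (aV x hx)
      · exact hXa x hx
    exact h1 he
  · intro b hb e he
    have h1 : closure ((V : Set G) ∪ X) ≤ (closure ((V : Set G) ∪ X)).comap (MulAut.conj b).toMonoidHom := by
      rw [closure_le]
      rintro x (hx | hx)
      · change b * x * b⁻¹ ∈ closure ((V : Set G) ∪ X)
        rw [hBV b hb x hx, mul_inv_cancel_right]
        exact hV hx
      · exact hB b hb x hx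
    exact h1 he

namespace CP

variable {V Q T C R N B U : Subgroup G} {a t z1 z2 z3 u2 u3 : G} {f12 f21 f13 f31 : G → ZMod 2}
  (h : CP V Q T C R N B U a t z1 z2 z3 u2 u3 f12 f21 f13 f31)
include h

theorem zvV (i j k : ZMod 2) : zv z1 z2 z3 i j k ∈ V := zv_mem h.z1V h.z2V h.z3V i j k

theorem zvU (i j k : ZMod 2) : zv z1 z2 z3 i j k ∈ U := h.VU (h.zvV i j k)

theorem zvm (i j k i' j' k' : ZMod 2) :
    zv z1 z2 z3 i j k * zv z1 z2 z3 i' j' k' = zv z1 z2 z3 (i + i') (j + j') (k + k') :=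
  zv_mul h.ab h.sq (h.VU h.z1V) (h.VU h.z2V) (h.VU h.z3V) i j k i' j' k'

theorem zv_eq {i j k : ZMod 2} (h1 : zv z1 z2 z3 i j k = 1) : i = 0 ∧ j = 0 ∧ k = 0 := h.ind i j k h1

theorem zv_inj {i j k i' j' k' : ZMod 2} (h1 : zv z1 z2 z3 i j k = zv z1 z2 z3 i' j' k') :
    i = i' ∧ j = j' ∧ k = k' := by
  have h2 : zv z1 z2 z3 (i + i') (j + j') (k + k') = 1 := by
    rw [← h.zvm, h1, h.sq _ (h.zvU _ _ _)]
  obtain ⟨h3, h4, h5⟩ := h.zv_eq h2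
  exact ⟨add_eq_zero2 h3, add_eq_zero2 h4, add_eq_zero2 h5⟩

theorem k12 {q : G} (hq : q ∈ Q) : Cm q u2 (zv z1 z2 z3 (f12 q) (f21 q) 0) := by
  rw [Cm, h.h12 q hq, zv, pz_zero, mul_one]

theorem k13 {q : G} (hq : q ∈ Q) : Cm q u3 (zv z1 z2 z3 (f13 q) 0 (f31 q)) := by
  rw [Cm, h.h13 q hq, zv, pz_zero, mul_one]

theorem kV {q v : G} (hq : q ∈ Q) (hv : v ∈ V) : Cm q v 1 := Cm.one_iff.2 (h.Qc q hq v hv)

theorem hom12 {q q' : G} (hq : q ∈ Q) (hq' : q' ∈ Q) : f12 (q * q') = f12 q + f12 q' ∧ f21 (q * q') = f21 q + f21 q' := by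
  have h1 := (h.k12 hq).comp (h.k12 hq') (h.Qc q hq _ (h.zvV _ _ _))
  rw [h.zvm] at h1
  obtain ⟨h2, h3, _⟩ := h.zv_inj ((h.k12 (mul_mem hq hq')).uniq h1)
  exact ⟨h2, h3⟩

theorem hom13 {q q' : G} (hq : q ∈ Q) (hq' : q' ∈ Q) : f13 (q * q') = f13 q + f13 q' ∧ f31 (q * q') = f31 q + f31 q' := by
  have h1 := (h.k13 hq).comp (h.k13 hq') (h.Qc q hq _ (h.zvV _ _ _))
  rw [h.zvm] at h1
  obtain ⟨h2, _, h3⟩ := h.zv_inj ((h.k13 (mul_mem hq hq')).uniq h1)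
  exact ⟨h2, h3⟩

theorem one12 : f12 1 = 0 ∧ f21 1 = 0 := by
  obtain ⟨h1, h2⟩ := h.hom12 (one_mem Q) (one_mem Q)
  rw [one_mul] at h1 h2
  exact ⟨left_eq_add.1 h1, left_eq_add.1 h2⟩

theorem one13 : f13 1 = 0 ∧ f31 1 = 0 := by
  obtain ⟨h1, h2⟩ := h.hom13 (one_mem Q) (one_mem Q)
  rw [one_mul] at h1 h2
  exact ⟨left_eq_add.1 h1, left_eq_add.1 h2⟩

theorem inv12 {q : G} (hq : q ∈ Q) : f12 q⁻¹ = f12 q ∧ f21 q⁻¹ = f21 q := by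
  obtain ⟨h1, h2⟩ := h.hom12 (inv_mem hq) hq
  rw [inv_mul_cancel, h.one12.1] at h1
  rw [inv_mul_cancel, h.one12.2] at h2
  exact ⟨add_eq_zero2 h1.symm, add_eq_zero2 h2.symm⟩

theorem inv13 {q : G} (hq : q ∈ Q) : f13 q⁻¹ = f13 q ∧ f31 q⁻¹ = f31 q := by
  obtain ⟨h1, h2⟩ := h.hom13 (inv_mem hq) hq
  rw [inv_mul_cancel, h.one13.1] at h1
  rw [inv_mul_cancel, h.one13.2] at h2
  exact ⟨add_eq_zero2 h1.symm, add_eq_zero2 h2.symm⟩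

theorem az (i j k : ZMod 2) : a * zv z1 z2 z3 i j k * a⁻¹ = zv z1 z2 z3 k j i := by
  rw [zv_conj, h.az1, h.az2, h.az3, zv, zv]
  have m1 := pz_mem (h.VU h.z1V)
  have m2 := pz_mem (h.VU h.z2V)
  have m3 := pz_mem (h.VU h.z3V)
  rw [h.ab _ (U.mul_mem (m3 i) (m2 j)) _ (m1 k), h.ab _ (m3 i) _ (m2 j), mul_assoc]

theorem tz (i j k : ZMod 2) : t * zv z1 z2 z3 i j k * t⁻¹ = zv z1 z2 z3 j i k := by
  rw [zv_conj, h.tz1, h.tz2, h.Rz3 t (h.TR h.tT), zv, zv]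
  have m1 := pz_mem (h.VU h.z1V)
  have m2 := pz_mem (h.VU h.z2V)
  rw [h.ab _ (m2 i) _ (m1 j)]

theorem TQ' {s : G} (hs : s ∈ T) {q : G} (hq : q ∈ Q) : s⁻¹ * q * s ∈ Q := by
  have := h.TQ s⁻¹ (inv_mem hs) q hq
  rwa [inv_inv] at this

theorem aqa (q : G) : a * (a * q * a⁻¹) * a⁻¹ = q := by
  have h4 : a⁻¹ = a := inv_eq_of_mul_eq_one_left h.aa
  calc a * (a * q * a⁻¹) * a⁻¹ = (a * a) * q * (a⁻¹ * a⁻¹) := by group
    _ = q := by rw [h4, h.aa, one_mul, mul_one]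

theorem kau2 {q : G} (hq : q ∈ Q) :
    Cm q (a * u2 * a⁻¹) (zv z1 z2 z3 0 (f21 (a * q * a⁻¹)) (f12 (a * q * a⁻¹))) := by
  have h1 := (h.k12 (h.aQ q hq)).conj a
  rwa [h.aqa, h.az] at h1

theorem ktu3 {q : G} (hq : q ∈ Q) :
    Cm q (t * u3 * t⁻¹) (zv z1 z2 z3 0 (f13 (t⁻¹ * q * t)) (f31 (t⁻¹ * q * t))) := by
  have h1 := (h.k13 (h.TQ' h.tT hq)).conj t
  have h2 : t * (t⁻¹ * q * t) * t⁻¹ = q := by group
  rwa [h2, h.tz] at h1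

theorem katu3 {q : G} (hq : q ∈ Q) :
    Cm q (a * (t * u3 * t⁻¹) * a⁻¹)
      (zv z1 z2 z3 (f31 (t⁻¹ * (a * q * a⁻¹) * t)) (f13 (t⁻¹ * (a * q * a⁻¹) * t)) 0) := by
  have h1 := (h.ktu3 (h.aQ q hq)).conj a
  rwa [h.aqa, h.az] at h1

theorem u3U : u3 ∈ U := by
  have := (h.box 1 (one_mem _)).1
  rwa [one_mul, inv_one, mul_one] at this

/-- independence of `u₁₂ ^ a, u₁₂, z₁, z₂, z₃` -/
theorem ind5 {p s i j k : ZMod 2} (h1 : pz (a * u2 * a⁻¹) p * pz u2 s * zv z1 z2 z3 i j k = 1) :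
    p = 0 ∧ s = 0 ∧ i = 0 ∧ j = 0 ∧ k = 0 := by
  have h2 : ∀ q ∈ Q, s * f12 q = 0 ∧ p * f12 (a * q * a⁻¹) = 0 := by
    intro q hq
    have h3 := (((h.kau2 hq).pz p).mul ((h.k12 hq).pz s) ?_).mul (h.kV hq (h.zvV i j k)) ?_
    · rw [h1, mul_one, pz_zv, pz_zv, h.zvm] at h3
      obtain ⟨h4, _, h5⟩ := h.zv_eq (h3.uniq (Cm.one q))
      constructor
      · rw [← h4, mul_zero, zero_add]
      · rw [← h5, mul_zero, add_zero]
    · exact h.ab _ (pz_mem (h.zvU _ _ _) p) _ (pz_mem h.u2U s)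
    · exact h.ab _ (U.mul_mem (pz_mem (h.zvU _ _ _) p) (pz_mem (h.zvU _ _ _) s)) _ (h.zvU _ _ _)
  obtain ⟨q, hq, hq1⟩ := h.on12
  have hs : s = 0 := by
    have h3 := (h2 q hq).1
    rwa [hq1, mul_one] at h3
  have hp : p = 0 := by
    have h3 := (h2 _ (h.aQ q hq)).2
    rwa [h.aqa, hq1, mul_one] at h3
  rw [hs, hp, pz_zero, pz_zero, one_mul, one_mul] at h1
  exact ⟨hp, hs, h.zv_eq h1⟩

theorem u2V : u2 ∉ V := by
  intro hV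
  obtain ⟨q, hq, hq1⟩ := h.on12
  have h1 := (h.k12 hq).uniq (h.kV hq hV)
  have h2 := (h.zv_eq h1).1
  rw [hq1] at h2
  exact one_ne_zero h2

/-- `u₁₂ ^ a ∉ u₁₂ V` -/
theorem au2V : a * u2 * a⁻¹ * u2⁻¹ ∉ V := by
  intro hV
  obtain ⟨q, hq, hq1⟩ := h.on12
  set v := a * u2 * a⁻¹ * u2⁻¹ with hv
  have h1 : a * u2 * a⁻¹ = v * u2 := by rw [hv]; group
  have h2 := (h.kV hq hV).mul (h.k12 hq) (by rw [one_mul, mul_one])
  rw [← h1, one_mul] at h2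
  have h3 := (h.zv_inj (h2.uniq (h.kau2 hq))).1
  rw [hq1] at h3
  exact one_ne_zero h3

/-! ### LEMMA X and `fix` for good subgroups -/

theorem good (X : Set G) (hX : ∀ x ∈ X, x ∈ U) (hXa : ∀ x ∈ X, a * x * a⁻¹ ∈ U)
    (hB : ∀ b ∈ B, ∀ x ∈ X, b * x * b⁻¹ ∈ closure ((V : Set G) ∪ X)) : Good V B U a (closure ((V : Set G) ∪ X)) :=
  good_closure h.VU h.aV (fun b hb v hv => h.Qc b (h.BQ hb) v hv) hX hXa hB

theorem lemX [Finite G] {B₁ E : Subgroup G} {x : G} (g : Good V B U a E) (hx : a * x * a⁻¹ ≠ x) (hxV : x ∈ V)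
    (h1 : B₁ ≤ B) (hc : ∀ b ∈ B, (∀ e ∈ E, b * e = e * b) → b ∈ B₁)
    (hp : ∀ b ∈ B₁, ∀ e ∈ E, b * e * b⁻¹ * e⁻¹ = 1 ∨ b * e * b⁻¹ * e⁻¹ = x) :
    Nat.card E * Nat.card B₁ ≤ Nat.card B * Nat.card ↥(E ⊓ centralizer (B : Set G)) := by
  obtain ⟨k1, k2, k3, k4⟩ := g.XX h.aB h.aa
  exact lemX0 g.EU g.Ea h.ab h.sq h.aB g.BE h1 hc hx (fun b hb => h.Qc b (h.BQ (h1 hb)) x hxV) hp (h.ex _ k1 k2 k3 k4)

/-- the version for `E = ⟨V, X⟩` -/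
theorem lemXc [Finite G] {B₁ : Subgroup G} {X : Set G} {x : G} (g : Good V B U a (closure ((V : Set G) ∪ X)))
    (hx : a * x * a⁻¹ ≠ x) (hxV : x ∈ V) (h1 : B₁ ≤ B) (hc : ∀ b ∈ B, (∀ e ∈ X, b * e = e * b) → b ∈ B₁)
    (hp : ∀ b ∈ B₁, ∀ e ∈ X, b * e * b⁻¹ * e⁻¹ = 1 ∨ b * e * b⁻¹ * e⁻¹ = x) :
    Nat.card (closure ((V : Set G) ∪ X)) * Nat.card B₁ ≤
      Nat.card B * Nat.card ↥((closure ((V : Set G) ∪ X)) ⊓ centralizer (B : Set G)) := by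
  have hxx : x * x = 1 := h.sq x (h.VU hxV)
  refine h.lemX g hx hxV h1 (fun b hb hbe => hc b hb fun e he => hbe e (subset_closure (Or.inr he))) ?_
  intro b hb e he
  rw [← mem_zpowers2 hxx]
  refine comm_closure h.ab (fun e he => g.EU (subset_closure he)) ?_ ?_ e he
  · rw [zpowers_le]; exact h.VU hxV
  · rintro e (he | he)
    · rw [h.Qc b (h.BQ (h1 hb)) e he, mul_inv_cancel_right, mul_inv_cancel]
      exact one_mem _
    · rw [mem_zpowers2 hxx]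
      exact hp b hb e he

theorem fixE {E : Subgroup G} (g : Good V B U a E) {u : G} (hu : u ∈ E) (hc : ∀ b ∈ B, b * u = u * b) :
    a * u * a⁻¹ * u⁻¹ ∈ V := by
  obtain ⟨k1, k2, k3, k4⟩ := g.XX h.aB h.aa
  exact h.fix _ k1 k2 k3 k4 u (le_sup_left (a := E) hu) hc

/-- one generator -/
theorem good1 {w : G} (hw : w ∈ U) (haw : a * w * a⁻¹ ∈ U) (hB : ∀ b ∈ B, ∃ v ∈ V, b * w * b⁻¹ = w * v) :
    Good V B U a (closure ((V : Set G) ∪ {w})) := by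
  refine h.good {w} ?_ ?_ ?_
  · rintro _ rfl; exact hw
  · rintro _ rfl; exact haw
  · rintro b hb _ rfl
    obtain ⟨v, hv, e⟩ := hB b hb
    rw [e]
    exact mul_mem (subset_closure (Or.inr rfl)) (subset_closure (Or.inl hv))

/-- (0): `B` moves `u₁₂` -/
theorem nfix2 : ¬ ∀ b ∈ B, b * u2 = u2 * b := by
  intro hc
  have g : Good V B U a (closure ((V : Set G) ∪ {u2})) :=
    h.good1 h.u2U h.au2U fun b hb => ⟨_, h.zvV _ _ _, h.k12 (h.BQ hb)⟩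
  exact h.au2V (h.fixE g (subset_closure (Or.inr rfl)) hc)

/-- (0): `B` moves `u₂₃` -/
theorem nfix23 : ¬ ∀ b ∈ B, b * (t * u3 * t⁻¹) = (t * u3 * t⁻¹) * b := by
  intro hc
  have g : Good V B U a (closure ((V : Set G) ∪ {t * u3 * t⁻¹})) :=
    h.good1 (h.box t (h.TR h.tT)).1 (h.box t (h.TR h.tT)).2 fun b hb => ⟨_, h.zvV _ _ _, h.ktu3 (h.BQ hb)⟩
  have hV := h.fixE g (subset_closure (Or.inr rfl)) hc
  obtain ⟨q, hq, hq1⟩ := h.on31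
  have hq' := h.TQ t h.tT q hq
  set w := t * u3 * t⁻¹ with hw
  set v := a * w * a⁻¹ * w⁻¹ with hv
  have h1 : a * w * a⁻¹ = v * w := by rw [hv]; group
  have h2 := (h.kV hq' hV).mul (h.ktu3 hq') (by rw [one_mul, mul_one])
  rw [← hw, ← h1, one_mul] at h2
  have h3 := (h.zv_inj (h2.uniq (h.katu3 hq'))).2.2
  have h4 : t⁻¹ * (t * q * t⁻¹) * t = q := by group
  rw [h4, hq1] at h3
  exact one_ne_zero h3

/-- `z₁ ^ i z₂ ^ j` is moved by `a` if `i = 1` -/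
theorem amove {j : ZMod 2} : a * zv z1 z2 z3 1 j 0 * a⁻¹ ≠ zv z1 z2 z3 1 j 0 := by
  rw [h.az]
  intro h1
  exact zero_ne_one (h.zv_inj h1).1

/-- (0) -/
theorem phi_cases [Finite G] : ((∀ b ∈ B, f12 b = 0) ∧ ∃ b ∈ B, f21 b = 1) ∨
    ∀ i j : ZMod 2, ∃ b ∈ B, f12 b = i ∧ f21 b = j := by
  by_cases h0 : ∀ b ∈ B, f12 b = 0
  · left
    refine ⟨h0, ?_⟩
    by_contra hcon
    apply h.nfix2
    intro b hb
    have h1 : f21 b = 0 := (h01 _).resolve_right fun h2 => hcon ⟨b, hb, h2⟩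
    have h2 := h.k12 (h.BQ hb)
    rw [h0 b hb, h1, zv_zero] at h2
    exact Cm.one_iff.1 h2
  · right
    push Not at h0
    obtain ⟨b₀, hb₀, hb0⟩ := h0
    have hb1 : f12 b₀ = 1 := (h01 _).resolve_left hb0
    by_cases h1 : ∃ b ∈ B, f12 b = 0 ∧ f21 b = 1
    · obtain ⟨b', hb', h2, h3⟩ := h1
      have hm := h.hom12 (h.BQ hb₀) (h.BQ hb')
      rw [hb1, h2, h3, add_zero] at hm
      intro i j
      rcases h01 i with rfl | rfl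
      · rcases h01 j with rfl | rfl
        · exact ⟨1, one_mem _, h.one12⟩
        · exact ⟨b', hb', h2, h3⟩
      · by_cases h4 : f21 b₀ = j
        · exact ⟨b₀, hb₀, hb1, h4⟩
        · refine ⟨b₀ * b', mul_mem hb₀ hb', hm.1, ?_⟩
          rw [hm.2]
          revert h4
          generalize f21 b₀ = y
          revert y j
          decide
    · exfalso
      push Not at h1
      have key : ∀ b ∈ B, f12 b = 0 ∧ f21 b = 0 ∨ f12 b = 1 ∧ f21 b = f21 b₀ := by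
        intro b hb
        rcases h01 (f12 b) with h2 | h2
        · left
          exact ⟨h2, (h01 _).resolve_right (h1 b hb h2)⟩
        · right
          refine ⟨h2, ?_⟩
          have hm := h.hom12 (h.BQ hb₀) (h.BQ hb)
          rw [hb1, h2, two0] at hm
          have h3 : f21 (b₀ * b) = 0 := (h01 _).resolve_right (h1 _ (mul_mem hb₀ hb) hm.1)
          rw [h3] at hm
          exact (add_eq_zero2 hm.2.symm).symm
      have g : Good V B U a (closure ((V : Set G) ∪ {u2})) :=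
        h.good1 h.u2U h.au2U fun b hb => ⟨_, h.zvV _ _ _, h.k12 (h.BQ hb)⟩
      have hX := h.lemXc (B₁ := B) (X := {u2}) (x := zv z1 z2 z3 1 (f21 b₀) 0) g h.amove (h.zvV _ _ _) le_rfl
        (fun b hb _ => hb) (by
          rintro b hb _ rfl
          have h2 := h.k12 (h.BQ hb)
          rw [h2.comm_eq (h.ab _ (h.zvU _ _ _) _ h.u2U)]
          rcases key b hb with ⟨h3, h4⟩ | ⟨h3, h4⟩
          · left; rw [h3, h4, zv_zero]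
          · right; rw [h3, h4])
      have h2 : closure ((V : Set G) ∪ {u2}) ≤ centralizer (B : Set G) := by
        have h3 : Nat.card ↥(closure ((V : Set G) ∪ {u2})) ≤
            Nat.card ↥(closure ((V : Set G) ∪ {u2}) ⊓ centralizer (B : Set G)) := by
          rw [mul_comm] at hX
          exact Nat.le_of_mul_le_mul_left hX Nat.card_pos
        exact inf_eq_left.1 (Subgroup.eq_of_le_of_card_ge inf_le_left h3)
      exact h.nfix2 fun b hb => mem_centralizer_iff.1 (h2 (subset_closure (Or.inr rfl))) b hb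

end CP

end Cfsg.Agent.Omega.NO3S.SN2.CPlus
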