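import Cfsg.Agent.Omega.NO3S.SN2.CPlusB

/-!
# SN.Two, THEOREM (C+) (helper933, #22887), part C: steps (1), (2)
-/

set_option autoImplicit false
set_option linter.unusedSectionVars false

namespace Cfsg.Agent.Omega.NO3S.SN2.CPlus

open Subgroup

universe u

variable {G : Type u} [Group G]

/-- `u₁₂ ^ s z₁ ^ i z₂ ^ j z₃ ^ k` -/
def zt (u2 z1 z2 z3 : G) (s i j k : ZMod 2) : G := pz u2 s * zv z1 z2 z3 i j k

theorem zt_zv (u2 z1 z2 z3 : G) (i j k : ZMod 2) : zt u2 z1 z2 z3 0 i j k = zv z1 z2 z3 i j k := by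
  rw [zt, pz_zero, one_mul]

theorem zt_zero (u2 z1 z2 z3 : G) : zt u2 z1 z2 z3 0 0 0 0 = 1 := by
  rw [zt_zv, zv_zero]

theorem pz_zt (u2 z1 z2 z3 : G) (s i j k p : ZMod 2) :
    pz (zt u2 z1 z2 z3 s i j k) p = zt u2 z1 z2 z3 (p * s) (p * i) (p * j) (p * k) := by
  rcases h01 p with rfl | rfl
  · rw [pz_zero, zero_mul, zero_mul, zero_mul, zero_mul, zt_zero]
  · rw [pz_one, one_mul, one_mul, one_mul, one_mul]

theorem two_mul_le [Finite G] {E F : Subgroup G} (hFE : F ≤ E) {x : G} (hx : x * x = 1) (hxE : x ∈ E) (hxF : x ∉ F) :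
    2 * Nat.card F ≤ Nat.card E := by
  have h4 := sep_card (ι := ZMod 2) hFE (fun p => pz x p) (fun p => pz_mem hxE p) (by
    intro i j h5
    have h6 : (pz x i)⁻¹ = pz x i := inv_eq_of_mul_eq_one_left (by rw [pz_mul hx, CharTwo.add_self_eq_zero, pz_zero])
    rw [h6, pz_mul hx] at h5
    rcases h01 (i + j) with h7 | h7
    · exact add_eq_zero2 h7
    · rw [h7, pz_one] at h5
      exact absurd h5 hxF)
  rwa [Nat.card_zmod] at h4

/-- the generators of `E` -/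
def EX (B : Subgroup G) (u2 w : G) : Set G := {x | x = u2 ∨ ∃ b ∈ B, x = b * w * b⁻¹}

namespace CP

variable {V Q T C R N B U : Subgroup G} {a t z1 z2 z3 u2 u3 : G} {f12 f21 f13 f31 : G → ZMod 2}
  (h : CP V Q T C R N B U a t z1 z2 z3 u2 u3 f12 f21 f13 f31)
include h

theorem ztU (s i j k : ZMod 2) : zt u2 z1 z2 z3 s i j k ∈ U := U.mul_mem (pz_mem h.u2U s) (h.zvU i j k)

theorem ztm (s i j k s' i' j' k' : ZMod 2) : zt u2 z1 z2 z3 s i j k * zt u2 z1 z2 z3 s' i' j' k' =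
    zt u2 z1 z2 z3 (s + s') (i + i') (j + j') (k + k') := by
  rw [zt, zt, zt, mmmc (h.ab _ (h.zvU _ _ _) _ (pz_mem h.u2U _)), pz_mul (h.sq _ h.u2U), h.zvm]

theorem zt_eq {s i j k : ZMod 2} (h1 : zt u2 z1 z2 z3 s i j k = 1) : s = 0 ∧ i = 0 ∧ j = 0 ∧ k = 0 := by
  have h2 := h.ind5 (p := 0) (s := s) (i := i) (j := j) (k := k) (by rw [pz_zero, one_mul]; exact h1)
  exact h2.2

theorem mem_Zs {w : G} : w ∈ Zs u2 z1 z2 z3 ↔ ∃ s i j k : ZMod 2, w = zt u2 z1 z2 z3 s i j k := by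
  constructor
  · intro hw
    rw [Zs] at hw
    induction hw using closure_induction with
    | mem x hx =>
      rcases hx with rfl | rfl | rfl | rfl
      · exact ⟨1, 0, 0, 0, by rw [zt, zv_zero, pz_one, mul_one]⟩
      · exact ⟨0, 1, 0, 0, by rw [zt_zv, zv, pz_one, pz_zero, pz_zero, mul_one, mul_one]⟩
      · exact ⟨0, 0, 1, 0, by rw [zt_zv, zv, pz_one, pz_zero, pz_zero, one_mul, mul_one]⟩
      · exact ⟨0, 0, 0, 1, by rw [zt_zv, zv, pz_one, pz_zero, pz_zero, one_mul, one_mul]⟩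
    | one => exact ⟨0, 0, 0, 0, (zt_zero _ _ _ _).symm⟩
    | mul x y _ _ h1 h2 =>
      obtain ⟨s, i, j, k, rfl⟩ := h1
      obtain ⟨s', i', j', k', rfl⟩ := h2
      exact ⟨_, _, _, _, h.ztm _ _ _ _ _ _ _ _⟩
    | inv x _ h1 =>
      obtain ⟨s, i, j, k, rfl⟩ := h1
      exact ⟨s, i, j, k, inv_eq_of_mul_eq_one_left (h.sq _ (h.ztU _ _ _ _))⟩
  · rintro ⟨s, i, j, k, rfl⟩
    have m : ∀ x ∈ ({u2, z1, z2, z3} : Set G), x ∈ Zs u2 z1 z2 z3 := fun x hx => subset_closure hx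
    exact mul_mem (pz_mem (m _ (by simp)) s) (zv_mem (m _ (by simp)) (m _ (by simp)) (m _ (by simp)) i j k)

theorem zt_mem (s i j k : ZMod 2) : zt u2 z1 z2 z3 s i j k ∈ Zs u2 z1 z2 z3 := h.mem_Zs.2 ⟨s, i, j, k, rfl⟩

theorem zv_mem' (i j k : ZMod 2) : zv z1 z2 z3 i j k ∈ Zs u2 z1 z2 z3 := by
  rw [← zt_zv u2]; exact h.zt_mem _ _ _ _

theorem ZsU : Zs u2 z1 z2 z3 ≤ U := by
  intro w hw
  obtain ⟨s, i, j, k, rfl⟩ := h.mem_Zs.1 hw
  exact h.ztU _ _ _ _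

theorem zt_conj {q : G} (hq : q ∈ Q) (s i j k : ZMod 2) :
    q * zt u2 z1 z2 z3 s i j k * q⁻¹ = zt u2 z1 z2 z3 s (i + s * f12 q) (j + s * f21 q) k := by
  have h1 := ((h.k12 hq).pz s).mul (h.kV hq (h.zvV i j k))
    (h.ab _ (pz_mem (h.zvU _ _ _) s) _ (h.zvU _ _ _))
  rw [mul_one, pz_zv, Cm] at h1
  rw [zt, h1, mul_zero, mul_assoc, h.zvm, add_zero, zt]

theorem C_u2 {c : G} (hc : c ∈ C) : f12 c = 0 ∧ f21 c = 0 := (h.C_iff c (h.CQ hc)).1 hc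

theorem C_zt {c : G} (hc : c ∈ C) (s i j k : ZMod 2) : Cm c (zt u2 z1 z2 z3 s i j k) 1 := by
  rw [Cm, h.zt_conj (h.CQ hc), (h.C_u2 hc).1, (h.C_u2 hc).2, mul_zero, add_zero, add_zero, mul_one]

theorem C_Zs {c w : G} (hc : c ∈ C) (hw : w ∈ Zs u2 z1 z2 z3) : Cm c w 1 := by
  obtain ⟨s, i, j, k, rfl⟩ := h.mem_Zs.1 hw
  exact h.C_zt hc _ _ _ _

theorem y_ex {r : G} (hr : r ∈ R) (hrN : r ∉ N) : ∃ i j k : ZMod 2, r * z1 * r⁻¹ = zt u2 z1 z2 z3 1 i j k := by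
  have h1 : z1 ∈ Zs u2 z1 z2 z3 := subset_closure (by simp)
  obtain ⟨s, i, j, k, h2⟩ := h.mem_Zs.1 (h.RZ r hr _ h1)
  rcases h01 s with rfl | rfl
  · exfalso
    apply h.mv r hr hrN
    rw [h2, zt_zv]
    exact h.zvV _ _ _
  · exact ⟨i, j, k, h2⟩

theorem CR' {r : G} (hr : r ∈ R) {c : G} (hc : c ∈ C) : r⁻¹ * c * r ∈ C := by
  have := h.CR r⁻¹ (inv_mem hr) c hc
  rwa [inv_inv] at this

theorem keta {r : G} (hr : r ∈ R) {i0 j0 k0 : ZMod 2} (hy : r * z1 * r⁻¹ = zt u2 z1 z2 z3 1 i0 j0 k0) {b c : G}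
    (hb : b ∈ Q) (hc : c ∈ C) :
    Cm c (b * (r * u3 * r⁻¹) * b⁻¹) (zt u2 z1 z2 z3 (f13 (r⁻¹ * (b⁻¹ * c * b) * r))
      (f13 (r⁻¹ * (b⁻¹ * c * b) * r) * (i0 + f12 b)) (f13 (r⁻¹ * (b⁻¹ * c * b) * r) * (j0 + f21 b))
      (f13 (r⁻¹ * (b⁻¹ * c * b) * r) * k0 + f31 (r⁻¹ * (b⁻¹ * c * b) * r))) := by
  have hbR : b ∈ R := h.TR (h.QT hb)
  have hc2 := h.CR' hr (h.CR' hbR hc)
  set c' := r⁻¹ * (b⁻¹ * c * b) * r with hc'
  have h1 := ((h.k13 (h.CQ hc2)).conj r).conj b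
  have e1 : b * (r * c' * r⁻¹) * b⁻¹ = c := by rw [hc']; group
  have e3 : pz z3 (f31 c') = zt u2 z1 z2 z3 0 0 0 (f31 c') := by
    rw [zt_zv, zv, pz_zero, pz_zero, one_mul, one_mul]
  have e2 : r * zv z1 z2 z3 (f13 c') 0 (f31 c') * r⁻¹ =
      zt u2 z1 z2 z3 (f13 c') (f13 c' * i0) (f13 c' * j0) (f13 c' * k0 + f31 c') := by
    rw [zv_conj, zv, hy, h.Rz3 r hr, pz_zero, mul_one, pz_zt, e3, h.ztm, mul_one, add_zero, add_zero, add_zero]
  rw [e1, e2, h.zt_conj hb] at h1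
  rw [mul_add, mul_add]
  exact h1

/-- the case `c ∈ B ∩ C`, `b ∈ B` -/
theorem ketaB {r : G} (hr : r ∈ R) {i0 j0 k0 : ZMod 2} (hy : r * z1 * r⁻¹ = zt u2 z1 z2 z3 1 i0 j0 k0) {b c : G}
    (hb : b ∈ B) (hcB : c ∈ B) (hc : c ∈ C) :
    Cm c (b * (r * u3 * r⁻¹) * b⁻¹) (zt u2 z1 z2 z3 (f13 (r⁻¹ * c * r))
      (f13 (r⁻¹ * c * r) * (i0 + f12 b)) (f13 (r⁻¹ * c * r) * (j0 + f21 b))
      (f13 (r⁻¹ * c * r) * k0 + f31 (r⁻¹ * c * r))) := by
  have h1 := h.keta hr hy (h.BQ hb) hc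
  have e : b⁻¹ * c * b = c := by rw [mul_assoc, ← h.Bab b hb c hcB, inv_mul_cancel_left]
  rwa [e] at h1

/-! ### bounds for `|B|` -/

theorem memBC {b b' : G} (hb : b ∈ B) (hb' : b' ∈ B) (h1 : f12 b = f12 b') (h2 : f21 b = f21 b') : b⁻¹ * b' ∈ B ⊓ C := by
  refine mem_inf.2 ⟨mul_mem (inv_mem hb) hb', (h.C_iff _ (h.BQ (mul_mem (inv_mem hb) hb'))).2 ?_⟩
  obtain ⟨h3, h4⟩ := h.hom12 (inv_mem (h.BQ hb)) (h.BQ hb')
  rw [(h.inv12 (h.BQ hb)).1, h1, CharTwo.add_self_eq_zero] at h3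
  rw [(h.inv12 (h.BQ hb)).2, h2, CharTwo.add_self_eq_zero] at h4
  exact ⟨h3, h4⟩

theorem card4 [Finite G] : Nat.card B ≤ 4 * Nat.card ↥(B ⊓ C) := by
  have h1 := map_card (B := B) (F := B ⊓ C) (fun b => ((f12 b, f21 b) : ZMod 2 × ZMod 2))
    (fun b hb b' hb' e => h.memBC hb hb' (Prod.mk.inj e).1 (Prod.mk.inj e).2)
  have h5 : Nat.card (ZMod 2 × ZMod 2) = 4 := by
    rw [Nat.card_eq_fintype_card]; decide
  rwa [h5] at h1

theorem card2 [Finite G] (h0 : ∀ b ∈ B, f12 b = 0) : Nat.card B ≤ 2 * Nat.card ↥(B ⊓ C) := by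
  have h1 := map_card (B := B) (F := B ⊓ C) f21
    (fun b hb b' hb' e => h.memBC hb hb' ((h0 b hb).trans (h0 b' hb').symm) e)
  rwa [Nat.card_zmod] at h1

/-! ### the group `E` -/

theorem conjR {b r : G} : b * (r * u3 * r⁻¹) * b⁻¹ = (b * r) * u3 * (b * r)⁻¹ := by group

theorem goodE {r : G} (hr : r ∈ R) : Good V B U a (closure ((V : Set G) ∪ EX B u2 (r * u3 * r⁻¹))) := by
  refine h.good _ ?_ ?_ ?_
  · rintro _ (rfl | ⟨b, hb, rfl⟩)
    · exact h.u2U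
    · rw [h.conjR]
      exact (h.box _ (mul_mem (h.TR (h.QT (h.BQ hb))) hr)).1
  · rintro _ (rfl | ⟨b, hb, rfl⟩)
    · exact h.au2U
    · rw [h.conjR]
      exact (h.box _ (mul_mem (h.TR (h.QT (h.BQ hb))) hr)).2
  · rintro b hb _ (rfl | ⟨b', hb', rfl⟩)
    · have e := h.k12 (h.BQ hb)
      rw [Cm] at e
      rw [e]
      exact mul_mem (subset_closure (Or.inr (Or.inl rfl))) (subset_closure (Or.inl (h.zvV _ _ _)))
    · refine subset_closure (Or.inr (Or.inr ⟨b * b', mul_mem hb hb', ?_⟩))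
      group

omit h in
theorem u2E {w : G} : u2 ∈ closure ((V : Set G) ∪ EX B u2 w) := subset_closure (Or.inr (Or.inl rfl))

omit h in
theorem wE {w b : G} (hb : b ∈ B) : b * w * b⁻¹ ∈ closure ((V : Set G) ∪ EX B u2 w) :=
  subset_closure (Or.inr (Or.inr ⟨b, hb, rfl⟩))

/-- `C_{B ∩ C}(E E ^ a)` -/
theorem memCX {r : G} (hr : r ∈ R) {i0 j0 k0 : ZMod 2} (hy : r * z1 * r⁻¹ = zt u2 z1 z2 z3 1 i0 j0 k0) {c : G}
    (hcB : c ∈ B) (hc : c ∈ C) (h1 : f13 (r⁻¹ * c * r) = 0) (h2 : f31 (r⁻¹ * c * r) = 0) :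
    c ∈ centralizer ((closure ((V : Set G) ∪ EX B u2 (r * u3 * r⁻¹)) ⊔
      cj a (closure ((V : Set G) ∪ EX B u2 (r * u3 * r⁻¹))) : Subgroup G) : Set G) := by
  set E := closure ((V : Set G) ∪ EX B u2 (r * u3 * r⁻¹)) with hE
  have h3 : E ≤ centralizer ({c} : Set G) := by
    rw [hE, closure_le]
    rintro x (hx | rfl | ⟨b, hb, rfl⟩)
    · refine mem_centralizer_iff.2 ?_
      rintro _ rfl
      exact h.Qc _ (h.CQ hc) x hx
    · refine mem_centralizer_iff.2 ?_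
      rintro _ rfl
      have h4 := h.k12 (h.CQ hc)
      rw [(h.C_u2 hc).1, (h.C_u2 hc).2, zv_zero] at h4
      exact Cm.one_iff.1 h4
    · refine mem_centralizer_iff.2 ?_
      rintro _ rfl
      have h4 := h.ketaB hr hy hb hcB hc
      rw [h1, h2, zero_mul, zero_mul, zero_mul, add_zero, zt_zero] at h4
      exact Cm.one_iff.1 h4
  have h4 : E ⊔ cj a E ≤ centralizer ({c} : Set G) := by
    apply sup_le h3
    intro y hy
    obtain ⟨e, he, rfl⟩ := mem_cj.1 hy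
    refine mem_centralizer_iff.2 ?_
    rintro _ rfl
    have h5 := (Cm.one_iff.2 (mem_centralizer_iff.1 (h3 he) _ rfl)).conj a
    rw [h.aB _ hcB, mul_inv_cancel_right, mul_one, mul_inv_cancel] at h5
    exact Cm.one_iff.1 h5
  refine mem_centralizer_iff.2 fun y hy => ?_
  exact (mem_centralizer_iff.1 (h4 hy) c rfl).symm

theorem hom_al {r : G} (hr : r ∈ R) {c c' : G} (hc : c ∈ C) (hc' : c' ∈ C) :
    f13 (r⁻¹ * (c * c') * r) = f13 (r⁻¹ * c * r) + f13 (r⁻¹ * c' * r) ∧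
    f31 (r⁻¹ * (c * c') * r) = f31 (r⁻¹ * c * r) + f31 (r⁻¹ * c' * r) := by
  have h1 := h.hom13 (h.CQ (h.CR' hr hc)) (h.CQ (h.CR' hr hc'))
  have e : r⁻¹ * c * r * (r⁻¹ * c' * r) = r⁻¹ * (c * c') * r := by group
  rwa [e] at h1

theorem inv_al {r : G} (hr : r ∈ R) {c : G} (hc : c ∈ C) :
    f13 (r⁻¹ * c⁻¹ * r) = f13 (r⁻¹ * c * r) ∧ f31 (r⁻¹ * c⁻¹ * r) = f31 (r⁻¹ * c * r) := by
  have h1 := h.inv13 (h.CQ (h.CR' hr hc))
  have e : (r⁻¹ * c * r)⁻¹ = r⁻¹ * c⁻¹ * r := by group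
  rwa [e] at h1

/-- `|B ∩ C : C_B(E E ^ a)| ≤ 4` -/
theorem cardCX [Finite G] {r : G} (hr : r ∈ R) {i0 j0 k0 : ZMod 2} (hy : r * z1 * r⁻¹ = zt u2 z1 z2 z3 1 i0 j0 k0) :
    Nat.card ↥(B ⊓ C) ≤ 4 * Nat.card ↥(B ⊓ centralizer ((closure ((V : Set G) ∪ EX B u2 (r * u3 * r⁻¹)) ⊔
      cj a (closure ((V : Set G) ∪ EX B u2 (r * u3 * r⁻¹))) : Subgroup G) : Set G)) := by
  have h1 := map_card (B := B ⊓ C) (F := B ⊓ centralizer ((closure ((V : Set G) ∪ EX B u2 (r * u3 * r⁻¹)) ⊔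
      cj a (closure ((V : Set G) ∪ EX B u2 (r * u3 * r⁻¹))) : Subgroup G) : Set G))
    (fun c => ((f13 (r⁻¹ * c * r), f31 (r⁻¹ * c * r)) : ZMod 2 × ZMod 2)) (by
      rintro b ⟨hb, hbC⟩ b' ⟨hb', hbC'⟩ e
      obtain ⟨e1, e2⟩ := Prod.mk.inj e
      obtain ⟨h3, h4⟩ := h.hom_al hr (inv_mem hbC) hbC'
      rw [(h.inv_al hr hbC).1, e1, CharTwo.add_self_eq_zero] at h3
      rw [(h.inv_al hr hbC).2, e2, CharTwo.add_self_eq_zero] at h4
      exact mem_inf.2 ⟨mul_mem (inv_mem hb) hb', h.memCX hr hy (mul_mem (inv_mem hb) hb') (mul_mem (inv_mem hbC) hbC') h3 h4⟩)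
  have h5 : Nat.card (ZMod 2 × ZMod 2) = 4 := by
    rw [Nat.card_eq_fintype_card]; decide
  rwa [h5] at h1

theorem azt (s i j k : ZMod 2) : a * zt u2 z1 z2 z3 s i j k * a⁻¹ = pz (a * u2 * a⁻¹) s * zv z1 z2 z3 k j i := by
  have e : a * zt u2 z1 z2 z3 s i j k * a⁻¹ = (a * pz u2 s * a⁻¹) * (a * zv z1 z2 z3 i j k * a⁻¹) := by
    rw [zt]; group
  rw [e, pz_conj, h.az]

/-- **(1)** -/
theorem al0 [Finite G] {r : G} (hr : r ∈ R) (hrN : r ∉ N) {c : G} (hcB : c ∈ B) (hc : c ∈ C) :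
    f13 (r⁻¹ * c * r) = 0 := by
  by_contra hne
  have hal : f13 (r⁻¹ * c * r) = 1 := (h01 _).resolve_left hne
  obtain ⟨i0, j0, k0, hy⟩ := h.y_ex hr hrN
  have g := h.goodE hr
  have hCX := h.cardCX hr hy
  obtain ⟨k1, k2, k3, k4⟩ := g.XX h.aB h.aa
  have hex := h.ex _ k1 k2 k3 k4
  obtain ⟨L, hL, hLX, hLc⟩ := lam h.ab k2 (k3 c hcB)
  have hu2X : u2 ∈ closure ((V : Set G) ∪ EX B u2 (r * u3 * r⁻¹)) ⊔
      cj a (closure ((V : Set G) ∪ EX B u2 (r * u3 * r⁻¹))) := mem_sup_left u2E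
  have hwL : ∀ b ∈ B, zt u2 z1 z2 z3 1 (i0 + f12 b) (j0 + f21 b) (k0 + f31 (r⁻¹ * c * r)) ∈ L := by
    intro b hb
    have h1 := h.ketaB hr hy hb hcB hc
    rw [hal, one_mul, one_mul, one_mul] at h1
    exact hL _ (mem_sup_left (wE hb)) _ h1
  have hawL : ∀ b ∈ B,
      pz (a * u2 * a⁻¹) 1 * zv z1 z2 z3 (k0 + f31 (r⁻¹ * c * r)) (j0 + f21 b) (i0 + f12 b) ∈ L := by
    intro b hb
    have h1 := h.ketaB hr hy hb hcB hc
    rw [hal, one_mul, one_mul, one_mul] at h1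
    have h2 := h1.conj a
    rw [h.azt, h.aB c hcB, mul_inv_cancel_right] at h2
    exact hL _ (mem_sup_right (mem_cj.2 ⟨_, wE hb, rfl⟩)) _ h2
  set E := closure ((V : Set G) ∪ EX B u2 (r * u3 * r⁻¹)) with hE
  set X := E ⊔ cj a E with hX
  have hXB : X ⊓ centralizer (B : Set G) ≤ X ⊓ centralizer ({c} : Set G) :=
    inf_le_inf_left _ (centralizer_le (by rintro _ rfl; exact hcB))
  have p1 : 0 < Nat.card ↥(B ⊓ centralizer (X : Set G)) := Nat.card_pos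
  have p2 : 0 < Nat.card ↥(X ⊓ centralizer (B : Set G)) := Nat.card_pos
  have hXB' : Nat.card ↥(X ⊓ centralizer (B : Set G)) ≤ Nat.card ↥(X ⊓ centralizer ({c} : Set G)) :=
    Nat.card_le_card_of_injective _ (inclusion_injective hXB)
  obtain ⟨hone1, hone2⟩ := h.one12
  have hw1 := hwL 1 (one_mem _)
  have haw1 := hawL 1 (one_mem _)
  rw [hone1, hone2, add_zero, add_zero] at hw1 haw1
  set be := f31 (r⁻¹ * c * r) with hbe
  rcases h.phi_cases with ⟨h0, b1, hb1, hb1'⟩ | hon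
  · -- `ε = 1`
    have hB2 := h.card2 h0
    have hz2 : zt u2 z1 z2 z3 0 0 1 0 ∈ L := by
      have h1 := L.mul_mem hw1 (hwL b1 hb1)
      rw [h.ztm, h0 b1 hb1, hb1', add_zero, CharTwo.add_self_eq_zero, CharTwo.add_self_eq_zero,
        CharTwo.add_self_eq_zero, ← add_assoc, CharTwo.add_self_eq_zero, zero_add] at h1
      exact h1
    have hL8 : 8 ≤ Nat.card L := by
      have h1 := octo h.ab h.sq (hLX.trans k2) (bot_le : ⊥ ≤ L) haw1 hw1 hz2 (by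
        intro x y s hm
        rw [mem_bot, pz_zt] at hm
        have h2 : pz (pz (a * u2 * a⁻¹) 1 * zv z1 z2 z3 (k0 + be) j0 i0) x =
            pz (a * u2 * a⁻¹) x * zv z1 z2 z3 (x * (k0 + be)) (x * j0) (x * i0) := by
          rw [pz_one]
          rcases h01 x with rfl | rfl
          · rw [pz_zero, pz_zero, zero_mul, zero_mul, zero_mul, zv_zero, one_mul]
          · rw [pz_one, pz_one, one_mul, one_mul, one_mul]
        rw [h2, pz_zt, mul_one, mul_zero, mul_one, mul_assoc, h.ztm, mul_assoc,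
          ← zt_zv u2 z1 z2 z3 (x * (k0 + be)), h.ztm, zt, ← mul_assoc] at hm
        obtain ⟨q1, q2, q3, q4, q5⟩ := h.ind5 hm
        rw [zero_add, add_zero] at q2
        subst q1
        subst q2
        rw [zero_mul, zero_add, zero_add] at q4
        exact ⟨rfl, rfl, q4⟩)
      rwa [Subgroup.card_bot, mul_one] at h1
    have h16 : 2 * Nat.card ↥(X ⊓ centralizer (B : Set G)) ≤ Nat.card ↥(X ⊓ centralizer ({c} : Set G)) := by
      refine two_mul_le hXB (h.sq _ h.u2U) ⟨hu2X, ?_⟩ ?_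
      · refine mem_centralizer_iff.2 ?_
        rintro _ rfl
        have h4 := h.k12 (h.CQ hc)
        rw [(h.C_u2 hc).1, (h.C_u2 hc).2, zv_zero] at h4
        exact Cm.one_iff.1 h4
      · intro h5
        exact h.nfix2 fun b hb => mem_centralizer_iff.1 h5.2 b hb
    have a1 : 16 * Nat.card ↥(X ⊓ centralizer (B : Set G)) ≤ Nat.card X := by
      calc 16 * Nat.card ↥(X ⊓ centralizer (B : Set G)) = 8 * (2 * Nat.card ↥(X ⊓ centralizer (B : Set G))) := by ring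
        _ ≤ Nat.card L * Nat.card ↥(X ⊓ centralizer ({c} : Set G)) := Nat.mul_le_mul hL8 h16
        _ ≤ Nat.card X := hLc
    have a2 : Nat.card B ≤ 8 * Nat.card ↥(B ⊓ centralizer (X : Set G)) := by omega
    have a3 := (Nat.mul_le_mul_right (Nat.card ↥(B ⊓ centralizer (X : Set G))) a1).trans
      (hex.trans (Nat.mul_le_mul_right _ a2))
    have a4 := Nat.mul_pos p1 p2
    nlinarith
  · -- `ε = 2`
    have hB4 := h.card4
    obtain ⟨b1, hb1, hb11, hb12⟩ := hon 1 0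
    obtain ⟨b2, hb2, hb21, hb22⟩ := hon 0 1
    have hz1 : zv z1 z2 z3 1 0 0 ∈ L := by
      have h1 := L.mul_mem hw1 (hwL b1 hb1)
      rw [h.ztm, hb11, hb12, add_zero, CharTwo.add_self_eq_zero, CharTwo.add_self_eq_zero,
        CharTwo.add_self_eq_zero, ← add_assoc, CharTwo.add_self_eq_zero, zero_add, zt_zv] at h1
      exact h1
    have hz2 : zv z1 z2 z3 0 1 0 ∈ L := by
      have h1 := L.mul_mem hw1 (hwL b2 hb2)
      rw [h.ztm, hb21, hb22, add_zero, CharTwo.add_self_eq_zero, CharTwo.add_self_eq_zero,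
        CharTwo.add_self_eq_zero, ← add_assoc, CharTwo.add_self_eq_zero, zero_add, zt_zv] at h1
      exact h1
    have hz3 : zv z1 z2 z3 0 0 1 ∈ L := by
      have h1 := L.mul_mem haw1 (hawL b1 hb1)
      have h2 : pz (a * u2 * a⁻¹) 1 ∈ U := pz_mem h.au2U 1
      rw [mmmc (h.ab _ (h.zvU _ _ _) _ h2), h.sq _ h2, one_mul, h.zvm, hb11, hb12, add_zero,
        CharTwo.add_self_eq_zero, CharTwo.add_self_eq_zero, ← add_assoc, CharTwo.add_self_eq_zero, zero_add] at h1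
      exact h1
    have hzv : ∀ i j k : ZMod 2, zv z1 z2 z3 i j k ∈ L := by
      intro i j k
      have h1 := L.mul_mem (L.mul_mem (pz_mem hz1 i) (pz_mem hz2 j)) (pz_mem hz3 k)
      rw [pz_zv, pz_zv, pz_zv, h.zvm, h.zvm] at h1
      simpa using h1
    have hu2 : u2 ∈ L := by
      have h1 := L.mul_mem hw1 (L.inv_mem (hzv i0 j0 (k0 + be)))
      rwa [zt, pz_one, mul_inv_cancel_right] at h1
    have hau2 : a * u2 * a⁻¹ ∈ L := by
      have h1 := L.mul_mem haw1 (L.inv_mem (hzv (k0 + be) j0 i0))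
      rwa [pz_one, mul_inv_cancel_right] at h1
    have hL32 : 32 ≤ Nat.card L := by
      have h1 := card_ge (ι := ZMod 2 × ZMod 2 × ZMod 2 × ZMod 2 × ZMod 2) (L := L)
        (fun p => pz (a * u2 * a⁻¹) p.1 * pz u2 p.2.1 * zv z1 z2 z3 p.2.2.1 p.2.2.2.1 p.2.2.2.2)
        (fun p => L.mul_mem (L.mul_mem (pz_mem hau2 _) (pz_mem hu2 _)) (hzv _ _ _)) (by
          rintro ⟨p, s, i, j, k⟩ ⟨p', s', i', j', k'⟩ h2
          change pz (a * u2 * a⁻¹) p * pz u2 s * zv z1 z2 z3 i j k =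
            pz (a * u2 * a⁻¹) p' * pz u2 s' * zv z1 z2 z3 i' j' k' at h2
          have m1 : ∀ p : ZMod 2, pz (a * u2 * a⁻¹) p ∈ U := fun p => pz_mem h.au2U p
          have m2 : ∀ p : ZMod 2, pz u2 p ∈ U := fun p => pz_mem h.u2U p
          have h3 : pz (a * u2 * a⁻¹) p' * pz u2 s' * zv z1 z2 z3 i' j' k' *
              (pz (a * u2 * a⁻¹) p * pz u2 s * zv z1 z2 z3 i j k) = 1 := by
            rw [h2]
            exact h.sq _ (U.mul_mem (U.mul_mem (m1 _) (m2 _)) (h.zvU _ _ _))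
          rw [mmmc (h.ab _ (h.zvU _ _ _) _ (U.mul_mem (m1 _) (m2 _))), mmmc (h.ab _ (m2 _) _ (m1 _)),
            pz_mul (h.sq _ h.au2U), pz_mul (h.sq _ h.u2U), h.zvm] at h3
          obtain ⟨q1, q2, q3, q4, q5⟩ := h.ind5 h3
          rw [add_eq_zero2 q1, add_eq_zero2 q2, add_eq_zero2 q3, add_eq_zero2 q4, add_eq_zero2 q5])
      have h5 : Nat.card (ZMod 2 × ZMod 2 × ZMod 2 × ZMod 2 × ZMod 2) = 32 := by
        simp only [Nat.card_prod, Nat.card_zmod]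
      rwa [h5] at h1
    have a1 : 32 * Nat.card ↥(X ⊓ centralizer (B : Set G)) ≤ Nat.card X := by
      calc 32 * Nat.card ↥(X ⊓ centralizer (B : Set G))
          ≤ Nat.card L * Nat.card ↥(X ⊓ centralizer ({c} : Set G)) := Nat.mul_le_mul hL32 hXB'
        _ ≤ Nat.card X := hLc
    have a2 : Nat.card B ≤ 16 * Nat.card ↥(B ⊓ centralizer (X : Set G)) := by omega
    have a3 := (Nat.mul_le_mul_right (Nat.card ↥(B ⊓ centralizer (X : Set G))) a1).trans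
      (hex.trans (Nat.mul_le_mul_right _ a2))
    have a4 := Nat.mul_pos p1 p2
    nlinarith

end CP

end Cfsg.Agent.Omega.NO3S.SN2.CPlus
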