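import Cfsg.Agent.Omega.NO3S.SN2.CPlusC

/-!
# SN.Two, THEOREM (C+) (helper933, #22887), part D: steps (2), (3), (4)
-/

set_option autoImplicit false
set_option linter.unusedSectionVars false

namespace Cfsg.Agent.Omega.NO3S.SN2.CPlus

open Subgroup

universe u

variable {G : Type u} [Group G]

/-- `b` fixes `w Zs` -/
def Fx (u2 z1 z2 z3 b w : G) : Prop := ∃ z ∈ Zs u2 z1 z2 z3, Cm b w z

namespace CP

variable {V Q T C R N B U : Subgroup G} {a t z1 z2 z3 u2 u3 : G} {f12 f21 f13 f31 : G → ZMod 2}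
  (h : CP V Q T C R N B U a t z1 z2 z3 u2 u3 f12 f21 f13 f31)
include h

/-! ### calculus of `Fx` -/

theorem Fx_mul {b w w' : G} (h1 : Fx u2 z1 z2 z3 b w) (h2 : Fx u2 z1 z2 z3 b w') (hw' : w' ∈ U) :
    Fx u2 z1 z2 z3 b (w * w') := by
  obtain ⟨z, hz, e⟩ := h1
  obtain ⟨z', hz', e'⟩ := h2
  exact ⟨z * z', mul_mem hz hz', e.mul e' (h.ab _ (h.ZsU hz) _ hw')⟩

theorem Fx_Zs {b w : G} (hb : b ∈ R) (hw : w ∈ Zs u2 z1 z2 z3) : Fx u2 z1 z2 z3 b w :=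
  ⟨_, mul_mem (inv_mem hw) (h.RZ b hb w hw), Cm.self b w⟩

omit h in
theorem Fx_one {b w : G} (hb : Cm b w 1) : Fx u2 z1 z2 z3 b w := ⟨1, one_mem _, hb⟩

theorem Fx_comp {b b' w : G} (hb : b ∈ R) (h1 : Fx u2 z1 z2 z3 b w) (h2 : Fx u2 z1 z2 z3 b' w) :
    Fx u2 z1 z2 z3 (b * b') w := by
  obtain ⟨z, hz, e⟩ := h1
  obtain ⟨z', hz', e'⟩ := h2
  refine ⟨z * (b * z' * b⁻¹), mul_mem hz (h.RZ b hb _ hz'), ?_⟩
  rw [Cm] at e e' ⊢
  calc b * b' * w * (b * b')⁻¹ = b * (b' * w * b'⁻¹) * b⁻¹ := by group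
    _ = (b * w * b⁻¹) * (b * z' * b⁻¹) := by rw [e']; group
    _ = _ := by rw [e, mul_assoc]

theorem Fx_inv {b w : G} (hb : b ∈ R) (h1 : Fx u2 z1 z2 z3 b w) : Fx u2 z1 z2 z3 b⁻¹ w := by
  obtain ⟨z, hz, e⟩ := h1
  have h2 := h.RZ b⁻¹ (inv_mem hb) _ (inv_mem hz)
  refine ⟨_, h2, ?_⟩
  rw [Cm] at e ⊢
  have e2 : w = b⁻¹ * (w * z) * b := by rw [← e]; group
  have e3 : b⁻¹ * w * b⁻¹⁻¹ = (b⁻¹ * (w * z) * b) * (b⁻¹ * z⁻¹ * b⁻¹⁻¹) := by group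
  rw [e3, ← e2]

theorem Fx_conj {g b w : G} (hg : g ∈ R) (h1 : Fx u2 z1 z2 z3 b w) : Fx u2 z1 z2 z3 (g * b * g⁻¹) (g * w * g⁻¹) := by
  obtain ⟨z, hz, e⟩ := h1
  exact ⟨_, h.RZ g hg _ hz, e.conj g⟩

/-- cancel a factor -/
theorem Fx_cancel {b w w' : G} (h1 : Fx u2 z1 z2 z3 b (w * w')) (h2 : Fx u2 z1 z2 z3 b w') (hw' : w' ∈ U) :
    Fx u2 z1 z2 z3 b w := by
  have h3 := h.Fx_mul h1 h2 hw'
  rwa [mul_assoc, h.sq _ hw', mul_one] at h3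

theorem Fx_u2 {b : G} (hb : b ∈ R) (i : ZMod 2) : Fx u2 z1 z2 z3 b (pz u2 i) :=
  h.Fx_Zs hb (pz_mem (subset_closure (by simp)) i)

/-! ### (2) -/

theorem z3_move : a * z3 * a⁻¹ ≠ z3 := by
  rw [h.az3]
  intro e
  have e1 : zv z1 z2 z3 1 0 0 = zv z1 z2 z3 0 0 1 := by
    simp only [zv, pz_one, pz_zero, mul_one, one_mul]
    exact e
  exact one_ne_zero (h.zv_inj e1).1

/-- **(2)** -/
theorem star [Finite G] {X : Set G} (hu : u2 ∈ X) (g : Good V B U a (closure ((V : Set G) ∪ X)))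
    (hp : ∀ c ∈ B, c ∈ C → ∀ e ∈ X, ∃ k : ZMod 2, Cm c e (zv z1 z2 z3 0 0 k)) :
    Nat.card (closure ((V : Set G) ∪ X)) * Nat.card ↥(B ⊓ C) ≤
      Nat.card B * Nat.card ↥((closure ((V : Set G) ∪ X)) ⊓ centralizer (B : Set G)) := by
  refine h.lemXc g h.z3_move h.z3V inf_le_left ?_ ?_
  · intro b hb hc
    refine mem_inf.2 ⟨hb, (h.C_iff b (h.BQ hb)).2 ?_⟩
    have h1 := (h.k12 (h.BQ hb)).uniq (Cm.one_iff.2 (hc u2 hu))
    obtain ⟨h2, h3, _⟩ := h.zv_eq h1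
    exact ⟨h2, h3⟩
  · rintro c ⟨hcB, hc⟩ e he
    obtain ⟨k, hk⟩ := hp c hcB hc e he
    rw [hk.comm_eq (h.ab _ (h.zvU _ _ _) _ (g.EU (subset_closure (Or.inr he))))]
    rcases h01 k with rfl | rfl
    · left; exact zv_zero _ _ _
    · right; rw [zv, pz_zero, pz_zero, pz_one, one_mul, one_mul]

theorem eta_U {r : G} (hr : r ∈ R) : r * u3 * r⁻¹ ∈ U := (h.box r hr).1

theorem beta_U {b r : G} (hb : b ∈ R) (hr : r ∈ R) : b * (r * u3 * r⁻¹) * b⁻¹ ∈ U := by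
  rw [h.conjR]
  exact (h.box _ (mul_mem hb hr)).1

theorem BR {b : G} (hb : b ∈ B) : b ∈ R := h.TR (h.QT (h.BQ hb))

theorem C_R {c : G} (hc : c ∈ C) : c ∈ R := h.TR (h.QT (h.CQ hc))

theorem hp0 [Finite G] {r : G} (hr : r ∈ R) (hrN : r ∉ N) : ∀ c ∈ B, c ∈ C → ∀ e ∈ EX B u2 (r * u3 * r⁻¹),
    ∃ k : ZMod 2, Cm c e (zv z1 z2 z3 0 0 k) := by
  rintro c hcB hc e (rfl | ⟨b, hb, rfl⟩)
  · have h1 := h.k12 (h.CQ hc)
    rw [(h.C_u2 hc).1, (h.C_u2 hc).2] at h1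
    exact ⟨0, h1⟩
  · obtain ⟨i0, j0, k0, hy⟩ := h.y_ex hr hrN
    have h1 := h.ketaB hr hy hb hcB hc
    rw [h.al0 hr hrN hcB hc, zero_mul, zero_mul, zero_mul, zt_zv] at h1
    exact ⟨_, h1⟩

/-- `u₁₂ ^ i` in `C(B)` only if `i = 0` -/
theorem u2_F {i : ZMod 2} (h1 : ∀ b ∈ B, b * pz u2 i = pz u2 i * b) : i = 0 := by
  rcases h01 i with rfl | rfl
  · rfl
  · rw [pz_one] at h1
    exact absurd h1 h.nfix2

/-- **(3)** -/
theorem three [Finite G] {r : G} (hr : r ∈ R) (hrN : r ∉ N) (h0 : ∀ b ∈ B, f12 b = 0) :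
    ∀ b ∈ B, Fx u2 z1 z2 z3 b (r * u3 * r⁻¹) := by
  by_contra hcon
  push Not at hcon
  obtain ⟨b0, hb0, hb0'⟩ := hcon
  have g := h.goodE hr
  have hst := h.star (Or.inl rfl) g (h.hp0 hr hrN)
  have hq := quad (E := closure ((V : Set G) ∪ EX B u2 (r * u3 * r⁻¹)))
    (F := closure ((V : Set G) ∪ EX B u2 (r * u3 * r⁻¹)) ⊓ centralizer (B : Set G)) h.ab h.sq g.EU inf_le_left
    (e1 := r * u3 * r⁻¹) (e2 := u2) (by
      have := wE (V := V) (u2 := u2) (w := r * u3 * r⁻¹) (one_mem B)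
      rwa [one_mul, inv_one, mul_one] at this) u2E (by
      intro x y hm
      have hm1 : ∀ b ∈ B, b * (pz (r * u3 * r⁻¹) x * pz u2 y) = (pz (r * u3 * r⁻¹) x * pz u2 y) * b :=
        fun b hb => mem_centralizer_iff.1 hm.2 b hb
      rcases h01 x with rfl | rfl
      · rw [pz_zero, one_mul] at hm1
        exact ⟨rfl, h.u2_F hm1⟩
      · exfalso
        rw [pz_one] at hm1
        exact hb0' (h.Fx_cancel (Fx_one (Cm.one_iff.2 (hm1 b0 hb0))) (h.Fx_u2 (h.BR hb0) y) (pz_mem h.u2U y)))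
  have hB := h.card2 h0
  have p1 : 0 < Nat.card ↥(B ⊓ C) := Nat.card_pos
  have p2 : 0 < Nat.card ↥(closure ((V : Set G) ∪ EX B u2 (r * u3 * r⁻¹)) ⊓ centralizer (B : Set G)) := Nat.card_pos
  have a3 := (Nat.mul_le_mul_right (Nat.card ↥(B ⊓ C)) hq).trans (hst.trans (Nat.mul_le_mul_right _ hB))
  have a4 := Nat.mul_pos p1 p2
  nlinarith

/-! ### (4) -/

/-- **(4)**, first part: `η η_{b₁} (η η_{b₁}) ^ {b₂} ∈ Zs` -/
theorem fourA [Finite G] {r : G} (hr : r ∈ R) (hrN : r ∉ N) (hmv : ∃ b0 ∈ B, ¬ Fx u2 z1 z2 z3 b0 (r * u3 * r⁻¹))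
    {b1 b2 : G} (hb1 : b1 ∈ B) (hb2 : b2 ∈ B) :
    (r * u3 * r⁻¹) * (b1 * (r * u3 * r⁻¹) * b1⁻¹) *
      (b2 * ((r * u3 * r⁻¹) * (b1 * (r * u3 * r⁻¹) * b1⁻¹)) * b2⁻¹) ∈ Zs u2 z1 z2 z3 := by
  by_contra hS
  obtain ⟨b0, hb0, hb0'⟩ := hmv
  have g := h.goodE hr
  have hst := h.star (Or.inl rfl) g (h.hp0 hr hrN)
  have hη : r * u3 * r⁻¹ ∈ closure ((V : Set G) ∪ EX B u2 (r * u3 * r⁻¹)) := by
    have := wE (V := V) (u2 := u2) (w := r * u3 * r⁻¹) (one_mem B)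
    rwa [one_mul, inv_one, mul_one] at this
  have hη1 : b1 * (r * u3 * r⁻¹) * b1⁻¹ ∈ closure ((V : Set G) ∪ EX B u2 (r * u3 * r⁻¹)) := wE hb1
  set E := closure ((V : Set G) ∪ EX B u2 (r * u3 * r⁻¹)) with hE
  set η := r * u3 * r⁻¹ with hηd
  have hηU : η ∈ U := g.EU hη
  have hη1U : b1 * η * b1⁻¹ ∈ U := g.EU hη1
  have hδ : η * (b1 * η * b1⁻¹) ∈ E := mul_mem hη hη1
  have hq := octo (E := E) (F := E ⊓ centralizer (B : Set G)) h.ab h.sq g.EU inf_le_left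
    (e1 := η) (e2 := η * (b1 * η * b1⁻¹)) (e3 := u2) hη hδ u2E (by
      intro x y s hm
      have hm1 : ∀ b ∈ B, b * (pz η x * pz (η * (b1 * η * b1⁻¹)) y * pz u2 s) =
          (pz η x * pz (η * (b1 * η * b1⁻¹)) y * pz u2 s) * b :=
        fun b hb => mem_centralizer_iff.1 hm.2 b hb
      have hm2 : ∀ b ∈ B, Fx u2 z1 z2 z3 b (pz η x * pz (η * (b1 * η * b1⁻¹)) y) := fun b hb =>
        h.Fx_cancel (Fx_one (Cm.one_iff.2 (hm1 b hb))) (h.Fx_u2 (h.BR hb) s) (pz_mem h.u2U s)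
      rcases h01 x with rfl | rfl
      · rcases h01 y with rfl | rfl
        · rw [pz_zero, pz_zero, one_mul, one_mul] at hm1
          exact ⟨rfl, rfl, h.u2_F hm1⟩
        · exfalso
          obtain ⟨z, hz, e⟩ := hm2 b2 hb2
          rw [pz_zero, one_mul, pz_one, Cm] at e
          apply hS
          rw [e, ← mul_assoc, h.sq _ (g.EU hδ), one_mul]
          exact hz
      · exfalso
        rcases h01 y with rfl | rfl
        · have h3 := hm2 b0 hb0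
          rw [pz_zero, pz_one, mul_one] at h3
          exact hb0' h3
        · have h3 := hm2 b0 hb0
          rw [pz_one, pz_one, ← mul_assoc, h.sq _ hηU, one_mul] at h3
          have h4 := h.Fx_conj (inv_mem (h.BR hb1)) h3
          have e1 : b1⁻¹ * b0 * b1⁻¹⁻¹ = b0 := by
            rw [inv_inv, mul_assoc, h.Bab b0 hb0 b1 hb1, inv_mul_cancel_left]
          have e2 : b1⁻¹ * (b1 * η * b1⁻¹) * b1⁻¹⁻¹ = η := by group
          rw [e1, e2] at h4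
          exact hb0' h4)
  have hB := h.card4
  have p1 : 0 < Nat.card ↥(B ⊓ C) := Nat.card_pos
  have p2 : 0 < Nat.card ↥(E ⊓ centralizer (B : Set G)) := Nat.card_pos
  have a3 := (Nat.mul_le_mul_right (Nat.card ↥(B ⊓ C)) hq).trans (hst.trans (Nat.mul_le_mul_right _ hB))
  have a4 := Nat.mul_pos p1 p2
  nlinarith

omit h in
theorem fourlin : ∀ A0 A1 A2 A3 i j : ZMod 2, A0 + A1 + (A2 + A3) = 0 →
    A0 * i + A1 * (i + 1) + (A2 * i + A3 * (i + 1)) = 0 →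
    A0 * j + A1 * j + (A2 * (j + 1) + A3 * (j + 1)) = 0 → A1 = A0 ∧ A2 = A0 ∧ A3 = A0 := by
  decide

/-- **(4)**, second part -/
theorem fourB [Finite G] {r : G} (hr : r ∈ R) (hrN : r ∉ N) (hmv : ∃ b0 ∈ B, ¬ Fx u2 z1 z2 z3 b0 (r * u3 * r⁻¹))
    {b1 b2 : G} (hb1 : b1 ∈ B) (hb2 : b2 ∈ B) (h11 : f12 b1 = 1) (h12 : f21 b1 = 0) (h21 : f12 b2 = 0)
    (h22 : f21 b2 = 1) {c : G} (hc : c ∈ C) :
    f13 (r⁻¹ * (b1⁻¹ * c * b1) * r) = f13 (r⁻¹ * c * r) ∧ f13 (r⁻¹ * (b2⁻¹ * c * b2) * r) = f13 (r⁻¹ * c * r) ∧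
      f13 (r⁻¹ * ((b2 * b1)⁻¹ * c * (b2 * b1)) * r) = f13 (r⁻¹ * c * r) := by
  obtain ⟨i0, j0, k0, hy⟩ := h.y_ex hr hrN
  have hS := h.fourA hr hrN hmv hb1 hb2
  have hQ21 := mul_mem (h.BQ hb2) (h.BQ hb1)
  obtain ⟨f1, f2⟩ := h.hom12 (h.BQ hb2) (h.BQ hb1)
  rw [h11, h21, zero_add] at f1
  rw [h12, h22, add_zero] at f2
  have m0 := h.keta hr hy (one_mem Q) hc
  have m1 := h.keta hr hy (h.BQ hb1) hc
  have m2 := h.keta hr hy (h.BQ hb2) hc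
  have m3 := h.keta hr hy hQ21 hc
  rw [h.one12.1, h.one12.2] at m0
  rw [h11, h12] at m1
  rw [h21, h22] at m2
  rw [f1, f2] at m3
  have e0 : (1 : G)⁻¹ * c * 1 = c := by group
  have e0' : (1 : G) * (r * u3 * r⁻¹) * 1⁻¹ = r * u3 * r⁻¹ := by group
  rw [e0, e0'] at m0
  have hηU := h.eta_U hr
  have hηU1 := h.beta_U (h.BR hb1) hr
  have hηU2 := h.beta_U (h.BR hb2) hr
  have hηU3 := h.beta_U (mul_mem (h.BR hb2) (h.BR hb1)) hr
  have e1 : (r * u3 * r⁻¹) * (b1 * (r * u3 * r⁻¹) * b1⁻¹) *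
      (b2 * ((r * u3 * r⁻¹) * (b1 * (r * u3 * r⁻¹) * b1⁻¹)) * b2⁻¹) =
      (r * u3 * r⁻¹) * (b1 * (r * u3 * r⁻¹) * b1⁻¹) *
      ((b2 * (r * u3 * r⁻¹) * b2⁻¹) * ((b2 * b1) * (r * u3 * r⁻¹) * (b2 * b1)⁻¹)) := by group
  rw [e1] at hS
  have m := (m0.mul m1 (h.ab _ (h.ztU _ _ _ _) _ hηU1)).mul (m2.mul m3 (h.ab _ (h.ztU _ _ _ _) _ hηU3))
    (h.ab _ (U.mul_mem (h.ztU _ _ _ _) (h.ztU _ _ _ _)) _ (U.mul_mem hηU2 hηU3))
  rw [h.ztm, h.ztm, h.ztm] at m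
  obtain ⟨s1, s2, s3, _⟩ := h.zt_eq (m.uniq (h.C_Zs hc hS))
  rw [add_zero] at s2
  rw [add_zero] at s3
  exact fourlin _ _ _ _ _ _ s1 s2 s3

/-- **(4)**, third part: `al` is `B`-invariant -/
theorem fourC [Finite G] (hon : ∀ i j : ZMod 2, ∃ b ∈ B, f12 b = i ∧ f21 b = j) {r : G} (hr : r ∈ R) (hrN : r ∉ N)
    (hmv : ∃ b0 ∈ B, ¬ Fx u2 z1 z2 z3 b0 (r * u3 * r⁻¹)) {b : G} (hb : b ∈ B) {c : G} (hc : c ∈ C) :
    f13 (r⁻¹ * (b⁻¹ * c * b) * r) = f13 (r⁻¹ * c * r) := by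
  obtain ⟨b1, hb1, h11, h12⟩ := hon 1 0
  obtain ⟨b2, hb2, h21, h22⟩ := hon 0 1
  rcases h01 (f12 b) with q1 | q1
  · rcases h01 (f21 b) with q2 | q2
    · have hbC : b ∈ C := (h.C_iff b (h.BQ hb)).2 ⟨q1, q2⟩
      rw [(h.hom_al hr (mul_mem (inv_mem hbC) hc) hbC).1, (h.hom_al hr (inv_mem hbC) hc).1, (h.inv_al hr hbC).1,
        add_comm, ← add_assoc, CharTwo.add_self_eq_zero, zero_add]
    · exact (h.fourB hr hrN hmv hb1 hb h11 h12 q1 q2 hc).2.1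
  · rcases h01 (f21 b) with q2 | q2
    · exact (h.fourB hr hrN hmv hb hb2 q1 q2 h21 h22 hc).1
    · have hb' : b * b1⁻¹ ∈ B := mul_mem hb (inv_mem hb1)
      obtain ⟨p1, p2⟩ := h.hom12 (h.BQ hb) (inv_mem (h.BQ hb1))
      rw [q1, (h.inv12 (h.BQ hb1)).1, h11, two0] at p1
      rw [q2, (h.inv12 (h.BQ hb1)).2, h12, add_zero] at p2
      have h3 := (h.fourB hr hrN hmv hb1 hb' h11 h12 p1 p2 hc).2.2
      rwa [inv_mul_cancel_right] at h3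

/-- **(4)**, fourth part: `al` is `R`-invariant -/
theorem fourD [Finite G] (hon : ∀ i j : ZMod 2, ∃ b ∈ B, f12 b = i ∧ f21 b = j) {r : G} (hr : r ∈ R) (hrN : r ∉ N)
    (hmv : ∃ b0 ∈ B, ¬ Fx u2 z1 z2 z3 b0 (r * u3 * r⁻¹)) {g : G} (hg : g ∈ R) {c : G} (hc : c ∈ C) :
    f13 (r⁻¹ * (g⁻¹ * c * g) * r) = f13 (r⁻¹ * c * r) := by
  let H : Subgroup G :=
    { carrier := {g | g ∈ R ∧ ∀ c ∈ C, f13 (r⁻¹ * (g⁻¹ * c * g) * r) = f13 (r⁻¹ * c * r)}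
      mul_mem' := by
        rintro x y ⟨hx, hx'⟩ ⟨hy, hy'⟩
        refine ⟨mul_mem hx hy, fun c hc => ?_⟩
        have e : (x * y)⁻¹ * c * (x * y) = y⁻¹ * (x⁻¹ * c * x) * y := by group
        rw [e, hy' _ (h.CR' hx hc), hx' c hc]
      one_mem' := by
        refine ⟨one_mem R, fun c _ => ?_⟩
        rw [inv_one, one_mul, mul_one]
      inv_mem' := by
        rintro x ⟨hx, hx'⟩
        refine ⟨inv_mem hx, fun c hc => ?_⟩
        have h1 := hx' _ (h.CR x hx c hc)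
        have e : x⁻¹ * (x * c * x⁻¹) * x = c := by group
        rw [e] at h1
        rw [inv_inv, ← h1] }
  have hQH : Q ≤ H := by
    intro q hq
    refine ⟨h.TR (h.QT hq), fun c hc => ?_⟩
    obtain ⟨b, hb, p1, p2⟩ := hon (f12 q) (f21 q)
    have hbq : b⁻¹ * q ∈ C := by
      refine (h.C_iff _ (mul_mem (inv_mem (h.BQ hb)) hq)).2 ?_
      obtain ⟨h3, h4⟩ := h.hom12 (inv_mem (h.BQ hb)) hq
      rw [(h.inv12 (h.BQ hb)).1, p1, CharTwo.add_self_eq_zero] at h3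
      rw [(h.inv12 (h.BQ hb)).2, p2, CharTwo.add_self_eq_zero] at h4
      exact ⟨h3, h4⟩
    set c0 := b⁻¹ * q with hc0
    have e : q⁻¹ * c * q = c0⁻¹ * (b⁻¹ * c * b) * c0 := by rw [hc0]; group
    have h5 := h.CR' (h.BR hb) hc
    rw [e, (h.hom_al hr (mul_mem (inv_mem hbq) h5) hbq).1, (h.hom_al hr (inv_mem hbq) h5).1, (h.inv_al hr hbq).1,
      add_comm, ← add_assoc, CharTwo.add_self_eq_zero, zero_add]
    exact h.fourC hon hr hrN hmv hb hc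
  have hQrH : cj r Q ≤ H := by
    intro x hx
    obtain ⟨q, hq, rfl⟩ := mem_cj.1 hx
    refine ⟨mul_mem (mul_mem hr (h.TR (h.QT hq))) (inv_mem hr), fun c hc => ?_⟩
    have h5 := h.CQ (h.CR' hr hc)
    have e : r⁻¹ * ((r * q * r⁻¹)⁻¹ * c * (r * q * r⁻¹)) * r = q⁻¹ * (r⁻¹ * c * r) * q := by group
    rw [e, (h.hom13 (mul_mem (inv_mem hq) h5) hq).1, (h.hom13 (inv_mem hq) h5).1, (h.inv13 hq).1,
      add_comm, ← add_assoc, CharTwo.add_self_eq_zero, zero_add]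
  exact ((h.g1 r hr hrN).trans (sup_le hQH hQrH) hg).2 c hc

/-- the generators of `E₁` -/
theorem goodE1 {r : G} (hr : r ∈ R) :
    Good V B U a (closure ((V : Set G) ∪ (EX B u2 (r * u3 * r⁻¹) ∪ {t * u3 * t⁻¹}))) := by
  have htR := h.TR h.tT
  refine h.good _ ?_ ?_ ?_
  · rintro _ ((rfl | ⟨b, hb, rfl⟩) | rfl)
    · exact h.u2U
    · exact h.beta_U (h.BR hb) hr
    · exact (h.box t htR).1
  · rintro _ ((rfl | ⟨b, hb, rfl⟩) | rfl)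
    · exact h.au2U
    · rw [h.conjR]
      exact (h.box _ (mul_mem (h.BR hb) hr)).2
    · exact (h.box t htR).2
  · rintro b hb _ ((rfl | ⟨b', hb', rfl⟩) | rfl)
    · have e := h.k12 (h.BQ hb)
      rw [Cm] at e
      rw [e]
      exact mul_mem (subset_closure (Or.inr (Or.inl (Or.inl rfl)))) (subset_closure (Or.inl (h.zvV _ _ _)))
    · refine subset_closure (Or.inr (Or.inl (Or.inr ⟨b * b', mul_mem hb hb', ?_⟩)))
      group
    · have e := h.ktu3 (h.BQ hb)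
      rw [Cm] at e
      rw [e]
      exact mul_mem (subset_closure (Or.inr (Or.inr rfl))) (subset_closure (Or.inl (h.zvV _ _ _)))

/-- **(4)**: `ε = 2` -/
theorem four [Finite G] (hon : ∀ i j : ZMod 2, ∃ b ∈ B, f12 b = i ∧ f21 b = j) {r : G} (hr : r ∈ R) (hrN : r ∉ N) :
    ∀ b ∈ B, Fx u2 z1 z2 z3 b (r * u3 * r⁻¹) := by
  by_contra hcon
  push Not at hcon
  have hmv : ∃ b0 ∈ B, ¬ Fx u2 z1 z2 z3 b0 (r * u3 * r⁻¹) := hcon
  obtain ⟨b0, hb0, hb0'⟩ := hcon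
  -- `al = f13`
  have hal : ∀ c ∈ C, f13 (r⁻¹ * c * r) = f13 c := by
    intro c hc
    have h1 := h.fourD hon hr hrN hmv (inv_mem hr) hc
    have e : r⁻¹ * (r⁻¹⁻¹ * c * r⁻¹) * r = c := by group
    rw [e] at h1
    exact h1.symm
  have hinv : ∀ g ∈ R, ∀ c ∈ C, f13 (g⁻¹ * c * g) = f13 c := by
    intro g hg c hc
    have h1 := h.fourD hon hr hrN hmv hg hc
    rw [hal c hc, hal _ (h.CR' hg hc)] at h1
    exact h1
  have h13t : ∀ c ∈ B, c ∈ C → f13 (t⁻¹ * c * t) = 0 := by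
    intro c hcB hc
    rw [hinv t (h.TR h.tT) c hc, ← hal c hc]
    exact h.al0 hr hrN hcB hc
  have g := h.goodE1 hr
  have hst := h.star (Or.inl (Or.inl rfl)) g (by
    rintro c hcB hc e (he | rfl)
    · exact h.hp0 hr hrN c hcB hc e he
    · have h1 := h.ktu3 (h.CQ hc)
      rw [h13t c hcB hc] at h1
      exact ⟨_, h1⟩)
  have hη : r * u3 * r⁻¹ ∈ closure ((V : Set G) ∪ (EX B u2 (r * u3 * r⁻¹) ∪ {t * u3 * t⁻¹})) := by
    refine subset_closure (Or.inr (Or.inl (Or.inr ⟨1, one_mem _, ?_⟩)))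
    group
  have hu2 : u2 ∈ closure ((V : Set G) ∪ (EX B u2 (r * u3 * r⁻¹) ∪ {t * u3 * t⁻¹})) :=
    subset_closure (Or.inr (Or.inl (Or.inl rfl)))
  have hu23 : t * u3 * t⁻¹ ∈ closure ((V : Set G) ∪ (EX B u2 (r * u3 * r⁻¹) ∪ {t * u3 * t⁻¹})) :=
    subset_closure (Or.inr (Or.inr rfl))
  set E := closure ((V : Set G) ∪ (EX B u2 (r * u3 * r⁻¹) ∪ {t * u3 * t⁻¹})) with hE
  have hq := octo (E := E) (F := E ⊓ centralizer (B : Set G)) h.ab h.sq g.EU inf_le_left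
    (e1 := r * u3 * r⁻¹) (e2 := u2) (e3 := t * u3 * t⁻¹) hη hu2 hu23 (by
      intro x y s hm
      have hm1 : ∀ b ∈ B, b * (pz (r * u3 * r⁻¹) x * pz u2 y * pz (t * u3 * t⁻¹) s) =
          (pz (r * u3 * r⁻¹) x * pz u2 y * pz (t * u3 * t⁻¹) s) * b :=
        fun b hb => mem_centralizer_iff.1 hm.2 b hb
      rcases h01 x with rfl | rfl
      · rcases h01 y with rfl | rfl
        · rcases h01 s with rfl | rfl
          · exact ⟨rfl, rfl, rfl⟩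
          · rw [pz_zero, pz_zero, pz_one, one_mul, one_mul] at hm1
            exact absurd hm1 h.nfix23
        · exfalso
          obtain ⟨b1, hb1, h11, h12⟩ := hon 1 0
          have h3 := hm1 b1 hb1
          rw [pz_zero, pz_one, one_mul] at h3
          have h4 := (h.k12 (h.BQ hb1)).mul ((h.ktu3 (h.BQ hb1)).pz s)
            (h.ab _ (h.zvU _ _ _) _ (pz_mem (g.EU hu23) s))
          rw [pz_zv, h.zvm] at h4
          have h5 := (h.zv_eq (h4.uniq (Cm.one_iff.2 h3))).1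
          rw [h11, mul_zero, add_zero] at h5
          exact one_ne_zero h5
      · exfalso
        have h3 := Fx_one (u2 := u2) (z1 := z1) (z2 := z2) (z3 := z3) (Cm.one_iff.2 (hm1 b0 hb0))
        rw [pz_one] at h3
        have h4 : Fx u2 z1 z2 z3 b0 (pz (t * u3 * t⁻¹) s) :=
          ⟨_, pz_mem (h.zv_mem' _ _ _) s, (h.ktu3 (h.BQ hb0)).pz s⟩
        exact hb0' (h.Fx_cancel (h.Fx_cancel h3 h4 (pz_mem (g.EU hu23) s)) (h.Fx_u2 (h.BR hb0) y) (pz_mem h.u2U y)))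
  have hB := h.card4
  have p1 : 0 < Nat.card ↥(B ⊓ C) := Nat.card_pos
  have p2 : 0 < Nat.card ↥(E ⊓ centralizer (B : Set G)) := Nat.card_pos
  have a3 := (Nat.mul_le_mul_right (Nat.card ↥(B ⊓ C)) hq).trans (hst.trans (Nat.mul_le_mul_right _ hB))
  have a4 := Nat.mul_pos p1 p2
  nlinarith

end CP

end Cfsg.Agent.Omega.NO3S.SN2.CPlus
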