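import Cfsg.Agent.Omega.Lin.Cnt
import Cfsg.Agent.ZN.Block

/-!
# LEMMA X (helper928, #20085; helper876, #20700), raw form

`E`, `E ^ a` commute and are elementary abelian, `B` commutes with `a` and normalises `E`, `[E, B₁] ≤ ⟨x⟩`, `x ^ a ≠ x`,
`C_B(E) ≤ B₁ ≤ B`, and `|XX : C_XX(B)| ≤ |B : C_B(XX)|` for `XX = E E ^ a`.  Then `|E : C_E(B)| ≤ |B : B₁|`.
-/

set_option autoImplicit false
set_option linter.unusedSectionVars false

namespace Cfsg.Agent.Omega.NO3S.SN2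

open Subgroup
open Cfsg.Agent.ZN.Block (card_sup_mul_card_inf)

universe u

variable {G : Type u} [Group G]

/-- `E ^ a` -/
def cj (a : G) (E : Subgroup G) : Subgroup G := E.map (MulAut.conj a).toMonoidHom

theorem mem_cj {a y : G} {E : Subgroup G} : y ∈ cj a E ↔ ∃ e ∈ E, y = a * e * a⁻¹ := by
  constructor
  · rintro ⟨e, he, rfl⟩
    exact ⟨e, he, rfl⟩
  · rintro ⟨e, he, rfl⟩
    exact ⟨e, he, rfl⟩

theorem card_cj (a : G) (E : Subgroup G) : Nat.card (cj a E) = Nat.card E :=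
  Nat.card_congr (E.equivMapOfInjective _ (MulAut.conj a).injective).symm.toEquiv

/-- commutators in a group with abelian normal pieces -/
theorem comm_mul {b e f : G} (h : e * (b * f * b⁻¹ * f⁻¹) = (b * f * b⁻¹ * f⁻¹) * e) :
    b * (e * f) * b⁻¹ * (e * f)⁻¹ = (b * e * b⁻¹ * e⁻¹) * (b * f * b⁻¹ * f⁻¹) := by
  have h1 : b * (e * f) * b⁻¹ * (e * f)⁻¹ = b * e * b⁻¹ * ((b * f * b⁻¹ * f⁻¹) * e⁻¹) := by group
  have h2 : (b * f * b⁻¹ * f⁻¹) * e⁻¹ = e⁻¹ * (b * f * b⁻¹ * f⁻¹) := by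
    rw [eq_inv_mul_iff_mul_eq, ← mul_assoc, h, mul_assoc, mul_inv_cancel, mul_one]
  rw [h1, h2]
  group

theorem lemX0 [Finite G] {B B₁ E U : Subgroup G} {a x : G} (hEU : E ≤ U) (hEa : ∀ e ∈ E, a * e * a⁻¹ ∈ U)
    (ab : ∀ u ∈ U, ∀ v ∈ U, u * v = v * u) (sq : ∀ u ∈ U, u * u = 1)
    (haB : ∀ b ∈ B, a * b = b * a) (hBE : ∀ b ∈ B, ∀ e ∈ E, b * e * b⁻¹ ∈ E) (h1 : B₁ ≤ B)
    (hc : ∀ b ∈ B, (∀ e ∈ E, b * e = e * b) → b ∈ B₁) (hx : a * x * a⁻¹ ≠ x)
    (hbx : ∀ b ∈ B₁, b * x = x * b)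
    (hp : ∀ b ∈ B₁, ∀ e ∈ E, b * e * b⁻¹ * e⁻¹ = 1 ∨ b * e * b⁻¹ * e⁻¹ = x)
    (ex : Nat.card ↥(E ⊔ cj a E) * Nat.card ↥(B ⊓ centralizer (E ⊔ cj a E : Subgroup G)) ≤
      Nat.card B * Nat.card ↥((E ⊔ cj a E) ⊓ centralizer (B : Set G))) :
    Nat.card E * Nat.card B₁ ≤ Nat.card B * Nat.card ↥(E ⊓ centralizer (B : Set G)) := by
  classical
  have hEaU : cj a E ≤ U := by
    intro y hy
    obtain ⟨e, he, rfl⟩ := mem_cj.1 hy
    exact hEa e he
  -- commutators with `a e a⁻¹`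
  have hca : ∀ b ∈ B, ∀ e : G, b * (a * e * a⁻¹) * b⁻¹ * (a * e * a⁻¹)⁻¹ = a * (b * e * b⁻¹ * e⁻¹) * a⁻¹ := by
    intro b hb e
    have h2 := haB b hb
    have h3 : a⁻¹ * b⁻¹ = b⁻¹ * a⁻¹ := by rw [← mul_inv_rev, ← mul_inv_rev, h2]
    calc b * (a * e * a⁻¹) * b⁻¹ * (a * e * a⁻¹)⁻¹ = (b * a) * e * (a⁻¹ * b⁻¹) * a * e⁻¹ * a⁻¹ := by group
      _ = (a * b) * e * (b⁻¹ * a⁻¹) * a * e⁻¹ * a⁻¹ := by rw [h2, h3]
      _ = _ := by group
  have hx1 : x ≠ 1 := by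
    rintro rfl
    exact hx (by group)
  set E1 : Subgroup G := E ⊓ centralizer (B₁ : Set G) with hE1
  have hcomm : ∀ {b e : G}, b * e * b⁻¹ * e⁻¹ = 1 ↔ b * e = e * b := by
    intro b e
    constructor
    · intro h
      have : b * e = (b * e * b⁻¹ * e⁻¹) * (e * b) := by group
      rw [this, h, one_mul]
    · intro h
      rw [h]
      group
  have memE1 : ∀ e ∈ E, (∀ b ∈ B₁, b * e * b⁻¹ * e⁻¹ = 1) → e ∈ E1 := by
    intro e he h
    exact ⟨he, mem_centralizer_iff.2 fun b hb => hcomm.1 (h b hb)⟩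
  -- two factors
  have key : ∀ e ∈ E, ∀ e' ∈ E, ∀ b ∈ B₁, b * e * b⁻¹ * e⁻¹ = (a * (b * e' * b⁻¹ * e'⁻¹) * a⁻¹)⁻¹ →
      b * e * b⁻¹ * e⁻¹ = 1 ∧ b * e' * b⁻¹ * e'⁻¹ = 1 := by
    intro e he e' he' b hb h
    rcases hp b hb e he with h3 | h3
    · refine ⟨h3, ?_⟩
      rw [h3] at h
      have h4 : a * (b * e' * b⁻¹ * e'⁻¹) * a⁻¹ = 1 := inv_eq_one.1 h.symm
      have : b * e' * b⁻¹ * e'⁻¹ = a⁻¹ * (a * (b * e' * b⁻¹ * e'⁻¹) * a⁻¹) * a := by group
      rw [this, h4]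
      group
    · exfalso
      have hxU : x ∈ U := by
        rw [← h3]
        exact U.mul_mem (hEU (hBE b (h1 hb) e he)) (U.inv_mem (hEU he))
      have hxi : x⁻¹ = x := inv_eq_of_mul_eq_one_left (sq x hxU)
      rw [h3] at h
      rcases hp b hb e' he' with h4 | h4
      · rw [h4] at h
        exact hx1 (by rw [h]; group)
      · rw [h4, eq_inv_iff_mul_eq_one, ← eq_inv_iff_mul_eq_one] at h
        apply hx
        have h5 : (a * x * a⁻¹)⁻¹ = a * x⁻¹ * a⁻¹ := by group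
        rw [h5, hxi] at h
        exact h.symm
  -- (i)
  have hi : (E ⊔ cj a E) ⊓ centralizer (B : Set G) ≤ (E1 ⊔ cj a E1) ⊓ centralizer (B : Set G) := by
    rintro w ⟨hw, hwB⟩
    refine ⟨?_, hwB⟩
    have hn : cj a E ≤ normalizer (E : Set G) := by
      intro y hy
      refine mem_normalizer_iff.2 fun z => ?_
      have h2 : ∀ z ∈ E, y * z * y⁻¹ ∈ E := fun z hz => by
        rw [ab y (hEaU hy) z (hEU hz), mul_inv_cancel_right]; exact hz
      have h3 : ∀ z ∈ E, y⁻¹ * z * y ∈ E := fun z hz => by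
        rw [mul_assoc, ← ab y (hEaU hy) z (hEU hz), inv_mul_cancel_left]; exact hz
      refine ⟨h2 z, fun h4 => ?_⟩
      have := h3 _ h4
      have e : y⁻¹ * (y * z * y⁻¹) * y = z := by group
      rwa [e] at this
    have hw' : w ∈ ((E ⊔ cj a E : Subgroup G) : Set G) := hw
    rw [Subgroup.coe_mul_of_right_le_normalizer_left E (cj a E) hn] at hw'
    obtain ⟨e, he, f, hf, rfl⟩ := hw'
    obtain ⟨e', he', rfl⟩ := mem_cj.1 hf
    have h5 : ∀ b ∈ B₁, b * e * b⁻¹ * e⁻¹ = 1 ∧ b * e' * b⁻¹ * e'⁻¹ = 1 := by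
      intro b hb
      have hbB := h1 hb
      apply key e he e' he' b hb
      have h6 : b * (e * (a * e' * a⁻¹)) * b⁻¹ * (e * (a * e' * a⁻¹))⁻¹ = 1 :=
        hcomm.2 (mem_centralizer_iff.1 hwB b hbB)
      rw [comm_mul, hca b hbB] at h6
      · exact eq_inv_of_mul_eq_one_left h6
      · rw [hca b hbB]
        exact ab _ (hEU he) _ (hEa _ (E.mul_mem (hBE b hbB e' he') (E.inv_mem he')))
    exact mul_mem_sup (memE1 e he fun b hb => (h5 b hb).1) (mem_cj.2 ⟨e', memE1 e' he' fun b hb => (h5 b hb).2, rfl⟩)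
  -- (ii)
  have hii : E ⊓ cj a E ≤ E1 ⊓ cj a E1 := by
    rintro e ⟨he, hea⟩
    obtain ⟨e', he', hee⟩ := mem_cj.1 hea
    have h5 : ∀ b ∈ B₁, b * e * b⁻¹ * e⁻¹ = 1 ∧ b * e' * b⁻¹ * e'⁻¹ = 1 := by
      intro b hb
      have hbB := h1 hb
      apply key e he e' he' b hb
      have h6 := hca b hbB e'
      rw [← hee] at h6
      rw [← h6]
      apply eq_inv_of_mul_eq_one_left
      exact sq _ (U.mul_mem (hEU (hBE b hbB e he)) (U.inv_mem (hEU he)))
    exact ⟨memE1 e he fun b hb => (h5 b hb).1, mem_cj.2 ⟨e', memE1 e' he' fun b hb => (h5 b hb).2, hee⟩⟩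
  have hnn : ∀ P P' : Subgroup G, P ≤ U → P' ≤ U → P ≤ normalizer (P' : Set G) := by
    intro P P' hP hP' y hy
    refine mem_normalizer_iff.2 fun z => ?_
    have h2 : ∀ z ∈ P', y * z * y⁻¹ ∈ P' := fun z hz => by
      rw [ab y (hP hy) z (hP' hz), mul_inv_cancel_right]; exact hz
    have h3 : ∀ z ∈ P', y⁻¹ * z * y ∈ P' := fun z hz => by
      rw [mul_assoc, ← ab y (hP hy) z (hP' hz), inv_mul_cancel_left]; exact hz
    refine ⟨h2 z, fun h4 => ?_⟩
    have := h3 _ h4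
    have e : y⁻¹ * (y * z * y⁻¹) * y = z := by group
    rwa [e] at this
  have hE1U : E1 ≤ U := inf_le_left.trans hEU
  have hE1aU : cj a E1 ≤ U := (map_mono inf_le_left).trans hEaU
  have c1 := card_sup_mul_card_inf (hnn E (cj a E) hEU hEaU)
  have c2 := card_sup_mul_card_inf (hnn E1 (cj a E1) hE1U hE1aU)
  rw [card_cj] at c1 c2
  have c3 : Nat.card ↥(E ⊓ cj a E) ≤ Nat.card ↥(E1 ⊓ cj a E1) := Nat.card_le_card_of_injective _ (inclusion_injective hii)
  -- (iii)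
  have hYU : E1 ⊔ cj a E1 ≤ U := sup_le hE1U hE1aU
  have c4 := card_sup_mul_card_inf (hnn E1 ((E1 ⊔ cj a E1) ⊓ centralizer (B : Set G)) hE1U (inf_le_left.trans hYU))
  have c5 : Nat.card ↥(E1 ⊔ ((E1 ⊔ cj a E1) ⊓ centralizer (B : Set G))) ≤ Nat.card ↥(E1 ⊔ cj a E1) :=
    Nat.card_le_card_of_injective _ (inclusion_injective (sup_le le_sup_left inf_le_left))
  have c6 : E1 ⊓ ((E1 ⊔ cj a E1) ⊓ centralizer (B : Set G)) = E ⊓ centralizer (B : Set G) := by
    apply le_antisymm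
    · exact fun y hy => ⟨hy.1.1, hy.2.2⟩
    · intro y hy
      have h7 : y ∈ E1 := ⟨hy.1, centralizer_le h1 hy.2⟩
      exact ⟨h7, le_sup_left (a := E1) h7, hy.2⟩
  rw [c6] at c4
  have c7 : Nat.card ↥((E ⊔ cj a E) ⊓ centralizer (B : Set G)) ≤
      Nat.card ↥((E1 ⊔ cj a E1) ⊓ centralizer (B : Set G)) := Nat.card_le_card_of_injective _ (inclusion_injective hi)
  -- (v)
  have c8 : B ⊓ centralizer ((E ⊔ cj a E : Subgroup G) : Set G) = B ⊓ centralizer (E : Set G) := by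
    apply le_antisymm
    · exact inf_le_inf_left _ (centralizer_le (show (E : Set G) ⊆ ((E ⊔ cj a E : Subgroup G) : Set G) from
        fun y hy => (le_sup_left : E ≤ E ⊔ cj a E) hy))
    · intro b hbb
      have hb : b ∈ B := hbb.1
      have hbE : b ∈ centralizer (E : Set G) := hbb.2
      refine ⟨hb, ?_⟩
      have h8 : E ⊔ cj a E ≤ centralizer ({b} : Set G) := by
        apply sup_le
        · intro e he
          rw [mem_centralizer_iff]
          rintro _ rfl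
          exact (mem_centralizer_iff.1 hbE e he).symm
        · intro y hy
          obtain ⟨e, he, rfl⟩ := mem_cj.1 hy
          rw [mem_centralizer_iff]
          rintro _ rfl
          apply hcomm.1
          rw [hca _ hb, hcomm.2 (mem_centralizer_iff.1 hbE e he).symm]
          group
      change b ∈ centralizer ((E ⊔ cj a E : Subgroup G) : Set G)
      rw [mem_centralizer_iff]
      intro y hy
      exact (mem_centralizer_iff.1 (h8 hy) b rfl).symm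
  rw [c8] at ex
  -- (iv)
  have c9 : Nat.card B₁ * Nat.card E1 ≤ Nat.card E * Nat.card ↥(B ⊓ centralizer (E : Set G)) := by
    have hex : ∀ b ∈ B₁, ∀ e ∈ E, ∀ f ∈ E, e * (b * f * b⁻¹ * f⁻¹) = (b * f * b⁻¹ * f⁻¹) * e := fun b hb e he f hf =>
      ab _ (hEU he) _ (hEU (E.mul_mem (hBE b (h1 hb) f hf) (E.inv_mem hf)))
    have hval : ∀ u v : G, (u = 1 ∨ u = x) → (v = 1 ∨ v = x) → (x * x = 1) → 
        ((if u * v = 1 then 0 else 1 : ZMod 2) = (if u = 1 then 0 else 1) + (if v = 1 then 0 else 1)) := by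
      rintro u v (rfl | rfl) (rfl | rfl) hxx
      · simp
      · simp [hx1]
      · simp [hx1]
      · simp only [hxx, if_true, hx1, if_false]
        decide
    have hxx : ∀ b ∈ B₁, ∀ e ∈ E, b * e * b⁻¹ * e⁻¹ = x → x * x = 1 := fun b hb e he h3 => by
      apply sq
      rw [← h3]
      exact U.mul_mem (hEU (hBE b (h1 hb) e he)) (U.inv_mem (hEU he))
    have hval' : ∀ b ∈ B₁, ∀ e ∈ E, ∀ b' ∈ B₁, ∀ e' ∈ E,
        ((if (b * e * b⁻¹ * e⁻¹) * (b' * e' * b'⁻¹ * e'⁻¹) = 1 then 0 else 1 : ZMod 2) =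
          (if b * e * b⁻¹ * e⁻¹ = 1 then 0 else 1) + (if b' * e' * b'⁻¹ * e'⁻¹ = 1 then 0 else 1)) := by
      intro b hb e he b' hb' e' he'
      rcases hp b hb e he with h3 | h3
      · rw [h3, one_mul]
        simp
      · exact hval _ _ (Or.inr h3) (hp b' hb' e' he') (hxx b hb e he h3)
    refine Cfsg.Agent.Omega.Lin.card_pair' (F := ZMod 2) E B₁ E1 (B ⊓ centralizer (E : Set G)) inf_le_left
      (fun b hb => hc b hb.1 fun e he => (mem_centralizer_iff.1 hb.2 e he).symm)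
      (fun e b => if b * e * b⁻¹ * e⁻¹ = 1 then 0 else 1) ?_ ?_ ?_ ?_ ?_
    · intro e he f hf b hb
      rw [comm_mul (hex b hb e he f hf)]
      exact hval' b hb e he b hb f hf
    · intro e he b hb b' hb'
      have h9 : b * b' * e * (b * b')⁻¹ * e⁻¹ = (b * e * b⁻¹ * e⁻¹) * (b' * e * b'⁻¹ * e⁻¹) := by
        have h10 : b * (b' * e * b'⁻¹ * e⁻¹) * b⁻¹ = b' * e * b'⁻¹ * e⁻¹ := by
          rcases hp b' hb' e he with h3 | h3
          · rw [h3]; group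
          · rw [h3, hbx b hb, mul_inv_cancel_right]
        calc b * b' * e * (b * b')⁻¹ * e⁻¹ = (b * (b' * e * b'⁻¹ * e⁻¹) * b⁻¹) * (b * e * b⁻¹ * e⁻¹) := by group
          _ = (b' * e * b'⁻¹ * e⁻¹) * (b * e * b⁻¹ * e⁻¹) := by rw [h10]
          _ = _ := ab _ (hEU (E.mul_mem (hBE b' (h1 hb') e he) (E.inv_mem he))) _
              (hEU (E.mul_mem (hBE b (h1 hb) e he) (E.inv_mem he)))
      rw [h9]
      exact hval' b hb e he b' hb' e he
    · intro c e he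
      fin_cases c
      · refine ⟨1, E.one_mem, fun b _ => ?_⟩
        rw [if_pos (by group)]
        exact (zero_mul _).symm
      · exact ⟨e, he, fun b _ => (one_mul _).symm⟩
    · intro e he b hb
      rw [if_pos (hcomm.2 (mem_centralizer_iff.1 he.2 b hb))]
    · intro b hb h3
      refine ⟨h1 hb, mem_centralizer_iff.2 fun e he => ?_⟩
      have h4 := h3 e he
      by_contra h5
      rw [if_neg (fun h6 => h5 (hcomm.1 h6).symm)] at h4
      exact one_ne_zero h4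
  -- (vi)
  have p1 : 0 < Nat.card E1 := Nat.card_pos
  have p2 : 0 < Nat.card E := Nat.card_pos
  set n := Nat.card E
  set n1 := Nat.card E1
  set c := Nat.card ↥(E ⊓ centralizer (B : Set G))
  set b := Nat.card B
  set b1 := Nat.card B₁
  set k := Nat.card ↥(B ⊓ centralizer (E : Set G))
  set X := Nat.card ↥(E ⊔ cj a E)
  set y := Nat.card ↥(E1 ⊔ cj a E1)
  set i := Nat.card ↥(E ⊓ cj a E)
  set j := Nat.card ↥(E1 ⊓ cj a E1)
  set w := Nat.card ↥((E ⊔ cj a E) ⊓ centralizer (B : Set G))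
  set w' := Nat.card ↥((E1 ⊔ cj a E1) ⊓ centralizer (B : Set G))
  -- X i = n n, y j = n1 n1, i ≤ j, n1 w' ≤ y c, w ≤ w', X k ≤ b w, b1 n1 ≤ n k
  have d1 : n1 * w' ≤ y * c := by
    rw [← c4]
    exact Nat.mul_le_mul_right _ c5
  have d2 : n1 * (X * k) ≤ b * (y * c) := by
    calc n1 * (X * k) ≤ n1 * (b * w) := Nat.mul_le_mul_left _ ex
      _ ≤ n1 * (b * w') := Nat.mul_le_mul_left _ (Nat.mul_le_mul_left _ c7)
      _ = b * (n1 * w') := by ring
      _ ≤ b * (y * c) := Nat.mul_le_mul_left _ d1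
  have d3 : n1 * (X * k * j) ≤ n1 * (b * c * n1) := by
    calc n1 * (X * k * j) = n1 * (X * k) * j := by ring
      _ ≤ b * (y * c) * j := Nat.mul_le_mul_right _ d2
      _ = b * c * (y * j) := by ring
      _ = b * c * (n1 * n1) := by rw [c2]
      _ = n1 * (b * c * n1) := by ring
  have d4 : X * k * j ≤ b * c * n1 := Nat.le_of_mul_le_mul_left d3 p1
  have d5 : n * n * k ≤ b * c * n1 := by
    calc n * n * k = X * i * k := by rw [c1]
      _ ≤ X * j * k := Nat.mul_le_mul_right _ (Nat.mul_le_mul_left _ c3)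
      _ = X * k * j := by ring
      _ ≤ _ := d4
  have d6 : n * b1 * n1 ≤ b * c * n1 := by
    calc n * b1 * n1 = n * (b1 * n1) := by ring
      _ ≤ n * (n * k) := Nat.mul_le_mul_left _ c9
      _ = n * n * k := by ring
      _ ≤ _ := d5
  exact Nat.le_of_mul_le_mul_right d6 p1

end Cfsg.Agent.Omega.NO3S.SN2
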