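import Cfsg.Agent.Omega.NO3S.SN2.Exact
import Cfsg.Agent.Omega.NO3S.SN.J.N1

/-!
# SN.Two (bb #21330), LEMMA Y and LEMMA F

`V = V_P` the even-subset module (`CaseJ.Base.Hyp S P ε`), `A₀ = A ⊓ C(V)` for an exact offender `A`.

* `Sg P ε` : the group generated by all exact offenders; normal in `P`, induces the full symmetric group;
* `YY S P ε` : the intersection of all `A₀ V`; `mem_YY`: the involutions of `O₂(P)` which centralise all `A₀`;
* `act_YY`, `Sg_act` : `Sg` acts trivially on `YY / V`;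
* **`lemY`** (LEMMA Y) : `u ∈ YY` is in `V`, or `{[q, u] : q ∈ O₂(P) ∩ Sg} = V`;
* `mem_YY_of` : it is enough to look at the exact offenders for a set of transpositions which generates the symmetric
  group; `gen_moved` : the transpositions which move a given `v ∈ V`, `v ≠ 1`, generate it;
* `P_eq` : `P = Sg O₂(P)`;
* **`lemF`** (LEMMA F) : `V ≤ N ≤ YY`, `N` normalised by `O₂(P)` : `N_G(N) ≤ N_G(V)`.
-/

set_option autoImplicit false
set_option linter.unusedSectionVars false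

namespace Cfsg.Agent.Omega.NO3S.SN2.LemY

open Subgroup Cfsg Cfsg.Agent.PLocal.ThompsonJ Cfsg.Agent.ZN Cfsg.Agent.ZN.ChoiceBase
open Cfsg.Agent.ZN.ChoiceSit Cfsg.Agent.PLocal.ElemAbSup
open Cfsg.Agent.Omega.MinPar
open Cfsg.Agent.Omega.S5.Def Cfsg.Agent.Omega.S5.Syl Cfsg.Agent.Omega.S5.Pair
open Cfsg.Agent.Omega.NSix.Base Cfsg.Agent.Omega.NSix.Basic
open Cfsg.Agent.Omega.SQ1.Bau (mem_AA_of_comm elem_comm elem_sq mem_sup_comm card_sup_comm)
open Cfsg.Agent.Omega.NSix.CaseJ.Base Cfsg.Agent.Omega.NSix.CaseJ.Exact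
open Cfsg.Agent.Omega.NSix.CaseJ.LemQ (comm_of_conj V_elem ext_perm V_le_of_rr exists_ne Vn')

universe u

variable {G : Type u} [Group G] [Finite G] {S : Sylow 2 G} {P : Subgroup G} {m : ℕ}
  {ε : (Fin (2 ^ m + 1) → ZMod 2) → G}

/-- The group generated by the exact offenders. -/
def Sg (P : Subgroup G) {m : ℕ} (ε : (Fin (2 ^ m + 1) → ZMod 2) → G) : Subgroup G :=
  closure {g | ∃ i j A, i ≠ j ∧ Ex P ε i j A ∧ g ∈ A}

/-- The intersection of the groups `A₀ V`. -/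
def YY (S : Sylow 2 G) (P : Subgroup G) {m : ℕ} (ε : (Fin (2 ^ m + 1) → ZMod 2) → G) : Subgroup G :=
  sInf {K | ∃ i j A, i ≠ j ∧ Ex P ε i j A ∧
    K = (A ⊓ centralizer (zl (S : Subgroup G) P : Set G)) ⊔ zl (S : Subgroup G) P}

theorem mem_Sg {i j : Fin (2 ^ m + 1)} {A : Subgroup G} (hij : i ≠ j) (hA : Ex P ε i j A) {g : G} (hg : g ∈ A) :
    g ∈ Sg P ε := subset_closure ⟨i, j, A, hij, hA, hg⟩

theorem Sg_le : Sg P ε ≤ P := by
  unfold Sg
  rw [closure_le]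
  rintro g ⟨i, j, A, -, hA, hg⟩
  exact hA.AP hg

theorem V_le : zl (S : Subgroup G) P ≤ YY S P ε := by
  refine le_sInf ?_
  rintro K ⟨i, j, A, -, -, rfl⟩
  exact le_sup_right

section

variable (h : Hyp S P ε)
include h

theorem zero_ne_last : (0 : Fin (2 ^ m + 1)) ≠ Fin.last (2 ^ m) := by
  intro h0
  have h1 : (0 : ℕ) = 2 ^ m := congrArg Fin.val h0
  have h2 : 0 < 2 ^ m := by positivity
  omega

theorem mem_YY {u : G} : u ∈ YY S P ε ↔ u ∈ o2 P ∧ u * u = 1 ∧ ∀ i j, i ≠ j → ∀ A, Ex P ε i j A →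
    ∀ b ∈ A ⊓ centralizer (zl (S : Subgroup G) P : Set G), b * u = u * b := by
  unfold YY
  rw [mem_sInf]
  constructor
  · intro hu
    obtain ⟨A, hA⟩ := exists_ex h (zero_ne_last h)
    have h1 := hu _ ⟨_, _, A, zero_ne_last h, hA, rfl⟩
    have h2 := (Exact.sup_mem_AA h hA (zero_ne_last h)).2.1 h1
    have h3 := elem_sq (Exact.sup_el h hA) u h1
    refine ⟨h2, by rwa [pow_two] at h3, fun i j hij B hB b hb => ?_⟩
    exact elem_comm (Exact.sup_el h hB) b (mem_sup_left hb) u (hu _ ⟨i, j, B, hij, hB, rfl⟩)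
  · rintro ⟨hu, hu2, hc⟩ _ ⟨i, j, A, hij, hA, rfl⟩
    set K := (A ⊓ centralizer (zl (S : Subgroup G) P : Set G)) ⊔ zl (S : Subgroup G) P with hK
    have hcm : ∀ x ∈ K, ∀ y ∈ zpowers u, x * y = y * x := by
      intro x hx y hy
      obtain ⟨b, hb, v, hv, rfl⟩ := mem_sup_comm (Exact.A0_comm h hA) hx
      rcases mem_zp hu2 hy with rfl | rfl
      · rw [mul_one, one_mul]
      · have c1 : Commute b y := hc i j hij A hA b hb
        have c2 : Commute v y := (h.VcQ hu hv).symm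
        exact (c1.mul_left c2).eq
    have h1 := sup_elem (Exact.sup_el h hA) (zp_elem hu2) hcm
    have h2 := Exact.sup_max h hA hij _ h1
    have h3 : K = K ⊔ zpowers u := Subgroup.eq_of_le_of_card_ge le_sup_left h2
    rw [h3]
    exact mem_sup_right (mem_zpowers u)

theorem YY_le_Q : YY S P ε ≤ o2 P := fun _ hu => ((mem_YY h).1 hu).1

theorem YY_elem : IsElementaryAbelian 2 (YY S P ε) := by
  obtain ⟨A, hA⟩ := exists_ex h (zero_ne_last h)
  refine isElementaryAbelian_mono (Exact.sup_el h hA) ?_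
  exact sInf_le ⟨_, _, A, zero_ne_last h, hA, rfl⟩

theorem YY_comm {u v : G} (hu : u ∈ YY S P ε) (hv : v ∈ YY S P ε) : u * v = v * u :=
  elem_comm (YY_elem h) u hu v hv

theorem YY_sq {u : G} (hu : u ∈ YY S P ε) : u * u = 1 := ((mem_YY h).1 hu).2.1

/-- `P` normalises `YY`. -/
theorem YY_conj {g u : G} (hg : g ∈ P) (hu : u ∈ YY S P ε) : g * u * g⁻¹ ∈ YY S P ε := by
  obtain ⟨h1, h2, h3⟩ := (mem_YY h).1 hu
  refine (mem_YY h).2 ⟨h.Qn hg h1, ?_, fun i j hij A hA b hb => ?_⟩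
  · calc g * u * g⁻¹ * (g * u * g⁻¹) = g * (u * u) * g⁻¹ := by group
      _ = 1 := by rw [h2]; group
  · obtain ⟨σ, hσ⟩ := h.ev.perm g⁻¹ (inv_mem hg)
    have hA' := hA.conj (inv_mem hg) hσ
    have h4 : g⁻¹ * b * g ∈ cj g⁻¹ A ⊓ centralizer (zl (S : Subgroup G) P : Set G) := by
      refine ⟨⟨b, hb.1, ?_⟩, mem_centralizer_iff.2 fun v hv => ?_⟩
      · change g⁻¹ * b * g⁻¹⁻¹ = _
        rw [inv_inv]
      · have h5 := mem_centralizer_iff.1 hb.2 _ (h.Vn hg hv)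
        calc v * (g⁻¹ * b * g) = g⁻¹ * (g * v * g⁻¹ * b) * g := by group
          _ = g⁻¹ * (b * (g * v * g⁻¹)) * g := by rw [h5]
          _ = g⁻¹ * b * g * v := by group
    have h5 := h3 _ _ (fun e => hij (σ.injective e)) _ hA' _ h4
    calc b * (g * u * g⁻¹) = g * ((g⁻¹ * b * g) * u) * g⁻¹ := by group
      _ = g * (u * (g⁻¹ * b * g)) * g⁻¹ := by rw [h5]
      _ = g * u * g⁻¹ * b := by group

/-- `P` normalises `Sg`. -/
theorem Sg_conj {g x : G} (hg : g ∈ P) (hx : x ∈ Sg P ε) : g * x * g⁻¹ ∈ Sg P ε := by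
  obtain ⟨σ, hσ⟩ := h.ev.perm g hg
  unfold Sg at hx
  induction hx using closure_induction with
  | mem x hx =>
    obtain ⟨i, j, A, hij, hA, hxA⟩ := hx
    exact mem_Sg (fun e => hij (σ.injective e)) (hA.conj hg hσ) ⟨x, hxA, rfl⟩
  | one => rw [mul_one, mul_inv_cancel]; exact one_mem _
  | mul x y _ _ hx hy =>
    have e : g * (x * y) * g⁻¹ = (g * x * g⁻¹) * (g * y * g⁻¹) := by group
    rw [e]; exact mul_mem hx hy
  | inv x _ hx =>
    have e : g * x⁻¹ * g⁻¹ = (g * x * g⁻¹)⁻¹ := by group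
    rw [e]; exact inv_mem hx

theorem act_YY {i j : Fin (2 ^ m + 1)} (hij : i ≠ j) {A : Subgroup G} (hA : Ex P ε i j A) {a u : G} (ha : a ∈ A)
    (hu : u ∈ YY S P ε) : a * u * a⁻¹ = u ∨ a * u * a⁻¹ = u * rr ε i j :=
  hA.transv h hij (YY_elem h) V_le (fun b hb _ hx => ((mem_YY h).1 hx).2.2 i j hij A hA b hb) ha hu

/-- `Sg` acts trivially on `YY / V`. -/
theorem Sg_act {g u : G} (hg : g ∈ Sg P ε) (hu : u ∈ YY S P ε) :
    g * u * g⁻¹ * u⁻¹ ∈ zl (S : Subgroup G) P := by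
  revert u
  unfold Sg at hg
  induction hg using closure_induction with
  | mem x hx =>
    intro u hu
    obtain ⟨i, j, A, hij, hA, hxA⟩ := hx
    rcases act_YY h hij hA hxA hu with h1 | h1
    · rw [h1, mul_inv_cancel]; exact one_mem _
    · rw [h1, YY_comm h hu (V_le (rr_mem h.ev i j)), mul_inv_cancel_right]
      exact rr_mem h.ev i j
  | one => intro u hu; rw [one_mul, inv_one, mul_one, mul_inv_cancel]; exact one_mem _
  | mul x y hx hy ihx ihy =>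
    intro u hu
    have hyP : y ∈ P := Sg_le hy
    have e : x * y * u * (x * y)⁻¹ * u⁻¹ =
        (x * (y * u * y⁻¹) * x⁻¹ * (y * u * y⁻¹)⁻¹) * (y * u * y⁻¹ * u⁻¹) := by group
    rw [e]
    exact mul_mem (ihx (YY_conj h hyP hu)) (ihy hu)
  | inv x hx ihx =>
    intro u hu
    have hxP : x ∈ P := Sg_le hx
    have h1 := ihx (YY_conj h (inv_mem hxP) hu)
    have e : x⁻¹ * u * x⁻¹⁻¹ * u⁻¹ = (x * (x⁻¹ * u * x⁻¹⁻¹) * x⁻¹ * (x⁻¹ * u * x⁻¹⁻¹)⁻¹)⁻¹ := by group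
    rw [e]
    exact inv_mem h1

/-- `Sg` induces the full symmetric group. -/
theorem Sg_full (σ : Equiv.Perm (Fin (2 ^ m + 1))) : ∃ g ∈ Sg P ε, Acts ε g σ := by
  let Pm : Subgroup (Equiv.Perm (Fin (2 ^ m + 1))) :=
    { carrier := {σ | ∃ c ∈ Sg P ε, Acts ε c σ}
      mul_mem' := by
        rintro σ τ ⟨b, hb, hb'⟩ ⟨c, hc, hc'⟩
        exact ⟨b * c, mul_mem hb hc, hb'.mul hc'⟩
      one_mem' := ⟨1, one_mem _, Acts.one⟩
      inv_mem' := by
        rintro σ ⟨b, hb, hb'⟩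
        exact ⟨b⁻¹, inv_mem hb, hb'.inv⟩ }
  refine ext_perm Pm (fun z hz => ?_) σ
  obtain ⟨A, hA⟩ := exists_ex h (Ne.symm hz)
  obtain ⟨a, ha, ha'⟩ := hA.ex
  exact ⟨a, mem_Sg (Ne.symm hz) hA ha, ha'⟩

/-- `C_YY(Sg) = 1`. -/
theorem fixY {y : G} (hy : y ∈ YY S P ε) (hc : ∀ g ∈ Sg P ε, g * y = y * g) : y = 1 := by
  by_contra hne
  set Y₀ := YY S P ε ⊓ centralizer (Sg P ε : Set G) with hY₀d
  have hY₀ : IsPGroup 2 Y₀ := by
    rintro ⟨z, hz⟩
    refine ⟨1, Subtype.ext ?_⟩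
    change z ^ 2 ^ 1 = 1
    rw [pow_one, pow_two]
    exact YY_sq h hz.1
  have hne' : Y₀ ≠ ⊥ := fun e => hne (mem_bot.1 (e ▸ (show y ∈ Y₀ from
    ⟨hy, mem_centralizer_iff.2 fun g hg => hc g hg⟩)))
  have hSn : (S : Subgroup G) ≤ normalizer (Y₀ : Set G) := by
    have key : ∀ s ∈ (S : Subgroup G), ∀ z ∈ Y₀, s * z * s⁻¹ ∈ Y₀ := by
      rintro s hs z ⟨hz, hz'⟩
      refine ⟨YY_conj h (h.SP hs) hz, mem_centralizer_iff.2 fun g hg => ?_⟩
      have h1 := mem_centralizer_iff.1 hz' _ (Sg_conj h (inv_mem (h.SP hs)) hg)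
      calc g * (s * z * s⁻¹) = s * ((s⁻¹ * g * s⁻¹⁻¹) * z) * s⁻¹ := by group
        _ = s * (z * (s⁻¹ * g * s⁻¹⁻¹)) * s⁻¹ := by rw [h1]
        _ = s * z * s⁻¹ * g := by group
    intro s hs
    rw [mem_normalizer_iff]
    refine fun z => ⟨key s hs z, fun hz => ?_⟩
    have h1 := key s⁻¹ (inv_mem hs) _ hz
    have e : s⁻¹ * (s * z * s⁻¹) * s⁻¹⁻¹ = z := by group
    rwa [e] at h1
  obtain ⟨v, ⟨hv, hv'⟩, hv1, hvS⟩ := Cfsg.Agent.Omega.Half.exists_fixed hY₀ hne' S.isPGroup' hSn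
  have hvQ : v ∈ o2 P := YY_le_Q h hv
  have hvV : v ∈ zl (S : Subgroup G) P := by
    refine zc_le_zl _ _ (MinSimple.VModule.mem_zc.2 ⟨h.QS hvQ, fun s hs => ?_, by rw [pow_two]; exact YY_sq h hv⟩)
    calc s * v = (s * v * s⁻¹) * s := by group
      _ = v * s := by rw [hvS s hs]
  obtain ⟨x, rfl⟩ := h.ev.surj v hvV
  obtain ⟨i, hi⟩ := exists_ne h.ev hv1
  have h0i : (0 : Fin (2 ^ m + 1)) ≠ i := fun e => hi (by rw [← e])
  obtain ⟨A, hA⟩ := exists_ex h h0i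
  obtain ⟨a, ha, ha'⟩ := hA.ex
  exact hi ((swap_comm_iff h.ev h.three h0i ha' x).1
    (mem_centralizer_iff.1 hv' a (mem_Sg h0i hA ha)))

/-- Dichotomy for `C_Sg(V)`. -/
theorem dichY {u : G} (hu : u ∈ YY S P ε) :
    (∀ g ∈ Sg P ε, (∀ v ∈ zl (S : Subgroup G) P, g * v = v * g) → g * u = u * g) ∨
      ∀ v ∈ zl (S : Subgroup G) P, ∃ q ∈ o2 P, q ∈ Sg P ε ∧ q * u * q⁻¹ = v * u := by
  set V := zl (S : Subgroup G) P with hV
  by_cases hcase : ∀ g ∈ Sg P ε, (∀ v ∈ V, g * v = v * g) → g * u = u * g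
  · exact Or.inl hcase
  right
  push Not at hcase
  obtain ⟨g, hg, hgV, hne⟩ := hcase
  have hgu := Sg_act h hg hu
  rw [← hV] at hgu
  set v₀ := g * u * g⁻¹ * u⁻¹ with hv₀
  have hv₀1 : v₀ ≠ 1 := by
    intro e
    apply hne
    calc g * u = v₀ * (u * g) := by rw [hv₀]; group
      _ = u * g := by rw [e, one_mul]
  have hv₀2 : v₀ * v₀ = 1 := h.ev.sq_mem hgu
  obtain ⟨c, hc, Nn, hN⟩ := SQ1.SymCyc.exists_pow g 1
  have hpow : ∀ k : ℕ, g ^ k * u * (g ^ k)⁻¹ = v₀ ^ k * u := by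
    intro k
    induction k with
    | zero => group
    | succ k ih =>
      have hgk : g * v₀ ^ k = v₀ ^ k * g := (Commute.pow_right (hgV v₀ hgu) k).eq
      calc g ^ (k + 1) * u * (g ^ (k + 1))⁻¹ = g * (g ^ k * u * (g ^ k)⁻¹) * g⁻¹ := by
            rw [pow_succ']; group
        _ = (g * v₀ ^ k) * u * g⁻¹ := by rw [ih]; group
        _ = v₀ ^ k * (g * u * g⁻¹) := by rw [hgk]; group
        _ = v₀ ^ k * (v₀ * u) := by rw [hv₀]; group
        _ = v₀ ^ (k + 1) * u := by rw [pow_succ]; group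
  have hvc : v₀ ^ c = v₀ := by
    have hc' : c = 2 * (c / 2) + 1 := by
      have : c % 2 = 1 := by simpa using hc
      omega
    rw [hc', pow_succ, pow_mul, pow_two, hv₀2, one_pow, one_mul]
  have hgP : g ∈ P := Sg_le hg
  have hq : g ^ c ∈ o2 P := h.two (pow_mem hgP c)
    (fun v hv => (Commute.pow_left (hgV v hv) c).eq) ⟨Nn, hN⟩
  -- the subgroup `W`
  let W : Subgroup G :=
    { carrier := {v | v ∈ V ∧ ∃ q ∈ o2 P, q ∈ Sg P ε ∧ q * u * q⁻¹ = v * u}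
      mul_mem' := by
        rintro a b ⟨ha, q, hq, hqs, hqa⟩ ⟨hb, q', hq', hqs', hqb⟩
        refine ⟨mul_mem ha hb, q * q', mul_mem hq hq', mul_mem hqs hqs', ?_⟩
        calc q * q' * u * (q * q')⁻¹ = q * (q' * u * q'⁻¹) * q⁻¹ := by group
          _ = (q * b) * u * q⁻¹ := by rw [hqb]; group
          _ = b * (q * u * q⁻¹) := by rw [h.VcQ hq hb]; group
          _ = b * a * u := by rw [hqa]; group
          _ = a * b * u := by rw [h.ev.comm_mem hb ha]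
      one_mem' := ⟨one_mem _, 1, one_mem _, one_mem _, by group⟩
      inv_mem' := by
        rintro a ⟨ha, q, hq, hqs, hqa⟩
        refine ⟨inv_mem ha, q⁻¹, inv_mem hq, inv_mem hqs, ?_⟩
        have e3 : q⁻¹ * a = a * q⁻¹ := h.VcQ (inv_mem hq) ha
        calc q⁻¹ * u * q⁻¹⁻¹ = a⁻¹ * ((a * q⁻¹) * u * q) := by group
          _ = a⁻¹ * ((q⁻¹ * a) * u * q) := by rw [← e3]
          _ = a⁻¹ * (q⁻¹ * (a * u) * q) := by group
          _ = a⁻¹ * u := by rw [← hqa]; group }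
  have hv₀W : v₀ ∈ W := ⟨hgu, g ^ c, hq, pow_mem hg c, by rw [hpow, hvc]⟩
  have hWn : ∀ s ∈ Sg P ε, ∀ v ∈ W, s * v * s⁻¹ ∈ W := by
    rintro s hs v ⟨hv, q, hq, hqs, hqv⟩
    have hsP : s ∈ P := Sg_le hs
    have hw := Sg_act h hs hu
    rw [← hV] at hw
    set w := s * u * s⁻¹ * u⁻¹ with hwd
    have hw' : s⁻¹ * w⁻¹ * s ∈ V := Vn' h hsP (inv_mem hw)
    have hsvV : s * v * s⁻¹ ∈ V := h.Vn hsP hv
    refine ⟨hsvV, s * q * s⁻¹, h.Qn hsP hq, mul_mem (mul_mem hs hqs) (inv_mem hs), ?_⟩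
    have e1 : s⁻¹ * u * s = s⁻¹ * w⁻¹ * s * u := by
      rw [hwd]; group
    have e2 : q * (s⁻¹ * w⁻¹ * s) = (s⁻¹ * w⁻¹ * s) * q := h.VcQ hq hw'
    have e3 : w⁻¹ * (s * v * s⁻¹) = (s * v * s⁻¹) * w⁻¹ := h.ev.comm_mem (inv_mem hw) hsvV
    calc s * q * s⁻¹ * u * (s * q * s⁻¹)⁻¹ = s * (q * (s⁻¹ * u * s) * q⁻¹) * s⁻¹ := by group
      _ = s * ((q * (s⁻¹ * w⁻¹ * s)) * u * q⁻¹) * s⁻¹ := by rw [e1]; group
      _ = s * ((s⁻¹ * w⁻¹ * s) * (q * u * q⁻¹)) * s⁻¹ := by rw [e2]; group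
      _ = w⁻¹ * (s * v * s⁻¹) * (s * u * s⁻¹) := by rw [hqv]; group
      _ = (s * v * s⁻¹) * (w⁻¹ * (s * u * s⁻¹)) := by rw [e3]; group
      _ = (s * v * s⁻¹) * u := by rw [hwd]; group
  have hWV : V ≤ W := by
    obtain ⟨x, hx⟩ := h.ev.surj v₀ hgu
    rw [← hx] at hv₀1 hv₀W
    obtain ⟨i, hi⟩ := exists_ne h.ev hv₀1
    have h0i : (0 : Fin (2 ^ m + 1)) ≠ i := fun e => hi (by rw [← e])
    obtain ⟨k, hk, hkb⟩ := Sg_full h (Equiv.swap 0 i)
    have h1 := mul_mem (inv_mem hv₀W) (hWn k hk _ hv₀W)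
    have h2 : rr ε 0 i ∈ W := by
      have e := (acts_swap h.ev hkb x).2 hi
      rw [e, ← rr_eq h.ev, inv_mul_cancel_left] at h1
      exact h1
    refine V_le_of_rr h.ev (by have := h.hm; omega) fun j => ?_
    by_cases hj0 : j = 0
    · subst hj0
      rw [rr_eq h.ev, add_self, h.ev.zero]
      exact one_mem W
    by_cases hji : j = i
    · subst hji
      rw [rr_symm h.ev]
      exact h2
    obtain ⟨l, hl, hlb⟩ := Sg_full h (Equiv.swap i j)
    have h3 := hWn l hl _ h2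
    rw [rr_conj hlb, Equiv.swap_apply_left, Equiv.swap_apply_of_ne_of_ne h0i (Ne.symm hj0)] at h3
    rw [rr_symm h.ev]
    exact h3
  exact fun v hv => (hWV hv).2

/-- **LEMMA Y.** -/
theorem lemY {u : G} (hu : u ∈ YY S P ε) : u ∈ zl (S : Subgroup G) P ∨
    ∀ v ∈ zl (S : Subgroup G) P, ∃ q ∈ o2 P, q ∈ Sg P ε ∧ q * u * q⁻¹ = v * u := by
  classical
  set V := zl (S : Subgroup G) P with hV
  rcases dichY h hu with hK | hK
  swap
  · exact Or.inr hK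
  left
  have hex : ∀ i : Fin (2 ^ m + 1), ∃ a : G, i ≠ 0 → a ∈ Sg P ε ∧ Acts ε a (Equiv.swap 0 i) ∧
      (a * u * a⁻¹ = u ∨ a * u * a⁻¹ = u * rr ε 0 i) := by
    intro i
    by_cases hi : i = 0
    · exact ⟨1, fun h => absurd hi h⟩
    obtain ⟨A, hA⟩ := exists_ex h (Ne.symm hi)
    obtain ⟨a, ha, ha'⟩ := hA.ex
    exact ⟨a, fun _ => ⟨mem_Sg (Ne.symm hi) hA ha, ha', act_YY h (Ne.symm hi) hA ha hu⟩⟩
  choose a ha using hex
  let x : Fin (2 ^ m + 1) → ZMod 2 := fun i => if i = 0 then 0 else if a i * u * (a i)⁻¹ = u then 0 else 1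
  have hx0 : x 0 = 0 := if_pos rfl
  set w := u * ε x with hw
  have hεV : ε x ∈ V := h.ev.mem x
  have hwY : w ∈ YY S P ε := mul_mem hu (V_le hεV)
  have haw : ∀ i, i ≠ 0 → a i * w = w * a i := by
    intro i hi
    obtain ⟨haP, hact, hau⟩ := ha i hi
    have e0 : a i * w = (a i * u * (a i)⁻¹) * (a i * ε x * (a i)⁻¹) * a i := by rw [hw]; group
    by_cases hc : a i * u * (a i)⁻¹ = u
    · have hxi : x i = 0 := by
        simp only [x]
        rw [if_neg hi, if_pos hc]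
      have h1 := (acts_swap h.ev hact x).1 (hx0.trans hxi.symm)
      rw [e0, hc, h1, hw]
      group
    · have hxi : x i = 1 := by
        simp only [x]
        rw [if_neg hi, if_neg hc]
      have h1 := (acts_swap h.ev hact x).2 (by rw [hx0, hxi]; exact zero_ne_one)
      have h2 := hau.resolve_left hc
      rw [← rr_eq h.ev] at h1
      rw [e0, h1, h2, hw]
      have e1 : rr ε 0 i * ε x = ε x * rr ε 0 i := h.ev.comm_mem (rr_mem h.ev 0 i) hεV
      calc u * rr ε 0 i * (ε x * rr ε 0 i) * a i = u * (rr ε 0 i * ε x) * rr ε 0 i * a i := by group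
        _ = u * ε x * (rr ε 0 i * rr ε 0 i) * a i := by rw [e1]; group
        _ = u * ε x * a i := by rw [rr_sq h.ev, mul_one]
  let Pm : Subgroup (Equiv.Perm (Fin (2 ^ m + 1))) :=
    { carrier := {σ | ∃ c ∈ Sg P ε, c * w = w * c ∧ Acts ε c σ}
      mul_mem' := by
        rintro σ τ ⟨b, hb, hbw, hb'⟩ ⟨c, hc, hcw, hc'⟩
        refine ⟨b * c, mul_mem hb hc, ?_, hb'.mul hc'⟩
        rw [mul_assoc, hcw, ← mul_assoc, hbw, mul_assoc]
      one_mem' := ⟨1, one_mem _, by rw [one_mul, mul_one], Acts.one⟩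
      inv_mem' := by
        rintro σ ⟨b, hb, hbw, hb'⟩
        refine ⟨b⁻¹, inv_mem hb, ?_, hb'.inv⟩
        calc b⁻¹ * w = b⁻¹ * (w * b) * b⁻¹ := by group
          _ = b⁻¹ * (b * w) * b⁻¹ := by rw [hbw]
          _ = w * b⁻¹ := by group }
  have hPm : ∀ σ, σ ∈ Pm := ext_perm Pm fun z hz =>
    ⟨a z, (ha z hz).1, haw z hz, (ha z hz).2.1⟩
  have hw1 : w = 1 := by
    refine fixY h hwY fun k hk => ?_
    have hkP : k ∈ P := Sg_le hk
    obtain ⟨σ, hσ⟩ := h.ev.perm k hkP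
    obtain ⟨c, hc, hcw, hcσ⟩ := hPm σ
    have hck := h.ev.mem_centralizer_of_acts hσ hcσ
    have h2 := hK _ (mul_mem (inv_mem hc) hk) (fun v hv => (mem_centralizer_iff.1 hck v hv).symm)
    have h3 : c⁻¹ * k * w = w * (c⁻¹ * k) := by
      rw [hw, ← mul_assoc, h2, mul_assoc, ← mem_centralizer_iff.1 hck _ hεV, mul_assoc]
    calc k * w = c * (c⁻¹ * k * w) := by group
      _ = (c * w) * (c⁻¹ * k) := by rw [h3]; group
      _ = w * k := by rw [hcw]; group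
  have h5 : u = (ε x)⁻¹ := by
    rw [hw] at hw1
    exact eq_inv_of_mul_eq_one_left hw1
  rw [h5]
  exact inv_mem hεV

end

/-- The transpositions `(i j)`, `TT i j`, generate the symmetric group. -/
def Gen {n : ℕ} (TT : Fin n → Fin n → Prop) : Prop :=
  ∀ Pm : Subgroup (Equiv.Perm (Fin n)), (∀ i j, i ≠ j → TT i j → Equiv.swap i j ∈ Pm) → ∀ σ, σ ∈ Pm

theorem gen_all (m : ℕ) {TT : Fin (2 ^ m + 1) → Fin (2 ^ m + 1) → Prop} (hT : ∀ i j, i ≠ j → TT i j) : Gen TT :=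
  fun Pm hP σ => ext_perm Pm (fun z hz => hP 0 z (Ne.symm hz) (hT 0 z (Ne.symm hz))) σ

/-- The transpositions which separate two classes. -/
theorem gen_ne (m : ℕ) {x : Fin (2 ^ m + 1) → ZMod 2} (hx : ∃ i, x 0 ≠ x i) : Gen fun i j => x i ≠ x j := by
  intro Pm hP σ
  obtain ⟨i, hi⟩ := hx
  refine ext_perm Pm (fun z hz => ?_) σ
  by_cases hz1 : x 0 = x z
  · have h0i : (0 : Fin (2 ^ m + 1)) ≠ i := fun e => hi (by rw [← e])
    have hiz : i ≠ z := fun e => hi (by rw [e]; exact hz1)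
    have h1 := hP 0 i h0i hi
    have h2 := hP i z hiz (show x i ≠ x z by rw [← hz1]; exact Ne.symm hi)
    have h3 := mul_mem (mul_mem h1 h2) (inv_mem h1)
    rw [← Equiv.swap_apply_apply, Equiv.swap_apply_right,
      Equiv.swap_apply_of_ne_of_ne hz hiz.symm] at h3
    exact h3
  · exact hP 0 z (Ne.symm hz) hz1

section

variable (h : Hyp S P ε)
include h

/-- The transpositions which move `v ∈ V`, `v ≠ 1`, generate the symmetric group. -/
theorem gen_moved {r : G} (hr : r ∈ zl (S : Subgroup G) P) (hr1 : r ≠ 1)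
    {TT : Fin (2 ^ m + 1) → Fin (2 ^ m + 1) → Prop}
    (hT : ∀ i j, i ≠ j → (∀ a : G, Acts ε a (Equiv.swap i j) → a * r ≠ r * a) → TT i j) : Gen TT := by
  obtain ⟨x, rfl⟩ := h.ev.surj r hr
  obtain ⟨i, hi⟩ := exists_ne h.ev hr1
  intro Pm hP σ
  refine gen_ne m ⟨i, hi⟩ Pm (fun k l hkl hx => hP k l hkl (hT k l hkl fun a ha e => hx ?_)) σ
  exact (swap_comm_iff h.ev h.three hkl ha x).1 e

/-- **An involution of `O₂(P)` which is centralised by all `A₀`, `A` exact for the transpositions of a generating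
set, is in `YY`.** -/
theorem mem_YY_of {u : G} (hu : u ∈ o2 P) (hu2 : u * u = 1)
    {TT : Fin (2 ^ m + 1) → Fin (2 ^ m + 1) → Prop} (hT : Gen TT)
    (hc : ∀ i j, i ≠ j → TT i j → ∀ A, Ex P ε i j A →
      ∀ b ∈ A ⊓ centralizer (zl (S : Subgroup G) P : Set G), b * u = u * b) : u ∈ YY S P ε := by
  classical
  obtain ⟨V, hV⟩ : ∃ V, V = zl (S : Subgroup G) P := ⟨_, rfl⟩
  have hVn : ∀ {g x : G}, g ∈ P → x ∈ V → g * x * g⁻¹ ∈ V := fun hg hx => by
    rw [hV] at hx ⊢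
    exact h.Vn hg hx
  -- `C = {g ∈ P : u^g ∈ V u}`
  have hclo : ∀ a b : G, a ∈ P → a * u * a⁻¹ * u⁻¹ ∈ V → b ∈ P → b * u * b⁻¹ * u⁻¹ ∈ V →
      a * b * u * (a * b)⁻¹ * u⁻¹ ∈ V := by
    intro a b ha ha' hb hb'
    have e : a * b * u * (a * b)⁻¹ * u⁻¹ = (a * (b * u * b⁻¹ * u⁻¹) * a⁻¹) * (a * u * a⁻¹ * u⁻¹) := by group
    rw [e]
    exact mul_mem (hVn ha hb') ha'
  have hinv : ∀ a : G, a ∈ P → a * u * a⁻¹ * u⁻¹ ∈ V → a⁻¹ * u * a⁻¹⁻¹ * u⁻¹ ∈ V := by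
    intro a ha ha'
    have e : a⁻¹ * u * a⁻¹⁻¹ * u⁻¹ = a⁻¹ * (a * u * a⁻¹ * u⁻¹)⁻¹ * a⁻¹⁻¹ := by group
    rw [e]
    exact hVn (inv_mem ha) (inv_mem ha')
  let Pm : Subgroup (Equiv.Perm (Fin (2 ^ m + 1))) :=
    { carrier := {σ | ∃ c ∈ P, c * u * c⁻¹ * u⁻¹ ∈ V ∧ Acts ε c σ}
      mul_mem' := by
        rintro σ τ ⟨b, hb, hbw, hb'⟩ ⟨c, hc, hcw, hc'⟩
        exact ⟨b * c, mul_mem hb hc, hclo b c hb hbw hc hcw, hb'.mul hc'⟩
      one_mem' := ⟨1, one_mem _, by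
        have e : (1 : G) * u * 1⁻¹ * u⁻¹ = 1 := by group
        rw [e]; exact one_mem _, Acts.one⟩
      inv_mem' := by
        rintro σ ⟨b, hb, hbw, hb'⟩
        exact ⟨b⁻¹, inv_mem hb, hinv b hb hbw, hb'.inv⟩ }
  have hPm : ∀ σ, σ ∈ Pm := by
    refine hT Pm fun i j hij hTij => ?_
    obtain ⟨A, hA⟩ := exists_ex h hij
    obtain ⟨a, ha, ha'⟩ := hA.ex
    refine ⟨a, hA.AP ha, ?_, ha'⟩
    have hcm : ∀ x ∈ V, ∀ y ∈ zpowers u, x * y = y * x := by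
      intro x hx y hy
      rcases mem_zp hu2 hy with rfl | rfl
      · rw [mul_one, one_mul]
      · exact (h.VcQ hu (hV ▸ hx)).symm
    have hX := sup_elem (hV ▸ V_elem h) (zp_elem hu2) hcm
    have h1 := Exact.act h hA hij hX (hV ▸ le_sup_left) (mem_sup_right (mem_zpowers u))
      (fun b hb => hc i j hij hTij A hA b hb) ha
    rcases h1 with h1 | h1
    · rw [h1, mul_inv_cancel]; exact one_mem _
    · rw [h1, h.VcQ hu (rr_mem h.ev i j), mul_inv_cancel_right, hV]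
      exact rr_mem h.ev i j
  -- some `(i j)` in `TT`
  obtain ⟨i, j, hij, hTij⟩ : ∃ i j, i ≠ j ∧ TT i j := by
    by_contra hcon
    push Not at hcon
    have h1 := hT ⊥ (fun i j hij hTij => absurd hTij (hcon i j hij)) (Equiv.swap 0 (Fin.last (2 ^ m)))
    rw [mem_bot] at h1
    have h2 := Equiv.swap_apply_left (0 : Fin (2 ^ m + 1)) (Fin.last (2 ^ m))
    rw [h1] at h2
    exact zero_ne_last h h2
  refine (mem_YY h).2 ⟨hu, hu2, fun k l hkl A hA b hb => ?_⟩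
  obtain ⟨σ, h1, h2, -⟩ := exists_perm hkl hij
  obtain ⟨g, hg, hgu, hgσ⟩ := hPm σ
  have hA' := hA.conj hg hgσ
  rw [h1, h2] at hA'
  have h4 : g * b * g⁻¹ ∈ cj g A ⊓ centralizer (zl (S : Subgroup G) P : Set G) := by
    refine ⟨⟨b, hb.1, rfl⟩, mem_centralizer_iff.2 fun v hv => ?_⟩
    have h5 : g⁻¹ * v * g ∈ zl (S : Subgroup G) P := Vn' h hg hv
    have h6 := mem_centralizer_iff.1 hb.2 _ h5
    calc v * (g * b * g⁻¹) = g * (g⁻¹ * v * g * b) * g⁻¹ := by group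
      _ = g * (b * (g⁻¹ * v * g)) * g⁻¹ := by rw [h6]
      _ = g * b * g⁻¹ * v := by group
  have h5 := hc i j hij hTij _ hA' _ h4
  -- `g b g⁻¹` commutes with `u`, so `b` with `g⁻¹ u g ∈ V u`
  have h6 := hinv g hg hgu
  obtain ⟨v, hv⟩ : ∃ v, v = g⁻¹ * u * g⁻¹⁻¹ * u⁻¹ := ⟨_, rfl⟩
  rw [← hv] at h6
  have h7 : g⁻¹ * u * g = v * u := by rw [hv]; group
  have h8 : b * (v * u) = v * u * b := by
    rw [← h7]
    calc b * (g⁻¹ * u * g) = g⁻¹ * ((g * b * g⁻¹) * u) * g := by group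
      _ = g⁻¹ * (u * (g * b * g⁻¹)) * g := by rw [h5]
      _ = g⁻¹ * u * g * b := by group
  have h9 : b * v = v * b := (mem_centralizer_iff.1 hb.2 v (hV ▸ h6)).symm
  have h10 : v * (b * u) = v * (u * b) := by
    rw [← mul_assoc, ← h9, mul_assoc, h8, mul_assoc]
  exact mul_left_cancel h10

/-- `S ≤ Sg O₂(P)`. -/
theorem S_le : (S : Subgroup G) ≤ Sg P ε ⊔ o2 P := by
  intro s hs
  have hsP := h.SP hs
  set K := Sg P ε ⊔ o2 P with hK
  have hKn : ∀ g ∈ P, ∀ x ∈ K, g * x * g⁻¹ ∈ K := by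
    intro g hg x hx
    have h1 : K ≤ K.comap (MulAut.conj g).toMonoidHom := by
      refine sup_le (fun y hy => ?_) fun y hy => ?_
      · change g * y * g⁻¹ ∈ K
        exact mem_sup_left (Sg_conj h hg hy)
      · change g * y * g⁻¹ ∈ K
        exact mem_sup_right (h.Qn hg hy)
    exact h1 hx
  obtain ⟨σ, hσ⟩ := h.ev.perm s hsP
  obtain ⟨g, hg, hgσ⟩ := Sg_full h σ
  have hc := h.ev.mem_centralizer_of_acts hσ hgσ
  have hgP : g ∈ P := Sg_le hg
  set c := g⁻¹ * s with hcd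
  have hcP : c ∈ P := mul_mem (inv_mem hgP) hsP
  obtain ⟨n, hn, Nn, hN⟩ := SQ1.SymCyc.exists_pow c 1
  have hcn : c ^ n ∈ K := mem_sup_right (h.two (pow_mem hcP n)
    (fun v hv => (Commute.pow_left (show Commute c v from (mem_centralizer_iff.1 hc v hv).symm) n).eq) ⟨Nn, hN⟩)
  have key : ∀ k : ℕ, s ^ k * (c ^ k)⁻¹ ∈ K := by
    intro k
    induction k with
    | zero => simp
    | succ k ih =>
      have e0 : s * c⁻¹ = g := by rw [hcd]; group
      have e : s ^ (k + 1) * (c ^ (k + 1))⁻¹ = (s ^ k * g * (s ^ k)⁻¹) * (s ^ k * (c ^ k)⁻¹) := by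
        calc s ^ (k + 1) * (c ^ (k + 1))⁻¹ = s ^ k * (s * c⁻¹) * (c ^ k)⁻¹ := by
              rw [pow_succ, pow_succ]; group
          _ = s ^ k * g * (c ^ k)⁻¹ := by rw [e0]
          _ = _ := by group
      rw [e]
      exact mul_mem (hKn _ (pow_mem hsP k) _ (mem_sup_left hg)) ih
  have hsn : s ^ n ∈ K := by
    have := mul_mem (key n) hcn
    rwa [inv_mul_cancel_right] at this
  have hcop : n.Coprime (orderOf s) := by
    obtain ⟨k, hk⟩ := S.isPGroup' ⟨s, hs⟩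
    have h1 : s ^ 2 ^ k = 1 := congrArg Subtype.val hk
    have h2 := orderOf_dvd_of_pow_eq_one h1
    refine Nat.Coprime.coprime_dvd_right h2 ?_
    refine Nat.Coprime.pow_right k ?_
    rw [Nat.coprime_comm, Nat.coprime_two_left]
    exact Nat.not_even_iff_odd.1 fun he => by
      have h3 : n % 2 = 1 := by simpa using hn
      have h4 := Nat.even_iff.1 he
      omega
  obtain ⟨l, hl⟩ := exists_pow_eq_self_of_coprime hcop
  rw [← hl]
  exact pow_mem hsn l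

/-- `P = Sg O₂(P)`. -/
theorem P_eq : Sg P ε ⊔ o2 P = P := by
  have hfact : Fact (Nat.Prime 2) := ⟨Nat.prime_two⟩
  apply le_antisymm (sup_le Sg_le h.QP)
  have hn : P ≤ normalizer (Sg P ε : Set G) := by
    intro g hg
    rw [mem_normalizer_iff]
    refine fun z => ⟨fun hz => Sg_conj h hg hz, fun hz => ?_⟩
    have h1 := Sg_conj h (inv_mem hg) hz
    have e : g⁻¹ * (g * z * g⁻¹) * g⁻¹⁻¹ = z := by group
    rwa [e] at h1
  rcases h.hP.toIsMinPar.sup_eq_or_inf_le S.isPGroup' (MinSimple.Basic.not_dvd_relIndex S h.SP) Sg_le hn with h1 | h1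
  · conv_lhs => rw [← h1]
    exact sup_le le_sup_left (S_le h)
  · exfalso
    obtain ⟨A, hAA, p, q, hpq, hA⟩ := exists_ex_S h
    obtain ⟨a, ha, ha'⟩ := hA.ex
    have h2 : a ∈ o2 P := h1 ⟨hAA.2.1 ha, mem_Sg hpq hA ha⟩
    have h3 := (h.ev.fixes_iff h.three ha' p).1 (h.VcQ h2 (zz_mem h.ev p))
    rw [Equiv.swap_apply_left] at h3
    exact hpq h3.symm

/-- **LEMMA F.** -/
theorem lemF (h3 : 3 ≤ m) {N : Subgroup G} (hVN : zl (S : Subgroup G) P ≤ N) (hNY : N ≤ YY S P ε)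
    (hQN : o2 P ≤ normalizer (N : Set G)) :
    normalizer (N : Set G) ≤ normalizer (zl (S : Subgroup G) P : Set G) := by
  have hSN : Sg P ε ≤ normalizer (N : Set G) := by
    have key : ∀ g ∈ Sg P ε, ∀ y ∈ N, g * y * g⁻¹ ∈ N := by
      intro g hg y hy
      have h1 := mul_mem (hVN (Sg_act h hg (hNY hy))) hy
      rwa [inv_mul_cancel_right] at h1
    intro g hg
    rw [mem_normalizer_iff]
    refine fun z => ⟨fun hz => key g hg z hz, fun hz => ?_⟩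
    have h1 := key g⁻¹ (inv_mem hg) _ hz
    have e : g⁻¹ * (g * z * g⁻¹) * g⁻¹⁻¹ = z := by group
    rwa [e] at h1
  have hPN : P ≤ normalizer (N : Set G) := by
    conv_lhs => rw [← P_eq h]
    exact sup_le hSN hQN
  obtain ⟨A, hA⟩ := exists_ex h (zero_ne_last h)
  refine SN.J.N1.le_of_inv h h3 hPN (isElementaryAbelian_mono (YY_elem h) hNY)
    (hNY.trans ((YY_le_Q h).trans h.QS)) hVN (fun c hc y hy => (mem_normalizer_iff.1 hc y).1 hy)
    (zero_ne_last h) hA fun a ha y hy => ((mem_YY h).1 (hNY hy)).2.2 _ _ (zero_ne_last h) A hA a ha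

end

end Cfsg.Agent.Omega.NO3S.SN2.LemY
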