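import Cfsg.Agent.Omega.NO3S.SN2.Path

/-!
# SN.Two, THEOREM PATH (#20810, #21224) inside a group

`C` acts by conjugation on the elementary abelian group `W` (`C = C_G(z)`, `W = U_z`), `ε : (ι → F₂) → W` a line.

* `XX C ε i j = C_C(D_ij)`; `Wij C ε i j = ⟨r ε(a) r⁻¹ : r ∈ XX C ε i j⟩`; `MM C ε = ⟨N_C(V), XX C ε i j⟩`;
* `SitG C W ε` : the situation;
* `SitG.path` : a subgroup `E ≤ C`, quadratic on `W`, `|[w, E]| ≠ 2`, which centralises the line and an element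
  `u₀ ∈ Wij i₀ j₀` outside the line centralises all `m (Wij i j) m⁻¹`, `m ∈ MM C ε`;
* `SitG.path_two` : a transvection `τ` which centralises the line centralises all these groups, or its centre is
  `m ε(i) m⁻¹` or `m ε(i + j) m⁻¹` for some `m ∈ MM C ε`.
-/

set_option autoImplicit false
set_option linter.unusedSectionVars false
set_option linter.style.haveILetI false

namespace Cfsg.Agent.Omega.NO3S.SN2.PathG

open Subgroup
open Cfsg.Agent.Omega.NO3S.SN2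

universe u w

variable {G : Type u} [Group G] {ι : Type w} [DecidableEq ι]

/-- `n` acts on the line as `σ` -/
def Act (ε : (ι → ZMod 2) → G) (n : G) (σ : Equiv.Perm ι) : Prop := ∀ a, n * ε a * n⁻¹ = ε (a ∘ σ.symm)

/-- `C_C(D_ij)`, `D_ij = {ε a : a i = a j}` -/
def XX (C : Subgroup G) (ε : (ι → ZMod 2) → G) (i j : ι) : Subgroup G :=
  C ⊓ centralizer {g | ∃ a : ι → ZMod 2, a i = a j ∧ g = ε a}

theorem mem_XX {C : Subgroup G} {ε : (ι → ZMod 2) → G} {i j : ι} {r : G} :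
    r ∈ XX C ε i j ↔ r ∈ C ∧ ∀ a : ι → ZMod 2, a i = a j → r * ε a = ε a * r := by
  unfold XX
  rw [mem_inf, mem_centralizer_iff]
  constructor
  · rintro ⟨h1, h2⟩
    exact ⟨h1, fun a ha => (h2 _ ⟨a, ha, rfl⟩).symm⟩
  · rintro ⟨h1, h2⟩
    refine ⟨h1, ?_⟩
    rintro _ ⟨a, ha, rfl⟩
    exact (h2 a ha).symm

/-- `W_ij = ⟨V ^ C_C(D_ij)⟩` -/
def Wij (C : Subgroup G) (ε : (ι → ZMod 2) → G) (i j : ι) : Subgroup G :=
  closure {g | ∃ r ∈ XX C ε i j, ∃ a, g = r * ε a * r⁻¹}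

/-- `⟨N_C(V), C_C(D_ij)⟩` -/
def MM (C : Subgroup G) (ε : (ι → ZMod 2) → G) : Subgroup G :=
  closure ({n | n ∈ C ∧ ∃ σ, Act ε n σ} ∪ {r | ∃ i j, i ≠ j ∧ r ∈ XX C ε i j})

theorem MM_le (C : Subgroup G) (ε : (ι → ZMod 2) → G) : MM C ε ≤ C := by
  unfold MM
  rw [closure_le]
  rintro x (⟨hx, -⟩ | ⟨i, j, -, hx⟩)
  · exact hx
  · exact (mem_XX.1 hx).1

/-- **The situation** -/
structure SitG (C W : Subgroup G) (ε : (ι → ZMod 2) → G) : Prop where
  comm : ∀ a ∈ W, ∀ b ∈ W, a * b = b * a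
  sq : ∀ a ∈ W, a * a = 1
  nor : ∀ c ∈ C, ∀ w ∈ W, c * w * c⁻¹ ∈ W
  add : ∀ x y, ε (x + y) = ε x * ε y
  mem : ∀ x, ε x ∈ W
  inj : ∀ x, ε x = 1 → x = 0
  sym : ∀ σ : Equiv.Perm ι, ∃ n ∈ C, Act ε n σ
  perm : ∀ n ∈ C, (∀ a, ∃ b, n * ε a * n⁻¹ = ε b) → ∃ σ : Equiv.Perm ι, Act ε n σ
  ne : ∀ i j : ι, i ≠ j → ∃ u ∈ Wij C ε i j, ∀ a, u ≠ ε a
  two : ∀ i j : ι, i ≠ j → ∀ u ∈ Wij C ε i j, ∀ u' ∈ Wij C ε i j, (∀ a, u ≠ ε a) → (∀ a, u' ≠ ε a) →
    ∃ a, u * u' = ε a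
  com : ∀ i j : ι, i ≠ j → ∀ q ∈ C, (∀ a, q * ε a = ε a * q) → ∀ u ∈ Wij C ε i j,
    ∃ s t : ZMod 2, q * u * q⁻¹ = u * ε (Pi.single i s + Pi.single j t)

section transfer

/-- the abelian group `W`, written additively -/
@[reducible] def grp (W : Subgroup G) (hc : ∀ a ∈ W, ∀ b ∈ W, a * b = b * a) : AddCommGroup (Additive W) :=
  @Additive.addCommGroup W { (inferInstance : Group W) with
    mul_comm := fun a b => Subtype.ext (hc _ a.2 _ b.2) }

/-- the action of `C` on `W` -/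
@[reducible] def act (C W : Subgroup G) (hc : ∀ a ∈ W, ∀ b ∈ W, a * b = b * a)
    (hn : ∀ c ∈ C, ∀ w ∈ W, c * w * c⁻¹ ∈ W) :
    @DistribMulAction C (Additive W) _ (grp W hc).toAddMonoid :=
  letI := grp W hc
  { smul := fun c w => Additive.ofMul ⟨(c : G) * (Additive.toMul w : W) * (c : G)⁻¹, hn _ c.2 _ (Additive.toMul w).2⟩
    one_smul := fun w => by
      apply Additive.toMul.injective
      apply Subtype.ext
      change (1 : G) * _ * (1 : G)⁻¹ = _
      rw [one_mul, inv_one, mul_one]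
    mul_smul := fun x y w => by
      apply Additive.toMul.injective
      apply Subtype.ext
      change ((x : G) * (y : G)) * _ * ((x : G) * (y : G))⁻¹ = (x : G) * ((y : G) * _ * (y : G)⁻¹) * (x : G)⁻¹
      group
    smul_zero := fun x => by
      apply Additive.toMul.injective
      apply Subtype.ext
      change (x : G) * 1 * (x : G)⁻¹ = 1
      rw [mul_one, mul_inv_cancel]
    smul_add := fun x v w => by
      apply Additive.toMul.injective
      apply Subtype.ext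
      change (x : G) * (((Additive.toMul v : W) : G) * ((Additive.toMul w : W) : G)) * (x : G)⁻¹ =
        ((x : G) * ((Additive.toMul v : W) : G) * (x : G)⁻¹) * ((x : G) * ((Additive.toMul w : W) : G) * (x : G)⁻¹)
      group }

end transfer

namespace SitG

variable {C W : Subgroup G} {ε : (ι → ZMod 2) → G}

theorem one (h : SitG C W ε) : ε 0 = 1 := by
  have := h.add 0 0
  rw [add_zero] at this
  exact (mul_eq_left.1 this.symm)

theorem nor' (h : SitG C W ε) {c w : G} (hc : c ∈ C) (hw : w ∈ W) : c * w * c⁻¹ ∈ W := h.nor c hc w hw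

theorem Wij_le (h : SitG C W ε) (i j : ι) : Wij C ε i j ≤ W := by
  unfold Wij
  rw [closure_le]
  rintro _ ⟨r, hr, a, rfl⟩
  exact h.nor _ (mem_XX.1 hr).1 _ (h.mem a)

/-- the line as a homomorphism into the additive group -/
def hom (h : SitG C W ε) : letI := grp W h.comm; (ι → ZMod 2) →+ Additive W :=
  letI := grp W h.comm
  { toFun := fun x => Additive.ofMul ⟨ε x, h.mem x⟩
    map_zero' := by
      apply Additive.toMul.injective
      exact Subtype.ext h.one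
    map_add' := fun x y => by
      apply Additive.toMul.injective
      exact Subtype.ext (h.add x y) }

/-- the additive version of an element of `W` -/
def el (W : Subgroup G) {g : G} (hg : g ∈ W) : Additive W := Additive.ofMul ⟨g, hg⟩

theorem el_inj {g g' : G} {hg : g ∈ W} {hg' : g' ∈ W} (e : el W hg = el W hg') : g = g' :=
  congrArg Subtype.val (Additive.ofMul.injective e)

theorem el_congr {g g' : G} (hg : g ∈ W) (hg' : g' ∈ W) (e : g = g') : el W hg = el W hg' := by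
  subst e; rfl

theorem exists_el (w : Additive W) : ∃ g : G, ∃ hg : g ∈ W, w = el W hg :=
  ⟨((Additive.toMul w : W) : G), (Additive.toMul w).2, rfl⟩


section instances

variable (h : SitG C W ε)
include h

/-- membership in `CD` -/
theorem mem_CD_iff {i j : ι} (r : C) :
    letI := grp W h.comm; letI := act C W h.comm h.nor; r ∈ PathP.CD C h.hom i j ↔ (r : G) ∈ XX C ε i j := by
  letI := grp W h.comm
  letI := act C W h.comm h.nor
  rw [PathP.mem_CD, mem_XX]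
  constructor
  · intro h1
    refine ⟨r.2, fun a ha => ?_⟩
    have h2 : (r : G) * ε a * (r : G)⁻¹ = ε a := el_inj (W := W) (hg := h.nor _ r.2 _ (h.mem a)) (hg' := h.mem a)
      (h1 a ha)
    rw [mul_inv_eq_iff_eq_mul] at h2
    exact h2
  · rintro ⟨-, h1⟩ a ha
    exact el_congr (W := W) (h.nor _ r.2 _ (h.mem a)) (h.mem a) (by rw [h1 a ha, mul_inv_cancel_right])

theorem mem_Wp_iff {i j : ι} {g : G} (hg : g ∈ W) :
    letI := grp W h.comm; letI := act C W h.comm h.nor; el W hg ∈ PathP.Wp C h.hom i j ↔ g ∈ Wij C ε i j := by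
  letI := grp W h.comm
  letI := act C W h.comm h.nor
  constructor
  · intro h1
    have key : ∀ w ∈ PathP.Wp C h.hom i j, ((Additive.toMul w : W) : G) ∈ Wij C ε i j := by
      intro w hw
      unfold PathP.Wp at hw
      induction hw using AddSubgroup.closure_induction with
      | mem x hx =>
        obtain ⟨r, hr, a, rfl⟩ := hx
        exact subset_closure ⟨(r : G), (h.mem_CD_iff r).1 hr, a, rfl⟩
      | zero => exact one_mem _
      | add x y _ _ hx hy => exact mul_mem hx hy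
      | neg x _ hx => exact inv_mem hx
    exact key _ h1
  · intro h1
    have key : ∀ g ∈ Wij C ε i j, ∃ hg : g ∈ W, el W hg ∈ PathP.Wp C h.hom i j := by
      intro g hg
      unfold Wij at hg
      induction hg using Subgroup.closure_induction with
      | mem x hx =>
        obtain ⟨r, hr, a, rfl⟩ := hx
        refine ⟨h.nor _ (mem_XX.1 hr).1 _ (h.mem a), ?_⟩
        exact PathP.smul_mem_Wp' (ε := h.hom) (r := (⟨r, (mem_XX.1 hr).1⟩ : C)) ((h.mem_CD_iff _).2 hr) a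
      | one => exact ⟨one_mem _, zero_mem _⟩
      | mul x y _ _ hx hy =>
        obtain ⟨hx1, hx2⟩ := hx
        obtain ⟨hy1, hy2⟩ := hy
        exact ⟨mul_mem hx1 hy1, add_mem hx2 hy2⟩
      | inv x _ hx =>
        obtain ⟨hx1, hx2⟩ := hx
        exact ⟨inv_mem hx1, neg_mem hx2⟩
    obtain ⟨hg', h2⟩ := key g h1
    exact h2

theorem act_iff {n : C} {σ : Equiv.Perm ι} :
    letI := grp W h.comm; letI := act C W h.comm h.nor; PathP.Act h.hom n σ ↔ Act ε (n : G) σ := by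
  letI := grp W h.comm
  letI := act C W h.comm h.nor
  constructor
  · intro h1 a
    exact el_inj (W := W) (hg := h.nor _ n.2 _ (h.mem a)) (hg' := h.mem _) (h1 a)
  · intro h1 a
    exact el_congr (W := W) (h.nor _ n.2 _ (h.mem a)) (h.mem _) (h1 a)

theorem hom_eq_iff {g : G} (hg : g ∈ W) (a : ι → ZMod 2) :
    letI := grp W h.comm; el W hg = h.hom a ↔ g = ε a := by
  letI := grp W h.comm
  constructor
  · intro h1; exact el_inj (W := W) (hg := hg) (hg' := h.mem a) h1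
  · intro h1; exact el_congr (W := W) hg (h.mem a) h1

theorem toSit : letI := grp W h.comm; letI := act C W h.comm h.nor; PathP.Sit C h.hom := by
  letI := grp W h.comm
  letI := act C W h.comm h.nor
  refine ⟨?_, ?_, ?_, ?_, ?_, ?_, ?_⟩
  · intro w
    obtain ⟨g, hg, rfl⟩ := exists_el w
    exact el_congr (W := W) (mul_mem hg hg) (one_mem _) (h.sq g hg)
  · rw [injective_iff_map_eq_zero]
    intro a ha
    exact h.inj a (el_inj (W := W) (hg := h.mem a) (hg' := one_mem _) ha)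
  · intro σ
    obtain ⟨n, hn, h1⟩ := h.sym σ
    exact ⟨⟨n, hn⟩, (h.act_iff (n := ⟨n, hn⟩)).2 h1⟩
  · intro n hn
    obtain ⟨σ, hσ⟩ := h.perm n n.2 fun a => by
      obtain ⟨b, hb⟩ := hn a
      exact ⟨b, el_inj (W := W) (hg := h.nor _ n.2 _ (h.mem a)) (hg' := h.mem b) hb⟩
    exact ⟨σ, h.act_iff.2 hσ⟩
  · intro i j hij
    obtain ⟨u, hu, hn⟩ := h.ne i j hij
    exact ⟨el W (h.Wij_le i j hu), (h.mem_Wp_iff _).2 hu, fun a ha => hn a ((h.hom_eq_iff _ a).1 ha)⟩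
  · intro i j hij u hu u' hu' hn hn'
    obtain ⟨g, hg, rfl⟩ := exists_el u
    obtain ⟨g', hg', rfl⟩ := exists_el u'
    rw [h.mem_Wp_iff] at hu hu'
    obtain ⟨a, ha⟩ := h.two i j hij g hu g' hu' (fun a ha => hn a ((h.hom_eq_iff hg a).2 ha))
      (fun a ha => hn' a ((h.hom_eq_iff hg' a).2 ha))
    exact ⟨a, el_congr (W := W) (mul_mem hg hg') (h.mem a) ha⟩
  · intro i j hij q hq u hu
    obtain ⟨g, hg, rfl⟩ := exists_el u
    rw [h.mem_Wp_iff] at hu
    obtain ⟨s, t, hst⟩ := h.com i j hij q q.2 (fun a => by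
      have h2 : (q : G) * ε a * (q : G)⁻¹ = ε a := el_inj (W := W) (hg := h.nor _ q.2 _ (h.mem a))
        (hg' := h.mem a) (hq a)
      rwa [mul_inv_eq_iff_eq_mul] at h2) g hu
    exact ⟨s, t, el_congr (W := W) (h.nor _ q.2 _ hg) (mul_mem hg (h.mem _)) hst⟩

theorem mem_M0 {m : G} (hm : m ∈ MM C ε) :
    letI := grp W h.comm; letI := act C W h.comm h.nor;
      (⟨m, MM_le C ε hm⟩ : C) ∈ PathP.M0 C h.hom := by
  letI := grp W h.comm
  letI := act C W h.comm h.nor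
  have key : ∀ m ∈ MM C ε, ∃ hm : m ∈ C, (⟨m, hm⟩ : C) ∈ PathP.M0 C h.hom := by
    intro m hm
    unfold MM at hm
    induction hm using Subgroup.closure_induction with
    | mem x hx =>
      rcases hx with ⟨hx, σ, hσ⟩ | ⟨i, j, hij, hx⟩
      · exact ⟨hx, subset_closure (Or.inl ⟨σ, (h.act_iff (n := ⟨x, hx⟩)).2 hσ⟩)⟩
      · exact ⟨(mem_XX.1 hx).1, subset_closure (Or.inr ⟨i, j, hij, (h.mem_CD_iff ⟨x, (mem_XX.1 hx).1⟩).2 hx⟩)⟩
    | one => exact ⟨one_mem _, one_mem _⟩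
    | mul x y _ _ hx hy =>
      obtain ⟨hx1, hx2⟩ := hx
      obtain ⟨hy1, hy2⟩ := hy
      exact ⟨mul_mem hx1 hy1, mul_mem hx2 hy2⟩
    | inv x _ hx =>
      obtain ⟨hx1, hx2⟩ := hx
      exact ⟨inv_mem hx1, inv_mem hx2⟩
  obtain ⟨hm', h2⟩ := key m hm
  exact h2

theorem of_mem_M0 {m : C} : letI := grp W h.comm; letI := act C W h.comm h.nor;
    m ∈ PathP.M0 C h.hom → (m : G) ∈ MM C ε := by
  letI := grp W h.comm
  letI := act C W h.comm h.nor
  intro hm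
  unfold PathP.M0 at hm
  induction hm using Subgroup.closure_induction with
  | mem x hx =>
    rcases hx with ⟨σ, hσ⟩ | ⟨i, j, hij, hx⟩
    · exact subset_closure (Or.inl ⟨x.2, σ, h.act_iff.1 hσ⟩)
    · exact subset_closure (Or.inr ⟨i, j, hij, (h.mem_CD_iff x).1 hx⟩)
  | one => exact one_mem _
  | mul x y _ _ hx hy => exact mul_mem hx hy
  | inv x _ hx => exact inv_mem hx

end instances

/-- **THEOREM PATH (A)** in the group: `E` quadratic on `W`, `|[w, E]| ≠ 2`, centralises the line and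
`u₀ ∈ W_{i₀j₀}` outside the line. -/
theorem path (h : SitG C W ε) {E : Subgroup G} (hEC : E ≤ C)
    (quad : ∀ e ∈ E, ∀ e' ∈ E, ∀ w ∈ W, e' * (e * w * e⁻¹ * w⁻¹) = e * w * e⁻¹ * w⁻¹ * e')
    (big : ∀ w ∈ W, ∀ c ∈ W, (∀ e ∈ E, e * w * e⁻¹ = w ∨ e * w * e⁻¹ = w * c) → ∀ e ∈ E, e * w = w * e)
    (hV : ∀ e ∈ E, ∀ a, e * ε a = ε a * e) (h4 : ∀ i j k : ι, ∃ l, l ≠ i ∧ l ≠ j ∧ l ≠ k)
    {i₀ j₀ : ι} (hij₀ : i₀ ≠ j₀) {u₀ : G} (hu₀ : u₀ ∈ Wij C ε i₀ j₀) (hn₀ : ∀ a, u₀ ≠ ε a)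
    (hf : ∀ e ∈ E, e * u₀ = u₀ * e) {m : G} (hm : m ∈ MM C ε) :
    ∀ i j, i ≠ j → ∀ u ∈ Wij C ε i j, ∀ e ∈ E, e * (m * u * m⁻¹) = m * u * m⁻¹ * e := by
  letI := grp W h.comm
  letI := act C W h.comm h.nor
  have hS := h.toSit
  have hinv : ∀ w ∈ W, w⁻¹ = w := fun w hw => inv_eq_of_mul_eq_one_left (h.sq w hw)
  -- `e` commutes with `w` iff it fixes `w`
  have fixOf : ∀ (e : C) (g : G) (hg : g ∈ W), (e : G) * g = g * e → e • el W hg = el W hg := fun e g hg h1 =>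
    el_congr (W := W) (h.nor _ e.2 _ hg) hg (by rw [h1, mul_inv_cancel_right])
  have ofFix : ∀ (e : C) (g : G) (hg : g ∈ W), e • el W hg = el W hg → (e : G) * g = g * e := fun e g hg h1 => by
    have h2 : (e : G) * g * (e : G)⁻¹ = g := el_inj (W := W) (hg := h.nor _ e.2 _ hg) (hg' := hg) h1
    rwa [mul_inv_eq_iff_eq_mul] at h2
  have hE : PathP.Sit.Off (E.subgroupOf C) (Additive W) := by
    refine ⟨?_, ?_⟩
    · intro e he e' he' w
      obtain ⟨g, hg, rfl⟩ := exists_el w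
      rw [mem_subgroupOf] at he he'
      have h1 := quad e he e' he' g hg
      rw [hinv g hg] at h1
      exact fixOf e' _ (mul_mem (h.nor _ e.2 _ hg) hg) h1
    · intro w c hwc e he
      obtain ⟨g, hg, rfl⟩ := exists_el w
      obtain ⟨c, hc, rfl⟩ := exists_el c
      refine fixOf e g hg (big g hg c hc (fun e' he' => ?_) e (mem_subgroupOf.1 he))
      rcases hwc ⟨e', hEC he'⟩ (mem_subgroupOf.2 he') with h1 | h1
      · exact Or.inl (el_inj (W := W) (hg := h.nor _ (hEC he') _ hg) (hg' := hg) h1)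
      · exact Or.inr (el_inj (W := W) (hg := h.nor _ (hEC he') _ hg) (hg' := mul_mem hg hc) h1)
  intro i j hij u hu e he
  have hW := h.Wij_le i j hu
  have := hS.path hE (fun e he a => fixOf e _ (h.mem a) (hV e (mem_subgroupOf.1 he) a)) h4 hij₀
    ((h.mem_Wp_iff (h.Wij_le i₀ j₀ hu₀)).2 hu₀) (fun a ha => hn₀ a ((h.hom_eq_iff _ a).1 ha))
    (fun e he => fixOf e _ _ (hf e (mem_subgroupOf.1 he))) (h.mem_M0 hm) i j hij _ ((h.mem_Wp_iff hW).2 hu)
    ⟨e, hEC he⟩ (mem_subgroupOf.2 he)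
  exact ofFix ⟨e, hEC he⟩ (m * u * m⁻¹) (h.nor _ (MM_le C ε hm) _ hW) this

/-- **THEOREM PATH (B)** in the group: a transvection -/
theorem path_two (h : SitG C W ε) {τ c : G} (hτ : τ ∈ C) (hcW : c ∈ W)
    (hc : ∀ w ∈ W, τ * w * τ⁻¹ = w ∨ τ * w * τ⁻¹ = w * c) (hV : ∀ a, τ * ε a = ε a * τ) :
    (∀ m ∈ MM C ε, ∀ i j, i ≠ j → ∀ u ∈ Wij C ε i j, τ * (m * u * m⁻¹) = m * u * m⁻¹ * τ) ∨
      ∃ m ∈ MM C ε, (∀ a, τ * (m * ε a * m⁻¹) = m * ε a * m⁻¹ * τ) ∧
        ((∃ i, c = m * ε (Pi.single i 1) * m⁻¹) ∨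
          ∃ i j, i ≠ j ∧ c = m * ε (Pi.single i 1 + Pi.single j 1) * m⁻¹) := by
  letI := grp W h.comm
  letI := act C W h.comm h.nor
  have hS := h.toSit
  have fixOf : ∀ (e : C) (g : G) (hg : g ∈ W), (e : G) * g = g * e → e • el W hg = el W hg := fun e g hg h1 =>
    el_congr (W := W) (h.nor _ e.2 _ hg) hg (by rw [h1, mul_inv_cancel_right])
  have ofFix : ∀ (e : C) (g : G) (hg : g ∈ W), e • el W hg = el W hg → (e : G) * g = g * e := fun e g hg h1 => by
    have h2 : (e : G) * g * (e : G)⁻¹ = g := el_inj (W := W) (hg := h.nor _ e.2 _ hg) (hg' := hg) h1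
    rwa [mul_inv_eq_iff_eq_mul] at h2
  rcases hS.path_two (τ := ⟨τ, hτ⟩) (c := el W hcW) (fun w => by
      obtain ⟨g, hg, rfl⟩ := exists_el w
      rcases hc g hg with h1 | h1
      · exact Or.inl (el_congr (W := W) (h.nor _ hτ _ hg) hg h1)
      · exact Or.inr (el_congr (W := W) (h.nor _ hτ _ hg) (mul_mem hg hcW) h1))
      (fun a => fixOf ⟨τ, hτ⟩ _ (h.mem a) (hV a)) with h1 | ⟨m, hm, h1, h2⟩
  · left
    intro m hm i j hij u hu
    exact ofFix ⟨τ, hτ⟩ _ (h.nor _ (MM_le C ε hm) _ (h.Wij_le i j hu))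
      (h1 _ (h.mem_M0 hm) i j hij _ ((h.mem_Wp_iff (h.Wij_le i j hu)).2 hu))
  · right
    refine ⟨m, h.of_mem_M0 hm, fun a => ofFix ⟨τ, hτ⟩ _ (h.nor _ m.2 _ (h.mem a)) (h1 a), ?_⟩
    rcases h2 with ⟨i, h3⟩ | ⟨i, j, hij, h3⟩
    · exact Or.inl ⟨i, el_inj (W := W) (hg := hcW) (hg' := h.nor _ m.2 _ (h.mem _)) h3⟩
    · exact Or.inr ⟨i, j, hij, el_inj (W := W) (hg := hcW) (hg' := h.nor _ m.2 _ (h.mem _)) h3⟩

end SitG

end Cfsg.Agent.Omega.NO3S.SN2.PathG
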