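import Cfsg.Agent.Omega.HT.TVS

/-!
# SN.Two / LightL, `n = 5`: there is no transvection with light centre ((T), `N = 4`, helper237 #22246 (2), helper320)

* `false_of_pair` : the pure form: no `SysW ρ Om` with `a, b ∈ Om` near, `a + b = z ≠ 0` fixed by the group;
* `SitT C W ε` : `C` acts by conjugation on the elementary abelian group `W`, `ε : (ι → F₂) → W` a line on
  `z = ε (1,…,1)` (`ε eᵢ = zᵢ`, `ε (eᵢ + eⱼ) = x_ij`), all permutations of the letters are induced, `C` centralises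
  `z` and `O₂(C / C_C(W)) = 1`;
* `SitT.no_light` : for 4 letters no element of `C` acts on `W` as a transvection with centre `c x_ij c⁻¹`.
-/

set_option autoImplicit false
set_option linter.unusedSectionVars false

namespace Cfsg.Agent.Omega.NO3S.SN2.LightFour

open Module Cfsg.Agent.Omega.TV
open Cfsg.Agent.Omega.TV.Sys (Near rad Big Clo)

section pure

variable {H : Type*} [Group H] {V : Type*} [AddCommGroup V] [Module (ZMod 2) V]
  {ρ : H →* (V ≃ₗ[ZMod 2] V)} {Om : Set V}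

theorem fix_fn (h : SysW ρ Om) {z : V} (hz : ∀ g, ρ g z = z) {r : V} (hr : r ∈ Om) {φ : Dual (ZMod 2) V}
    (hφ : Fn ρ r φ) : φ z = 0 := by
  refine z2_ne_one fun e => ?_
  obtain ⟨_, g, hg⟩ := hφ
  have h1 := hg z
  rw [hz g, e, one_smul] at h1
  exact h.ne_zero hr (by simpa using h1)

/-- **(T), `N = 4`, pure form.** -/
theorem false_of_pair (h : SysW ρ Om) [Finite V] {z a b : V} (hz0 : z ≠ 0) (hz : ∀ g, ρ g z = z)
    (ch : ∀ g, (∀ w ∈ Submodule.span (ZMod 2) Om, ρ g w = w ∨ ρ g w = w + z) →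
      (∀ w, ρ g w + w ∈ Submodule.span (ZMod 2) Om) → ∀ w, ρ g w = w)
    (ha : a ∈ Om) (hb : b ∈ Om) (hab : a + b = z) (hn : Near ρ Om a b) : False := by
  have hne : a ≠ b := by
    rintro rfl
    exact hz0 (by rw [← hab, v_add_self])
  have hnadj : ¬ Adj ρ a b := by
    rintro ⟨φ, hφ, e⟩
    have h1 := fix_fn h hz ha hφ
    rw [← hab, map_add, hφ.1, e, zero_add] at h1
    exact one_ne_zero h1
  have hnb : ¬ Big ρ Om := fun hB => hnadj (h.adj_of_near hB ha hb hne hn)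
  have huniq : ∀ r ∈ Om, ∀ φ ψ : Dual (ZMod 2) V, Fn ρ r φ → Fn ρ r ψ → φ ≠ 0 → ψ ≠ 0 → φ = ψ := by
    intro r hr φ ψ hφ hψ h1 h2
    by_contra h3
    exact hnb (h.big_of hr hφ hψ h1 h2 h3)
  have hsym : ∀ x ∈ Om, ∀ y ∈ Om, ∀ φ ψ : Dual (ZMod 2) V, Fn ρ x φ → Fn ρ y ψ → φ ≠ 0 → ψ ≠ 0 →
      φ y = 1 → ψ x = 1 := by
    intro x hx y hy φ ψ hφ hψ h1 h2 h3
    obtain ⟨χ, hχ, e⟩ := h.symm hx hy ⟨φ, hφ, h3⟩
    have h4 : χ ≠ 0 := by
      rintro rfl
      rw [LinearMap.zero_apply] at e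
      exact zero_ne_one e
    rw [huniq y hy ψ χ hψ hχ h2 h4]
    exact e
  obtain ⟨κ, hκ0, hκ⟩ := h.exists_fn ha
  obtain ⟨κ', hκ0', hκ'⟩ := h.exists_fn hb
  have hval : ∀ y ∈ Om, κ y = κ' y := by
    intro y hy
    obtain ⟨f, hf0, hf⟩ := h.exists_fn hy
    have h1 := fix_fn h hz hy hf
    rw [← hab, map_add] at h1
    have h2 : κ y = f a := by
      rcases z2 (κ y) with e | e
      · rw [e]
        rcases z2 (f a) with e' | e'
        · exact e'.symm
        · exfalso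
          rw [hsym y hy a ha f κ hf hκ hf0 hκ0 e'] at e
          exact one_ne_zero e
      · rw [e, hsym a ha y hy κ f hκ hf hκ0 hf0 e]
    have h3 : κ' y = f b := by
      rcases z2 (κ' y) with e | e
      · rw [e]
        rcases z2 (f b) with e' | e'
        · exact e'.symm
        · exfalso
          rw [hsym y hy b hb f κ' hf hκ' hf0 hκ0' e'] at e
          exact one_ne_zero e
      · rw [e, hsym b hb y hy κ' f hκ' hf hκ0' hf0 e]
    rw [h2, h3]
    rcases z2 (f a) with e | e <;> rcases z2 (f b) with e' | e' <;> rw [e, e'] at h1 ⊢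
    · rw [zero_add] at h1
      exact absurd h1 one_ne_zero
    · rw [add_zero] at h1
      exact absurd h1 one_ne_zero
  have hspan : ∀ w ∈ Submodule.span (ZMod 2) Om, κ w = κ' w := by
    intro w hw
    have h1 : Submodule.span (ZMod 2) Om ≤ LinearMap.eqLocus κ κ' :=
      Submodule.span_le.2 fun y hy => hval y hy
    exact h1 hw
  have hκb : κ b = 0 := z2_ne_one fun e => hnadj ⟨κ, hκ, e⟩
  obtain ⟨_, g, hg⟩ := hκ
  obtain ⟨_, g', hg'⟩ := hκ'
  have hform : ∀ w, ρ (g * g') w = w + κ w • a + κ' w • b := by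
    intro w
    rw [rmul, hg', map_add, map_smul, hg, hg, hκb, zero_smul, add_zero]
  have htriv := ch (g * g') (fun w hw => by
    rw [hform, ← hspan w hw, add_assoc, ← smul_add, hab]
    rcases z2 (κ w) with e | e
    · left; rw [e, zero_smul, add_zero]
    · right; rw [e, one_smul]) (fun w => by
    rw [hform]
    have e : w + κ w • a + κ' w • b + w = κ w • a + κ' w • b := by
      rw [add_comm _ w, ← add_assoc, ← add_assoc, v_add_self, zero_add]
    rw [e]
    exact Submodule.add_mem _ (Submodule.smul_mem _ _ (Submodule.subset_span ha))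
      (Submodule.smul_mem _ _ (Submodule.subset_span hb)))
  obtain ⟨s, hs, e⟩ := h.exists_one ha ⟨‹_›, g, hg⟩ hκ0
  have h1 := htriv s
  rw [hform, ← hval s hs, e, one_smul, one_smul, add_assoc, hab] at h1
  exact hz0 (by simpa using h1)

/-- two points `p, q` which are exchanged by the group and whose sum is a point are near their sum -/
theorem near_add (h : SysW ρ Om) [Finite V] {p q r : V} (hr : r ∈ Om)
    (e : p + q = r) {g : H} (g1 : ρ g p = q) (g2 : ρ g q = p) : Near ρ Om r p := by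
  have hgr : ρ g r = r := by rw [← e, map_add, g1, g2, add_comm]
  obtain ⟨v, hv, hav⟩ := h.exists_adj hr
  obtain ⟨φ, hφ, h1⟩ := h.symm hr hv hav
  rw [← e, map_add] at h1
  rcases z2 (φ p) with e1 | e1
  · rw [e1, zero_add] at h1
    have h2 : Near ρ Om r q := ⟨v, hv, hav, φ, hφ, h1⟩
    have h3 := SysW.near_conj h h2 g
    rwa [hgr, g2] at h3
  · exact ⟨v, hv, hav, φ, hφ, e1⟩

end pure

variable {G : Type*} [Group G] {ι : Type*} [DecidableEq ι]

/-- The situation of (T). -/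
structure SitT (C W : Subgroup G) (ε : (ι → ZMod 2) → G) : Prop where
  sq : ∀ a ∈ W, a * a = 1
  nor : ∀ c ∈ C, ∀ w ∈ W, c * w * c⁻¹ ∈ W
  add : ∀ x y, ε (x + y) = ε x * ε y
  mem : ∀ x, ε x ∈ W
  inj : ∀ x, ε x = 1 → x = 0
  sym : ∀ σ : Equiv.Perm ι, ∃ n ∈ C, ∀ a : ι → ZMod 2, n * ε a * n⁻¹ = ε (a ∘ σ.symm)
  /-- `C` centralises `z` -/
  zf : ∀ c ∈ C, c * ε 1 = ε 1 * c
  /-- `O₂(C / C_C(W)) = 1` -/
  o2 : ∀ N : Subgroup G, N ≤ C → C ≤ Subgroup.normalizer (N : Set G) →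
    (∀ g ∈ N, ∃ k, g ^ 2 ^ k ∈ Subgroup.centralizer (W : Set G)) → N ≤ Subgroup.centralizer (W : Set G)

namespace SitT

variable {C W : Subgroup G} {ε : (ι → ZMod 2) → G}

theorem comm (h : SitT C W ε) {a b : G} (ha : a ∈ W) (hb : b ∈ W) : a * b = b * a := EA.comm_of h.sq ha hb

theorem inv_eq (h : SitT C W ε) {a : G} (ha : a ∈ W) : a⁻¹ = a := inv_eq_of_mul_eq_one_left (h.sq a ha)

/-- an element which is trivial on `W / U`, `U / ⟨z⟩`, `⟨z⟩` is trivial -/
theorem triv_of (h : SitT C W ε) {U : Subgroup G} (hUW : U ≤ W) (hUC : ∀ c ∈ C, ∀ u ∈ U, c * u * c⁻¹ ∈ U)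
    {z : G} (hzU : z ∈ U) (hz : ∀ c ∈ C, c * z = z * c) {g : G} (hg : g ∈ C)
    (h1 : ∀ u ∈ U, g * u * g⁻¹ = u ∨ g * u * g⁻¹ = u * z)
    (h2 : ∀ w ∈ W, g * w * g⁻¹ * w⁻¹ ∈ U) : ∀ w ∈ W, g * w * g⁻¹ = w := by
  have hzz : z * z = 1 := h.sq z (hUW hzU)
  let N : Subgroup G :=
    { carrier := {g | g ∈ C ∧ (∀ u ∈ U, g * u * g⁻¹ = u ∨ g * u * g⁻¹ = u * z) ∧
        ∀ w ∈ W, g * w * g⁻¹ * w⁻¹ ∈ U}
      one_mem' := ⟨C.one_mem, fun u _ => Or.inl (by group), fun w _ => by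
        have e : (1 : G) * w * 1⁻¹ * w⁻¹ = 1 := by group
        rw [e]; exact U.one_mem⟩
      mul_mem' := by
        rintro x y ⟨hx, x1, x2⟩ ⟨hy, y1, y2⟩
        refine ⟨C.mul_mem hx hy, fun u hu => ?_, fun w hw => ?_⟩
        · have e : x * y * u * (x * y)⁻¹ = x * (y * u * y⁻¹) * x⁻¹ := by group
          rw [e]
          rcases y1 u hu with e1 | e1 <;> rw [e1]
          · exact x1 u hu
          · have e2 : x * (u * z) * x⁻¹ = (x * u * x⁻¹) * z := by
              calc x * (u * z) * x⁻¹ = x * u * (z * x⁻¹) := by group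
                _ = x * u * (x⁻¹ * z) := by rw [← hz _ (C.inv_mem hx)]
                _ = (x * u * x⁻¹) * z := by group
            rw [e2]
            rcases x1 u hu with e3 | e3 <;> rw [e3]
            · exact Or.inr rfl
            · left; rw [mul_assoc, hzz, mul_one]
        · have e : x * y * w * (x * y)⁻¹ * w⁻¹ =
            (x * (y * w * y⁻¹ * w⁻¹) * x⁻¹) * (x * w * x⁻¹ * w⁻¹) := by group
          rw [e]
          exact U.mul_mem (hUC x hx _ (y2 w hw)) (x2 w hw)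
      inv_mem' := by
        rintro x ⟨hx, x1, x2⟩
        refine ⟨C.inv_mem hx, fun u hu => ?_, fun w hw => ?_⟩
        · have h3 : x⁻¹ * u * x⁻¹⁻¹ ∈ U := hUC _ (C.inv_mem hx) u hu
          rcases x1 _ h3 with e | e
          · left
            have e2 : x * (x⁻¹ * u * x⁻¹⁻¹) * x⁻¹ = u := by group
            rw [e2] at e
            exact e.symm
          · right
            have e2 : x * (x⁻¹ * u * x⁻¹⁻¹) * x⁻¹ = u := by group
            rw [e2] at e
            calc x⁻¹ * u * x⁻¹⁻¹ = x⁻¹ * u * x⁻¹⁻¹ * (z * z) := by rw [hzz, mul_one]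
              _ = x⁻¹ * u * x⁻¹⁻¹ * z * z := by group
              _ = u * z := by rw [← e]
        · have h3 := x2 _ (h.nor _ (C.inv_mem hx) w hw)
          have e2 : x * (x⁻¹ * w * x⁻¹⁻¹) * x⁻¹ * (x⁻¹ * w * x⁻¹⁻¹)⁻¹ = w * (x⁻¹ * w * x⁻¹⁻¹)⁻¹ := by group
          rw [e2] at h3
          have h4 := U.inv_mem h3
          have e3 : (w * (x⁻¹ * w * x⁻¹⁻¹)⁻¹)⁻¹ = x⁻¹ * w * x⁻¹⁻¹ * w⁻¹ := by group
          rwa [e3] at h4 }
  have hNC : N ≤ C := fun x hx => hx.1
  have hnn : C ≤ Subgroup.normalizer (N : Set G) := by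
    intro c hc
    have key : ∀ c ∈ C, ∀ x ∈ N, c * x * c⁻¹ ∈ N := by
      rintro c hc x ⟨hx, x1, x2⟩
      refine ⟨C.mul_mem (C.mul_mem hc hx) (C.inv_mem hc), fun u hu => ?_, fun w hw => ?_⟩
      · have h3 : c⁻¹ * u * c⁻¹⁻¹ ∈ U := hUC _ (C.inv_mem hc) u hu
        have e : c * x * c⁻¹ * u * (c * x * c⁻¹)⁻¹ = c * (x * (c⁻¹ * u * c⁻¹⁻¹) * x⁻¹) * c⁻¹ := by group
        rw [e]
        rcases x1 _ h3 with e1 | e1 <;> rw [e1]
        · left; group
        · right
          calc c * (c⁻¹ * u * c⁻¹⁻¹ * z) * c⁻¹ = u * (c * z) * c⁻¹ := by group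
            _ = u * (z * c) * c⁻¹ := by rw [hz c hc]
            _ = u * z := by group
      · have h3 : c⁻¹ * w * c⁻¹⁻¹ ∈ W := h.nor _ (C.inv_mem hc) w hw
        have e : c * x * c⁻¹ * w * (c * x * c⁻¹)⁻¹ * w⁻¹ =
          c * (x * (c⁻¹ * w * c⁻¹⁻¹) * x⁻¹ * (c⁻¹ * w * c⁻¹⁻¹)⁻¹) * c⁻¹ := by group
        rw [e]
        exact hUC c hc _ (x2 _ h3)
    rw [Subgroup.mem_normalizer_iff]
    intro x
    constructor
    · exact key c hc x
    · intro hx
      have h3 := key c⁻¹ (C.inv_mem hc) _ hx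
      have e : c⁻¹ * (c * x * c⁻¹) * c⁻¹⁻¹ = x := by group
      rwa [e] at h3
  have hpow : ∀ x ∈ N, ∃ k, x ^ 2 ^ k ∈ Subgroup.centralizer (W : Set G) := by
    rintro x ⟨hx, x1, x2⟩
    refine ⟨2, ?_⟩
    have hsq : ∀ w ∈ W, x * (x * w * x⁻¹) * x⁻¹ = w ∨ x * (x * w * x⁻¹) * x⁻¹ = w * z := by
      intro w hw
      set u := x * w * x⁻¹ * w⁻¹ with hu
      have hu' : x * w * x⁻¹ = u * w := by rw [hu]; group
      have huU : u ∈ U := x2 w hw
      have e : x * (x * w * x⁻¹) * x⁻¹ = (x * u * x⁻¹) * (u * w) := by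
        calc x * (x * w * x⁻¹) * x⁻¹ = x * (u * w) * x⁻¹ := by rw [hu']
          _ = (x * u * x⁻¹) * (x * w * x⁻¹) := by group
          _ = (x * u * x⁻¹) * (u * w) := by rw [hu']
      rw [e]
      have huu : u * u = 1 := h.sq u (hUW huU)
      rcases x1 u huU with e1 | e1 <;> rw [e1]
      · left; rw [← mul_assoc, huu, one_mul]
      · right
        have e2 : z * u = u * z := h.comm (hUW hzU) (hUW huU)
        calc u * z * (u * w) = u * (z * u) * w := by group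
          _ = (u * u) * z * w := by rw [e2]; group
          _ = w * z := by rw [huu, one_mul, h.comm (hUW hzU) hw]
    rw [Subgroup.mem_centralizer_iff]
    intro w hw
    have e4 : x ^ 2 ^ 2 * w * (x ^ 2 ^ 2)⁻¹ = x * (x * (x * (x * w * x⁻¹) * x⁻¹) * x⁻¹) * x⁻¹ := by
      have : x ^ 2 ^ 2 = x * x * x * x := by
        norm_num [pow_succ]
      rw [this]
      group
    have h5 : x ^ 2 ^ 2 * w * (x ^ 2 ^ 2)⁻¹ = w := by
      rw [e4]
      rcases hsq w hw with e | e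
      · rw [e]
        exact e
      · rw [e]
        have h6 : x * (x * (w * z) * x⁻¹) * x⁻¹ = x * (x * w * x⁻¹) * x⁻¹ * z := by
          have h7 : x * z = z * x := hz x hx
          have h8 : z * x⁻¹ = x⁻¹ * z := (hz _ (C.inv_mem hx)).symm
          calc x * (x * (w * z) * x⁻¹) * x⁻¹ = x * x * w * (z * x⁻¹) * x⁻¹ := by group
            _ = x * x * w * (x⁻¹ * z) * x⁻¹ := by rw [h8]
            _ = x * x * w * x⁻¹ * (z * x⁻¹) := by group
            _ = x * x * w * x⁻¹ * (x⁻¹ * z) := by rw [h8]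
            _ = x * (x * w * x⁻¹) * x⁻¹ * z := by group
        rw [h6, e, mul_assoc, hzz, mul_one]
    rw [mul_inv_eq_iff_eq_mul] at h5
    exact h5.symm
  have hfin := h.o2 N hNC hnn hpow (show g ∈ N from ⟨hg, h1, h2⟩)
  intro w hw
  rw [Subgroup.mem_centralizer_iff] at hfin
  rw [← hfin w hw]
  group

/-- `x_pq` -/
def X (h : SitT C W ε) (p q : ι) : EA W h.sq := EA.mk h.sq (ε (Pi.single p 1 + Pi.single q 1)) (h.mem _)

/-- the representation -/
noncomputable def rep (h : SitT C W ε) : C →* (EA W h.sq ≃ₗ[ZMod 2] EA W h.sq) := EA.crep h.sq C h.nor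

@[simp] theorem val_rep (h : SitT C W ε) (g : C) (a : EA W h.sq) :
    (h.rep g a).val = (g : G) * a.val * (g : G)⁻¹ := rfl

/-- the orbit of `x_pq` -/
def pts (h : SitT C W ε) (p q : ι) : Set (EA W h.sq) := {a | ∃ c : C, a = h.rep c (h.X p q)}

theorem single_comp (σ : Equiv.Perm ι) (p : ι) :
    (Pi.single p 1 : ι → ZMod 2) ∘ σ.symm = Pi.single (σ p) 1 := by
  funext m
  simp only [Function.comp_apply, Pi.single_apply, Equiv.symm_apply_eq]

theorem act_X (h : SitT C W ε) (σ : Equiv.Perm ι) : ∃ g : C, ∀ p q, h.rep g (h.X p q) = h.X (σ p) (σ q) := by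
  obtain ⟨n, hn, e⟩ := h.sym σ
  refine ⟨⟨n, hn⟩, fun p q => EA.ext ?_⟩
  rw [h.val_rep]
  change n * ε _ * n⁻¹ = ε _
  rw [e]
  congr 1
  rw [Pi.add_comp, single_comp, single_comp]

theorem X_add (h : SitT C W ε) (p q r : ι) : h.X p q + h.X q r = h.X p r := by
  apply EA.ext
  change ε _ * ε _ = ε _
  rw [← h.add]
  congr 1
  funext m
  simp only [Pi.add_apply]
  have := z2_add_self ((Pi.single q 1 : ι → ZMod 2) m)
  calc (Pi.single p 1 : ι → ZMod 2) m + (Pi.single q 1 : ι → ZMod 2) m +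
      ((Pi.single q 1 : ι → ZMod 2) m + (Pi.single r 1 : ι → ZMod 2) m)
      = (Pi.single p 1 : ι → ZMod 2) m + ((Pi.single q 1 : ι → ZMod 2) m + (Pi.single q 1 : ι → ZMod 2) m) +
        (Pi.single r 1 : ι → ZMod 2) m := by ring
    _ = _ := by rw [this, add_zero]

theorem X_comm (h : SitT C W ε) (p q : ι) : h.X p q = h.X q p := by
  apply EA.ext
  change ε _ = ε _
  rw [add_comm]

theorem X_ne (h : SitT C W ε) {p q : ι} (hpq : p ≠ q) : h.X p q ≠ 0 := by
  intro e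
  have h1 : ε (Pi.single p 1 + Pi.single q 1) = 1 := EA.val_eq_one.2 e
  have h2 := congrFun (h.inj _ h1) p
  rw [Pi.add_apply, Pi.single_eq_same, Pi.single_eq_of_ne hpq, add_zero] at h2
  exact one_ne_zero h2

/-- the system of the light transvections -/
theorem sys (h : SitT C W ε) {p q : ι} (hpq : p ≠ q) {τ : G} (hτ : τ ∈ C)
    (htv : ∀ w ∈ W, τ * w * τ⁻¹ = w ∨ τ * w * τ⁻¹ = w * ε (Pi.single p 1 + Pi.single q 1))
    (hne : ∃ w ∈ W, τ * w * τ⁻¹ ≠ w) : SysW h.rep (h.pts p q) where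
  zero := by
    rintro ⟨c, e⟩
    refine h.X_ne hpq ?_
    have h1 := congrArg (h.rep c⁻¹) e
    rw [map_zero, rinv] at h1
    exact h1.symm
  inv := by
    rintro g _ ⟨c, rfl⟩
    exact ⟨g * c, by rw [rmul]⟩
  trans := by
    rintro _ ⟨c, rfl⟩ _ ⟨d, rfl⟩
    exact ⟨d * c⁻¹, by rw [rmul, rinv]⟩
  ex := by
    refine ⟨h.X p q, ⟨1, by rw [rone]⟩, ?_⟩
    obtain ⟨φ, hφ⟩ := exists_functional (h.rep ⟨τ, hτ⟩) (h.X_ne hpq) (fun a => by
      rcases htv a.val a.val_mem with e | e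
      · exact Or.inl (EA.ext e)
      · exact Or.inr (EA.ext e))
    refine ⟨φ, ?_, ?_, ⟨τ, hτ⟩, hφ⟩
    · rintro rfl
      obtain ⟨w, hw, e⟩ := hne
      apply e
      have h1 := hφ (EA.mk h.sq w hw)
      rw [LinearMap.zero_apply, zero_smul, add_zero] at h1
      exact congrArg EA.val h1
    · by_contra hcon
      have h1 := hφ (h.X p q)
      rw [z2_ne_zero hcon, one_smul, v_add_self] at h1
      have h2 := congrArg (h.rep (⟨τ, hτ⟩ : C)⁻¹) h1
      rw [map_zero, rinv] at h2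
      exact h.X_ne hpq h2
  chain := by
    intro U hU g h1 h2 v
    apply EA.ext
    rw [h.val_rep]
    refine h.triv_of (U := EA.toSub U) (z := 1) ?_ ?_ (Subgroup.one_mem _) (fun c _ => by rw [mul_one, one_mul])
      g.2 ?_ ?_ v.val v.val_mem
    · rintro _ ⟨a, _, rfl⟩
      exact a.val_mem
    · rintro c hc _ ⟨a, ha, rfl⟩
      exact ⟨_, hU ⟨c, hc⟩ a ha, rfl⟩
    · rintro _ ⟨a, ha, rfl⟩
      exact Or.inl (congrArg EA.val (h1 a ha))
    · intro n hn
      have h3 := h2 (EA.mk h.sq n hn)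
      refine ⟨_, h3, ?_⟩
      rw [EA.val_add, h.val_rep, EA.val_mk, h.inv_eq hn]

/-- **(T), `N = 4`**: no element of `C` is a transvection of `W` with centre `x_pq`. -/
theorem no_light' [Finite G] (h : SitT C W ε) (hι : Nat.card ι = 4) {p q : ι} (hpq : p ≠ q) {τ : G} (hτ : τ ∈ C)
    (htv : ∀ w ∈ W, τ * w * τ⁻¹ = w ∨ τ * w * τ⁻¹ = w * ε (Pi.single p 1 + Pi.single q 1)) :
    ∀ w ∈ W, τ * w * τ⁻¹ = w := by
  by_contra hcon
  push Not at hcon
  have hs := h.sys hpq hτ htv hcon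
  have : Finite ι := Nat.finite_of_card_ne_zero (by rw [hι]; norm_num)
  have := Fintype.ofFinite ι
  -- the other two letters
  have hcard : Fintype.card ι = 4 := by rw [← Nat.card_eq_fintype_card, hι]
  obtain ⟨r, s, hpr, hqr, hps, hqs, hrs, hall⟩ : ∃ r s : ι, p ≠ r ∧ q ≠ r ∧ p ≠ s ∧ q ≠ s ∧ r ≠ s ∧
      ∀ m, m = p ∨ m = q ∨ m = r ∨ m = s := by
    have h1 : (Finset.univ \ {p, q} : Finset ι).card = 2 := by
      rw [Finset.card_sdiff_of_subset (Finset.subset_univ _), Finset.card_univ, hcard,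
        Finset.card_pair hpq]
    obtain ⟨r, s, hrs, e⟩ := Finset.card_eq_two.1 h1
    have hr : r ∈ (Finset.univ \ {p, q} : Finset ι) := by rw [e]; simp
    have hs' : s ∈ (Finset.univ \ {p, q} : Finset ι) := by rw [e]; simp
    simp only [Finset.mem_sdiff, Finset.mem_univ, true_and, Finset.mem_insert, Finset.mem_singleton,
      not_or] at hr hs'
    refine ⟨r, s, fun e => hr.1 e.symm, fun e => hr.2 e.symm, fun e => hs'.1 e.symm, fun e => hs'.2 e.symm,
      hrs, fun m => ?_⟩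
    by_cases hm : m ∈ ({p, q} : Finset ι)
    · simp only [Finset.mem_insert, Finset.mem_singleton] at hm
      rcases hm with rfl | rfl
      · exact Or.inl rfl
      · exact Or.inr (Or.inl rfl)
    · have hm' : m ∈ (Finset.univ \ {p, q} : Finset ι) := by
        simp only [Finset.mem_sdiff, Finset.mem_univ, true_and]
        exact hm
      rw [e] at hm'
      simp only [Finset.mem_insert, Finset.mem_singleton] at hm'
      rcases hm' with rfl | rfl
      · exact Or.inr (Or.inr (Or.inl rfl))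
      · exact Or.inr (Or.inr (Or.inr rfl))
  have hpq_mem : h.X p q ∈ h.pts p q := ⟨1, by rw [rone]⟩
  have mv : ∀ {a b : ι}, h.X a b ∈ h.pts p q → ∀ σ : Equiv.Perm ι, h.X (σ a) (σ b) ∈ h.pts p q := by
    intro a b hab σ
    obtain ⟨g, hg⟩ := h.act_X σ
    rw [← hg]
    exact hs.inv g _ hab
  -- x_qr
  have hqr_mem : h.X q r ∈ h.pts p q := by
    have := mv hpq_mem (Equiv.swap p r)
    rw [Equiv.swap_apply_left, Equiv.swap_apply_of_ne_of_ne hpq.symm hqr, h.X_comm] at this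
    exact this
  have hrs_mem : h.X r s ∈ h.pts p q := by
    have := mv hqr_mem (Equiv.swap q s)
    rw [Equiv.swap_apply_left, Equiv.swap_apply_of_ne_of_ne hqr.symm hrs, h.X_comm] at this
    exact this
  -- nearness
  have n1 : Near h.rep (h.pts p q) (h.X q r) (h.X p q) := by
    obtain ⟨g, hg⟩ := h.act_X (Equiv.swap q r)
    refine near_add hs hqr_mem (p := h.X p q) (q := h.X p r) (g := g) ?_ ?_ ?_
    · rw [h.X_comm p q]; exact h.X_add q p r
    · rw [hg, Equiv.swap_apply_left, Equiv.swap_apply_of_ne_of_ne hpq hpr]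
    · rw [hg, Equiv.swap_apply_right, Equiv.swap_apply_of_ne_of_ne hpq hpr]
  have n2 : Near h.rep (h.pts p q) (h.X q r) (h.X r s) := by
    obtain ⟨g, hg⟩ := h.act_X (Equiv.swap q r)
    refine near_add hs hqr_mem (p := h.X r s) (q := h.X q s) (g := g) ?_ ?_ ?_
    · rw [h.X_comm r s, h.X_comm q s, add_comm, h.X_comm s q]
      rw [h.X_comm s r, add_comm, h.X_comm r s, add_comm]
      exact h.X_add q s r ▸ by rw [h.X_comm s r]
    · rw [hg, Equiv.swap_apply_right, Equiv.swap_apply_of_ne_of_ne hqs.symm hrs.symm]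
    · rw [hg, Equiv.swap_apply_left, Equiv.swap_apply_of_ne_of_ne hqs.symm hrs.symm]
  have hnear : Near h.rep (h.pts p q) (h.X p q) (h.X r s) :=
    hs.near_trans hpq_mem hqr_mem hrs_mem (hs.near_symm hqr_mem hpq_mem n1) n2
  -- z
  set Z : EA W h.sq := EA.mk h.sq (ε 1) (h.mem _) with hZ
  have hsum : h.X p q + h.X r s = Z := by
    apply EA.ext
    change ε _ * ε _ = ε 1
    rw [← h.add]
    congr 1
    funext m
    simp only [Pi.add_apply, Pi.one_apply]
    rcases hall m with rfl | rfl | rfl | rfl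
    · rw [Pi.single_eq_same, Pi.single_eq_of_ne hpq, Pi.single_eq_of_ne hpr, Pi.single_eq_of_ne hps]; rfl
    · rw [Pi.single_eq_same, Pi.single_eq_of_ne hpq.symm, Pi.single_eq_of_ne hqr, Pi.single_eq_of_ne hqs]; rfl
    · rw [Pi.single_eq_same, Pi.single_eq_of_ne hpr.symm, Pi.single_eq_of_ne hqr.symm,
        Pi.single_eq_of_ne hrs]; rfl
    · rw [Pi.single_eq_same, Pi.single_eq_of_ne hps.symm, Pi.single_eq_of_ne hqs.symm,
        Pi.single_eq_of_ne hrs.symm]; rfl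
  have hZ0 : Z ≠ 0 := by
    intro e
    have h1 : ε 1 = 1 := EA.val_eq_one.2 e
    have h2 := congrFun (h.inj _ h1) p
    exact one_ne_zero h2
  have hZf : ∀ g, h.rep g Z = Z := by
    intro g
    apply EA.ext
    rw [h.val_rep]
    change (g : G) * ε 1 * (g : G)⁻¹ = ε 1
    rw [h.zf g g.2]
    group
  refine false_of_pair hs hZ0 hZf ?_ hpq_mem hrs_mem hsum hnear
  intro g h1 h2 w
  apply EA.ext
  rw [h.val_rep]
  have hZs : Z ∈ Submodule.span (ZMod 2) (h.pts p q) := by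
    rw [← hsum]
    exact Submodule.add_mem _ (Submodule.subset_span hpq_mem) (Submodule.subset_span hrs_mem)
  have hinv : ∀ g : C, ∀ u ∈ Submodule.span (ZMod 2) (h.pts p q),
      h.rep g u ∈ Submodule.span (ZMod 2) (h.pts p q) := by
    intro k u hu
    have h2 : Submodule.span (ZMod 2) (h.pts p q) ≤ (Submodule.span (ZMod 2) (h.pts p q)).comap
        ((h.rep k : EA W h.sq ≃ₗ[ZMod 2] EA W h.sq).toLinearMap) :=
      Submodule.span_le.2 fun s hs' => Submodule.subset_span (hs.inv k s hs')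
    exact h2 hu
  refine h.triv_of (U := EA.toSub (Submodule.span (ZMod 2) (h.pts p q))) (z := ε 1) ?_ ?_ ⟨Z, hZs, rfl⟩
    h.zf g.2 ?_ ?_ w.val w.val_mem
  · rintro _ ⟨a, _, rfl⟩
    exact a.val_mem
  · rintro c hc _ ⟨a, ha, rfl⟩
    exact ⟨_, hinv ⟨c, hc⟩ a ha, rfl⟩
  · rintro _ ⟨a, ha, rfl⟩
    rcases h1 a ha with e | e
    · exact Or.inl (congrArg EA.val e)
    · exact Or.inr (congrArg EA.val e)
  · intro n hn
    have h3 := h2 (EA.mk h.sq n hn)
    refine ⟨_, h3, ?_⟩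
    rw [EA.val_add, h.val_rep, EA.val_mk, h.inv_eq hn]

/-- **(T), `N = 4`**, for conjugate centres. -/
theorem no_light [Finite G] (h : SitT C W ε) (hι : Nat.card ι = 4) {p q : ι} (hpq : p ≠ q) {τ m : G} (hτ : τ ∈ C)
    (hm : m ∈ C)
    (htv : ∀ w ∈ W, τ * w * τ⁻¹ = w ∨ τ * w * τ⁻¹ = w * (m * ε (Pi.single p 1 + Pi.single q 1) * m⁻¹)) :
    τ ∈ Subgroup.centralizer (W : Set G) := by
  have h1 := h.no_light' hι hpq (τ := m⁻¹ * τ * m) (C.mul_mem (C.mul_mem (C.inv_mem hm) hτ) hm) (fun w hw => by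
    have h2 : m * w * m⁻¹ ∈ W := h.nor m hm w hw
    have e : m⁻¹ * τ * m * w * (m⁻¹ * τ * m)⁻¹ = m⁻¹ * (τ * (m * w * m⁻¹) * τ⁻¹) * m := by group
    rw [e]
    rcases htv _ h2 with e1 | e1 <;> rw [e1]
    · left; group
    · right; group)
  rw [Subgroup.mem_centralizer_iff]
  intro w hw
  have h2 : m⁻¹ * w * m ∈ W := by
    have := h.nor _ (C.inv_mem hm) w hw
    rwa [inv_inv] at this
  have h3 := h1 _ h2
  have e : m⁻¹ * τ * m * (m⁻¹ * w * m) * (m⁻¹ * τ * m)⁻¹ = m⁻¹ * (τ * w * τ⁻¹) * m := by group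
  rw [e] at h3
  have h4 : τ * w * τ⁻¹ = w := by
    have h5 := congrArg (fun x => m * x * m⁻¹) h3
    have e1 : m * (m⁻¹ * (τ * w * τ⁻¹) * m) * m⁻¹ = τ * w * τ⁻¹ := by group
    have e2 : m * (m⁻¹ * w * m) * m⁻¹ = w := by group
    simp only [e1, e2] at h5
    exact h5
  rw [mul_inv_eq_iff_eq_mul] at h4
  exact h4.symm

end SitT

end Cfsg.Agent.Omega.NO3S.SN2.LightFour
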