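import Cfsg.Agent.Omega.NO3S.SN2.LightFour
import Cfsg.Agent.Omega.NO3S.SN2.Light.Group

/-!
# SN.Two, `n = 7`: there is no transvection with light centre ((T), `N = 6`, helper491, OMEGA #23594)

For `N = 6` letters the light vectors alone do not suffice (`Sp₄(2) = S₆`, the orthogonal modules `O_{2r+1}(2)` satisfy
(A)-(D) of #22394); the heavy vectors `a i = zᵢ` are used.

* `Six ρ Om a` : the pure situation; `Fd` : the functionals of the transvections on all of `V`;
* `Six.no4` **(b)** : no `c ∈ Om` with `|{i | f_c (a i) = 1}| = 4` (the product of three orthogonal transvections maps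
  `a i` to `a i + z`);
* `Six.eq_x` **(c)** : `f_c (a k) = [k ∈ {i, j}]` implies `c = a i + a j`;
* `no_light_six` : two such families `a`, `a'` with `a i + a j = a' i + a' j`, `a i + a d` not an `a' k + a' l` do not
  exist;
* `SitT.no_light_six` : in the group.
-/

set_option autoImplicit false
set_option linter.unusedSectionVars false

namespace Cfsg.Agent.Omega.NO3S.SN2.LightSix

open Module Cfsg.Agent.Omega.TV
open Cfsg.Agent.Omega.TV.Sys (Near rad Big Clo)
open Cfsg.Agent.Omega.NO3S.SN2.Light (chi chi_left chi_right chi_of_ne of_chi)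

section pure

variable {H : Type*} [Group H] {V : Type*} [AddCommGroup V] [Module (ZMod 2) V]
  {ρ : H →* (V ≃ₗ[ZMod 2] V)} {Om : Set V}

/-- `O₂ = 1` kills the elements acting trivially on the factors of a chain of length three -/
theorem chain3 (o2 : ∀ K : Subgroup H, K.Normal → (∀ k ∈ K, ∃ m : ℕ, ∀ v, ρ (k ^ 2 ^ m) v = v) → ∀ k ∈ K, ∀ v, ρ k v = v)
    (U₁ U₂ : Submodule (ZMod 2) V) (h1 : ∀ g, ∀ u ∈ U₁, ρ g u ∈ U₁) (h2 : ∀ g, ∀ u ∈ U₂, ρ g u ∈ U₂)
    {g : H} (g1 : ∀ u ∈ U₁, ρ g u = u) (g2 : ∀ u ∈ U₂, ρ g u + u ∈ U₁) (g3 : ∀ v, ρ g v + v ∈ U₂) :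
    ∀ v, ρ g v = v := by
  let K : Subgroup H :=
    { carrier := {g | (∀ u ∈ U₁, ρ g u = u) ∧ (∀ u ∈ U₂, ρ g u + u ∈ U₁) ∧ ∀ v, ρ g v + v ∈ U₂}
      one_mem' := ⟨fun u _ => rone ρ u, fun u _ => by rw [rone, v_add_self]; exact U₁.zero_mem,
        fun v => by rw [rone, v_add_self]; exact U₂.zero_mem⟩
      mul_mem' := by
        rintro x y ⟨x1, x2, x3⟩ ⟨y1, y2, y3⟩
        refine ⟨fun u hu => by rw [rmul, y1 u hu, x1 u hu], fun u hu => ?_, fun v => ?_⟩
        · have e : ρ (x * y) u + u = ρ x (ρ y u + u) + (ρ x u + u) := by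
            rw [rmul, map_add, add_assoc, ← add_assoc (ρ x u), v_add_self, zero_add]
          rw [e]
          exact U₁.add_mem (h1 x _ (y2 u hu)) (x2 u hu)
        · have e : ρ (x * y) v + v = ρ x (ρ y v + v) + (ρ x v + v) := by
            rw [rmul, map_add, add_assoc, ← add_assoc (ρ x v), v_add_self, zero_add]
          rw [e]
          exact U₂.add_mem (h2 x _ (y3 v)) (x3 v)
      inv_mem' := by
        rintro x ⟨x1, x2, x3⟩
        have e : ∀ u, ρ x⁻¹ u + u = ρ x⁻¹ (ρ x u + u) := fun u => by rw [map_add, rinv, add_comm]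
        refine ⟨fun u hu => ?_, fun u hu => ?_, fun v => ?_⟩
        · have h3 := rinv (ρ := ρ) x u
          rwa [x1 u hu] at h3
        · rw [e]
          exact h1 _ _ (x2 u hu)
        · rw [e]
          exact h2 _ _ (x3 v) }
  have hK : K.Normal := by
    constructor
    rintro x ⟨x1, x2, x3⟩ k
    have e : ∀ u, ρ (k * x * k⁻¹) u + u = ρ k (ρ x (ρ k⁻¹ u) + ρ k⁻¹ u) := fun u => by
      rw [rmul, rmul, map_add, rinv']
    refine ⟨fun u hu => ?_, fun u hu => ?_, fun v => ?_⟩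
    · rw [rmul, rmul, x1 _ (h1 _ u hu), rinv']
    · rw [e]
      exact h1 _ _ (x2 _ (h2 _ u hu))
    · rw [e]
      exact h2 _ _ (x3 _)
  refine o2 K hK ?_ g ⟨g1, g2, g3⟩
  rintro k ⟨k1, k2, k3⟩
  refine ⟨2, fun v => ?_⟩
  -- the square
  have hsq : ∀ v, ∃ y ∈ U₁, ρ k (ρ k v) = v + y := by
    intro v
    refine ⟨ρ k (ρ k v + v) + (ρ k v + v), k2 _ (k3 v), ?_⟩
    rw [map_add]
    have e1 : ρ k (ρ k v) + ρ k v + (ρ k v + v) = ρ k (ρ k v) + (ρ k v + ρ k v) + v := by abel
    rw [e1, v_add_self, add_zero, add_comm (ρ k (ρ k v)) v, ← add_assoc, v_add_self, zero_add]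
  have e4 : k ^ 2 ^ 2 = k * k * (k * k) := by
    norm_num [pow_succ, mul_assoc]
  rw [e4, rmul, rmul, rmul]
  obtain ⟨y, hy, e⟩ := hsq v
  rw [e, map_add, map_add, k1 y hy, k1 y hy, e, add_assoc, v_add_self, add_zero]

/-- The functionals. -/
structure Fd (ρ : H →* (V ≃ₗ[ZMod 2] V)) (Om : Set V) (F : V → Dual (ZMod 2) V) : Prop where
  ne : ∀ c ∈ Om, F c ≠ 0
  fn : ∀ c ∈ Om, Fn ρ c (F c)
  uniq : ∀ c ∈ Om, ∀ φ, φ ≠ 0 → Fn ρ c φ → φ = F c

theorem exists_fd (h : SysW ρ Om) (hB : ¬ Big ρ Om) : ∃ F, Fd ρ Om F := by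
  classical
  have hex : ∀ r : V, ∃ φ : Dual (ZMod 2) V, r ∈ Om → φ ≠ 0 ∧ Fn ρ r φ := by
    intro r
    by_cases hr : r ∈ Om
    · obtain ⟨φ, h1, h2⟩ := h.exists_fn hr
      exact ⟨φ, fun _ => ⟨h1, h2⟩⟩
    · exact ⟨0, fun e => absurd e hr⟩
  choose F hF using hex
  refine ⟨F, fun c hc => (hF c hc).1, fun c hc => (hF c hc).2, fun c hc φ h1 h2 => ?_⟩
  by_contra h3
  exact hB (h.big_of hc h2 (hF c hc).2 h1 (hF c hc).1 h3)

namespace Fd

variable {F : V → Dual (ZMod 2) V} (hF : Fd ρ Om F) (h : SysW ρ Om)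

include hF h

theorem self {c : V} (hc : c ∈ Om) : F c c = 0 := (hF.fn c hc).1

theorem symm [Finite V] {c d : V} (hc : c ∈ Om) (hd : d ∈ Om) : F c d = F d c := by
  have key : ∀ c ∈ Om, ∀ d ∈ Om, F c d = 1 → F d c = 1 := by
    intro c hc d hd e
    obtain ⟨φ, hφ, e1⟩ := h.symm hc hd ⟨F c, hF.fn c hc, e⟩
    rw [← hF.uniq d hd φ (by
      rintro rfl
      rw [LinearMap.zero_apply] at e1
      exact zero_ne_one e1) hφ]
    exact e1
  rcases z2 (F c d) with e | e
  · rcases z2 (F d c) with e' | e'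
    · rw [e, e']
    · rw [key d hd c hc e', e']
  · rw [e, key c hc d hd e]

/-- a step -/
theorem step [Finite V] {c d : V} (hc : c ∈ Om) (hd : d ∈ Om) (e : F c d = 1) :
    c + d ∈ Om ∧ F (c + d) = F c + F d := by
  have h1 : d + c ∈ Om := h.add_mem hd ⟨F c, hF.fn c hc, e⟩
  rw [add_comm] at h1
  refine ⟨h1, ?_⟩
  have e' : F d c = 1 := by rw [hF.symm h hd hc, e]
  have h2 := Fn.cc (hF.fn c hc) (hF.fn d hd)
  rw [e, e', one_smul, one_smul] at h2
  refine (hF.uniq _ h1 _ (fun h0 => ?_) h2).symm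
  have h3 := LinearMap.congr_fun h0 c
  rw [LinearMap.add_apply, hF.self h hc, e', LinearMap.zero_apply, zero_add] at h3
  exact one_ne_zero h3

theorem inv {c w : V} (hc : c ∈ Om) (g : H) : F (ρ g c) (ρ g w) = F c w := by
  have h1 := (hF.fn c hc).conj g
  have h2 : (F c) ∘ₗ (ρ g⁻¹ : V ≃ₗ[ZMod 2] V).toLinearMap ≠ 0 := by
    intro e
    apply hF.ne c hc
    ext x
    have := LinearMap.congr_fun e (ρ g x)
    simpa using this
  rw [← hF.uniq _ (h.inv g c hc) _ h2 h1]
  simp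

theorem fix {z : V} (hz : ∀ g, ρ g z = z) {c : V} (hc : c ∈ Om) : F c z = 0 :=
  LightFour.fix_fn h hz hc (hF.fn c hc)

end Fd

variable {ι : Type*} [DecidableEq ι] [Fintype ι]

/-- The pure situation, six letters; `a i` are the heavy vectors of a line. -/
structure Six (ρ : H →* (V ≃ₗ[ZMod 2] V)) (Om : Set V) (a : ι → V) : Prop where
  card : Fintype.card ι = 6
  mem : ∀ i j, i ≠ j → a i + a j ∈ Om
  perm : ∀ σ : Equiv.Perm ι, ∃ g, ∀ i, ρ g (a i) = a (σ i)
  four : ∀ i j k l, i ≠ j → i ≠ k → i ≠ l → j ≠ k → j ≠ l → k ≠ l → a i + a j + (a k + a l) ∉ Om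
  three : ∀ g i j k, i ≠ j → i ≠ k → j ≠ k → ρ g (a i) ≠ a i + (a j + a k)
  zz : ∀ g i, ρ g (a i) ≠ a i + ∑ k, a k
  fix : ∀ g, ρ g (∑ k, a k) = ∑ k, a k

namespace Six

variable {a : ι → V} (hA : Six ρ Om a)

include hA

/-- a letter outside a list of at most five letters -/
theorem fresh (l : List ι) (hl : l.length ≤ 5) : ∃ i, i ∉ l := by
  by_contra hcon
  push Not at hcon
  have h1 : (Finset.univ : Finset ι) ⊆ l.toFinset := fun i _ => List.mem_toFinset.2 (hcon i)
  have h2 := (Finset.card_le_card h1).trans l.toFinset_card_le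
  rw [Finset.card_univ, hA.card] at h2
  omega

/-- six different letters are all the letters -/
theorem sum_six {i j k l p q : ι} (hn : [i, j, k, l, p, q].Nodup) :
    ∑ m, a m = a i + (a j + (a k + (a l + (a p + a q)))) := by
  have h1 : ([i, j, k, l, p, q].toFinset : Finset ι) = Finset.univ := by
    apply Finset.eq_univ_of_card
    rw [List.toFinset_card_of_nodup hn, hA.card]
    rfl
  rw [← h1, List.sum_toFinset _ hn]
  simp

theorem near (h : SysW ρ Om) [Finite V] {i j k l : ι} (h1 : i ≠ j) (h2 : i ≠ k) (h3 : i ≠ l) (h4 : j ≠ k)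
    (h5 : j ≠ l) (h6 : k ≠ l) : Near ρ Om (a i + a j) (a k + a l) := by
  -- two pairs with a common letter
  have key : ∀ i j k, i ≠ j → i ≠ k → j ≠ k → Near ρ Om (a j + a k) (a i + a j) := by
    intro i j k hij hik hjk
    obtain ⟨g, hg⟩ := hA.perm (Equiv.swap j k)
    have e1 : ρ g (a i) = a i := by rw [hg, Equiv.swap_apply_of_ne_of_ne hij hik]
    have e2 : ρ g (a j) = a k := by rw [hg, Equiv.swap_apply_left]
    have e3 : ρ g (a k) = a j := by rw [hg, Equiv.swap_apply_right]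
    refine LightFour.near_add h (hA.mem j k hjk) (p := a i + a j) (q := a i + a k) (g := g) ?_ ?_ ?_
    · calc a i + a j + (a i + a k) = (a i + a i) + (a j + a k) := by abel
        _ = _ := by rw [v_add_self, zero_add]
    · rw [map_add, e1, e2]
    · rw [map_add, e1, e3]
  have n1 : Near ρ Om (a j + a k) (a i + a j) := key i j k h1 h2 h4
  have n2 : Near ρ Om (a k + a l) (a j + a k) := key j k l h4 h5 h6
  exact h.near_symm (hA.mem k l h6) (hA.mem i j h1)
    (h.near_trans (hA.mem k l h6) (hA.mem j k h4) (hA.mem i j h1) n2 n1)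

theorem not_big (h : SysW ρ Om) [Finite V] : ¬ Big ρ Om := by
  intro hB
  obtain ⟨i, -⟩ := hA.fresh [] (by simp)
  obtain ⟨j, hj⟩ := hA.fresh [i] (by simp)
  obtain ⟨k, hk⟩ := hA.fresh [i, j] (by simp)
  obtain ⟨l, hl⟩ := hA.fresh [i, j, k] (by simp)
  simp only [List.mem_cons, List.not_mem_nil, or_false, not_or] at hj hk hl
  have h1 := hA.near h (Ne.symm hj) (Ne.symm hk.1) (Ne.symm hl.1) (Ne.symm hk.2) (Ne.symm hl.2.1) (Ne.symm hl.2.2)
  have h4 := hA.four i j k l (Ne.symm hj) (Ne.symm hk.1) (Ne.symm hl.1) (Ne.symm hk.2) (Ne.symm hl.2.1)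
    (Ne.symm hl.2.2)
  have hne : a i + a j ≠ a k + a l := by
    intro e
    have h5 := hA.mem i k (Ne.symm hk.1)
    have h6 := hA.four i k j l (Ne.symm hk.1) (Ne.symm hj) (Ne.symm hl.1) hk.2 (Ne.symm hl.2.2) (Ne.symm hl.2.1)
    -- the sum is zero, so `a i + a k = a j + a l`
    have h7 : a i + a k + (a j + a l) = 0 := by
      calc a i + a k + (a j + a l) = a i + a j + (a k + a l) := by abel
        _ = 0 := by rw [e, v_add_self]
    -- `a i ↦ a i + (a j + a k) = a l`
    obtain ⟨g, hg⟩ := hA.perm (Equiv.swap i l)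
    refine hA.three g i j k (Ne.symm hj) (Ne.symm hk.1) (Ne.symm hk.2) ?_
    rw [hg, Equiv.swap_apply_left]
    apply v_eq_of_add
    calc a l + (a i + (a j + a k)) = a i + a k + (a j + a l) := by abel
      _ = 0 := h7
  have h8 := h.adj_of_near hB (hA.mem i j (Ne.symm hj)) (hA.mem k l (Ne.symm hl.2.2)) hne h1
  have h9 := h.add_mem (hA.mem k l (Ne.symm hl.2.2)) h8
  rw [add_comm] at h9
  exact h4 h9

variable {F : V → Dual (ZMod 2) V} (hF : Fd ρ Om F) (h : SysW ρ Om)

include hF h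

/-- values outside the pair -/
theorem out {i j k : ι} (hij : i ≠ j) (hki : k ≠ i) (hkj : k ≠ j) : F (a i + a j) (a k) = 0 := by
  refine z2_ne_one fun e => ?_
  obtain ⟨_, g, hg⟩ := hF.fn _ (hA.mem i j hij)
  refine hA.three g k i j hki hkj hij ?_
  rw [hg, e, one_smul]

theorem ev {c : V} (hc : c ∈ Om) : ∑ k, F c (a k) = 0 := by
  rw [← map_sum]
  exact hF.fix h hA.fix hc

theorem ins' {i j : ι} (hij : i ≠ j) : F (a i + a j) (a j) = F (a i + a j) (a i) := by
  have h1 := hF.self h (hA.mem i j hij)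
  rw [map_add] at h1
  exact (v_eq_of_add h1).symm

/-- a second letter with value `0` -/
theorem exists_zero {c : V} (hc : c ∈ Om) {i j : ι} (hi : F c (a i) = 1) (hj : F c (a j) = 0) :
    ∃ k, k ≠ i ∧ k ≠ j ∧ F c (a k) = 0 := by
  by_contra hcon
  push Not at hcon
  have hij : i ≠ j := by
    rintro rfl
    rw [hi] at hj
    exact one_ne_zero hj
  have h1 := hA.ev hF h hc
  have h2 : ∀ k, F c (a k) = 1 + (if k = j then 1 else 0) := by
    intro k
    by_cases hk : k = j
    · rw [if_pos hk, hk, hj]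
      decide
    · rw [if_neg hk, add_zero]
      by_cases hki : k = i
      · rw [hki, hi]
      · exact z2_ne_zero (hcon k hki hk)
  rw [Finset.sum_congr rfl fun k _ => h2 k, Finset.sum_add_distrib, Finset.sum_const, Finset.card_univ, hA.card,
    Finset.sum_ite_eq' Finset.univ j, if_pos (Finset.mem_univ _)] at h1
  revert h1
  decide

theorem ins [Finite V] {i j : ι} (hij : i ≠ j) : F (a i + a j) (a i) = 1 := by
  by_contra hcon
  have h0 := z2_ne_one hcon
  -- all the functionals of pairs vanish on the `a k`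
  have hz : ∀ p q k, p ≠ q → F (a p + a q) (a k) = 0 := by
    have key : ∀ p q, p ≠ q → F (a p + a q) (a p) = 0 := by
      intro p q hpq
      obtain ⟨σ, s1, s2⟩ : ∃ σ : Equiv.Perm ι, σ i = p ∧ σ j = q := by
        refine ⟨Equiv.swap (Equiv.swap i p j) q * Equiv.swap i p, ?_, ?_⟩
        · rw [Equiv.Perm.mul_apply, Equiv.swap_apply_left, Equiv.swap_apply_of_ne_of_ne _ hpq]
          intro e
          have e1 : Equiv.swap i p i = p := Equiv.swap_apply_left _ _
          exact hij ((Equiv.swap i p).injective (e1.trans e))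
        · rw [Equiv.Perm.mul_apply, Equiv.swap_apply_left]
      obtain ⟨g, hg⟩ := hA.perm σ
      have h1 := hF.inv h (w := a i) (hA.mem i j hij) g
      rw [map_add, hg, hg, s1, s2, h0] at h1
      exact h1
    intro p q k hpq
    by_cases h1 : k = p
    · rw [h1]
      exact key p q hpq
    by_cases h2 : k = q
    · rw [h2, hA.ins' hF h hpq]
      exact key p q hpq
    · exact hA.out hF h hpq h1 h2
  -- a neighbour of `a i + a j`
  obtain ⟨d, hd, φ, hφ, e⟩ := h.exists_adj (hA.mem i j hij)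
  have e1 : F (a i + a j) d = 1 := by
    rw [← hF.uniq _ (hA.mem i j hij) φ (by
      rintro rfl
      rw [LinearMap.zero_apply] at e
      exact zero_ne_one e) hφ]
    exact e
  rw [hF.symm h (hA.mem i j hij) hd, map_add] at e1
  have key2 : ∀ i j, i ≠ j → F d (a i) = 1 → F d (a j) = 0 → False := by
    intro i j hij hi hj
    obtain ⟨k, hki, hkj, hk⟩ := hA.exists_zero hF h hd hi hj
    have s1 := hF.step h hd (hA.mem i j hij) (by rw [map_add, hi, hj, add_zero])
    have s2 := hF.step h hd (hA.mem i k (Ne.symm hki)) (by rw [map_add, hi, hk, add_zero])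
    obtain ⟨_, g, hg⟩ := hF.fn _ s1.1
    obtain ⟨_, g', hg'⟩ := hF.fn _ s2.1
    have v1 : F (d + (a i + a j)) (a i) = 1 := by
      rw [s1.2, LinearMap.add_apply, hi, hz i j i hij, add_zero]
    have v2 : F (d + (a i + a k)) (a i) = 1 := by
      rw [s2.2, LinearMap.add_apply, hi, hz i k i (Ne.symm hki), add_zero]
    have v3 : F (d + (a i + a k)) (d + (a i + a j)) = 0 := by
      rw [s2.2, LinearMap.add_apply, map_add, map_add, map_add, map_add, hF.self h hd, hi, hj,
        hz i k i (Ne.symm hki), hz i k j (Ne.symm hki), hF.symm h (hA.mem i k (Ne.symm hki)) hd, map_add, hi, hk]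
      decide
    refine hA.three (g' * g) i j k hij (Ne.symm hki) (Ne.symm hkj) ?_
    rw [rmul, hg, v1, one_smul, hg', map_add, v2, v3, add_zero, one_smul]
    calc a i + (d + (a i + a j)) + (d + (a i + a k)) = a i + (a j + a k) + ((d + d) + (a i + a i)) := by abel
      _ = _ := by rw [v_add_self, v_add_self, add_zero, add_zero]
  rcases z2 (F d (a i)) with ei | ei
  · rw [ei, zero_add] at e1
    exact key2 j i (Ne.symm hij) e1 ei
  · rcases z2 (F d (a j)) with ej | ej
    · exact key2 i j hij ei ej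
    · rw [ei, ej] at e1
      revert e1
      decide

/-- **(a)** -/
theorem val [Finite V] {i j : ι} (hij : i ≠ j) (k : ι) : F (a i + a j) (a k) = chi i j k := by
  by_cases h1 : k = i
  · rw [h1, chi_left, hA.ins hF h hij]
  by_cases h2 : k = j
  · rw [h2, chi_right, hA.ins' hF h hij, hA.ins hF h hij]
  · rw [chi_of_ne h1 h2, hA.out hF h hij h1 h2]

/-- **(b)** -/
theorem no4 [Finite V] {c : V} (hc : c ∈ Om) {i j k l p q : ι} (hn : [i, j, k, l, p, q].Nodup)
    (hi : F c (a i) = 1) (hj : F c (a j) = 1) (hk : F c (a k) = 1) (hl : F c (a l) = 1)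
    (hp : F c (a p) = 0) (hq : F c (a q) = 0) : False := by
  have hsum := hA.sum_six hn
  simp only [List.nodup_cons, List.mem_cons, List.not_mem_nil, or_false, not_or, not_false_eq_true,
    List.nodup_nil, and_true] at hn
  obtain ⟨⟨n1, n2, n3, n4, n5⟩, ⟨n6, n7, n8, n9⟩, ⟨n10, n11, n12⟩, ⟨n13, n14⟩, n15⟩ := hn
  have mx := hA.mem i j n1
  have mkp := hA.mem k p n11
  have mlq := hA.mem l q n14
  -- `c + x_kp + x_lq`
  obtain ⟨d1, f1⟩ := hF.step h hc mkp (by rw [map_add, hk, hp, add_zero])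
  have v1 : F (c + (a k + a p)) (a l + a q) = 1 := by
    rw [f1, LinearMap.add_apply, map_add, map_add, hl, hq, hA.val hF h n11, hA.val hF h n11,
      chi_of_ne (Ne.symm n10) n13, chi_of_ne (Ne.symm n12) (Ne.symm n15)]
    decide
  obtain ⟨d2, f2⟩ := hF.step h d1 mlq v1
  -- values
  have w1 : F (c + (a k + a p) + (a l + a q)) (a i) = 1 := by
    rw [f2, f1, LinearMap.add_apply, LinearMap.add_apply, hi, hA.val hF h n11, hA.val hF h n14,
      chi_of_ne n2 n4, chi_of_ne n3 n5]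
    decide
  have w2 : F (c + (a k + a p) + (a l + a q)) (a j) = 1 := by
    rw [f2, f1, LinearMap.add_apply, LinearMap.add_apply, hj, hA.val hF h n11, hA.val hF h n14,
      chi_of_ne n6 n8, chi_of_ne n7 n9]
    decide
  have w3 : F (c + (a k + a p) + (a l + a q)) c = 0 := by
    rw [hF.symm h d2 hc, map_add, map_add, map_add, map_add, hF.self h hc, hk, hp, hl, hq]
    decide
  have w4 : F c (a i + a j) = 0 := by
    rw [map_add, hi, hj]
    decide
  obtain ⟨_, g1, hg1⟩ := hF.fn _ mx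
  obtain ⟨_, g2, hg2⟩ := hF.fn _ hc
  obtain ⟨_, g3, hg3⟩ := hF.fn _ d2
  refine hA.zz (g3 * (g2 * g1)) i ?_
  have u1 : ρ g1 (a i) = a i + (a i + a j) := by rw [hg1, hA.val hF h n1, chi_left, one_smul]
  have u2 : F c (a i + (a i + a j)) = 1 := by rw [map_add, hi, w4, add_zero]
  have u3 : F (c + (a k + a p) + (a l + a q)) (a i + (a i + a j) + c) = 1 := by
    rw [map_add, map_add, map_add, w1, w2, w3]
    decide
  rw [rmul, rmul, u1, hg2, u2, one_smul, hg3, u3, one_smul, hsum]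
  calc a i + (a i + a j) + c + (c + (a k + a p) + (a l + a q))
      = a i + (a i + (a j + (a k + (a l + (a p + a q))))) + (c + c) := by abel
    _ = _ := by rw [v_add_self, add_zero]

/-- the type of a point -/
theorem type [Finite V] {c : V} (hc : c ∈ Om) : (∀ k, F c (a k) = 0) ∨ (∀ k, F c (a k) = 1) ∨
    ∃ i j, i ≠ j ∧ ∀ k, F c (a k) = chi i j k := by
  set J : Finset ι := Finset.univ.filter fun k => F c (a k) = 1 with hJ
  have hmem : ∀ k, k ∈ J ↔ F c (a k) = 1 := fun k => by rw [hJ, Finset.mem_filter]; simp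
  have hout : ∀ k, k ∉ J → F c (a k) = 0 := fun k hk => z2_ne_one fun e => hk ((hmem k).2 e)
  have hcard : J.card + Jᶜ.card = 6 := by rw [Finset.card_add_card_compl, hA.card]
  have hev : Even J.card := by
    have h1 := hA.ev hF h hc
    have h2 : ∑ k, F c (a k) = (J.card : ZMod 2) := by
      rw [hJ, Finset.card_filter, Nat.cast_sum]
      refine Finset.sum_congr rfl fun k _ => ?_
      rcases z2 (F c (a k)) with e | e
      · rw [e, if_neg zero_ne_one]
        rfl
      · rw [e, if_pos rfl]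
        rfl
    rw [h2] at h1
    exact (ZMod.natCast_eq_zero_iff_even).1 h1
  have hle : J.card ≤ 6 := by omega
  obtain ⟨r, hr⟩ := hev
  have hr3 : r = 0 ∨ r = 1 ∨ r = 2 ∨ r = 3 := by omega
  rcases hr3 with rfl | rfl | rfl | rfl
  · left
    have h1 : J = ∅ := Finset.card_eq_zero.1 (by omega)
    exact fun k => hout k (by rw [h1]; exact Finset.notMem_empty k)
  · right; right
    obtain ⟨i, j, hij, e⟩ := Finset.card_eq_two.1 (show J.card = 2 by omega)
    refine ⟨i, j, hij, fun k => ?_⟩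
    by_cases hk : k = i ∨ k = j
    · have h1 : chi i j k = 1 := if_pos hk
      rw [h1, ← hmem, e]
      simpa using hk
    · have h1 : chi i j k = 0 := if_neg hk
      rw [h1]
      refine hout k ?_
      rw [e]
      simpa using hk
  · exfalso
    obtain ⟨p, q, hpq, e⟩ := Finset.card_eq_two.1 (show Jᶜ.card = 2 by omega)
    have hp : p ∉ J := by
      rw [← Finset.mem_compl, e]
      simp
    have hq : q ∉ J := by
      rw [← Finset.mem_compl, e]
      simp
    obtain ⟨i, hi, j, hj, k, hk, hij, hik, hjk⟩ := Finset.two_lt_card.1 (show 2 < J.card by omega)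
    obtain ⟨l, hl⟩ := hA.fresh [i, j, k, p, q] (by simp)
    simp only [List.mem_cons, List.not_mem_nil, or_false, not_or] at hl
    obtain ⟨l1, l2, l3, l4, l5⟩ := hl
    have hlJ : l ∈ J := by
      by_contra hlJ
      rw [← Finset.mem_compl, e] at hlJ
      simp only [Finset.mem_insert, Finset.mem_singleton] at hlJ
      exact hlJ.elim l4 l5
    have ne : ∀ {x y : ι}, x ∈ J → y ∉ J → x ≠ y := by
      rintro x y hx hy rfl
      exact hy hx
    refine hA.no4 hF h hc (i := i) (j := j) (k := k) (l := l) (p := p) (q := q) ?_ ((hmem i).1 hi) ((hmem j).1 hj)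
      ((hmem k).1 hk) ((hmem l).1 hlJ) (hout p hp) (hout q hq)
    simp only [List.nodup_cons, List.mem_cons, List.not_mem_nil, or_false, not_or, not_false_eq_true,
      List.nodup_nil, and_true]
    exact ⟨⟨hij, hik, Ne.symm l1, ne hi hp, ne hi hq⟩, ⟨hjk, Ne.symm l2, ne hj hp, ne hj hq⟩,
      ⟨Ne.symm l3, ne hk hp, ne hk hq⟩, ⟨l4, l5⟩, hpq⟩
  · right; left
    have h1 : J = Finset.univ := Finset.eq_univ_of_card _ (by rw [hA.card]; omega)
    exact fun k => (hmem k).1 (by rw [h1]; exact Finset.mem_univ k)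

/-- `e + x_ij` is a point of type `ij` -/
def P (_ : Six ρ Om a) (F : V → Dual (ZMod 2) V) (e : V) (i j : ι) : Prop :=
  e + (a i + a j) ∈ Om ∧ ∀ k, F (e + (a i + a j)) (a k) = chi i j k

omit [Fintype ι] hF h hA in
theorem chi_comm (i j k : ι) : chi i j k = chi j i k := by
  by_cases hi : k = i ∨ k = j
  · have e1 : chi i j k = 1 := if_pos hi
    have e2 : chi j i k = 1 := if_pos hi.symm
    rw [e1, e2]
  · have e1 : chi i j k = 0 := if_neg hi
    have e2 : chi j i k = 0 := if_neg fun e => hi e.symm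
    rw [e1, e2]

omit hF h in
theorem P_comm {e : V} {i j : ι} (hP : hA.P F e i j) : hA.P F e j i := by
  obtain ⟨h1, h2⟩ := hP
  rw [add_comm (a i)] at h1 h2
  exact ⟨h1, fun k => by rw [h2, chi_comm]⟩

/-- replace the letter `j` by `l` -/
theorem P_step [Finite V] {e : V} {i j l : ι} (hP : hA.P F e i j) (hij : i ≠ j) (hil : i ≠ l) : hA.P F e i l := by
  by_cases hjl : j = l
  · rwa [← hjl]
  obtain ⟨h1, h2⟩ := hP
  obtain ⟨s1, s2⟩ := hF.step h h1 (hA.mem j l hjl) (by
    rw [map_add, h2, h2, chi_right, chi_of_ne (Ne.symm hil) (Ne.symm hjl), add_zero])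
  have e1 : e + (a i + a j) + (a j + a l) = e + (a i + a l) := by
    calc e + (a i + a j) + (a j + a l) = e + (a i + a l) + (a j + a j) := by abel
      _ = _ := by rw [v_add_self, add_zero]
  rw [e1] at s1 s2
  refine ⟨s1, fun k => ?_⟩
  rw [s2, LinearMap.add_apply, h2, hA.val hF h hjl]
  by_cases k1 : k = i
  · rw [k1, chi_left, chi_left, chi_of_ne hij hil, add_zero]
  by_cases k2 : k = j
  · rw [k2, chi_right, chi_left, chi_of_ne (Ne.symm hij) hjl]
    decide
  by_cases k3 : k = l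
  · rw [k3, chi_right, chi_right, chi_of_ne (Ne.symm hil) (Ne.symm hjl), zero_add]
  · rw [chi_of_ne k1 k2, chi_of_ne k2 k3, chi_of_ne k1 k3, add_zero]

theorem P_all [Finite V] {e : V} {i j : ι} (hP : hA.P F e i j) (hij : i ≠ j) {k l : ι} (hkl : k ≠ l) :
    hA.P F e k l := by
  by_cases hik : i = k
  · subst hik
    exact hA.P_step hF h hP hij hkl
  · exact hA.P_step hF h (hA.P_comm (hA.P_step hF h hP hij hik)) (Ne.symm hik) hkl

/-- **(E1)** -/
theorem e1 [Finite V] {e : V} {i j : ι} (hP : hA.P F e i j) (hij : i ≠ j) {p : V} (hp : p ∈ Om) {b d : ι}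
    (hbd : b ≠ d) (ht : ∀ k, F p (a k) = chi b d k) : F p e = 0 := by
  refine z2_ne_one fun e1 => ?_
  obtain ⟨k, hk⟩ := hA.fresh [b, d] (by simp)
  obtain ⟨l, hl⟩ := hA.fresh [b, d, k] (by simp)
  obtain ⟨s, hs⟩ := hA.fresh [b, d, k, l] (by simp)
  obtain ⟨t, ht'⟩ := hA.fresh [b, d, k, l, s] (by simp)
  simp only [List.mem_cons, List.not_mem_nil, or_false, not_or] at hk hl hs ht'
  obtain ⟨m1, m2⟩ := hA.P_all hF h hP hij (Ne.symm hl.2.2)
  obtain ⟨s1, s2⟩ := hF.step h hp m1 (by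
    rw [map_add, map_add, e1, ht, ht, chi_of_ne hk.1 hk.2, chi_of_ne hl.1 hl.2.1, add_zero, add_zero])
  refine hA.no4 hF h s1 (i := b) (j := d) (k := k) (l := l) (p := s) (q := t) ?_ ?_ ?_ ?_ ?_ ?_ ?_
  · simp only [List.nodup_cons, List.mem_cons, List.not_mem_nil, or_false, not_or, not_false_eq_true,
      List.nodup_nil, and_true]
    exact ⟨⟨hbd, Ne.symm hk.1, Ne.symm hl.1, Ne.symm hs.1, Ne.symm ht'.1⟩,
      ⟨Ne.symm hk.2, Ne.symm hl.2.1, Ne.symm hs.2.1, Ne.symm ht'.2.1⟩,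
      ⟨Ne.symm hl.2.2, Ne.symm hs.2.2.1, Ne.symm ht'.2.2.1⟩, ⟨Ne.symm hs.2.2.2, Ne.symm ht'.2.2.2.1⟩,
      Ne.symm ht'.2.2.2.2⟩
  · rw [s2, LinearMap.add_apply, ht, m2, chi_left, chi_of_ne (Ne.symm hk.1) (Ne.symm hl.1), add_zero]
  · rw [s2, LinearMap.add_apply, ht, m2, chi_right, chi_of_ne (Ne.symm hk.2) (Ne.symm hl.2.1), add_zero]
  · rw [s2, LinearMap.add_apply, ht, m2, chi_left, chi_of_ne hk.1 hk.2, zero_add]
  · rw [s2, LinearMap.add_apply, ht, m2, chi_right, chi_of_ne hl.1 hl.2.1, zero_add]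
  · rw [s2, LinearMap.add_apply, ht, m2, chi_of_ne hs.1 hs.2.1, chi_of_ne hs.2.2.1 hs.2.2.2, add_zero]
  · rw [s2, LinearMap.add_apply, ht, m2, chi_of_ne ht'.1 ht'.2.1, chi_of_ne ht'.2.2.1 ht'.2.2.2.1, add_zero]

/-- **(c)**, the radical -/
theorem e_rad [Finite V] {e : V} {i j : ι} (hP : hA.P F e i j) (hij : i ≠ j) {p : V} (hp : p ∈ Om) : F p e = 0 := by
  refine z2_ne_one fun e1 => ?_
  rcases hA.type hF h hp with ht | ht | ⟨b, d, hbd, ht⟩
  · -- `p + c`
    obtain ⟨m1, m2⟩ := hP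
    have v1 : F p (e + (a i + a j)) = 1 := by
      rw [map_add, map_add, e1, ht, ht, add_zero, add_zero]
    obtain ⟨s1, s2⟩ := hF.step h hp m1 v1
    have hP' : hA.P F (p + e) i j := by
      rw [P, add_assoc p e]
      refine ⟨s1, fun k => ?_⟩
      rw [s2, LinearMap.add_apply, ht, m2, zero_add]
    have v2 := hA.e1 hF h hP' hij m1 hij m2
    rw [map_add, hF.symm h m1 hp, v1] at v2
    have v3 : F (e + (a i + a j)) e = 0 := by
      have v4 := hF.self h m1
      rw [map_add, map_add, m2, m2, chi_left, chi_right] at v4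
      have e2 : (1 : ZMod 2) + 1 = 0 := by decide
      rwa [e2, add_zero] at v4
    rw [v3, add_zero] at v2
    exact one_ne_zero v2
  · obtain ⟨m1, m2⟩ := hP
    have v1 : F p (e + (a i + a j)) = 1 := by
      rw [map_add, map_add, e1, ht, ht]
      decide
    obtain ⟨s1, s2⟩ := hF.step h hp m1 v1
    obtain ⟨k, hk⟩ := hA.fresh [i, j] (by simp)
    obtain ⟨l, hl⟩ := hA.fresh [i, j, k] (by simp)
    obtain ⟨s, hs⟩ := hA.fresh [i, j, k, l] (by simp)
    obtain ⟨t, ht'⟩ := hA.fresh [i, j, k, l, s] (by simp)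
    simp only [List.mem_cons, List.not_mem_nil, or_false, not_or] at hk hl hs ht'
    refine hA.no4 hF h s1 (i := k) (j := l) (k := s) (l := t) (p := i) (q := j) ?_ ?_ ?_ ?_ ?_ ?_ ?_
    · simp only [List.nodup_cons, List.mem_cons, List.not_mem_nil, or_false, not_or, not_false_eq_true,
        List.nodup_nil, and_true]
      exact ⟨⟨Ne.symm hl.2.2, Ne.symm hs.2.2.1, Ne.symm ht'.2.2.1, hk.1, hk.2⟩,
        ⟨Ne.symm hs.2.2.2, Ne.symm ht'.2.2.2.1, hl.1, hl.2.1⟩, ⟨Ne.symm ht'.2.2.2.2, hs.1, hs.2.1⟩,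
        ⟨ht'.1, ht'.2.1⟩, hij⟩
    · rw [s2, LinearMap.add_apply, ht, m2, chi_of_ne hk.1 hk.2, add_zero]
    · rw [s2, LinearMap.add_apply, ht, m2, chi_of_ne hl.1 hl.2.1, add_zero]
    · rw [s2, LinearMap.add_apply, ht, m2, chi_of_ne hs.1 hs.2.1, add_zero]
    · rw [s2, LinearMap.add_apply, ht, m2, chi_of_ne ht'.1 ht'.2.1, add_zero]
    · rw [s2, LinearMap.add_apply, ht, m2, chi_left]
      decide
    · rw [s2, LinearMap.add_apply, ht, m2, chi_right]
      decide
  · rw [hA.e1 hF h hP hij hp hbd ht] at e1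
    exact zero_ne_one e1

/-- **(c)** -/
theorem eq_x [Finite V]
    (o2 : ∀ K : Subgroup H, K.Normal → (∀ k ∈ K, ∃ m : ℕ, ∀ v, ρ (k ^ 2 ^ m) v = v) → ∀ k ∈ K, ∀ v, ρ k v = v)
    {c : V} (hc : c ∈ Om) {i j : ι} (hij : i ≠ j) (ht : ∀ k, F c (a k) = chi i j k) : c = a i + a j := by
  set e := c + (a i + a j) with he
  have hce : e + (a i + a j) = c := by rw [he, add_assoc, v_add_self, add_zero]
  have hP : hA.P F e i j := by
    rw [P, hce]
    exact ⟨hc, ht⟩
  have hr : ∀ p ∈ Om, F p e = 0 := fun p hp => hA.e_rad hF h hP hij hp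
  have hx := hA.mem i j hij
  -- the two functionals agree on the points
  have hag : ∀ p ∈ Om, F c p = F (a i + a j) p := by
    intro p hp
    have h1 := hr p hp
    rw [he, map_add] at h1
    rw [hF.symm h hc hp, hF.symm h hx hp]
    exact v_eq_of_add h1
  have hsp : ∀ u ∈ Submodule.span (ZMod 2) Om, F c u = F (a i + a j) u := by
    intro u hu
    have h1 : Submodule.span (ZMod 2) Om ≤ LinearMap.eqLocus (F c) (F (a i + a j)) :=
      Submodule.span_le.2 fun y hy => hag y hy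
    exact h1 hu
  obtain ⟨_, g, hg⟩ := hF.fn _ hx
  obtain ⟨_, g', hg'⟩ := hF.fn _ hc
  have hcx : F c (a i + a j) = 0 := by rw [hag _ hx, hF.self h hx]
  have hform : ∀ v, ρ (g' * g) v = v + F (a i + a j) v • (a i + a j) + F c v • c := by
    intro v
    rw [rmul, hg, hg', map_add, map_smul, hcx, smul_zero, add_zero]
  have hrad : ∀ u ∈ rad ρ Om, ∀ p ∈ Om, F p u = 0 := fun u hu p hp => hu p hp _ (hF.fn p hp)
  have her : e ∈ rad ρ Om := by
    intro p hp φ hφ
    by_cases h0 : φ = 0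
    · rw [h0, LinearMap.zero_apply]
    · rw [hF.uniq p hp φ h0 hφ]
      exact hr p hp
  have hspinv : ∀ k : H, ∀ u ∈ Submodule.span (ZMod 2) Om, ρ k u ∈ Submodule.span (ZMod 2) Om := by
    intro k u hu
    have h2 : Submodule.span (ZMod 2) Om ≤ (Submodule.span (ZMod 2) Om).comap
        ((ρ k : V ≃ₗ[ZMod 2] V).toLinearMap) :=
      Submodule.span_le.2 fun s hs => Submodule.subset_span (h.inv k s hs)
    exact h2 hu
  have hes : e ∈ Submodule.span (ZMod 2) Om :=
    Submodule.add_mem _ (Submodule.subset_span hc) (Submodule.subset_span hx)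
  have htriv := chain3 o2 (rad ρ Om ⊓ Submodule.span (ZMod 2) Om) (Submodule.span (ZMod 2) Om)
    (fun k u hu => ⟨h.rad_inv k hu.1, hspinv k u hu.2⟩) hspinv (g := g' * g) (fun u hu => by
      rw [hform, hrad u hu.1 _ hx, hrad u hu.1 _ hc, zero_smul, zero_smul, add_zero, add_zero]) (fun u hu => by
      rw [hform, hsp u hu]
      have e1 : u + F (a i + a j) u • (a i + a j) + F (a i + a j) u • c + u = F (a i + a j) u • e := by
        rw [he, smul_add (F (a i + a j) u) c (a i + a j)]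
        calc u + F (a i + a j) u • (a i + a j) + F (a i + a j) u • c + u
            = F (a i + a j) u • c + F (a i + a j) u • (a i + a j) + (u + u) := by abel
          _ = _ := by rw [v_add_self, add_zero]
      rw [e1]
      exact Submodule.smul_mem _ _ ⟨her, hes⟩) (fun v => by
      rw [hform]
      have e1 : v + F (a i + a j) v • (a i + a j) + F c v • c + v =
          F (a i + a j) v • (a i + a j) + F c v • c := by
        calc v + F (a i + a j) v • (a i + a j) + F c v • c + v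
            = F (a i + a j) v • (a i + a j) + F c v • c + (v + v) := by abel
          _ = _ := by rw [v_add_self, add_zero]
      rw [e1]
      exact Submodule.add_mem _ (Submodule.smul_mem _ _ (Submodule.subset_span hx))
        (Submodule.smul_mem _ _ (Submodule.subset_span hc)))
  obtain ⟨s, hs, e1⟩ := h.exists_one hx (hF.fn _ hx) (hF.ne _ hx)
  have h1 := htriv s
  rw [hform, hag s hs, e1, one_smul, one_smul, add_assoc] at h1
  have h2 : a i + a j + c = 0 := by simpa using h1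
  exact (v_eq_of_add h2).symm

end Six

/-- **(T), `N = 6`, pure form.** -/
theorem no_light_six (h : SysW ρ Om) [Finite V]
    (o2 : ∀ K : Subgroup H, K.Normal → (∀ k ∈ K, ∃ m : ℕ, ∀ v, ρ (k ^ 2 ^ m) v = v) → ∀ k ∈ K, ∀ v, ρ k v = v)
    {a a' : ι → V} (hA : Six ρ Om a) (hA' : Six ρ Om a') {i j d : ι} (hij : i ≠ j) (hid : i ≠ d) (hjd : j ≠ d)
    (e : a' i + a' j = a i + a j) (hd : ∀ k l, k ≠ l → a i + a d ≠ a' k + a' l) : False := by
  obtain ⟨F, hF⟩ := exists_fd h (hA.not_big h)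
  have hc := hA.mem i d hid
  have h1 : F (a i + a d) (a' i) + F (a i + a d) (a' j) = 1 := by
    rw [← map_add, e, map_add, hA.val hF h hid, hA.val hF h hid, chi_left, chi_of_ne (Ne.symm hij) hjd, add_zero]
  rcases hA'.type hF h hc with ht | ht | ⟨k, l, hkl, ht⟩
  · rw [ht, ht] at h1
    revert h1
    decide
  · rw [ht, ht] at h1
    revert h1
    decide
  · exact hd k l hkl (hA'.eq_x hF h o2 hc hkl ht)

end pure

end Cfsg.Agent.Omega.NO3S.SN2.LightSix

namespace Cfsg.Agent.Omega.NO3S.SN2.LightFour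

open Module Cfsg.Agent.Omega.TV
open Cfsg.Agent.Omega.NO3S.SN2.Light (pr)
open Cfsg.Agent.Omega.NO3S.SN2.LightSix (Six)

namespace SitT

variable {G : Type*} [Group G] {ι : Type*} [DecidableEq ι] {C W : Subgroup G} {ε : (ι → ZMod 2) → G}

/-- the heavy vectors -/
def A (h : SitT C W ε) (i : ι) : EA W h.sq := EA.mk h.sq (ε (Pi.single i 1)) (h.mem _)

@[simp] theorem val_A (h : SitT C W ε) (i : ι) : (h.A i).val = ε (Pi.single i 1) := rfl

theorem A_add (h : SitT C W ε) (i j : ι) : h.A i + h.A j = h.X i j := by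
  apply EA.ext
  change ε _ * ε _ = ε _
  rw [h.add]

theorem one' (h : SitT C W ε) : ε 0 = 1 := by
  have h1 := h.add 0 0
  rw [add_zero] at h1
  exact (left_eq_mul.1 h1)

theorem eps_inj (h : SitT C W ε) {x y : ι → ZMod 2} (e : ε x = ε y) : x = y := by
  have h1 : ε (x + y) = 1 := by
    rw [h.add, e]
    exact h.sq _ (h.mem y)
  have h2 := h.inj _ h1
  funext i
  have h3 := congrFun h2 i
  rw [Pi.add_apply, Pi.zero_apply] at h3
  exact v_eq_of_add h3

theorem act_A (h : SitT C W ε) (σ : Equiv.Perm ι) : ∃ g : C, ∀ i, h.rep g (h.A i) = h.A (σ i) := by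
  obtain ⟨n, hn, e⟩ := h.sym σ
  refine ⟨⟨n, hn⟩, fun i => EA.ext ?_⟩
  rw [h.val_rep]
  change n * ε _ * n⁻¹ = ε _
  rw [e, single_comp]

theorem sum_A [Fintype ι] (h : SitT C W ε) : (∑ k, h.A k).val = ε 1 := by
  have key : ∀ s : Finset ι, (∑ k ∈ s, h.A k).val = ε (∑ k ∈ s, Pi.single k 1) := by
    intro s
    induction s using Finset.induction_on with
    | empty =>
      rw [Finset.sum_empty, Finset.sum_empty, h.one', EA.val_zero]
    | insert a s ha ih =>
      rw [Finset.sum_insert ha, Finset.sum_insert ha, EA.val_add, ih, h.add]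
      rfl
  rw [key]
  have h1 : ∑ k : ι, (Pi.single k 1 : ι → ZMod 2) = 1 :=
    Finset.univ_sum_single (1 : ι → ZMod 2)
  rw [h1]

/-- `O₂ = 1`, on the representation -/
theorem o2rep (h : SitT C W ε) (K : Subgroup C) (hK : K.Normal)
    (h2 : ∀ k ∈ K, ∃ m : ℕ, ∀ v, h.rep (k ^ 2 ^ m) v = v) : ∀ k ∈ K, ∀ v, h.rep k v = v := by
  have h1 : K.map C.subtype ≤ Subgroup.centralizer (W : Set G) := by
    refine h.o2 _ ?_ ?_ ?_
    · rintro _ ⟨k, -, rfl⟩
      exact k.2
    · intro c hc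
      have key : ∀ c ∈ C, ∀ x ∈ K.map C.subtype, c * x * c⁻¹ ∈ K.map C.subtype := by
        rintro c hc _ ⟨k, hk, rfl⟩
        exact ⟨⟨c, hc⟩ * k * ⟨c, hc⟩⁻¹, hK.conj_mem k hk _, rfl⟩
      rw [Subgroup.mem_normalizer_iff]
      intro x
      refine ⟨fun hx => key c hc x hx, fun hx => ?_⟩
      have h3 := key _ (inv_mem hc) _ hx
      have e : c⁻¹ * (c * x * c⁻¹) * c⁻¹⁻¹ = x := by group
      rwa [e] at h3
    · rintro _ ⟨k, hk, rfl⟩
      obtain ⟨n, hn⟩ := h2 k hk
      refine ⟨n, ?_⟩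
      rw [Subgroup.mem_centralizer_iff]
      intro u hu
      have h3 := congrArg EA.val (hn (EA.mk h.sq u hu))
      rw [val_rep, EA.val_mk] at h3
      exact (mul_inv_eq_iff_eq_mul.1 h3).symm
  intro k hk v
  apply EA.ext
  rw [val_rep]
  have h3 := Subgroup.mem_centralizer_iff.1 (h1 ⟨k, hk, rfl⟩) v.val v.val_mem
  exact mul_inv_eq_iff_eq_mul.2 h3.symm

/-- the pure situation on the line `V ^ r` -/
theorem six [Fintype ι] (h : SitT C W ε) (hι : Fintype.card ι = 6)
    (fus : ∀ c ∈ C, ∀ i j, i ≠ j → ∀ a, c * ε (pr i j) * c⁻¹ = ε a → ∃ k l, k ≠ l ∧ a = pr k l)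
    (heavy : ∀ c ∈ C, ∀ i a, c * ε (Pi.single i 1) * c⁻¹ = ε a → ∃ j, a = Pi.single j 1)
    {p q : ι} (hpq : p ≠ q) (r : C) : Six h.rep (h.pts p q) (fun i => h.rep r (h.A i)) where
  card := hι
  mem := by
    intro i j hij
    obtain ⟨σ, h1, h2⟩ : ∃ σ : Equiv.Perm ι, σ p = i ∧ σ q = j := by
      refine ⟨Equiv.swap (Equiv.swap p i q) j * Equiv.swap p i, ?_, ?_⟩
      · rw [Equiv.Perm.mul_apply, Equiv.swap_apply_left, Equiv.swap_apply_of_ne_of_ne _ hij]
        intro e
        have e1 : Equiv.swap p i p = i := Equiv.swap_apply_left _ _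
        exact hpq ((Equiv.swap p i).injective (e1.trans e))
      · rw [Equiv.Perm.mul_apply, Equiv.swap_apply_left]
    obtain ⟨g, hg⟩ := h.act_X σ
    refine ⟨r * g, ?_⟩
    rw [rmul, hg, h1, h2, ← h.A_add, map_add]
  perm := by
    intro σ
    obtain ⟨g, hg⟩ := h.act_A σ
    refine ⟨r * g * r⁻¹, fun i => ?_⟩
    rw [rmul, rmul, rinv, hg]
  four := by
    rintro i j k l h1 h2 h3 h4 h5 h6 ⟨c, e⟩
    have e1 := congrArg EA.val e
    have e2 : r⁻¹ * c * ε (pr p q) * (r⁻¹ * c : G)⁻¹ =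
        ε (Pi.single i 1 + Pi.single j 1 + (Pi.single k 1 + Pi.single l 1)) := by
      rw [h.add, h.add, h.add]
      have e3 : (h.rep c (h.X p q)).val = (c : G) * ε (pr p q) * (c : G)⁻¹ := rfl
      have e4 : (h.rep r (h.A i) + h.rep r (h.A j) + (h.rep r (h.A k) + h.rep r (h.A l))).val =
          (r : G) * ε (Pi.single i 1) * (r : G)⁻¹ * ((r : G) * ε (Pi.single j 1) * (r : G)⁻¹) *
            ((r : G) * ε (Pi.single k 1) * (r : G)⁻¹ * ((r : G) * ε (Pi.single l 1) * (r : G)⁻¹)) := rfl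
      rw [e4, e3] at e1
      calc (r : G)⁻¹ * c * ε (pr p q) * ((r : G)⁻¹ * c : G)⁻¹ = (r : G)⁻¹ * (c * ε (pr p q) * (c : G)⁻¹) * r := by group
        _ = _ := by rw [← e1]; group
    obtain ⟨m, n, -, e3⟩ := fus _ (mul_mem (inv_mem r.2) c.2) p q hpq _ e2
    have key : ∀ x, (Pi.single i 1 + Pi.single j 1 + (Pi.single k 1 + Pi.single l 1) : ι → ZMod 2) x = 1 →
        x = m ∨ x = n := by
      intro x hx
      by_contra hcon
      push Not at hcon
      rw [e3] at hx
      unfold pr at hx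
      rw [Pi.add_apply, Pi.single_eq_of_ne hcon.1, Pi.single_eq_of_ne hcon.2, add_zero] at hx
      exact zero_ne_one hx
    have ki := key i (by simp [h1, h2, h3])
    have kj := key j (by simp [h1.symm, h4, h5])
    have kk := key k (by simp [h2.symm, h4.symm, h6])
    rcases ki with ki | ki <;> rcases kj with kj | kj <;> rcases kk with kk | kk <;>
      first
      | exact h1 (ki.trans kj.symm)
      | exact h2 (ki.trans kk.symm)
      | exact h4 (kj.trans kk.symm)
  three := by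
    intro g i j k hij hik hjk e
    have e1 := congrArg EA.val e
    have e2 : r⁻¹ * g * r * ε (Pi.single i 1) * (r⁻¹ * g * r : G)⁻¹ =
        ε (Pi.single i 1 + (Pi.single j 1 + Pi.single k 1)) := by
      rw [h.add, h.add]
      have e3 : (h.rep g (h.rep r (h.A i))).val =
          (g : G) * ((r : G) * ε (Pi.single i 1) * (r : G)⁻¹) * (g : G)⁻¹ := rfl
      have e4 : (h.rep r (h.A i) + (h.rep r (h.A j) + h.rep r (h.A k))).val =
          (r : G) * ε (Pi.single i 1) * (r : G)⁻¹ * ((r : G) * ε (Pi.single j 1) * (r : G)⁻¹ *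
            ((r : G) * ε (Pi.single k 1) * (r : G)⁻¹)) := rfl
      rw [e4, e3] at e1
      calc (r : G)⁻¹ * g * r * ε (Pi.single i 1) * ((r : G)⁻¹ * g * r : G)⁻¹ =
          (r : G)⁻¹ * (g * (r * ε (Pi.single i 1) * (r : G)⁻¹) * (g : G)⁻¹) * r := by group
        _ = _ := by rw [e1]; group
    obtain ⟨m, e3⟩ := heavy _ (mul_mem (mul_mem (inv_mem r.2) g.2) r.2) i _ e2
    have key : ∀ x, (Pi.single i 1 + (Pi.single j 1 + Pi.single k 1) : ι → ZMod 2) x = 1 → x = m := by
      intro x hx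
      by_contra hcon
      rw [e3, Pi.single_eq_of_ne hcon] at hx
      exact zero_ne_one hx
    exact hij ((key i (by simp [hij, hik])).trans (key j (by simp [hij.symm, hjk])).symm)
  zz := by
    intro g i e
    rw [← map_sum, ← map_add] at e
    have e1 := congrArg EA.val e
    have e2 : r⁻¹ * g * r * ε (Pi.single i 1) * (r⁻¹ * g * r : G)⁻¹ = ε (Pi.single i 1 + 1) := by
      rw [h.add]
      have e3 : (h.rep g (h.rep r (h.A i))).val =
          (g : G) * ((r : G) * ε (Pi.single i 1) * (r : G)⁻¹) * (g : G)⁻¹ := rfl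
      rw [e3, val_rep, EA.val_add, h.sum_A, val_A] at e1
      calc (r : G)⁻¹ * g * r * ε (Pi.single i 1) * ((r : G)⁻¹ * g * r : G)⁻¹ =
          (r : G)⁻¹ * (g * (r * ε (Pi.single i 1) * (r : G)⁻¹) * (g : G)⁻¹) * r := by group
        _ = _ := by rw [e1]; group
    obtain ⟨m, e3⟩ := heavy _ (mul_mem (mul_mem (inv_mem r.2) g.2) r.2) i _ e2
    have key : ∀ x, x ≠ i → x = m := by
      intro x hx
      by_contra hcon
      have h3 := congrFun e3 x
      rw [Pi.add_apply, Pi.single_eq_of_ne hx, Pi.single_eq_of_ne hcon, zero_add, Pi.one_apply] at h3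
      exact one_ne_zero h3
    have h4 : (Finset.univ : Finset ι) ⊆ {i, m} := by
      intro x _
      by_cases hx : x = i
      · rw [hx]
        simp
      · rw [key x hx]
        simp
    have h5 := (Finset.card_le_card h4).trans Finset.card_le_two
    rw [Finset.card_univ] at h5
    omega
  fix := by
    intro g
    rw [← map_sum]
    apply EA.ext
    have hz : ∀ c ∈ C, c * ε 1 * c⁻¹ = ε 1 := fun c hc => mul_inv_eq_iff_eq_mul.2 (h.zf c hc)
    rw [val_rep, val_rep, h.sum_A, hz _ r.2, hz _ g.2]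

/-- **(T), `N = 6`**: no element of `C` is a transvection of `W` with centre `x_pq`. -/
theorem no_light_six [Finite G] [Fintype ι] (h : SitT C W ε) (hι : Fintype.card ι = 6)
    (fus : ∀ c ∈ C, ∀ i j, i ≠ j → ∀ a, c * ε (pr i j) * c⁻¹ = ε a → ∃ k l, k ≠ l ∧ a = pr k l)
    (heavy : ∀ c ∈ C, ∀ i a, c * ε (Pi.single i 1) * c⁻¹ = ε a → ∃ j, a = Pi.single j 1)
    (mov : ∃ a b d, a ≠ b ∧ a ≠ d ∧ b ≠ d ∧ ∃ r ∈ C, r * ε (pr a b) = ε (pr a b) * r ∧
      ∀ i j, i ≠ j → ε (pr a d) ≠ r * ε (pr i j) * r⁻¹)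
    {p q : ι} (hpq : p ≠ q) {τ : G} (hτ : τ ∈ C)
    (htv : ∀ w ∈ W, τ * w * τ⁻¹ = w ∨ τ * w * τ⁻¹ = w * ε (pr p q)) : ∀ w ∈ W, τ * w * τ⁻¹ = w := by
  by_contra hcon
  push Not at hcon
  have hs := h.sys hpq hτ htv hcon
  obtain ⟨a, b, d, hab, had, hbd, r, hr, hrc, hd⟩ := mov
  have hfin : Finite (EA W h.sq) := inferInstance
  have h0 := h.six hι fus heavy hpq 1
  have h1 := h.six hι fus heavy hpq ⟨r, hr⟩
  have e0 : (fun i => h.rep 1 (h.A i)) = h.A := funext fun i => rone h.rep _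
  rw [e0] at h0
  refine LightSix.no_light_six hs (fun K hK h2 => h.o2rep K hK h2) h0 h1 (i := a) (j := b) (d := d) hab had hbd ?_ ?_
  · rw [← map_add, h.A_add]
    apply EA.ext
    rw [val_rep]
    exact mul_inv_eq_iff_eq_mul.2 hrc
  · intro k l hkl e
    refine hd k l hkl ?_
    rw [← map_add, h.A_add, h.A_add] at e
    exact congrArg EA.val e

end SitT

end Cfsg.Agent.Omega.NO3S.SN2.LightFour
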