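import Mathlib

/-!
# SN.Two, THEOREM PATH (#20810 helper179, with (C') #21224 helper347): the pure part

`Γ` acts on the additive group `W`, `ε : (ι → F₂) →+ W` a line, `ι` its letters.

* `CD ε i j` : the elements of `Γ` centralising `D_ij = {ε a : a i = a j}`;
* `Wp ε i j = ⟨r • ε a : r ∈ CD ε i j⟩`;
* `Act ε n σ` : `n` acts on the line as `σ`;
* `Sit Γ ε` : the situation;
* `F ε q i j` : the coordinate at `i` of `q • u - u`, `u ∈ Wp ε i j` outside the line;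
* `Sit.all_moved` : (C'): a quadratic `E` with `|[w,E]| ≠ 2` which centralises the line and a `Wp ε i j`
  centralises all of them;
* `M0 ε = ⟨N_Γ(line), CD ε i j⟩`;
* `Sit.path` : such an `E` centralises `m • Wp ε i j` for all `m ∈ M0 ε`;
* `Sit.path_two` : a transvection which centralises the line centralises all `m • Wp ε i j`, `m ∈ M0 ε`, or its
  centre is `m • ε (single i 1)` or `m • ε (single i 1 + single j 1)` for some `m ∈ M0 ε`.
-/

set_option autoImplicit false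
set_option linter.unusedSectionVars false

namespace Cfsg.Agent.Omega.NO3S.SN2.PathP

open scoped Pointwise

universe u v w

variable {Γ : Type u} {W : Type v} {ι : Type w} [Group Γ] [AddCommGroup W] [DistribMulAction Γ W]
variable [DecidableEq ι]

/-- the centraliser of `D_ij = {ε a : a i = a j}` -/
def CD (Γ : Type u) [Group Γ] [DistribMulAction Γ W] (ε : (ι → ZMod 2) →+ W) (i j : ι) : Subgroup Γ where
  carrier := {r | ∀ a : ι → ZMod 2, a i = a j → r • ε a = ε a}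
  one_mem' := fun a _ => one_smul Γ _
  mul_mem' := fun {x y} hx hy a ha => by rw [mul_smul, hy a ha, hx a ha]
  inv_mem' := fun {x} hx a ha => by rw [inv_smul_eq_iff, hx a ha]

theorem mem_CD {ε : (ι → ZMod 2) →+ W} {i j : ι} {r : Γ} :
    r ∈ CD Γ ε i j ↔ ∀ a : ι → ZMod 2, a i = a j → r • ε a = ε a := Iff.rfl

theorem CD_symm (ε : (ι → ZMod 2) →+ W) (i j : ι) : CD Γ ε i j = CD Γ ε j i := by
  ext r
  rw [mem_CD, mem_CD]
  exact ⟨fun h a ha => h a ha.symm, fun h a ha => h a ha.symm⟩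

/-- `W_ij` -/
def Wp (Γ : Type u) [Group Γ] [DistribMulAction Γ W] (ε : (ι → ZMod 2) →+ W) (i j : ι) : AddSubgroup W :=
  AddSubgroup.closure {w | ∃ r ∈ CD Γ ε i j, ∃ a, w = r • ε a}

theorem Wp_symm (ε : (ι → ZMod 2) →+ W) (i j : ι) : Wp Γ ε i j = Wp Γ ε j i := by
  unfold Wp; rw [CD_symm]

theorem smul_mem_Wp' {ε : (ι → ZMod 2) →+ W} {i j : ι} {r : Γ} (hr : r ∈ CD Γ ε i j) (a : ι → ZMod 2) :
    r • ε a ∈ Wp Γ ε i j := AddSubgroup.subset_closure ⟨r, hr, a, rfl⟩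

theorem mem_Wp (ε : (ι → ZMod 2) →+ W) (i j : ι) (a : ι → ZMod 2) : ε a ∈ Wp Γ ε i j := by
  have := smul_mem_Wp' (one_mem (CD Γ ε i j)) a
  rwa [one_smul] at this

/-- `n` acts on the line as the permutation `σ` -/
def Act (ε : (ι → ZMod 2) →+ W) (n : Γ) (σ : Equiv.Perm ι) : Prop := ∀ a, n • ε a = ε (a ∘ σ.symm)

theorem Act.inv {ε : (ι → ZMod 2) →+ W} {n : Γ} {σ : Equiv.Perm ι} (h : Act ε n σ) : Act ε n⁻¹ σ.symm := by
  intro a
  rw [inv_smul_eq_iff, h]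
  congr 1
  funext i
  simp

theorem act_one (ε : (ι → ZMod 2) →+ W) {q : Γ} (hq : ∀ a, q • ε a = ε a) : Act ε q 1 := hq

theorem Act.conj_CD {ε : (ι → ZMod 2) →+ W} {n : Γ} {σ : Equiv.Perm ι} (h : Act ε n σ) {i j : ι} {r : Γ}
    (hr : r ∈ CD Γ ε i j) : n * r * n⁻¹ ∈ CD Γ ε (σ i) (σ j) := by
  intro a ha
  rw [mul_smul, mul_smul, h.inv, hr _ (by simpa using ha), h]
  congr 1
  funext i
  simp

/-- `W_ij^n` -/
theorem Act.smul_Wp {ε : (ι → ZMod 2) →+ W} {n : Γ} {σ : Equiv.Perm ι} (h : Act ε n σ) {i j : ι} {w : W}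
    (hw : w ∈ Wp Γ ε i j) : n • w ∈ Wp Γ ε (σ i) (σ j) := by
  induction hw using AddSubgroup.closure_induction with
  | mem x hx =>
    obtain ⟨r, hr, a, rfl⟩ := hx
    have e : n • r • ε a = (n * r * n⁻¹) • ε (a ∘ σ.symm) := by
      rw [← h a, smul_smul, smul_smul]; congr 1; group
    rw [e]
    exact smul_mem_Wp' (h.conj_CD hr) _
  | zero => rw [smul_zero]; exact zero_mem _
  | add x y _ _ hx hy => rw [smul_add]; exact add_mem hx hy
  | neg x _ hx => rw [smul_neg]; exact neg_mem hx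

theorem CD_smul_Wp {ε : (ι → ZMod 2) →+ W} {i j : ι} {r : Γ} (hr : r ∈ CD Γ ε i j) {w : W}
    (hw : w ∈ Wp Γ ε i j) : r • w ∈ Wp Γ ε i j := by
  induction hw using AddSubgroup.closure_induction with
  | mem x hx =>
    obtain ⟨s, hs, a, rfl⟩ := hx
    rw [smul_smul]
    exact smul_mem_Wp' (mul_mem hr hs) _
  | zero => rw [smul_zero]; exact zero_mem _
  | add x y _ _ hx hy => rw [smul_add]; exact add_mem hx hy
  | neg x _ hx => rw [smul_neg]; exact neg_mem hx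

/-- **The situation** (`V` the line `ε`, `W = U_z`, `Γ = C_G(z)`). -/
structure Sit (Γ : Type u) [Group Γ] [DistribMulAction Γ W] (ε : (ι → ZMod 2) →+ W) : Prop where
  tor : ∀ w : W, w + w = 0
  inj : Function.Injective ε
  /-- `N_Γ(V)` induces all permutations of the letters … -/
  sym : ∀ σ : Equiv.Perm ι, ∃ n : Γ, Act ε n σ
  /-- … and nothing else -/
  perm : ∀ n : Γ, (∀ a, ∃ b, n • ε a = ε b) → ∃ σ : Equiv.Perm ι, Act ε n σ
  /-- `V < W_ij` … -/
  ne : ∀ i j : ι, i ≠ j → ∃ u ∈ Wp Γ ε i j, ∀ a, u ≠ ε a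
  /-- … of index `2` -/
  two : ∀ i j : ι, i ≠ j → ∀ u ∈ Wp Γ ε i j, ∀ u' ∈ Wp Γ ε i j, (∀ a, u ≠ ε a) → (∀ a, u' ≠ ε a) →
    ∃ a, u + u' = ε a
  /-- `[W_ij, C_Γ(V)] ≤ ⟨z_i, z_j⟩` -/
  com : ∀ i j : ι, i ≠ j → ∀ q : Γ, (∀ a, q • ε a = ε a) → ∀ u ∈ Wp Γ ε i j,
    ∃ s t : ZMod 2, q • u = u + ε (Pi.single i s + Pi.single j t)

theorem zmod_add_self (s : ZMod 2) : s + s = 0 := by
  have : ∀ s : ZMod 2, s + s = 0 := by decide
  exact this s

theorem fun_add_self (a : ι → ZMod 2) : a + a = 0 := by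
  funext i; exact zmod_add_self _

theorem zmod_cases (s : ZMod 2) : s = 0 ∨ s = 1 := by
  have : ∀ s : ZMod 2, s = 0 ∨ s = 1 := by decide
  exact this s

theorem zmod_eq_add (s t : ZMod 2) (h : s + t = 0) : s = t := by
  have : ∀ s t : ZMod 2, s + t = 0 → s = t := by decide
  exact this s t h

namespace Sit

variable {ε : (ι → ZMod 2) →+ W}

theorem eq_of_add (h : Sit Γ ε) {v w : W} (e : v + w = 0) : v = w := by
  have h1 := h.tor w
  have : v + w + w = w := by rw [e, zero_add]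
  rw [add_assoc, h1, add_zero] at this
  exact this

theorem add_eq_iff (h : Sit Γ ε) {a b c : W} : a + b = c ↔ a = b + c := by
  constructor
  · intro e; rw [← e, add_comm a b, ← add_assoc, h.tor, zero_add]
  · intro e; rw [e, add_comm b c, add_assoc, h.tor, add_zero]

theorem neg_eq (h : Sit Γ ε) (w : W) : -w = w := by
  rw [neg_eq_iff_add_eq_zero]; exact h.tor w

/-- the value of `q` at the pair `i, j` -/
def Val (ε : (ι → ZMod 2) →+ W) (q : Γ) (i j : ι) (s t : ZMod 2) : Prop :=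
  ∀ u ∈ Wp Γ ε i j, (∀ a, u ≠ ε a) → q • u = u + ε (Pi.single i s + Pi.single j t)

theorem Val.symm {q : Γ} {i j : ι} {s t : ZMod 2} (h : Val ε q i j s t) : Val ε q j i t s := by
  intro u hu hn
  have e : (Pi.single j t + Pi.single i s : ι → ZMod 2) = Pi.single i s + Pi.single j t := add_comm _ _
  rw [e]
  exact h u (by rwa [Wp_symm]) hn

theorem exists_val (h : Sit Γ ε) {i j : ι} (hij : i ≠ j) {q : Γ} (hq : ∀ a, q • ε a = ε a) :
    ∃ s t, Val ε q i j s t := by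
  obtain ⟨u₀, hu₀, hn₀⟩ := h.ne i j hij
  obtain ⟨s, t, e⟩ := h.com i j hij q hq u₀ hu₀
  refine ⟨s, t, fun u hu hn => ?_⟩
  obtain ⟨a, ha⟩ := h.two i j hij u hu u₀ hu₀ hn hn₀
  rw [h.add_eq_iff] at ha
  rw [ha, smul_add, e, hq]
  abel

theorem single_inj {i j : ι} (hij : i ≠ j) {s t s' t' : ZMod 2}
    (e : (Pi.single i s + Pi.single j t : ι → ZMod 2) = Pi.single i s' + Pi.single j t') : s = s' ∧ t = t' := by
  have h1 := congrFun e i
  have h2 := congrFun e j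
  simp [hij, hij.symm] at h1 h2
  exact ⟨h1, h2⟩

theorem Val.uniq (h : Sit Γ ε) {i j : ι} (hij : i ≠ j) {q : Γ} {s t s' t' : ZMod 2} (h1 : Val ε q i j s t)
    (h2 : Val ε q i j s' t') : s = s' ∧ t = t' := by
  obtain ⟨u, hu, hn⟩ := h.ne i j hij
  have e := (h1 u hu hn).symm.trans (h2 u hu hn)
  exact single_inj hij (h.inj (add_left_cancel e))

end Sit

open Sit in
/-- the coordinate of `q • u - u` at `i`, for `u ∈ W_ij` outside the line -/
noncomputable def F (ε : (ι → ZMod 2) →+ W) (q : Γ) (i j : ι) : ZMod 2 :=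
  Classical.epsilon fun s => ∃ t, Val ε q i j s t

namespace Sit

variable {ε : (ι → ZMod 2) →+ W}

theorem val_F (h : Sit Γ ε) {i j : ι} (hij : i ≠ j) {q : Γ} (hq : ∀ a, q • ε a = ε a) :
    Val ε q i j (F ε q i j) (F ε q j i) := by
  obtain ⟨s, t, hst⟩ := h.exists_val hij hq
  obtain ⟨t', h1⟩ : ∃ t', Val ε q i j (F ε q i j) t' := Classical.epsilon_spec (p := fun s => ∃ t, Val ε q i j s t)
    ⟨s, t, hst⟩
  obtain ⟨s', h2⟩ : ∃ s', Val ε q j i (F ε q j i) s' := Classical.epsilon_spec (p := fun s => ∃ t, Val ε q j i s t)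
    ⟨t, s, hst.symm⟩
  obtain ⟨e1, e2⟩ := Val.uniq h hij h1 h2.symm
  rw [← e2]; exact h1

theorem F_eq (h : Sit Γ ε) {i j : ι} (hij : i ≠ j) {q : Γ} (hq : ∀ a, q • ε a = ε a) {s t : ZMod 2}
    (hv : Val ε q i j s t) : F ε q i j = s ∧ F ε q j i = t :=
  Val.uniq h hij (h.val_F hij hq) hv

theorem F_mul (h : Sit Γ ε) {i j : ι} (hij : i ≠ j) {q q' : Γ} (hq : ∀ a, q • ε a = ε a)
    (hq' : ∀ a, q' • ε a = ε a) : F ε (q * q') i j = F ε q i j + F ε q' i j := by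
  have hqq : ∀ a, (q * q') • ε a = ε a := fun a => by rw [mul_smul, hq', hq]
  refine (h.F_eq hij hqq (t := F ε q j i + F ε q' j i) fun u hu hn => ?_).1
  rw [mul_smul, h.val_F hij hq' u hu hn, smul_add, hq, h.val_F hij hq u hu hn, Pi.single_add, Pi.single_add]
  simp only [map_add]
  abel

theorem F_one (h : Sit Γ ε) {i j : ι} (hij : i ≠ j) : F ε (1 : Γ) i j = 0 := by
  refine (h.F_eq hij (fun a => one_smul Γ _) (t := 0) fun u hu hn => ?_).1
  simp

theorem fix_of_F (h : Sit Γ ε) {i j : ι} (hij : i ≠ j) {q : Γ} (hq : ∀ a, q • ε a = ε a)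
    (h1 : F ε q i j = 0) (h2 : F ε q j i = 0) {u : W} (hu : u ∈ Wp Γ ε i j) : q • u = u := by
  by_cases hn : ∀ a, u ≠ ε a
  · rw [h.val_F hij hq u hu hn, h1, h2]; simp
  · push Not at hn
    obtain ⟨a, rfl⟩ := hn
    exact hq a

theorem F_of_fix (h : Sit Γ ε) {i j : ι} (hij : i ≠ j) {q : Γ} (hq : ∀ a, q • ε a = ε a)
    (hf : ∀ u ∈ Wp Γ ε i j, q • u = u) : F ε q i j = 0 ∧ F ε q j i = 0 :=
  h.F_eq hij hq fun u hu _ => by rw [hf u hu]; simp

theorem conj_fix {n q : Γ} {σ : Equiv.Perm ι} (hn : Act ε n σ) (hq : ∀ a, q • ε a = ε a) (a : ι → ZMod 2) :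
    (n * q * n⁻¹) • ε a = ε a := by
  rw [mul_smul, mul_smul, hn.inv, hq, hn]
  congr 1
  funext i
  simp

theorem Act_mem {n : Γ} {σ : Equiv.Perm ι} (hn : Act ε n σ) {u : W} (hu : ∀ a, u ≠ ε a) (a : ι → ZMod 2) :
    n • u ≠ ε a := by
  intro e
  rw [← eq_inv_smul_iff, hn.inv] at e
  exact hu _ e

/-- `f_{σi,σj}(q^n) = f_ij(q)` -/
theorem F_conj (h : Sit Γ ε) {n q : Γ} {σ : Equiv.Perm ι} (hn : Act ε n σ) (hq : ∀ a, q • ε a = ε a) {i j : ι}
    (hij : i ≠ j) : F ε (n * q * n⁻¹) (σ i) (σ j) = F ε q i j := by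
  refine (h.F_eq (fun e => hij (σ.injective e)) (conj_fix hn hq) (t := F ε q j i) fun u hu hnu => ?_).1
  have h1 := hn.inv.smul_Wp hu
  rw [Equiv.symm_apply_apply, Equiv.symm_apply_apply] at h1
  have h2 := Act_mem hn.inv hnu
  rw [mul_smul, mul_smul, h.val_F hij hq _ h1 h2, smul_add, smul_inv_smul, hn]
  congr 2
  funext k
  simp only [Function.comp_apply, Pi.add_apply, Pi.single_apply, Equiv.symm_apply_eq]


/-- **(2), (3) of #21224**: `s = u_1 + u_2`, `u_a ∈ W_aj` outside the line; `e_0` acts on the line `r • V` as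
`(12)`, `[s^r, e] ∈ W_12`. Then `s + s^r ∈ W_12`. -/
theorem coset (h : Sit Γ ε) {i j k : ι} (hij : i ≠ j) (hik : i ≠ k) (hjk : j ≠ k) {r e : Γ}
    (hr : r ∈ CD Γ ε i j) (hrl : ∃ a, ∀ b, r • ε a ≠ ε b) (he : ∀ a, e • ε a = ε a)
    (he1 : ∀ u ∈ Wp Γ ε i j, (∀ a, u ≠ ε a) → ∃ a : ι → ZMod 2, a i ≠ a j ∧ e • u = u + ε a)
    {u1 u2 : W} (hu1 : u1 ∈ Wp Γ ε i k) (hn1 : ∀ a, u1 ≠ ε a) (hu2 : u2 ∈ Wp Γ ε j k) (hn2 : ∀ a, u2 ≠ ε a)
    {s : W} (hsdef : s = u1 + u2) (hs : (e * r) • s + r • s ∈ Wp Γ ε i j) : s + r • s ∈ Wp Γ ε i j := by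
  classical
  have heC : e ∈ CD Γ ε i j := fun a _ => he a
  -- the element `x_i`
  obtain ⟨x, hx⟩ : ∃ x : ι → ZMod 2, x = Pi.single i 1 := ⟨_, rfl⟩
  have hxi : x i = 1 := by rw [hx]; exact Pi.single_eq_same i 1
  have hxj : x j = 0 := by rw [hx]; exact Pi.single_eq_of_ne hij.symm 1
  -- every `a` is in `D` or in `x + D`
  have hcos : ∀ a : ι → ZMod 2, a i = a j ∨ (a + x) i = (a + x) j := by
    intro a
    have : ∀ s t : ZMod 2, s = t ∨ s + 1 = t + 0 := by decide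
    rcases this (a i) (a j) with e1 | e1
    · exact Or.inl e1
    · right; rw [Pi.add_apply, Pi.add_apply, hxi, hxj]; exact e1
  have hsplit : ∀ a : ι → ZMod 2, ε a = ε (a + x) + ε x := fun a => by
    rw [← map_add, add_assoc, fun_add_self, add_zero]
  -- `y • V = y' • V` for `y, y' ∈ CD`
  obtain ⟨L, hL⟩ : ∃ L : Γ → Γ → Prop, ∀ y y', L y y' ↔ ∃ d : ι → ZMod 2, d i = d j ∧ y • ε x = y' • ε x + ε d :=
    ⟨_, fun _ _ => Iff.rfl⟩
  have Lsymm : ∀ y y', L y y' → L y' y := by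
    intro y y' hy
    rw [hL] at hy ⊢
    obtain ⟨d, hd, e1⟩ := hy
    exact ⟨d, hd, by rw [e1, add_assoc, h.tor, add_zero]⟩
  have Ltrans : ∀ y y' y'', L y y' → L y' y'' → L y y'' := by
    intro y y' y'' h1 h2
    rw [hL] at h1 h2 ⊢
    obtain ⟨d, hd, e1⟩ := h1
    obtain ⟨d', hd', e2⟩ := h2
    refine ⟨d + d', by rw [Pi.add_apply, Pi.add_apply, hd, hd'], ?_⟩
    rw [e1, e2, map_add]; abel
  have Lcancel : ∀ z ∈ CD Γ ε i j, ∀ y y', L (z * y) (z * y') → L y y' := by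
    intro z hz y y' h1
    rw [hL] at h1 ⊢
    obtain ⟨d, hd, e1⟩ := h1
    refine ⟨d, hd, ?_⟩
    rw [← hz d hd, mul_smul, mul_smul, ← smul_add] at e1
    exact smul_left_cancel z e1
  have Lline : ∀ y ∈ CD Γ ε i j, ∀ y' ∈ CD Γ ε i j, L y y' → ∀ a, ∃ b, y • ε a = y' • ε b := by
    intro y hy y' hy' h1 a
    rw [hL] at h1
    obtain ⟨d, hd, e1⟩ := h1
    rcases hcos a with ha | ha
    · exact ⟨a, by rw [hy a ha, hy' a ha]⟩
    · refine ⟨a + d, ?_⟩
      rw [map_add, hsplit a, smul_add, smul_add, smul_add, hy _ ha, hy' _ ha, e1, hy' d hd]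
      abel
  -- an element of `N(V) ∩ CD` moves `s` by an element of the line
  have key : ∀ n ∈ CD Γ ε i j, (∀ a, ∃ b, n • ε a = ε b) → ∃ a, n • s = s + ε a := by
    intro n hn hnl
    obtain ⟨σ, hσ⟩ := h.perm n hnl
    -- `σ` fixes all letters except `i`, `j`
    have hfix : ∀ a : ι → ZMod 2, a i = a j → a ∘ σ.symm = a := by
      intro a ha
      have := hn a ha
      rw [hσ a] at this
      exact h.inj this
    have hk : ∀ l, l ≠ i → l ≠ j → σ l = l := by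
      intro l hli hlj
      have h1 := hfix (Pi.single l 1) (by simp [hli.symm, hlj.symm])
      have h2 := congrFun h1 (σ l)
      simp only [Function.comp_apply, Equiv.symm_apply_apply, Pi.single_eq_same] at h2
      by_contra hne
      rw [Pi.single_eq_of_ne hne] at h2
      exact one_ne_zero h2
    have hkk : σ k = k := hk k hik.symm hjk.symm
    have hi : σ i = i ∨ σ i = j := by
      by_contra hcon
      push Not at hcon
      exact hcon.1 (σ.injective (hk _ hcon.1 hcon.2))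
    have hj : σ j = i ∨ σ j = j := by
      by_contra hcon
      push Not at hcon
      exact hcon.2 (σ.injective (hk _ hcon.1 hcon.2))
    have m1 := hσ.smul_Wp hu1
    have m2 := hσ.smul_Wp hu2
    rw [hkk] at m1 m2
    have o1 := Act_mem hσ hn1
    have o2 := Act_mem hσ hn2
    rcases hi with hi | hi
    · have hj' : σ j = j := hj.resolve_left fun e' => hij (σ.injective (hi.trans e'.symm))
      rw [hi] at m1; rw [hj'] at m2
      obtain ⟨a, ha⟩ := h.two i k hik _ m1 _ hu1 o1 hn1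
      obtain ⟨b, hb⟩ := h.two j k hjk _ m2 _ hu2 o2 hn2
      rw [h.add_eq_iff] at ha hb
      exact ⟨a + b, by rw [hsdef, smul_add, ha, hb, map_add]; abel⟩
    · have hj' : σ j = i := hj.resolve_right fun e' => hij (σ.injective (hi.trans e'.symm))
      rw [hi] at m1; rw [hj'] at m2
      obtain ⟨a, ha⟩ := h.two j k hjk _ m1 _ hu2 o1 hn2
      obtain ⟨b, hb⟩ := h.two i k hik _ m2 _ hu1 o2 hn1
      rw [h.add_eq_iff] at ha hb
      exact ⟨a + b, by rw [hsdef, smul_add, ha, hb, map_add]; abel⟩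
  -- elements of `CD` with the same image of the line
  obtain ⟨R, hR⟩ : ∃ R : Γ → Γ → Prop, ∀ y y', R y y' ↔ y • s + y' • s ∈ Wp Γ ε i j := ⟨_, fun _ _ => Iff.rfl⟩
  have Rsymm : ∀ y y', R y y' → R y' y := fun y y' h1 => by rw [hR] at h1 ⊢; rwa [add_comm]
  have Rtrans : ∀ y y' y'', R y y' → R y' y'' → R y y'' := by
    intro y y' y'' h1 h2
    rw [hR] at h1 h2 ⊢
    have h3 := add_mem h1 h2
    have e1 : y • s + y' • s + (y' • s + y'' • s) = y • s + y'' • s := by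
      calc y • s + y' • s + (y' • s + y'' • s) = y • s + (y' • s + y' • s) + y'' • s := by abel
        _ = _ := by rw [h.tor, add_zero]
    rwa [e1] at h3
  have Rmul : ∀ z ∈ CD Γ ε i j, ∀ y y', R y y' → R (z * y) (z * y') := by
    intro z hz y y' h1
    rw [hR] at h1 ⊢
    rw [mul_smul, mul_smul, ← smul_add]
    exact CD_smul_Wp hz h1
  have RL : ∀ y ∈ CD Γ ε i j, ∀ y' ∈ CD Γ ε i j, L y y' → R y y' := by
    intro y hy y' hy' hyy
    obtain ⟨a, ha⟩ := key (y'⁻¹ * y) (mul_mem (inv_mem hy') hy) fun a => by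
      obtain ⟨b, hb⟩ := Lline y hy y' hy' hyy a
      exact ⟨b, by rw [mul_smul, hb, inv_smul_smul]⟩
    rw [mul_smul, inv_smul_eq_iff, smul_add] at ha
    rw [hR, ha, add_comm (y' • s), add_assoc, h.tor, add_zero]
    exact smul_mem_Wp' hy' a
  -- `r • x_i` is not on the line
  have hrx : ∀ b, r • ε x ≠ ε b := by
    intro b hb
    obtain ⟨a, ha⟩ := hrl
    rcases hcos a with h1 | h1
    · exact ha a (hr a h1)
    · apply ha (b + (a + x))
      rw [show r • ε a = r • ε (a + x) + r • ε x by rw [← smul_add, ← hsplit a], hr _ h1, hb,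
        map_add ε b (a + x), add_comm]
  have hrxW : r • ε x ∈ Wp Γ ε i j := smul_mem_Wp' hr x
  obtain ⟨a₁, ha₁, her⟩ := he1 _ hrxW hrx
  -- the trichotomy
  have tri : ∀ y ∈ CD Γ ε i j, L y 1 ∨ L y r ∨ L y (e * r) := by
    intro y hy
    by_cases h0 : ∃ b, y • ε x = ε b
    · left
      obtain ⟨b, hb⟩ := h0
      rw [hL]
      refine ⟨b + x, ?_, ?_⟩
      · by_contra hne
        rcases hcos b with h1 | h1
        · have := h.inj (smul_left_cancel y ((hy b h1).trans hb.symm))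
          rw [this, hxi, hxj] at h1
          exact one_ne_zero h1
        · exact hne h1
      · rw [one_smul, hb, map_add, add_comm (ε b), ← add_assoc, h.tor, zero_add]
    · push Not at h0
      right
      obtain ⟨c, hc⟩ := h.two i j hij _ (smul_mem_Wp' hy x) _ hrxW h0 hrx
      rw [h.add_eq_iff] at hc
      by_cases hcc : c i = c j
      · left; rw [hL]; exact ⟨c, hcc, hc⟩
      · right
        rw [hL]
        refine ⟨a₁ + c, ?_, ?_⟩
        · have : ∀ s t s' t' : ZMod 2, s ≠ t → s' ≠ t' → s + s' = t + t' := by decide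
          exact this _ _ _ _ ha₁ hcc
        · rw [hc, mul_smul, her, map_add]
          have := h.tor (ε a₁)
          calc r • ε x + ε c = r • ε x + ε c + (ε a₁ + ε a₁) := by rw [this, add_zero]
            _ = _ := by abel
  -- the lines `V`, `rV`, `erV` are different
  have n1 : ¬ L r 1 := by
    rw [hL]
    rintro ⟨d, -, e1⟩
    exact hrx (x + d) (by rw [e1, one_smul, map_add])
  have n2 : ¬ L (e * r) 1 := by
    rw [hL]
    rintro ⟨d, -, e1⟩
    rw [one_smul, ← map_add, mul_smul] at e1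
    have e2 := he (x + d)
    rw [← e1] at e2
    exact hrx (x + d) ((smul_left_cancel e e2).symm.trans e1 |>.trans rfl)
  have n3 : ¬ L (e * r) r := by
    rw [hL]
    rintro ⟨d, hd, e1⟩
    rw [mul_smul, her] at e1
    have := h.inj (add_left_cancel e1)
    exact ha₁ (by rw [this]; exact hd)
  have herC : e * r ∈ CD Γ ε i j := mul_mem heC hr
  have hs' : R (e * r) r := (hR _ _).2 hs
  have hrs : R (r * (e * r)) (r * r) := Rmul r hr _ _ hs'
  have cr1 : ∀ y, L (r * y) r → L y 1 := fun y t => Lcancel r hr y 1 (by rwa [mul_one])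
  have goal : R 1 r := by
    rcases tri (r * r) (mul_mem hr hr) with t1 | t1 | t1
    · rcases tri (r * (e * r)) (mul_mem hr herC) with t2 | t2 | t2
      · exact absurd (Lcancel r hr _ _ (Ltrans _ _ _ t2 (Lsymm _ _ t1))) n3
      · exact absurd (cr1 _ t2) n2
      · exact Rtrans _ _ _ (Rsymm _ _ (RL _ (mul_mem hr hr) _ (one_mem _) t1))
          (Rtrans _ _ _ (Rsymm _ _ hrs) (Rtrans _ _ _ (RL _ (mul_mem hr herC) _ herC t2) hs'))
    · exact absurd (cr1 _ t1) n1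
    · rcases tri (r * (e * r)) (mul_mem hr herC) with t2 | t2 | t2
      · exact Rtrans _ _ _ (Rsymm _ _ (RL _ (mul_mem hr herC) _ (one_mem _) t2))
          (Rtrans _ _ _ hrs (Rtrans _ _ _ (RL _ (mul_mem hr hr) _ herC t1) hs'))
      · exact absurd (cr1 _ t2) n2
      · exact absurd (Lcancel r hr _ _ (Ltrans _ _ _ t2 (Lsymm _ _ t1))) n3
  rw [hR, one_smul] at goal
  exact goal


/-- an element of `CD` which moves the line moves everything outside `D` -/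
theorem off {i j : ι} {r : Γ} (hr : r ∈ CD Γ ε i j) (hrl : ∃ a, ∀ b, r • ε a ≠ ε b)
    {c : ι → ZMod 2} (hc : c i ≠ c j) (b : ι → ZMod 2) : r • ε c ≠ ε b := by
  intro hb
  obtain ⟨a, ha⟩ := hrl
  by_cases h1 : a i = a j
  · exact ha a (hr a h1)
  · have h2 : (a + c) i = (a + c) j := by
      have : ∀ s t s' t' : ZMod 2, s ≠ t → s' ≠ t' → s + s' = t + t' := by decide
      exact this _ _ _ _ h1 hc
    apply ha (b + (a + c))
    have h3 : ε a = ε (a + c) + ε c := by rw [← map_add, add_assoc, fun_add_self, add_zero]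
    rw [show r • ε a = r • ε (a + c) + r • ε c by rw [← smul_add, ← h3], hr _ h2, hb,
      map_add ε b (a + c), add_comm]

/-- **(4)** -/
theorem four (h : Sit Γ ε) {i j k : ι} (hij : i ≠ j) (hik : i ≠ k) (hjk : j ≠ k) {r : Γ}
    (hr : r ∈ CD Γ ε i j) (hrl : ∃ a, ∀ b, r • ε a ≠ ε b)
    {u1 u2 : W} (hu1 : u1 ∈ Wp Γ ε i k) (hn1 : ∀ a, u1 ≠ ε a) (hu2 : u2 ∈ Wp Γ ε j k) (hn2 : ∀ a, u2 ≠ ε a)
    {s : W} (hsdef : s = u1 + u2) (hs : s + r • s ∈ Wp Γ ε i j) {q : Γ} (hq : ∀ a, q • ε a = ε a)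
    (h1 : F ε q i j = 0) (h2 : F ε q j i = 0) : F ε q i k = F ε q j k := by
  have hfix : ∀ u ∈ Wp Γ ε i j, q • u = u := fun u hu => h.fix_of_F hij hq h1 h2 hu
  -- the value of an element on `s`
  have hval : ∀ q : Γ, (∀ a, q • ε a = ε a) → ∃ c : ι → ZMod 2, q • s = s + ε c ∧ c i = F ε q i k ∧
      c j = F ε q j k := by
    intro q hq
    refine ⟨(Pi.single i (F ε q i k) + Pi.single k (F ε q k i)) + (Pi.single j (F ε q j k) + Pi.single k (F ε q k j)),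
      ?_, ?_, ?_⟩
    · rw [hsdef, smul_add, h.val_F hik hq u1 hu1 hn1, h.val_F hjk hq u2 hu2 hn2]
      simp only [map_add]
      abel
    · simp [hij, hik]
    · simp [hij.symm, hjk]
  obtain ⟨c, hc, hci, hcj⟩ := hval q hq
  have hq' : ∀ a, (r⁻¹ * q * r) • ε a = ε a := by
    intro a
    rw [mul_smul, mul_smul, hfix _ (smul_mem_Wp' hr a), inv_smul_smul]
  obtain ⟨c', hc', -, -⟩ := hval _ hq'
  have e1 : ε c = r • ε c' := by
    have e2 : ε c = q • s + s := by rw [hc, add_comm s, add_assoc, h.tor, add_zero]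
    have e3 : r • ε c' = q • (r • s) + r • s := by
      have : ε c' = (r⁻¹ * q * r) • s + s := by rw [hc', add_comm s, add_assoc, h.tor, add_zero]
      rw [this, smul_add, mul_smul, mul_smul, smul_inv_smul]
    have e4 := hfix _ hs
    rw [smul_add] at e4
    rw [e2, e3]
    have e5 : q • s + s + (q • r • s + r • s) = 0 := by
      calc q • s + s + (q • r • s + r • s) = (q • s + q • r • s) + (s + r • s) := by abel
        _ = 0 := by rw [e4, h.tor]
    exact h.eq_of_add e5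
  rw [← hci, ← hcj]
  by_contra hne
  have hne' : c' i ≠ c' j := by
    intro heq
    rw [hr c' heq] at e1
    rw [h.inj e1] at hne
    exact hne heq
  exact off hr hrl hne' c e1.symm

/-- `E` is quadratic and `|[w, E]| ≠ 2` -/
structure Off (E : Subgroup Γ) (W : Type v) [AddCommGroup W] [DistribMulAction Γ W] : Prop where
  quad : ∀ e ∈ E, ∀ e' ∈ E, ∀ w : W, e' • (e • w + w) = e • w + w
  big : ∀ w c : W, (∀ e ∈ E, e • w = w ∨ e • w = w + c) → ∀ e ∈ E, e • w = w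

/-- **the dichotomy** -/
theorem dich (h : Sit Γ ε) {E : Subgroup Γ} (hE : Off E W) (hV : ∀ e ∈ E, ∀ a, e • ε a = ε a) {i j : ι}
    (hij : i ≠ j) : (∀ e ∈ E, ∀ u ∈ Wp Γ ε i j, e • u = u) ∨
      ∀ s t : ZMod 2, ∃ e ∈ E, F ε e i j = s ∧ F ε e j i = t := by
  by_cases h0 : ∀ e ∈ E, F ε e i j = 0 ∧ F ε e j i = 0
  · left
    intro e he u hu
    exact h.fix_of_F hij (hV e he) (h0 e he).1 (h0 e he).2 hu
  right
  push Not at h0
  obtain ⟨e1, he1, h1⟩ := h0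
  obtain ⟨u, hu, hn⟩ := h.ne i j hij
  have hu1 : ¬ ∀ e ∈ E, e • u = u := by
    intro hall
    have h2 := hall e1 he1
    rw [h.val_F hij (hV e1 he1) u hu hn] at h2
    have h3 : ε (Pi.single i (F ε e1 i j) + Pi.single j (F ε e1 j i)) = ε 0 := by
      rw [map_zero]; exact add_eq_left.1 h2
    have h4 := single_inj (s' := 0) (t' := 0) hij ((h.inj h3).trans (by simp))
    exact h1 h4.1 h4.2
  have hbig : ¬ ∀ e ∈ E, e • u = u ∨ e • u = u + ε (Pi.single i (F ε e1 i j) + Pi.single j (F ε e1 j i)) :=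
    fun hall => hu1 (hE.big u _ hall)
  push Not at hbig
  obtain ⟨e2, he2, h2, h3⟩ := hbig
  have v2 := h.val_F hij (hV e2 he2) u hu hn
  have c2 : ¬ (F ε e2 i j = 0 ∧ F ε e2 j i = 0) := by
    rintro ⟨a, b⟩
    rw [a, b] at v2
    exact h2 (by rw [v2]; simp)
  have c3 : ¬ (F ε e2 i j = F ε e1 i j ∧ F ε e2 j i = F ε e1 j i) := by
    rintro ⟨a, b⟩
    rw [a, b] at v2
    exact h3 v2
  intro s t
  have hm1 := h.F_mul hij (hV e1 he1) (hV e2 he2)
  have hm2 := h.F_mul hij.symm (hV e1 he1) (hV e2 he2)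
  have hcase : ∀ s t a b a' b' : ZMod 2, (a = 0 → b ≠ 0) → ¬ (a' = 0 ∧ b' = 0) → ¬ (a' = a ∧ b' = b) →
      (s = 0 ∧ t = 0) ∨ (s = a ∧ t = b) ∨ (s = a' ∧ t = b') ∨ (s = a + a' ∧ t = b + b') := by
    intro s t a b a' b' g1 g2 g3
    rcases zmod_cases s with rfl | rfl <;> rcases zmod_cases t with rfl | rfl <;>
      rcases zmod_cases a with rfl | rfl <;> rcases zmod_cases b with rfl | rfl <;>
      rcases zmod_cases a' with rfl | rfl <;> rcases zmod_cases b' with rfl | rfl <;>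
      revert g1 g2 g3 <;> decide
  rcases hcase s t _ _ _ _ h1 c2 c3 with ⟨e3, e4⟩ | ⟨e3, e4⟩ | ⟨e3, e4⟩ | ⟨e3, e4⟩
  · exact ⟨1, one_mem _, by rw [h.F_one hij, e3], by rw [h.F_one hij.symm, e4]⟩
  · exact ⟨e1, he1, e3.symm, e4.symm⟩
  · exact ⟨e2, he2, e3.symm, e4.symm⟩
  · exact ⟨e1 * e2, mul_mem he1 he2, by rw [hm1, e3], by rw [hm2, e4]⟩

/-- a permutation which maps a triple to a triple -/
theorem exists_perm {i j k i' j' k' : ι} (hij : i ≠ j) (hik : i ≠ k) (hjk : j ≠ k) (hij' : i' ≠ j')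
    (hik' : i' ≠ k') (hjk' : j' ≠ k') : ∃ σ : Equiv.Perm ι, σ i = i' ∧ σ j = j' ∧ σ k = k' := by
  let σ1 := Equiv.swap i i'
  have a1 : σ1 i = i' := Equiv.swap_apply_left _ _
  let σ2 := Equiv.swap (σ1 j) j'
  have n1 : σ1 j ≠ i' := fun e => hij (σ1.injective (a1.trans e.symm))
  have a2 : σ2 i' = i' := Equiv.swap_apply_of_ne_of_ne n1.symm hij'
  have b2 : σ2 (σ1 j) = j' := Equiv.swap_apply_left _ _
  let σ3 := Equiv.swap (σ2 (σ1 k)) k'
  have n2 : σ2 (σ1 k) ≠ i' := fun e => hik (σ1.injective (σ2.injective ((by rw [a1, a2, e]))))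
  have n3 : σ2 (σ1 k) ≠ j' := fun e => hjk (σ1.injective (σ2.injective ((by rw [b2, e]))))
  refine ⟨σ3 * σ2 * σ1, ?_, ?_, ?_⟩
  · simp only [Equiv.Perm.mul_apply, a1, a2]
    exact Equiv.swap_apply_of_ne_of_ne n2.symm hik'
  · simp only [Equiv.Perm.mul_apply, b2]
    exact Equiv.swap_apply_of_ne_of_ne n3.symm hjk'
  · simp only [Equiv.Perm.mul_apply]
    exact Equiv.swap_apply_left _ _

/-- **(1)–(4)** -/
theorem rel (h : Sit Γ ε) {E : Subgroup Γ} (hE : Off E W) (hV : ∀ e ∈ E, ∀ a, e • ε a = ε a) {i j k : ι}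
    (hij : i ≠ j) (hik : i ≠ k) (hjk : j ≠ k) (hm : ∀ s t : ZMod 2, ∃ e ∈ E, F ε e i j = s ∧ F ε e j i = t) :
    ∃ α : ZMod 2, ∀ q : Γ, (∀ a, q • ε a = ε a) →
      F ε q i k + F ε q j k = α * (F ε q i j + F ε q j i) := by
  -- an element `r ∈ CD` moving the line
  obtain ⟨r, hr, a₀, ha₀⟩ : ∃ r ∈ CD Γ ε i j, ∃ a, ∀ b, r • ε a ≠ ε b := by
    by_contra hcon
    push Not at hcon
    obtain ⟨u, hu, hn⟩ := h.ne i j hij
    have : Wp Γ ε i j ≤ ε.range := by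
      unfold Wp
      rw [AddSubgroup.closure_le]
      rintro w ⟨r, hr, a, rfl⟩
      obtain ⟨b, hb⟩ := hcon r hr a
      exact ⟨b, hb.symm⟩
    obtain ⟨a, ha⟩ := this hu
    exact hn a ha.symm
  have hrl : ∃ a, ∀ b, r • ε a ≠ ε b := ⟨a₀, ha₀⟩
  obtain ⟨u1, hu1, hn1⟩ := h.ne i k hik
  obtain ⟨u2, hu2, hn2⟩ := h.ne j k hjk
  obtain ⟨e0, he0, v0, v0'⟩ := hm 1 1
  obtain ⟨e, he, v1, v1'⟩ := hm 1 0
  obtain ⟨e', he', v2, v2'⟩ := hm 0 1
  have c0 := hV e0 he0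
  have c1 := hV e he
  have c2 := hV e' he'
  let x : ι → ZMod 2 := Pi.single i 1
  have hxi : x i = 1 := Pi.single_eq_same i 1
  have hxj : x j = 0 := Pi.single_eq_of_ne hij.symm 1
  -- `n = r⁻¹ e0 r` acts on the line as `(i j)`
  have hD0 : ∀ u ∈ Wp Γ ε i j, (∀ a, u ≠ ε a) → e0 • u = u + ε (Pi.single i 1 + Pi.single j 1) := by
    intro u hu hn
    rw [h.val_F hij c0 u hu hn, v0, v0']
  have hn : Act ε (r⁻¹ * e0 * r) (Equiv.swap i j) := by
    intro a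
    rw [mul_smul, mul_smul, inv_smul_eq_iff]
    by_cases ha : a i = a j
    · have e1 : a ∘ (Equiv.swap i j).symm = a := by
        funext l
        simp only [Function.comp_apply, Equiv.symm_swap]
        by_cases hl : l = i
        · rw [hl, Equiv.swap_apply_left, ha]
        · by_cases hl' : l = j
          · rw [hl', Equiv.swap_apply_right, ha]
          · rw [Equiv.swap_apply_of_ne_of_ne hl hl']
      rw [e1, hr a ha, c0]
    · have e1 : a ∘ (Equiv.swap i j).symm = a + (Pi.single i 1 + Pi.single j 1) := by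
        funext l
        simp only [Function.comp_apply, Equiv.symm_swap, Pi.add_apply]
        have hz : ∀ s t : ZMod 2, s ≠ t → t = s + 1 := by decide
        by_cases hl : l = i
        · rw [hl, Equiv.swap_apply_left, Pi.single_eq_same, Pi.single_eq_of_ne hij, add_zero]
          exact hz _ _ ha
        · by_cases hl' : l = j
          · rw [hl', Equiv.swap_apply_right, Pi.single_eq_same, Pi.single_eq_of_ne hij.symm, zero_add]
            exact hz _ _ (Ne.symm ha)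
          · rw [Equiv.swap_apply_of_ne_of_ne hl hl', Pi.single_eq_of_ne hl, Pi.single_eq_of_ne hl']
            simp
      rw [e1, hD0 _ (smul_mem_Wp' hr a) (off hr hrl ha), map_add ε a, smul_add]
      congr 1
      refine (hr _ ?_).symm
      simp [hij, hij.symm]
  -- `y = e0 r u1 + r u1 ∈ r (u1 + u2) + r V`, and `y` is centralised by `e`
  obtain ⟨v, hv⟩ : ∃ v, (r⁻¹ * e0 * r) • u1 = u2 + ε v := by
    have m1 := hn.smul_Wp hu1
    rw [Equiv.swap_apply_left, Equiv.swap_apply_of_ne_of_ne hik.symm hjk.symm] at m1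
    obtain ⟨v, hv⟩ := h.two j k hjk _ m1 _ hu2 (Act_mem hn hn1) hn2
    exact ⟨v, by rwa [h.add_eq_iff] at hv⟩
  rw [mul_smul, mul_smul, inv_smul_eq_iff, smul_add] at hv
  have hy := hE.quad e0 he0 e he (r • u1)
  rw [hv] at hy
  have hs : (e * r) • (u1 + u2) + r • (u1 + u2) ∈ Wp Γ ε i j := by
    have e1 : (e * r) • (u1 + u2) + r • (u1 + u2) = e • r • ε v + r • ε v := by
      rw [smul_add, smul_add] at hy
      apply h.eq_of_add
      rw [mul_smul, smul_add, smul_add]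
      have e5 : e • r • u2 + e • r • ε v + e • r • u1 + (r • u2 + r • ε v + r • u1) = 0 := by
        rw [hy]; exact h.tor _
      calc e • r • u1 + e • r • u2 + (r • u1 + r • u2) + (e • r • ε v + r • ε v)
          = e • r • u2 + e • r • ε v + e • r • u1 + (r • u2 + r • ε v + r • u1) := by abel
        _ = 0 := e5
    rw [e1]
    exact add_mem (CD_smul_Wp (fun a _ => c1 a) (smul_mem_Wp' hr v)) (smul_mem_Wp' hr v)
  have hs' := h.coset hij hik hjk hr hrl c1 (fun u hu hn => ⟨Pi.single i 1, by simp [hij.symm], by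
    rw [h.val_F hij c1 u hu hn, v1, v1']; simp⟩) hu1 hn1 hu2 hn2 rfl hs
  have key : ∀ q : Γ, (∀ a, q • ε a = ε a) → F ε q i j = 0 → F ε q j i = 0 → F ε q i k = F ε q j k :=
    fun q hq => h.four hij hik hjk hr hrl hu1 hn1 hu2 hn2 rfl hs' hq
  -- `g q = a (F q i j) + b (F q j i)`
  let a := F ε e i k + F ε e j k
  let b := F ε e' i k + F ε e' j k
  have lin : ∀ q : Γ, (∀ a, q • ε a = ε a) → F ε q i k + F ε q j k = a * F ε q i j + b * F ε q j i := by
    intro q hq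
    have M : ∀ x y : Γ, (∀ a, x • ε a = ε a) → (∀ a, y • ε a = ε a) → ∀ a, (x * y) • ε a = ε a :=
      fun x y hx hy a => by rw [mul_smul, hy, hx]
    rcases zmod_cases (F ε q i j) with p | p <;> rcases zmod_cases (F ε q j i) with p' | p'
    · rw [p, p', key q hq p p', zmod_add_self]; simp
    · have h1 := h.F_mul hij hq c2
      have h2 := h.F_mul hij.symm hq c2
      rw [p, v2, add_zero] at h1
      rw [p', v2', zmod_add_self] at h2
      have h3 := key _ (M _ _ hq c2) h1 h2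
      rw [h.F_mul hik hq c2, h.F_mul hjk hq c2] at h3
      rw [p, p']
      show _ = _ + (F ε e' i k + F ε e' j k) * 1
      rw [mul_zero, zero_add, mul_one]
      have : ∀ s t s' t' : ZMod 2, s + s' = t + t' → s + t = s' + t' := by decide
      exact this _ _ _ _ h3
    · have h1 := h.F_mul hij hq c1
      have h2 := h.F_mul hij.symm hq c1
      rw [p, v1, zmod_add_self] at h1
      rw [p', v1', add_zero] at h2
      have h3 := key _ (M _ _ hq c1) h1 h2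
      rw [h.F_mul hik hq c1, h.F_mul hjk hq c1] at h3
      rw [p, p']
      show _ = (F ε e i k + F ε e j k) * 1 + _
      rw [mul_zero, add_zero, mul_one]
      have : ∀ s t s' t' : ZMod 2, s + s' = t + t' → s + t = s' + t' := by decide
      exact this _ _ _ _ h3
    · have hq1 := M _ _ hq c1
      have h1 := h.F_mul hij hq1 c2
      have h2 := h.F_mul hij.symm hq1 c2
      rw [h.F_mul hij hq c1, p, v1, v2, zmod_add_self, add_zero] at h1
      rw [h.F_mul hij.symm hq c1, p', v1', v2', add_zero, zmod_add_self] at h2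
      have h3 := key _ (M _ _ hq1 c2) h1 h2
      rw [h.F_mul hik hq1 c2, h.F_mul hjk hq1 c2, h.F_mul hik hq c1, h.F_mul hjk hq c1] at h3
      rw [p, p']
      show _ = (F ε e i k + F ε e j k) * 1 + (F ε e' i k + F ε e' j k) * 1
      rw [mul_one, mul_one]
      have : ∀ s t s' t' s'' t'' : ZMod 2, s + s' + s'' = t + t' + t'' → s + t = s' + t' + (s'' + t'') := by decide
      exact this _ _ _ _ _ _ h3
  obtain ⟨n, hn'⟩ := h.sym (Equiv.swap i j)
  have hab : a = b := by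
    have h1 := lin _ (conj_fix hn' c1)
    have f1 := h.F_conj hn' c1 hij
    have f2 := h.F_conj hn' c1 hij.symm
    have f3 := h.F_conj hn' c1 hik
    have f4 := h.F_conj hn' c1 hjk
    rw [Equiv.swap_apply_left, Equiv.swap_apply_right] at f1
    rw [Equiv.swap_apply_left, Equiv.swap_apply_right] at f2
    rw [Equiv.swap_apply_left, Equiv.swap_apply_of_ne_of_ne hik.symm hjk.symm] at f3
    rw [Equiv.swap_apply_right, Equiv.swap_apply_of_ne_of_ne hik.symm hjk.symm] at f4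
    rw [f1, f2, f3, f4, v1, v1'] at h1
    rw [mul_zero, mul_one, zero_add, add_comm] at h1
    exact h1
  refine ⟨a, fun q hq => ?_⟩
  rw [lin q hq, ← hab, mul_add]


/-- `(i j)` is moved by `E` -/
def Mv (ε : (ι → ZMod 2) →+ W) (E : Subgroup Γ) (i j : ι) : Prop :=
  ∀ s t : ZMod 2, ∃ e ∈ E, F ε e i j = s ∧ F ε e j i = t

theorem Mv.symm {E : Subgroup Γ} {i j : ι} (h : Mv ε E i j) : Mv ε E j i := by
  intro s t
  obtain ⟨e, he, h1, h2⟩ := h t s
  exact ⟨e, he, h2, h1⟩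

/-- the dichotomy, if some `F` is not zero -/
theorem mv_of_ne (h : Sit Γ ε) {E : Subgroup Γ} (hE : Off E W) (hV : ∀ e ∈ E, ∀ a, e • ε a = ε a) {i j : ι}
    (hij : i ≠ j) {e : Γ} (he : e ∈ E) (hne : F ε e i j ≠ 0) : Mv ε E i j := by
  rcases h.dich hE hV hij with h1 | h1
  · exact absurd (h.F_of_fix hij (hV e he) (h1 e he)).1 hne
  · exact h1

/-- **(1)–(4) for all triples** -/
theorem rel_all (h : Sit Γ ε) {E : Subgroup Γ} (hE : Off E W) (hV : ∀ e ∈ E, ∀ a, e • ε a = ε a) {i₀ j₀ k₀ : ι}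
    (hij₀ : i₀ ≠ j₀) (hik₀ : i₀ ≠ k₀) (hjk₀ : j₀ ≠ k₀) (hm : Mv ε E i₀ j₀) :
    ∃ α : ZMod 2, ∀ i j k : ι, i ≠ j → i ≠ k → j ≠ k → ∀ q : Γ, (∀ a, q • ε a = ε a) →
      F ε q i k + F ε q j k = α * (F ε q i j + F ε q j i) := by
  obtain ⟨α, hα⟩ := h.rel hE hV hij₀ hik₀ hjk₀ hm
  refine ⟨α, fun i j k hij hik hjk q hq => ?_⟩
  obtain ⟨σ, rfl, rfl, rfl⟩ := exists_perm hij₀ hik₀ hjk₀ hij hik hjk
  obtain ⟨n, hn⟩ := h.sym σ
  have hq0 : ∀ a, (n⁻¹ * q * n⁻¹⁻¹) • ε a = ε a := conj_fix hn.inv hq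
  have e1 : n * (n⁻¹ * q * n⁻¹⁻¹) * n⁻¹ = q := by group
  have f1 := h.F_conj hn hq0 hik₀
  have f2 := h.F_conj hn hq0 hjk₀
  have f3 := h.F_conj hn hq0 hij₀
  have f4 := h.F_conj hn hq0 hij₀.symm
  rw [e1] at f1 f2 f3 f4
  rw [f1, f2, f3, f4]
  exact hα _ hq0

/-- **(5)–(7) = (C')**: if one pair is moved, all are -/
theorem all_moved (h : Sit Γ ε) {E : Subgroup Γ} (hE : Off E W) (hV : ∀ e ∈ E, ∀ a, e • ε a = ε a)
    (h4 : ∀ i j k : ι, ∃ l, l ≠ i ∧ l ≠ j ∧ l ≠ k) {i₀ j₀ : ι} (hij₀ : i₀ ≠ j₀) (hm : Mv ε E i₀ j₀)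
    (i j : ι) (hij : i ≠ j) : Mv ε E i j := by
  obtain ⟨k₀, hk1, hk2, -⟩ := h4 i₀ j₀ j₀
  obtain ⟨α, hα⟩ := h.rel_all hE hV hij₀ hk1.symm hk2.symm hm
  rcases zmod_cases α with rfl | rfl
  · -- `F q i k` does not depend on `i`
    have hind : ∀ q : Γ, (∀ a, q • ε a = ε a) → ∀ i j k : ι, i ≠ k → j ≠ k → F ε q i k = F ε q j k := by
      intro q hq i j k hik hjk
      by_cases e : i = j
      · rw [e]
      · have := hα i j k e hik hjk q hq
        rw [zero_mul] at this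
        exact zmod_eq_add _ _ this
    -- `j₀`
    have step : ∀ k, (∃ e ∈ E, ∃ i, i ≠ k ∧ F ε e i k ≠ 0) → ∀ i, i ≠ k → Mv ε E i k := by
      rintro k ⟨e, he, i, hik, hne⟩ i' hi'
      refine h.mv_of_ne hE hV hi' he ?_
      rwa [hind e (hV e he) i' i k hi' hik]
    have hj0 : ∀ i, i ≠ j₀ → Mv ε E i j₀ := by
      obtain ⟨e, he, h1, -⟩ := hm 1 0
      exact step j₀ ⟨e, he, i₀, hij₀, by rw [h1]; exact one_ne_zero⟩
    have hall : ∀ k, k ≠ j₀ → ∀ i, i ≠ k → Mv ε E i k := by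
      intro k hk
      obtain ⟨e, he, -, h1⟩ := hj0 k hk 0 1
      exact step k ⟨e, he, j₀, hk.symm, by rw [h1]; exact one_ne_zero⟩
    by_cases hj : j = j₀
    · subst hj; exact hj0 i hij
    · exact hall j hj i hij
  · -- `F q i k` does not depend on `k`
    have hind : ∀ q : Γ, (∀ a, q • ε a = ε a) → ∀ i j k : ι, i ≠ j → i ≠ k → F ε q i j = F ε q i k := by
      intro q hq i j k hij hik
      by_cases e : j = k
      · rw [e]
      obtain ⟨l, hli, hlj, hlk⟩ := h4 i j k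
      have r1 := hα i j k hij hik e q hq
      have r2 := hα i j l hij hli.symm hlj.symm q hq
      have r3 := hα i k j hik hij (Ne.symm e) q hq
      have r4 := hα i k l hik hli.symm hlk.symm q hq
      have r5 := hα j k l e hlj.symm hlk.symm q hq
      rw [one_mul] at r1 r2 r3 r4 r5
      have h2 : (2 : ZMod 2) = 0 := by decide
      linear_combination r1 + r2 + r3 + r4 + r5 +
        (F ε q i j + F ε q j i + F ε q k i - F ε q i l - F ε q j l - F ε q k l) * h2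
    have step : ∀ k, (∃ e ∈ E, ∃ i, k ≠ i ∧ F ε e k i ≠ 0) → ∀ i, k ≠ i → Mv ε E k i := by
      rintro k ⟨e, he, i, hik, hne⟩ i' hi'
      refine h.mv_of_ne hE hV hi' he ?_
      rwa [hind e (hV e he) k i' i hi' hik]
    have hj0 : ∀ i, i₀ ≠ i → Mv ε E i₀ i := by
      obtain ⟨e, he, h1, -⟩ := hm 1 0
      exact step i₀ ⟨e, he, j₀, hij₀, by rw [h1]; exact one_ne_zero⟩
    have hall : ∀ k, i₀ ≠ k → ∀ i, k ≠ i → Mv ε E k i := by
      intro k hk
      obtain ⟨e, he, -, h1⟩ := hj0 k hk 0 1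
      exact step k ⟨e, he, i₀, hk.symm, by rw [h1]; exact one_ne_zero⟩
    by_cases hj : i₀ = i
    · subst hj; exact hj0 j hij
    · exact hall i hj j hij


/-- `E` centralises one `W_ij` ⟹ all -/
theorem fix_all (h : Sit Γ ε) {E : Subgroup Γ} (hE : Off E W) (hV : ∀ e ∈ E, ∀ a, e • ε a = ε a)
    (h4 : ∀ i j k : ι, ∃ l, l ≠ i ∧ l ≠ j ∧ l ≠ k) {i₀ j₀ : ι} (hij₀ : i₀ ≠ j₀)
    (hf : ∀ e ∈ E, ∀ u ∈ Wp Γ ε i₀ j₀, e • u = u) {i j : ι} (hij : i ≠ j) :
    ∀ e ∈ E, ∀ u ∈ Wp Γ ε i j, e • u = u := by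
  rcases h.dich hE hV hij with h1 | h1
  · exact h1
  · exfalso
    obtain ⟨e, he, h2, -⟩ := h.all_moved hE hV h4 hij h1 i₀ j₀ hij₀ 1 0
    rw [(h.F_of_fix hij₀ (hV e he) (hf e he)).1] at h2
    exact zero_ne_one h2

/-- `E` centralises the line and one neighbour ⟹ it centralises all `W_ij` -/
theorem fix_all' (h : Sit Γ ε) {E : Subgroup Γ} (hE : Off E W) (hV : ∀ e ∈ E, ∀ a, e • ε a = ε a)
    (h4 : ∀ i j k : ι, ∃ l, l ≠ i ∧ l ≠ j ∧ l ≠ k) {i₀ j₀ : ι} (hij₀ : i₀ ≠ j₀) {u₀ : W}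
    (hu₀ : u₀ ∈ Wp Γ ε i₀ j₀) (hn₀ : ∀ a, u₀ ≠ ε a) (hf : ∀ e ∈ E, e • u₀ = u₀) {i j : ι} (hij : i ≠ j) :
    ∀ e ∈ E, ∀ u ∈ Wp Γ ε i j, e • u = u := by
  refine h.fix_all hE hV h4 hij₀ (fun e he u hu => ?_) hij
  by_cases hn : ∀ a, u ≠ ε a
  · obtain ⟨a, ha⟩ := h.two i₀ j₀ hij₀ u hu u₀ hu₀ hn hn₀
    rw [h.add_eq_iff] at ha
    rw [ha, smul_add, hf e he, hV e he]
  · push Not at hn
    obtain ⟨a, rfl⟩ := hn
    exact hV e he a

end Sit

/-- `⟨N_Γ(V), C_Γ(D_ij)⟩` -/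
def M0 (Γ : Type u) [Group Γ] [DistribMulAction Γ W] (ε : (ι → ZMod 2) →+ W) : Subgroup Γ :=
  Subgroup.closure ({n | ∃ σ, Act ε n σ} ∪ {r | ∃ i j, i ≠ j ∧ r ∈ CD Γ ε i j})

namespace Sit

variable {ε : (ι → ZMod 2) →+ W}

theorem Off.conj {E : Subgroup Γ} (hE : Off E W) (m : Γ) : Off (E.map (MulAut.conj m).toMonoidHom) W where
  quad := by
    rintro _ ⟨e, he, rfl⟩ _ ⟨e', he', rfl⟩ w
    have := hE.quad e he e' he' (m⁻¹ • w)
    simp only [MulEquiv.coe_toMonoidHom, MulAut.conj_apply, mul_smul]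
    have h1 : m • e • m⁻¹ • w + w = m • (e • m⁻¹ • w + m⁻¹ • w) := by rw [smul_add, smul_inv_smul]
    rw [h1, inv_smul_smul, this]
  big := by
    rintro w c hw _ ⟨e, he, rfl⟩
    have := hE.big (m⁻¹ • w) (m⁻¹ • c) (fun e he => by
      have := hw _ ⟨e, he, rfl⟩
      simp only [MulEquiv.coe_toMonoidHom, MulAut.conj_apply, mul_smul] at this
      rcases this with h1 | h1
      · left; rw [eq_inv_smul_iff]; exact h1
      · right; rw [← smul_add, eq_inv_smul_iff]; exact h1) e he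
    simp only [MulEquiv.coe_toMonoidHom, MulAut.conj_apply, mul_smul]
    rw [this, smul_inv_smul]

/-- induction along `M0` -/
theorem M0_induction (_h : Sit Γ ε) {p : Γ → Prop} (h1 : p 1) (hN : ∀ m n σ, Act ε n σ → p m → p (m * n))
    (hC : ∀ m r i j, i ≠ j → r ∈ CD Γ ε i j → p m → p (m * r)) {m : Γ} (hm : m ∈ M0 Γ ε) : p m := by
  unfold M0 at hm
  induction hm using Subgroup.closure_induction_right with
  | one => exact h1
  | mul_right x _ y hy hx =>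
    rcases hy with ⟨σ, hσ⟩ | ⟨i, j, hij, hr⟩
    · exact hN x y σ hσ hx
    · exact hC x y i j hij hr hx
  | mul_inv_cancel x _ y hy hx =>
    rcases hy with ⟨σ, hσ⟩ | ⟨i, j, hij, hr⟩
    · exact hN x y⁻¹ _ hσ.inv hx
    · exact hC x y⁻¹ i j hij (inv_mem hr) hx

/-- **THEOREM PATH (A)** -/
theorem path (h : Sit Γ ε) {E : Subgroup Γ} (hE : Off E W) (hV : ∀ e ∈ E, ∀ a, e • ε a = ε a)
    (h4 : ∀ i j k : ι, ∃ l, l ≠ i ∧ l ≠ j ∧ l ≠ k) {i₀ j₀ : ι} (hij₀ : i₀ ≠ j₀) {u₀ : W}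
    (hu₀ : u₀ ∈ Wp Γ ε i₀ j₀) (hn₀ : ∀ a, u₀ ≠ ε a) (hf : ∀ e ∈ E, e • u₀ = u₀) {m : Γ} (hm : m ∈ M0 Γ ε) :
    ∀ i j, i ≠ j → ∀ u ∈ Wp Γ ε i j, ∀ e ∈ E, e • m • u = m • u := by
  refine h.M0_induction (p := fun m => ∀ i j, i ≠ j → ∀ u ∈ Wp Γ ε i j, ∀ e ∈ E, e • m • u = m • u) ?_ ?_ ?_ hm
  · intro i j hij u hu e he
    rw [one_smul]
    exact h.fix_all' hE hV h4 hij₀ hu₀ hn₀ hf hij e he u hu
  · intro m n σ hσ hp i j hij u hu e he
    rw [mul_smul]
    exact hp (σ i) (σ j) (fun e' => hij (σ.injective e')) _ (hσ.smul_Wp hu) e he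
  · intro m r i₁ j₁ hij₁ hr hp i j hij u hu e he
    -- `E^m` centralises `r V` and `W_{i₁ j₁}`
    have hE' := Off.conj hE (m * r)⁻¹
    have hfix : ∀ e' ∈ E.map (MulAut.conj (m * r)⁻¹).toMonoidHom, ∀ u ∈ Wp Γ ε i₁ j₁, e' • u = u := by
      rintro _ ⟨e', he', rfl⟩ u hu
      simp only [MulEquiv.coe_toMonoidHom, MulAut.conj_apply, mul_smul, inv_inv]
      rw [inv_smul_eq_iff, mul_smul]
      exact hp i₁ j₁ hij₁ _ (CD_smul_Wp hr hu) e' he'
    have := h.fix_all hE' (fun e' he' a => hfix e' he' _ (mem_Wp ε i₁ j₁ a)) h4 hij₁ hfix hij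
      ((m * r)⁻¹ * e * (m * r)⁻¹⁻¹) ⟨e, he, rfl⟩ u hu
    rw [inv_inv, mul_smul, mul_smul, inv_smul_eq_iff] at this
    exact this

/-- the lines `m V`, `m ∈ M0` -/
theorem path_line (h : Sit Γ ε) {E : Subgroup Γ} (hE : Off E W) (hV : ∀ e ∈ E, ∀ a, e • ε a = ε a)
    (h4 : ∀ i j k : ι, ∃ l, l ≠ i ∧ l ≠ j ∧ l ≠ k) {i₀ j₀ : ι} (hij₀ : i₀ ≠ j₀) {u₀ : W}
    (hu₀ : u₀ ∈ Wp Γ ε i₀ j₀) (hn₀ : ∀ a, u₀ ≠ ε a) (hf : ∀ e ∈ E, e • u₀ = u₀) {m : Γ} (hm : m ∈ M0 Γ ε)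
    (a : ι → ZMod 2) : ∀ e ∈ E, e • m • ε a = m • ε a :=
  h.path hE hV h4 hij₀ hu₀ hn₀ hf hm i₀ j₀ hij₀ _ (mem_Wp ε i₀ j₀ a)

/-- **THEOREM PATH (B)**: transvections -/
theorem path_two (h : Sit Γ ε) {τ : Γ} {c : W} (hc : ∀ w : W, τ • w = w ∨ τ • w = w + c)
    (hV : ∀ a, τ • ε a = ε a) :
    (∀ m ∈ M0 Γ ε, ∀ i j, i ≠ j → ∀ u ∈ Wp Γ ε i j, τ • m • u = m • u) ∨
      ∃ m ∈ M0 Γ ε, (∀ a, τ • m • ε a = m • ε a) ∧
        ((∃ i, c = m • ε (Pi.single i 1)) ∨ ∃ i j, i ≠ j ∧ c = m • ε (Pi.single i 1 + Pi.single j 1)) := by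
  by_contra hcon
  push Not at hcon
  obtain ⟨hcon1, hcon2⟩ := hcon
  obtain ⟨m₁, hm₁, i₁, j₁, hij₁, u₁, hu₁, hne₁⟩ := hcon1
  apply hne₁
  -- `τ` centralises `m V` ⟹ it centralises `m W_ij`
  have key : ∀ m ∈ M0 Γ ε, (∀ a, τ • m • ε a = m • ε a) → ∀ i j, i ≠ j → ∀ u ∈ Wp Γ ε i j,
      τ • m • u = m • u := by
    intro m hm hmV i j hij u hu
    obtain ⟨n1, n2⟩ := hcon2 m hm hmV
    have hq : ∀ a, (m⁻¹ * τ * m) • ε a = ε a := fun a => by
      rw [mul_smul, mul_smul, hmV, inv_smul_smul]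
    obtain ⟨s, t, hst⟩ := h.com i j hij _ hq u hu
    rw [mul_smul, mul_smul, inv_smul_eq_iff, smul_add] at hst
    rcases hc (m • u) with e1 | e1
    · exact e1
    · rw [e1] at hst
      have hst' := add_left_cancel hst
      rcases zmod_cases s with rfl | rfl <;> rcases zmod_cases t with rfl | rfl
      · rw [e1, hst']; simp
      · exact absurd hst' (by simpa using n1 j)
      · exact absurd hst' (by simpa using n1 i)
      · exact absurd hst' (n2 i j hij)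
  have hall : ∀ m ∈ M0 Γ ε, m ∈ M0 Γ ε ∧ ∀ a, τ • m • ε a = m • ε a := by
    intro m hm
    refine h.M0_induction (p := fun m => m ∈ M0 Γ ε ∧ ∀ a, τ • m • ε a = m • ε a) ?_ ?_ ?_ hm
    · exact ⟨one_mem _, fun a => by rw [one_smul, hV]⟩
    · rintro m n σ hσ ⟨hm, hp⟩
      exact ⟨mul_mem hm (Subgroup.subset_closure (Or.inl ⟨σ, hσ⟩)), fun a => by rw [mul_smul, hσ, hp]⟩
    · rintro m r i j hij hr ⟨hm, hp⟩
      exact ⟨mul_mem hm (Subgroup.subset_closure (Or.inr ⟨i, j, hij, hr⟩)), fun a => by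
        rw [mul_smul]; exact key m hm hp i j hij _ (smul_mem_Wp' hr a)⟩
  exact key m₁ hm₁ (hall m₁ hm₁).2 i₁ j₁ hij₁ u₁ hu₁

end Sit

end Cfsg.Agent.Omega.NO3S.SN2.PathP
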