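import Cfsg.Agent.Omega.S5.Def

/-!
# SN.Two, `φ = F` (helper828, #20470 (3))

`Z ≤ V` contains `x_ij`, meets `V_ij` in `⟨x_ij⟩`, is not contained in `V_ij` and is normalised by elements inducing the
transpositions of the letters `≠ i, j`: then `Z = ⟨z_i, z_j⟩`.
-/

set_option autoImplicit false
set_option linter.unusedSectionVars false

namespace Cfsg.Agent.Omega.NO3S.SN2

open Subgroup Cfsg.Agent.Omega.S5.Def

universe u

variable {G : Type u} [Group G]

theorem zmod_two_eq {a b : ZMod 2} (h : a ≠ b) : a = b + 1 := by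
  revert h a b
  decide

/-- **helper828, #20470 (3)** -/
theorem phi {n : ℕ} {V L : Subgroup G} {ε : (Fin n → ZMod 2) → G} (hE : EvenSet n V L ε) (hn : 5 ≤ n) {i j : Fin n}
    (hij : i ≠ j) {Z : Subgroup G} (hZV : Z ≤ V)
    (hx : ε (Pi.single i 1 + Pi.single j 1) ∈ Z)
    (hZD : ∀ d : Fin n → ZMod 2, ε d ∈ Z → d i = d j → ε d = 1 ∨ ε d = ε (Pi.single i 1 + Pi.single j 1))
    (hne : ∃ d : Fin n → ZMod 2, ε d ∈ Z ∧ d i ≠ d j)
    (hinv : ∀ k l : Fin n, k ≠ i → k ≠ j → l ≠ i → l ≠ j → k ≠ l →
      ∃ g : G, Acts ε g (Equiv.swap k l) ∧ ∀ z ∈ Z, g * z * g⁻¹ ∈ Z) :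
    ε (Pi.single i 1) ∈ Z ∧ ε (Pi.single j 1) ∈ Z ∧ Z ≤ Subgroup.closure {ε (Pi.single i 1), ε (Pi.single j 1)} := by
  classical
  have hsq : ∀ d : Fin n → ZMod 2, ε d * ε d = 1 := fun d => by
    rw [← hE.add, add_self, hE.ker]; left; rfl
  -- `d` is constant off `i, j`
  have hcon : ∀ d : Fin n → ZMod 2, ε d ∈ Z → ∀ k l : Fin n, k ≠ i → k ≠ j → l ≠ i → l ≠ j → d k = d l := by
    intro d hd k l hki hkj hli hlj
    by_contra hkl
    have hne' : k ≠ l := fun e => hkl (by rw [e])
    obtain ⟨g, hg, hgZ⟩ := hinv k l hki hkj hli hlj hne'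
    have h1 : ε (d ∘ (Equiv.swap k l).symm + d) ∈ Z := by
      rw [hE.add]
      refine mul_mem ?_ hd
      rw [← hg d]
      exact hgZ _ hd
    have h2 : d ∘ (Equiv.swap k l).symm + d = Pi.single k 1 + Pi.single l 1 := by
      funext p
      simp only [Pi.add_apply, Function.comp_apply, Equiv.symm_swap]
      by_cases hpk : p = k
      · subst hpk
        rw [Equiv.swap_apply_left, Pi.single_eq_same, Pi.single_eq_of_ne hne', zmod_two_eq hkl, add_zero,
          ← add_assoc, CharTwo.add_self_eq_zero, zero_add]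
      · by_cases hpl : p = l
        · subst hpl
          rw [Equiv.swap_apply_right, Pi.single_eq_same, Pi.single_eq_of_ne hpk, zmod_two_eq hkl, zero_add,
            add_right_comm, CharTwo.add_self_eq_zero, zero_add]
        · rw [Equiv.swap_apply_of_ne_of_ne hpk hpl, CharTwo.add_self_eq_zero, Pi.single_eq_of_ne hpk,
            Pi.single_eq_of_ne hpl, add_zero]
    rw [h2] at h1
    have hat : ∀ p : Fin n, p ≠ k → p ≠ l → (Pi.single k 1 + Pi.single l 1 : Fin n → ZMod 2) p = 0 := by
      intro p hp hp'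
      rw [Pi.add_apply, Pi.single_eq_of_ne hp, Pi.single_eq_of_ne hp', add_zero]
    rcases hZD _ h1 (by rw [hat i hki.symm hli.symm, hat j hkj.symm hlj.symm]) with h3 | h3
    · rcases (hE.ker _).1 h3 with h4 | h4
      · have h5 := congrFun h4 k
        rw [Pi.add_apply, Pi.single_eq_same, Pi.single_eq_of_ne hne', add_zero] at h5
        exact one_ne_zero h5
      · have h5 := congrFun h4 i
        rw [hat i hki.symm hli.symm] at h5
        exact zero_ne_one h5
    · have h4 : ε (Pi.single k 1 + Pi.single l 1 + (Pi.single i 1 + Pi.single j 1)) = 1 := by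
        rw [hE.add, h3, hsq]
      rcases (hE.ker _).1 h4 with h5 | h5
      · have h6 := congrFun h5 k
        rw [Pi.add_apply, Pi.add_apply, Pi.add_apply, Pi.single_eq_same, Pi.single_eq_of_ne hne',
          Pi.single_eq_of_ne hki, Pi.single_eq_of_ne hkj] at h6
        simp at h6
      · -- a fifth letter
        have h7 : ∃ p : Fin n, p ≠ i ∧ p ≠ j ∧ p ≠ k ∧ p ≠ l := by
          by_contra hcon
          push Not at hcon
          have h8 : (Finset.univ : Finset (Fin n)) ⊆ {i, j, k, l} := by
            intro p _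
            simp only [Finset.mem_insert, Finset.mem_singleton]
            by_contra h9
            push Not at h9
            exact h9.2.2.2 (hcon p h9.1 h9.2.1 h9.2.2.1)
          have h9 := Finset.card_le_card h8
          rw [Finset.card_univ, Fintype.card_fin] at h9
          have h10 := h9.trans Finset.card_le_four
          omega
        obtain ⟨p, hpi, hpj, hpk, hpl⟩ := h7
        have h8 := congrFun h5 p
        rw [Pi.add_apply, Pi.add_apply, Pi.add_apply, Pi.single_eq_of_ne hpi, Pi.single_eq_of_ne hpj,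
          Pi.single_eq_of_ne hpk, Pi.single_eq_of_ne hpl] at h8
        simp at h8
  -- the vectors with `d i ≠ d j`
  have hform : ∀ d : Fin n → ZMod 2, ε d ∈ Z → d i ≠ d j → ε d = ε (Pi.single i 1) ∨ ε d = ε (Pi.single j 1) := by
    intro d hd hdij
    have h7 : ∃ p : Fin n, p ≠ i ∧ p ≠ j := by
      by_contra hcon
      push Not at hcon
      have h8 : (Finset.univ : Finset (Fin n)) ⊆ {i, j} := by
        intro p _
        simp only [Finset.mem_insert, Finset.mem_singleton]
        by_contra h9
        push Not at h9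
        exact h9.2 (hcon p h9.1)
      have h9 := Finset.card_le_card h8
      rw [Finset.card_univ, Fintype.card_fin] at h9
      have h10 := h9.trans Finset.card_le_two
      omega
    obtain ⟨p, hpi, hpj⟩ := h7
    have hp : ∀ q : Fin n, q ≠ i → q ≠ j → d q = d p := fun q hq hq' => hcon d hd q p hq hq' hpi hpj
    have h01 : ∀ y : ZMod 2, y = 0 ∨ y = 1 := by decide
    have key : ∀ d' : Fin n → ZMod 2, (∀ q : Fin n, q ≠ i → q ≠ j → d' q = 0) → d' i ≠ d' j →
        d' = Pi.single i 1 ∨ d' = Pi.single j 1 := by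
      intro d' h0 hd'
      rcases h01 (d' i) with h1 | h1
      · right
        have h2 : d' j = 1 := (h01 (d' j)).resolve_left fun h3 => hd' (h1.trans h3.symm)
        funext q
        by_cases hqj : q = j
        · subst hqj; rw [Pi.single_eq_same, h2]
        · rw [Pi.single_eq_of_ne hqj]
          by_cases hqi : q = i
          · subst hqi; exact h1
          · exact h0 q hqi hqj
      · left
        have h2 : d' j = 0 := (h01 (d' j)).resolve_right fun h3 => hd' (h1.trans h3.symm)
        funext q
        by_cases hqi : q = i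
        · subst hqi; rw [Pi.single_eq_same, h1]
        · rw [Pi.single_eq_of_ne hqi]
          by_cases hqj : q = j
          · subst hqj; exact h2
          · exact h0 q hqi hqj
    rcases h01 (d p) with h1 | h1
    · rcases key d (fun q hq hq' => (hp q hq hq').trans h1) hdij with h2 | h2
      · left; rw [h2]
      · right; rw [h2]
    · have h3 : ε (d + 1) = ε d := by
        rw [hE.add, (hE.ker 1).2 (Or.inr rfl), mul_one]
      have h4 : ∀ q : Fin n, q ≠ i → q ≠ j → (d + 1) q = 0 := by
        intro q hq hq'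
        rw [Pi.add_apply, hp q hq hq', h1, Pi.one_apply, CharTwo.add_self_eq_zero]
      have h5 : (d + 1) i ≠ (d + 1) j := by
        rw [Pi.add_apply, Pi.add_apply]
        intro h6
        exact hdij (add_right_cancel h6)
      rcases key (d + 1) h4 h5 with h2 | h2
      · left; rw [← h3, h2]
      · right; rw [← h3, h2]
  have hji : ε (Pi.single i 1 + Pi.single j 1) * ε (Pi.single i 1) = ε (Pi.single j 1) := by
    rw [← hE.add, add_right_comm, add_self, zero_add]
  have hji' : ε (Pi.single i 1 + Pi.single j 1) * ε (Pi.single j 1) = ε (Pi.single i 1) := by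
    rw [← hE.add, add_assoc, add_self, add_zero]
  obtain ⟨d, hd, hdij⟩ := hne
  have h1 : ε (Pi.single i 1) ∈ Z ∧ ε (Pi.single j 1) ∈ Z := by
    rcases hform d hd hdij with h1 | h1
    · rw [h1] at hd
      exact ⟨hd, by rw [← hji]; exact mul_mem hx hd⟩
    · rw [h1] at hd
      exact ⟨by rw [← hji']; exact mul_mem hx hd, hd⟩
  refine ⟨h1.1, h1.2, fun z hz => ?_⟩
  obtain ⟨e, rfl⟩ := hE.surj z (hZV hz)
  have m1 : ε (Pi.single i 1) ∈ Subgroup.closure {ε (Pi.single i 1), ε (Pi.single j 1)} :=
    Subgroup.subset_closure (Or.inl rfl)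
  have m2 : ε (Pi.single j 1) ∈ Subgroup.closure {ε (Pi.single i 1), ε (Pi.single j 1)} :=
    Subgroup.subset_closure (Or.inr rfl)
  by_cases heij : e i = e j
  · rcases hZD e hz heij with h2 | h2
    · rw [h2]; exact one_mem _
    · rw [h2, hE.add]; exact mul_mem m1 m2
  · rcases hform e hz heij with h2 | h2 <;> rw [h2]
    · exact m1
    · exact m2

end Cfsg.Agent.Omega.NO3S.SN2
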