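import Cfsg.Agent.Omega.NO3S.SN.TwoP.Mod
import Cfsg.Agent.Omega.NSix.CaseJ.PBig
import Cfsg.Agent.Omega.OM.KZero
import Cfsg.Agent.Omega.OM.Swap.End
import Cfsg.Agent.Omega.OM.Swap.Facts
import Cfsg.Agent.Omega.Node.NO3SLevel

/-!
# `SymBigL`, stage `-1`: the end by THEOREM SW (helper377 #20121, helper586 #20800, helper237 #22246)

* `VV ε i j` : the vectors of `V` which have the same coordinates at the letters `i` and `j`;
* `TP` : THEOREM TWO PAIRS in the relative frame (helper586, #20800);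
* `comm_zj` : `C_{N_G(V)}(Z_J)` moves the vectors of `V` by `Z_J`;
* `cent_zj_le` : `C_G(Z_J) ≤ M₀`;
* `false_of_loc` : there is no 2-local `M ≥ N_G(V)` which contains all `C_G(VV i j)`, `i, j ≠ 0`;
* `symBig_neg` : `SymBigL` at stage `-1` from `TP` and such an `M`.
-/

set_option autoImplicit false
set_option linter.unusedSectionVars false

namespace Cfsg.Agent.Omega.NO3S.SN2.Neg

open Subgroup Cfsg Cfsg.Agent.ZN.ChoiceBase Cfsg.Agent.ZN.ChoiceSit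
open Cfsg.Agent.ZN (jj zj bau zc zl o2)
open Cfsg.Agent.Omega.MinPar Cfsg.Agent.Omega.Frame Cfsg.Agent.Omega.FrameNOFF
open Cfsg.Agent.Omega.S5.Def Cfsg.Agent.Omega.S5.Syl Cfsg.Agent.Omega.S5.Pair
open Cfsg.Agent.Omega.NSix.Base Cfsg.Agent.Omega.NSix.Basic
open Cfsg.Agent.Omega.NSix.CaseJ
open Cfsg.Agent.Omega.NO3S.SN.TwoP (Fr)
open Cfsg.Agent.Omega.FrameFF (cv)
open Cfsg.Agent.Omega.FFThm (SymK SymKM)

universe u

/-- the vectors of `V` with the same coordinates at `i` and `j` -/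
def VV {G : Type u} [Group G] {n : ℕ} (ε : (Fin n → ZMod 2) → G) (i j : Fin n) : Set G :=
  {v | ∃ x : Fin n → ZMod 2, x i = x j ∧ ε x = v}

/-- **THEOREM TWO PAIRS** in the relative frame. -/
def TP : Prop :=
  ∀ (G : Type u) [Group G] [Finite G] (S : Sylow 2 G) (P : Subgroup G) (m : ℕ)
    (ε : (Fin (2 ^ m + 1) → ZMod 2) → G) (M₀ D T R : Subgroup G), 3 ≤ m → Fr S P ε M₀ D T R →
      (∀ i j, i ≠ 0 → j ≠ 0 → i ≠ j → centralizer (VV ε i j) ≤ M₀) →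
      (∀ g ∈ normalizer (zl (S : Subgroup G) P : Set G), g ∈ centralizer (D : Set G) →
        ∀ v ∈ zl (S : Subgroup G) P, g * v * g⁻¹ * v⁻¹ ∈ D) → False

section main

variable {G : Type u} [Group G] [Finite G] {S : Sylow 2 G} {P : Subgroup G} {m : ℕ}
  {ε : (Fin (2 ^ m + 1) → ZMod 2) → G}

theorem zz_mem_zj (h : Base.Hyp S P ε) : zz ε 0 ∈ zj (S : Subgroup G) := by
  rw [LemQ.mem_zj_iff h]
  refine ⟨zz_mem h.ev 0, fun j hj => ?_⟩
  have hjS : j ∈ (S : Subgroup G) := Cfsg.Agent.ZN.ChoiceBase.jj_le _ hj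
  obtain ⟨σ, hσ⟩ := h.ev.perm j (h.SP hjS)
  have h1 := zz_conj hσ 0
  rw [h.fix0 j hjS σ hσ] at h1
  exact LemQ.comm_of_conj h1

/-- `C_{N_G(V)}(Z_J)` moves the vectors of `V` by `Z_J`. -/
theorem comm_zj (h : Base.Hyp S P ε) {g : G}
    (hg : g ∈ normalizer (zl (S : Subgroup G) P : Set G)) (hc : g ∈ centralizer (zj (S : Subgroup G) : Set G)) {v : G}
    (hv : v ∈ zl (S : Subgroup G) P) : g * v * g⁻¹ * v⁻¹ ∈ zj (S : Subgroup G) := by
  obtain ⟨ι, X, Y, N, t, r, -, hd⟩ := h.exists_dat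
  obtain ⟨σ, hσ⟩ := (NSix.Norm.evenSet' h.hm S h.ev h.SP h.fix0).perm g hg
  obtain ⟨x, rfl⟩ := h.ev.surj v hv
  have hσ0 : σ 0 = 0 := by
    have h1 := zz_conj hσ 0
    have h2 : g * zz ε 0 * g⁻¹ = zz ε 0 := by
      rw [← mem_centralizer_iff.1 hc _ (zz_mem_zj h), mul_inv_cancel_right]
    rw [h2] at h1
    by_contra hne
    have h3 : rr ε (σ 0) 0 = 1 := by
      rw [show rr ε (σ 0) 0 = zz ε (σ 0) * zz ε 0 from rfl, ← h1]
      exact zz_sq h.ev 0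
    exact rr_ne_one h.ev h.three hne h3
  have hp : ∀ p, (σ (X p) = X p ∧ σ (Y p) = Y p) ∨ (σ (X p) = Y p ∧ σ (Y p) = X p) := by
    intro p
    have h1 := (mem_centralizer_iff.1 hc _ (hd.bas.d_mem_Z p)).symm
    have h2 := Fus.pair_of_cent h (hd.ne p) hσ h1
    have h3 := Fus.pair_of_cent h (hd.ne p).symm hσ (by rw [rr_symm h.ev]; exact h1)
    rcases h2 with h2 | h2 <;> rcases h3 with h3 | h3
    · exact Or.inl ⟨h2, h3⟩
    · exact absurd (σ.injective (h2.trans h3.symm)) (hd.ne p)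
    · exact absurd (σ.injective (h2.trans h3.symm)) (hd.ne p)
    · exact Or.inr ⟨h2, h3⟩
  have e1 : g * ε x * g⁻¹ * (ε x)⁻¹ = ε (x ∘ σ.symm + x) := by
    rw [hσ x, h.ev.add]
    congr 1
    exact inv_eq_of_mul_eq_one_left (h.ev.sq_mem (h.ev.mem x))
  rw [e1]
  have e2 : x ∘ σ.symm + x = Blk.fc X Y fun p => x (σ.symm (X p)) + x (X p) := by
    funext y
    by_cases hy : y = 0
    · subst hy
      rw [Blk.fc_zero hd, Pi.add_apply, Function.comp_apply, (Equiv.symm_apply_eq σ).2 hσ0.symm]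
      exact CharTwo.add_self_eq_zero _
    · obtain ⟨p, h1⟩ := hd.cov y hy
      rw [Blk.fc_eq hd _ h1, Pi.add_apply, Function.comp_apply]
      rcases h1 with h1 | h1
      · rw [h1]
      · rcases hp p with ⟨h2, h3⟩ | ⟨h2, h3⟩
        · rw [← h1, (Equiv.symm_apply_eq σ).2 h2.symm, (Equiv.symm_apply_eq σ).2 h3.symm,
            CharTwo.add_self_eq_zero, CharTwo.add_self_eq_zero]
        · rw [← h1, (Equiv.symm_apply_eq σ).2 h2.symm, (Equiv.symm_apply_eq σ).2 h3.symm, add_comm]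
  rw [e2]
  exact Blk.eps_fc_mem h hd _

/-- **`C_G(Z_J) ≤ M₀`** -/
theorem cent_zj_le (hTP : TP.{u}) (h : Base.Hyp S P ε) (hN : SN.Hyp S P m ε) {M₀ : Subgroup G}
    (hL : normalizer (zl (S : Subgroup G) P : Set G) ⊓ centralizer ({zz ε 0} : Set G) ≤ M₀)
    (hX : ∀ i j, i ≠ 0 → j ≠ 0 → i ≠ j → centralizer (VV ε i j) ≤ M₀) :
    centralizer (zj (S : Subgroup G) : Set G) ≤ M₀ := by
  by_contra hcon
  obtain ⟨D, ⟨hD1, hD2, hD3⟩, hmax⟩ := Set.Finite.exists_maximal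
    (s := {D : Subgroup G | zj (S : Subgroup G) ≤ D ∧ D ≤ zl (S : Subgroup G) P ∧ ¬ centralizer (D : Set G) ≤ M₀})
    (Set.toFinite _) ⟨zj (S : Subgroup G), le_rfl, LemQ.zj_le h, hcon⟩
  obtain ⟨T, R, f⟩ := Fr.exists_of h hN hL hD2 (hD1 (zz_mem_zj h)) (fun E hDE hEV => by
    by_contra hE
    exact hDE.not_ge (hmax ⟨hD1.trans hDE.le, hEV, hE⟩ hDE.le)) hD3
  exact hTP G S P m ε M₀ D T R hN.m3 f hX fun g hg hgD v hv =>
    hD1 (comm_zj h hg (centralizer_le (SetLike.coe_subset_coe.2 hD1) hgD) hv)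

theorem le_normalizer_of {L V : Subgroup G} (h : ∀ l ∈ L, ∀ v ∈ V, l * v * l⁻¹ ∈ V) :
    L ≤ normalizer (V : Set G) := by
  intro l hl
  rw [mem_normalizer_iff]
  intro v
  refine ⟨fun hv => h l hl v hv, fun hv => ?_⟩
  have h1 := h l⁻¹ (inv_mem hl) _ hv
  have e : l⁻¹ * (l * v * l⁻¹) * l⁻¹⁻¹ = v := by group
  rwa [e] at h1

/-- **The end**: there is no 2-local `M` over `N_G(V)` which contains all `C_G(VV i j)`. -/
theorem false_of_loc (hTP : TP.{u}) (hFF : FFThm.Stmt.{u}) (hA : FFBr.AStmt.{u}) (hJ : HypJ S P)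
    (N : SymK (S : Subgroup G) P (zl (S : Subgroup G) P) (cv (S : Subgroup G) P) 1 m)
    (h : Base.Hyp S P ε) (hN : SN.Hyp S P m ε) {M : Subgroup G}
    (hM : o2 M ≠ ⊥) (hL : normalizer (zl (S : Subgroup G) P : Set G) ≤ M)
    (hX : ∀ i j, i ≠ 0 → j ≠ 0 → i ≠ j → centralizer (VV ε i j) ≤ M) : False := by
  have hJM : centralizer (zj (S : Subgroup G) : Set G) ≤ M := by
    have h1 := cent_zj_le hTP h hN (M₀ := M ⊓ centralizer ({zz ε 0} : Set G)) (inf_le_inf_right _ hL)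
      (fun i j hi hj hij => le_inf (hX i j hi hj hij) (centralizer_le (Set.singleton_subset_iff.2
        ⟨Pi.single 0 1, by rw [Pi.single_eq_of_ne hi, Pi.single_eq_of_ne hj], rfl⟩)))
    exact h1.trans inf_le_left
  obtain ⟨ι, hι, W, d, t, r, L, A, -, -, -, -, hLi⟩ := OM.Line.exists_sym hJ one_pos h.hm N
  have hK : OM.Dich.K0 (S : Subgroup G) (OM.BlkGen.FBlk (S : Subgroup G)) ≤ M := by
    refine sup_le hJM (iSup_le ?_)
    rintro ⟨⟨L', V'⟩, ⟨Z', q', hF⟩, hb⟩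
    obtain ⟨-, i, hZ, -, ⟨-, -, h2⟩ | ⟨-, hcard, -⟩⟩ := hLi.uniPlus hF
    · refine (h2 rfl).2.trans (sup_le ((le_normalizer_of (hLi.fr.LV i)).trans hL) (le_trans
        (centralizer_le ?_) hJM))
      exact_mod_cast (le_sup_right : zj (S : Subgroup G) ≤ W i ⊔ zj (S : Subgroup G))
    · exfalso
      obtain ⟨ι', X', Y', N', t', r', -, hd⟩ := h.exists_dat
      have h3 := Blk.card_zj h hd
      have h4 := Blk.sixteen h hd hN.m3
      rw [hcard] at h4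
      omega
  have hC : CZ (S : Subgroup G) ≤ M := by
    have h1 := MinPar.isLoc_centralizer_zc S hLi.S_ne
    exact OM.Swap.le_of_char2 OM.Swap.sitFalse hLi (OM.Swap.mf hLi) hFF hA hK
      ((OM.Line.norm_le hLi).trans hL) ((bau_le _).trans h1.le) (h1.char2 S hJ.ctx.char2)
  have hP : P ≤ M := fun g hg => hL (le_normalizer_of (fun g hg v hv => h.Vn hg hv) hg)
  exact hM (hN.nonLoc _ (isPGroup_o2 _) (hP.trans (le_normalizer_o2 _)) (hC.trans (le_normalizer_o2 _)))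

/-- The labelling. -/
theorem exists_base (hJ : HypJ S P) (hm : 3 ≤ m)
    (N : SymK (S : Subgroup G) P (zl (S : Subgroup G) P) (cv (S : Subgroup G) P) 1 m) :
    ∃ ε : (Fin (2 ^ m + 1) → ZMod 2) → G, Base.Hyp S P ε ∧ SN.Hyp S P m ε := by
  have h1 : 1 ≤ m := le_trans (by norm_num) hm
  have hD : cv (S : Subgroup G) P = ⊥ :=
    NoFF.LinesPlug.inf_oddGen_eq_bot hJ.ctx.char2 S hJ.star.toIsPar (NoFF.LinesPlug.inf_eq_bot S hJ.nonLoc)
  have hH := MinSimple.VModule.le_normalizer_zl (S : Subgroup G) P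
  have hSP : (S : Subgroup G) ≤ P := hJ.star.isLoc.le
  have ev := S5.Of.evenSet N hD h1 hH
  have f0 := S5.Of.fix0 N hD h1 hH hSP
  exact ⟨S5.Of.lab N h1, ⟨hJ.ctx.char2, hJ.star, by omega, ev, f0, fun A hA hoff a ha =>
    S5.Of.off N hD h1 hH hSP hA hoff ha, hJ.jnot⟩, hJ.ctx, hJ.star, hJ.nonLoc, hm, ev, f0⟩

/-- `V ≤ O₂(N_G(V))` -/
theorem o2_normalizer_ne (h : Base.Hyp S P ε) : o2 (normalizer (zl (S : Subgroup G) P : Set G)) ≠ ⊥ := by
  intro h0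
  have h1 : zl (S : Subgroup G) P ≤ o2 (normalizer (zl (S : Subgroup G) P : Set G)) := by
    refine MinSimple.VModule.le_o2 le_normalizer ?_ le_rfl
    intro v
    refine ⟨1, Subtype.ext ?_⟩
    rw [pow_one, pow_two]
    exact h.ev.sq_mem v.2
  have h2 : zz ε 0 ∈ (⊥ : Subgroup G) := h0 ▸ h1 (zz_mem h.ev 0)
  exact zz_ne_one h.ev h.three 0 (mem_bot.1 h2)

end main

/-- **The hyperplane case**: if some `C_G(VV i j)` is not in `N_G(V)`, then a 2-local subgroup contains `N_G(V)` and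
all of them (helper928 #22306). -/
def Hyper (K : Cls.{u}) : Prop :=
  ∀ (G : Type u) [Group G] [Finite G], K G → ∀ (S : Sylow 2 G) (P : Subgroup G) (m : ℕ)
    (ε : (Fin (2 ^ m + 1) → ZMod 2) → G), HypJ S P → Base.Hyp S P ε → SN.Hyp S P m ε →
      (∃ i j, i ≠ 0 ∧ j ≠ 0 ∧ i ≠ j ∧ ¬ centralizer (VV ε i j) ≤ normalizer (zl (S : Subgroup G) P : Set G)) →
      ∃ M : Subgroup G, o2 M ≠ ⊥ ∧ normalizer (zl (S : Subgroup G) P : Set G) ≤ M ∧
        ∀ i j, i ≠ 0 → j ≠ 0 → i ≠ j → centralizer (VV ε i j) ≤ M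

/-- **`SymBigL` at stage `-1`.** -/
theorem symBig_neg {K : Cls.{u}} (hTP : TP.{u}) (hY : Hyper K) (hFF : FFThm.Stmt.{u}) (hA : FFBr.AStmt.{u})
    {G : Type u} [Group G] [Finite G] (hK : K G) {S : Sylow 2 G} {P : Subgroup G} {m : ℕ} (hJ : HypJ S P)
    (hm : 3 ≤ m) (N : SymK (S : Subgroup G) P (zl (S : Subgroup G) P) (cv (S : Subgroup G) P) 1 m) : False := by
  obtain ⟨ε, h, hN⟩ := exists_base hJ hm N
  by_cases hX : ∀ i j, i ≠ 0 → j ≠ 0 → i ≠ j →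
      centralizer (VV ε i j) ≤ normalizer (zl (S : Subgroup G) P : Set G)
  · exact false_of_loc hTP hFF hA hJ N h hN (o2_normalizer_ne h) le_rfl hX
  · push Not at hX
    obtain ⟨M, h1, h2, h3⟩ := hY G hK S P m ε hJ h hN hX
    exact false_of_loc hTP hFF hA hJ N h hN h1 h2 h3

end Cfsg.Agent.Omega.NO3S.SN2.Neg
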