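import Cfsg.Agent.Omega.NO3S.SN2.PlugNeg
import Cfsg.Agent.Omega.NO3S.SN.TwoP.End

/-!
# `SymBigL`, stage `-1`: only the hyperplane case is left

`symBig_neg_of` : `Hyper K` (the hyperplane case) implies that stage `-1` of `SymBigL` is empty.
-/

set_option autoImplicit false

namespace Cfsg.Agent.Omega.NO3S.SN2.Neg

open Subgroup Cfsg Cfsg.Agent.ZN
open Cfsg.Agent.Omega.NO3S.SN.TwoP
open Cfsg.Agent.Omega.FrameFF (cv)
open Cfsg.Agent.Omega.FFThm (SymK)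
open Cfsg.Agent.Omega.Frame (Cls)

universe u

/-- **THEOREM TWO PAIRS** -/
theorem tp : TP.{u} := fun _ _ _ _ _ _ ε _ _ _ _ _ f hX hV =>
  f.two_pairs_end hV fun i j hij hi hj => by
    have e : {g | ∃ x : Fin _ → ZMod 2, x i = x j ∧ g = ε x} = VV ε i j := by
      ext g
      exact ⟨fun ⟨x, h1, h2⟩ => ⟨x, h1, h2.symm⟩, fun ⟨x, h1, h2⟩ => ⟨x, h1, h2.symm⟩⟩
    rw [e]
    exact hX i j hi hj hij

/-- **`SymBigL` at stage `-1`** from the hyperplane case. -/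
theorem symBig_neg_of {K : Cls.{u}} (hY : Hyper K) (hFF : FFThm.Stmt.{u})
    {G : Type u} [Group G] [Finite G] (hK : K G) {S : Sylow 2 G} {P : Subgroup G} {m : ℕ} (hJ : HypJ S P)
    (hm : 3 ≤ m) (N : SymK (S : Subgroup G) P (zl (S : Subgroup G) P) (cv (S : Subgroup G) P) 1 m) : False :=
  symBig_neg tp hY hFF FFBr.aStmt hK hJ hm N

end Cfsg.Agent.Omega.NO3S.SN2.Neg
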