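import Cfsg.Agent.Omega.NO3S.SN2.LemY
import Cfsg.Agent.Omega.NO3S.SN2.LemXGen
import Cfsg.Agent.Omega.NO3S.SN2.FF.Def
import Cfsg.Agent.Omega.NO3S.SN.TwoP.Frame
import Cfsg.Agent.Omega.NO3S.SN.Geo

/-!
# SN.Two (bb #21330), (1) (a), (b)

Over the relative frame `Fr S P ε M₀ D T R` (helper220): `h ∈ V ∖ D`, `[h, T] ≤ D`, `r ∈ D`, `[h, O₂(R)] ≤ ⟨r⟩`,
`M = Mh R h D = ⟨h^R⟩ D`.  Case (al) is `r ≠ 1`, case (be) is `r = 1`.

* `TTr ε r i j` : `r = 1` or `(i j)` moves `r`; `Rl S P ε TT` : the groups `A₀`, `A` exact for `(i j)`, `TT i j`;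
* `hMM` : for `r ≠ 1`, `M` and `M ^ a` commute for `a ∈ A`, `A` exact for `(i j)`, `TTr ε r i j`; `hMM_of_U` : this is
  so if `U_z` and the `U_(z_i)` commute;
* **`rel`** (a) : `|M : C_M(A₀)| ≤ |A₀ : A₀ ∩ O₂(R)|`;
* **`ex`** (b) : some `A₀` is not contained in `O₂(R)`;
* `lemY'` : LEMMA Y for `M`;
* **`stp`** : the structure `FF.Stp` (helper421).
-/

set_option autoImplicit false
set_option linter.unusedSectionVars false

namespace Cfsg.Agent.Omega.NO3S.SN2.StepAB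

open Subgroup Cfsg Cfsg.Agent.PLocal.ThompsonJ Cfsg.Agent.ZN Cfsg.Agent.ZN.ChoiceBase
open Cfsg.Agent.ZN.ChoiceSit Cfsg.Agent.PLocal.ElemAbSup
open Cfsg.Agent.Omega.MinPar
open Cfsg.Agent.Omega.S5.Def Cfsg.Agent.Omega.S5.Syl Cfsg.Agent.Omega.S5.Pair
open Cfsg.Agent.Omega.NSix.Base Cfsg.Agent.Omega.NSix.Basic
open Cfsg.Agent.Omega.SQ1.Bau (mem_AA_of_comm elem_comm elem_sq mem_sup_comm card_sup_comm)
open Cfsg.Agent.Omega.NSix.CaseJ.Exact (Ex exists_ex mem_zp sup_elem)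
open Cfsg.Agent.Omega.NSix.CaseJ.LemQ (comm_of_conj V_elem)
open Cfsg.Agent.Omega.NO3S.SN.TwoP (Fr V_le_WW WW_le_Q WW_comm WW_sq WW_elem)
open Cfsg.Agent.Omega.NO3S.SN2.LemY

universe u

variable {G : Type u} [Group G] [Finite G] {S : Sylow 2 G} {P : Subgroup G} {m : ℕ}
  {ε : (Fin (2 ^ m + 1) → ZMod 2) → G}

/-- The groups `A₀`, `A` exact for a transposition of `TT`. -/
def Rl (S : Sylow 2 G) (P : Subgroup G) {m : ℕ} (ε : (Fin (2 ^ m + 1) → ZMod 2) → G)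
    (TT : Fin (2 ^ m + 1) → Fin (2 ^ m + 1) → Prop) : Set (Subgroup G) :=
  {B | ∃ i j A, i ≠ j ∧ TT i j ∧ Ex P ε i j A ∧ B = A ⊓ centralizer (zl (S : Subgroup G) P : Set G)}

/-- `r = 1`, or the transposition `(i j)` moves `r`. -/
def TTr {m : ℕ} (ε : (Fin (2 ^ m + 1) → ZMod 2) → G) (r : G) (i j : Fin (2 ^ m + 1)) : Prop :=
  r = 1 ∨ ∀ a : G, Acts ε a (Equiv.swap i j) → a * r ≠ r * a

/-- `⟨h^R⟩ D`. -/
def Mh (R : Subgroup G) (h : G) (D : Subgroup G) : Subgroup G :=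
  closure {g | ∃ x ∈ R, g = x * h * x⁻¹} ⊔ D

omit [Finite G] in
theorem Mh_le {R D : Subgroup G} {h : G} {K : Subgroup G} (hD : D ≤ K) (hK : ∀ x ∈ R, x * h * x⁻¹ ∈ K) :
    Mh R h D ≤ K := by
  refine sup_le ?_ hD
  rw [closure_le]
  rintro _ ⟨x, hx, rfl⟩
  exact hK x hx

omit [Finite G] in
theorem mem_Mh {R D : Subgroup G} {h x : G} (hx : x ∈ R) : x * h * x⁻¹ ∈ Mh R h D :=
  mem_sup_left (subset_closure ⟨x, hx, rfl⟩)

omit [Finite G] in
theorem h_mem {R D : Subgroup G} {h : G} : h ∈ Mh R h D := by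
  have := mem_Mh (D := D) (h := h) (one_mem R)
  rwa [one_mul, inv_one, mul_one] at this

omit [Finite G] in
theorem D_le_Mh {R D : Subgroup G} {h : G} : D ≤ Mh R h D := le_sup_right

theorem relIndex_mul_card (H K : Subgroup G) : H.relIndex K * Nat.card ↥(K ⊓ H) = Nat.card K := by
  have h1 := relIndex_mul_relIndex (⊥ : Subgroup G) (H ⊓ K) K bot_le inf_le_right
  rw [relIndex_bot_left, relIndex_bot_left, inf_relIndex_right, inf_comm, mul_comm] at h1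
  exact h1

/-- from the product form to the index form -/
theorem relIndex_le {B X M C O : Subgroup G} (hMX : M ≤ X)
    (h : Nat.card X * Nat.card ↥(B ⊓ O) ≤ Nat.card B * Nat.card ↥(X ⊓ C)) :
    C.relIndex M ≤ O.relIndex B := by
  have h1 := relIndex_mul_card C X
  have h2 := relIndex_mul_card O B
  rw [← h1, ← h2] at h
  have hp : 0 < Nat.card ↥(B ⊓ O) * Nat.card ↥(X ⊓ C) := Nat.mul_pos Nat.card_pos Nat.card_pos
  have h3 : C.relIndex X ≤ O.relIndex B := by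
    refine Nat.le_of_mul_le_mul_right ?_ hp
    calc C.relIndex X * (Nat.card ↥(B ⊓ O) * Nat.card ↥(X ⊓ C))
        = C.relIndex X * Nat.card ↥(X ⊓ C) * Nat.card ↥(B ⊓ O) := by ring
      _ ≤ O.relIndex B * Nat.card ↥(B ⊓ O) * Nat.card ↥(X ⊓ C) := h
      _ = O.relIndex B * (Nat.card ↥(B ⊓ O) * Nat.card ↥(X ⊓ C)) := by ring
  refine (relIndex_le_of_le_right hMX ?_).trans h3
  intro h0
  rw [h0, zero_mul] at h1
  exact (Nat.card_pos (α := X)).ne' h1.symm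

omit [Finite G] in
/-- `hMM` from `[U_z, U_(z_i)] = 1` -/
theorem hMM_of_U {V D R : Subgroup G} (hRz : ∀ x ∈ R, x * zz ε 0 * x⁻¹ = zz ε 0) {h : G} (hV : h ∈ V) (hDV : D ≤ V)
    (hU : ∀ i, ∀ x ∈ SN.U V (zz ε 0) (zz ε 0), ∀ y ∈ SN.U V (zz ε 0) (zz ε i), x * y = y * x)
    {i j : Fin (2 ^ m + 1)} {a : G} (ha : Acts ε a (Equiv.swap i j)) :
    ∀ x ∈ Mh R h D, ∀ y ∈ Mh R h D, x * (a * y * a⁻¹) = a * y * a⁻¹ * x := by
  have hM : Mh R h D ≤ SN.U V (zz ε 0) (zz ε 0) := by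
    refine Mh_le (hDV.trans ?_) fun x hx => ?_
    · have h1 := SN.line_le (V := V) (z := zz ε 0) (y := zz ε 0) (g := 1) (by group)
      rwa [map_one, one_smul] at h1
    · exact SN.line_le (V := V) (hRz x hx) (SN.mem_conj_of hV x)
  intro x hx y hy
  refine hU (Equiv.swap i j 0) x (hM hx) _ ?_
  have h1 := SN.mem_conj_of (hM hy) a
  rw [SN.conj_U, zz_conj ha 0] at h1
  exact h1

section

variable {M₀ D T R : Subgroup G} (f : Fr S P ε M₀ D T R)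
include f

theorem Dc {d g : G} (hd : d ∈ D) (hg : g ∈ R) : g * d = d * g :=
  (mem_centralizer_iff.1 (f.RC hg) d hd).symm

theorem D_conj {d g : G} (hd : d ∈ D) (hg : g ∈ R) : g * d * g⁻¹ = d := by
  rw [Dc f hd hg, mul_inv_cancel_right]

theorem Mh_WW {h : G} (hV : h ∈ zl (S : Subgroup G) P) : Mh R h D ≤ SN.TwoP.WW ε :=
  Mh_le (f.D_le.trans (V_le_WW f.hN)) fun _ hx => SN.TwoP.WW_conj (f.R_cz hx) (V_le_WW f.hN hV)

/-- `R` normalises `M`. -/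
theorem Mh_conj {h g y : G} (hg : g ∈ R) (hy : y ∈ Mh R h D) : g * y * g⁻¹ ∈ Mh R h D := by
  have h1 : Mh R h D ≤ (Mh R h D).comap (MulAut.conj g).toMonoidHom := by
    refine Mh_le (fun d hd => ?_) fun x hx => ?_
    · change g * d * g⁻¹ ∈ Mh R h D
      rw [D_conj f hd hg]
      exact D_le_Mh hd
    · change g * (x * h * x⁻¹) * g⁻¹ ∈ Mh R h D
      have e : g * (x * h * x⁻¹) * g⁻¹ = (g * x) * h * (g * x)⁻¹ := by group
      rw [e]
      exact mem_Mh (mul_mem hg hx)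
  exact h1 hy

theorem Mh_norm (h : G) : R ≤ normalizer (Mh R h D : Set G) := by
  intro g hg
  rw [mem_normalizer_iff]
  refine fun z => ⟨fun hz => Mh_conj f hg hz, fun hz => ?_⟩
  have h1 := Mh_conj f (inv_mem hg) hz
  have e : g⁻¹ * (g * z * g⁻¹) * g⁻¹⁻¹ = z := by group
  rwa [e] at h1

/-- `[M, O₂(R)] ≤ ⟨r⟩`. -/
theorem Mh_act {h r : G} (hV : h ∈ zl (S : Subgroup G) P) (hr : r ∈ D)
    (hO : ∀ t ∈ o2 R, t * h * t⁻¹ * h⁻¹ ∈ zpowers r) {t y : G} (ht : t ∈ o2 R) (hy : y ∈ Mh R h D) :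
    t * y * t⁻¹ * y⁻¹ ∈ zpowers r := by
  have hrD : zpowers r ≤ D := by rwa [zpowers_le]
  have hWr : ∀ e ∈ zpowers r, ∀ y ∈ SN.TwoP.WW ε, y * e * y⁻¹ = e := fun e he y hy => by
    rw [WW_comm hy (V_le_WW f.hN (f.D_le (hrD he))), mul_inv_cancel_right]
  let K : Subgroup G :=
    { carrier := {y | y ∈ SN.TwoP.WW ε ∧ ∀ t ∈ o2 R, t * y * t⁻¹ * y⁻¹ ∈ zpowers r}
      mul_mem' := by
        rintro a b ⟨ha, ha'⟩ ⟨hb, hb'⟩
        refine ⟨mul_mem ha hb, fun t ht => ?_⟩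
        have e : t * (a * b) * t⁻¹ * (a * b)⁻¹ = (t * a * t⁻¹ * a⁻¹) * (a * (t * b * t⁻¹ * b⁻¹) * a⁻¹) := by
          group
        rw [e, hWr _ (hb' t ht) a ha]
        exact mul_mem (ha' t ht) (hb' t ht)
      one_mem' := ⟨one_mem _, fun t _ => by
        have e : t * 1 * t⁻¹ * 1⁻¹ = 1 := by group
        rw [e]; exact one_mem _⟩
      inv_mem' := by
        rintro a ⟨ha, ha'⟩
        refine ⟨inv_mem ha, fun t ht => ?_⟩
        have e : t * a⁻¹ * t⁻¹ * a⁻¹⁻¹ = a⁻¹ * (t * a * t⁻¹ * a⁻¹)⁻¹ * a⁻¹⁻¹ := by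
          have e1 : t * a⁻¹ * t⁻¹ * a⁻¹⁻¹ = (t * a * t⁻¹)⁻¹ * a := by group
          have e2 : a⁻¹ * (t * a * t⁻¹ * a⁻¹)⁻¹ * a⁻¹⁻¹ = (t * a * t⁻¹)⁻¹ * a := by group
          rw [e1, e2]
        rw [e, hWr _ (inv_mem (ha' t ht)) a⁻¹ (inv_mem ha)]
        exact inv_mem (ha' t ht) }
  have h1 : Mh R h D ≤ K := by
    refine Mh_le (fun d hd => ⟨V_le_WW f.hN (f.D_le hd), fun t ht => ?_⟩) fun x hx => ⟨?_, fun t ht => ?_⟩
    · rw [D_conj f hd (Cfsg.Agent.ZN.o2_le R ht), mul_inv_cancel]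
      exact one_mem _
    · exact SN.TwoP.WW_conj (f.R_cz hx) (V_le_WW f.hN hV)
    · have hx' := MinSimple.VModule.le_normalizer_o2 R hx
      have h2 : x⁻¹ * t * x ∈ o2 R := by
        have := (mem_normalizer_iff.1 (inv_mem hx') t).1 ht
        rwa [inv_inv] at this
      have h3 := hO _ h2
      have e : t * (x * h * x⁻¹) * t⁻¹ * (x * h * x⁻¹)⁻¹ =
          x * ((x⁻¹ * t * x) * h * (x⁻¹ * t * x)⁻¹ * h⁻¹) * x⁻¹ := by group
      rw [e, D_conj f (hrD h3) hx]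
      exact h3
  exact (h1 hy).2 t ht

theorem A0_le_T {i j : Fin (2 ^ m + 1)} {A : Subgroup G} (hA : Ex P ε i j A) :
    A ⊓ centralizer (zl (S : Subgroup G) P : Set G) ≤ T := (Exact.le_Q f.h hA).trans f.QT

/-- `C_T(M) ≤ O₂(R)`. -/
theorem mem_O {h : G} (hV : h ∈ zl (S : Subgroup G) P) (hD : h ∉ D) {b : G} (hb : b ∈ T)
    (hc : ∀ y ∈ Mh R h D, b * y = y * b) : b ∈ o2 R := by
  set N₀ := R ⊓ centralizer (Mh R h D : Set G) with hN₀
  have hn : R ≤ normalizer (N₀ : Set G) := by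
    have key : ∀ g ∈ R, ∀ y ∈ N₀, g * y * g⁻¹ ∈ N₀ := by
      rintro g hg y ⟨hy, hy'⟩
      refine mem_inf.2 ⟨R.mul_mem (R.mul_mem hg hy) (R.inv_mem hg), mem_centralizer_iff.2 fun u hu => ?_⟩
      have h1 := mem_centralizer_iff.1 hy' _ (Mh_conj f (R.inv_mem hg) hu)
      calc u * (g * y * g⁻¹) = g * ((g⁻¹ * u * g⁻¹⁻¹) * y) * g⁻¹ := by group
        _ = g * (y * (g⁻¹ * u * g⁻¹⁻¹)) * g⁻¹ := by rw [h1]
        _ = g * y * g⁻¹ * u := by group
    intro g hg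
    rw [mem_normalizer_iff]
    refine fun z => ⟨fun hz => key g hg z hz, fun hz => ?_⟩
    have h1 := key g⁻¹ (inv_mem hg) _ hz
    have e : g⁻¹ * (g * z * g⁻¹) * g⁻¹⁻¹ = z := by group
    rwa [e] at h1
  have hle : N₀ ≤ M₀ := by
    rintro c ⟨hcR, hc'⟩
    refine f.mem_M₀ hcR hV hD ?_
    rw [← mem_centralizer_iff.1 hc' h h_mem, mul_inv_cancel_right, mul_inv_cancel]
    exact one_mem _
  exact f.of_le inf_le_left hn hle ⟨hb, f.TR hb, mem_centralizer_iff.2 fun y hy => (hc y hy).symm⟩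

/-- the count `|X : C_X(A₀)| ≤ |A₀ : A₀ ∩ O₂(R)|`, `X = V M` -/
theorem key {h r : G} (hV : h ∈ zl (S : Subgroup G) P) (hD : h ∉ D) (hr : r ∈ D)
    (hO : ∀ t ∈ o2 R, t * h * t⁻¹ * h⁻¹ ∈ zpowers r)
    {i j : Fin (2 ^ m + 1)} (hij : i ≠ j) (hT : TTr ε r i j) {A : Subgroup G} (hA : Ex P ε i j A)
    (hMM : r ≠ 1 → ∀ a ∈ A, Acts ε a (Equiv.swap i j) → ∀ x ∈ Mh R h D, ∀ y ∈ Mh R h D,
      x * (a * y * a⁻¹) = a * y * a⁻¹ * x) :
    Nat.card ↥(zl (S : Subgroup G) P ⊔ Mh R h D : Subgroup G) *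
        Nat.card ↥((A ⊓ centralizer (zl (S : Subgroup G) P : Set G)) ⊓ o2 R) ≤
      Nat.card ↥(A ⊓ centralizer (zl (S : Subgroup G) P : Set G)) *
        Nat.card ↥((zl (S : Subgroup G) P ⊔ Mh R h D : Subgroup G) ⊓
          centralizer ((A ⊓ centralizer (zl (S : Subgroup G) P : Set G) : Subgroup G) : Set G)) := by
  classical
  have hcm := Exact.A0_comm f.h hA
  have hAT := A0_le_T f hA
  have hcount : ∀ {X : Subgroup G}, IsElementaryAbelian 2 X → zl (S : Subgroup G) P ≤ X →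
      Nat.card X *
        Nat.card ↥((A ⊓ centralizer (zl (S : Subgroup G) P : Set G)) ⊓ centralizer (X : Set G)) ≤
      Nat.card ↥(A ⊓ centralizer (zl (S : Subgroup G) P : Set G)) *
        Nat.card ↥(X ⊓ centralizer ((A ⊓ centralizer (zl (S : Subgroup G) P : Set G) : Subgroup G) : Set G)) :=
    fun hX hVX => Exact.count0 f.h hA hij hX hVX
  have hM := Mh_WW f hV
  have hVW := V_le_WW f.hN
  have hact : ∀ t ∈ o2 R, ∀ y ∈ Mh R h D, t * y * t⁻¹ * y⁻¹ ∈ zpowers r := fun t ht y hy =>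
    Mh_act f hV hr hO ht hy
  have hmemO : ∀ b ∈ A ⊓ centralizer (zl (S : Subgroup G) P : Set G), (∀ y ∈ Mh R h D, b * y = y * b) → b ∈ o2 R :=
    fun b hb hc => mem_O f hV hD (hAT hb) hc
  have hconj : ∀ g ∈ R, ∀ y ∈ Mh R h D, g * y * g⁻¹ ∈ Mh R h D := fun g hg y hy => Mh_conj f hg hy
  have hAR : ∀ b ∈ A ⊓ centralizer (zl (S : Subgroup G) P : Set G), b ∈ R := fun b hb => f.TR (hAT hb)
  have hAab : ∀ a ∈ A, ∀ b ∈ A, a * b = b * a := fun a ha b hb => elem_comm hA.elem a ha b hb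
  obtain ⟨a, ha, ha'⟩ := hA.ex
  have haa : a * a = 1 := hA.sq ha
  have haV : ∀ v ∈ zl (S : Subgroup G) P, a * v * a⁻¹ ∈ zl (S : Subgroup G) P := fun v hv => hA.norm_V f.h ha hv
  have haM := fun hr1 => hMM hr1 a ha ha'
  have hrV : r ∈ zl (S : Subgroup G) P := f.D_le hr
  have hrr : r * r = 1 := f.h.ev.sq_mem hrV
  generalize zl (S : Subgroup G) P = V at *
  generalize Mh R h D = M at *
  set A0 := A ⊓ centralizer (V : Set G) with hA0
  set X := V ⊔ M with hX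
  have hXW : X ≤ SN.TwoP.WW ε := sup_le hVW hM
  have hXe : IsElementaryAbelian 2 X := isElementaryAbelian_mono WW_elem hXW
  have hmemX : ∀ y ∈ X, ∃ v ∈ V, ∃ w ∈ M, y = v * w := by
    intro y hy
    obtain ⟨v, hv, w, hw, rfl⟩ := mem_sup_comm (fun v hv w hw => WW_comm (hVW hv) (hM hw)) hy
    exact ⟨v, hv, w, hw, rfl⟩
  rcases hT with hr1 | hT
  · -- `r = 1`
    refine (Nat.mul_le_mul_left _ (Subgroup.card_le_of_le ?_)).trans (hcount hXe le_sup_left)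
    rintro b ⟨hb, hbO⟩
    refine ⟨hb, mem_centralizer_iff.2 fun y hy => ?_⟩
    obtain ⟨v, hv, w, hw, rfl⟩ := hmemX y hy
    have c1 : Commute b v := hcm b hb v hv
    have h1 := hact b hbO w hw
    rw [hr1, zpowers_one_eq_bot, mem_bot, mul_inv_eq_one] at h1
    have c2 : Commute b w := comm_of_conj h1
    exact (c1.mul_right c2).eq.symm
  · by_cases hr1 : r = 1
    · exact absurd (by rw [hr1, mul_one, one_mul] : a * r = r * a) (hT a ha')
    have hMa := haM hr1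
    have hXMa : ∀ x ∈ X, ∀ y ∈ X, x * (a * y * a⁻¹) = a * y * a⁻¹ * x := by
      intro x hx y hy
      obtain ⟨v, hv, w, hw, rfl⟩ := hmemX x hx
      obtain ⟨v', hv', w', hw', rfl⟩ := hmemX y hy
      have e : a * (v' * w') * a⁻¹ = (a * v' * a⁻¹) * (a * w' * a⁻¹) := by group
      rw [e]
      have hv1 := haV v' hv'
      have c1 : Commute v (a * v' * a⁻¹) := WW_comm (hVW hv) (hVW hv1)
      have c2 : Commute w (a * v' * a⁻¹) := WW_comm (hM hw) (hVW hv1)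
      have c3 : Commute w (a * w' * a⁻¹) := hMa w hw w' hw'
      have c4 : Commute v (a * w' * a⁻¹) := by
        have h1 : a⁻¹ * v * a ∈ V := by
          have e1 : a⁻¹ = a := inv_eq_of_mul_eq_one_left haa
          have := haV v hv
          rwa [e1] at this ⊢
        have h2 := WW_comm (hVW h1) (hM hw')
        change v * (a * w' * a⁻¹) = a * w' * a⁻¹ * v
        calc v * (a * w' * a⁻¹) = a * ((a⁻¹ * v * a) * w') * a⁻¹ := by group
          _ = a * (w' * (a⁻¹ * v * a)) * a⁻¹ := by rw [h2]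
          _ = a * w' * a⁻¹ * v := by group
      exact ((c1.mul_left c2).mul_right (c4.mul_left c3)).eq
    set U := X ⊔ cj a X with hU
    have hcU : ∀ x ∈ X, ∀ y ∈ cj a X, x * y = y * x := by
      rintro x hx _ ⟨y, hy, rfl⟩
      exact hXMa x hx y hy
    have hUe : IsElementaryAbelian 2 U := sup_elem hXe (isElementaryAbelian_cj a hXe) hcU
    have hcjeq : SN2.cj a X = cj a X := rfl
    have hb : ∀ b ∈ A0, a * b = b * a := fun b hb => hAab a ha b hb.1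
    have hax : a * r * a⁻¹ ≠ r := fun e => hT a ha' (comm_of_conj e)
    refine lemX0 (a := a) (x := r) (U := U) (E := X) (B := A0) (B₁ := A0 ⊓ o2 R) le_sup_left
      (fun e he => mem_sup_right ⟨e, he, rfl⟩) (fun u hu v hv => elem_comm hUe u hu v hv)
      (fun u hu => by have := elem_sq hUe u hu; rwa [pow_two] at this) hb ?_ inf_le_left ?_ hax ?_ ?_ ?_
    · intro b hb y hy
      obtain ⟨v, hv, w, hw, rfl⟩ := hmemX y hy
      have e : b * (v * w) * b⁻¹ = (b * v * b⁻¹) * (b * w * b⁻¹) := by group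
      rw [e, hcm b hb v hv, mul_inv_cancel_right]
      exact mul_mem (mem_sup_left hv) (mem_sup_right (hconj b (hAR b hb) w hw))
    · intro b hb hc
      exact ⟨hb, hmemO b hb fun y hy => hc y (mem_sup_right hy)⟩
    · intro b hb
      exact hcm b hb.1 r hrV
    · rintro b ⟨hb, hbO⟩ y hy
      obtain ⟨v, hv, w, hw, rfl⟩ := hmemX y hy
      have h1 := hact b hbO w hw
      have h2 := hcm b hb v hv
      have e : b * (v * w) * b⁻¹ * (v * w)⁻¹ = v * (b * w * b⁻¹ * w⁻¹) * v⁻¹ := by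
        calc b * (v * w) * b⁻¹ * (v * w)⁻¹ = (b * v) * w * b⁻¹ * w⁻¹ * v⁻¹ := by group
          _ = v * (b * w * b⁻¹ * w⁻¹) * v⁻¹ := by rw [h2]; group
      rw [e]
      rcases mem_zp hrr h1 with h3 | h3
      · left; rw [h3, mul_one, mul_inv_cancel]
      · right
        rw [h3, WW_comm (hVW hv) (hVW hrV), mul_inv_cancel_right]
    · rw [hcjeq, ← hU]
      have hle : A0 ⊓ centralizer (U : Set G) ≤ A0 := inf_le_left
      exact hcount hUe (le_sup_left.trans le_sup_left)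

/-- **(a)** `|M : C_M(A₀)| ≤ |A₀ : A₀ ∩ O₂(R)|`. -/
theorem rel {h r : G} (hV : h ∈ zl (S : Subgroup G) P) (hD : h ∉ D) (hr : r ∈ D)
    (hO : ∀ t ∈ o2 R, t * h * t⁻¹ * h⁻¹ ∈ zpowers r)
    (hMM : r ≠ 1 → ∀ i j A, i ≠ j → TTr ε r i j → Ex P ε i j A → ∀ a ∈ A, Acts ε a (Equiv.swap i j) →
      ∀ x ∈ Mh R h D, ∀ y ∈ Mh R h D, x * (a * y * a⁻¹) = a * y * a⁻¹ * x) :
    ∀ B ∈ Rl S P ε (TTr ε r), (centralizer (B : Set G)).relIndex (Mh R h D) ≤ (o2 R).relIndex B := by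
  rintro _ ⟨i, j, A, hij, hT, hA, rfl⟩
  exact relIndex_le le_sup_right (key f hV hD hr hO hij hT hA fun hr1 => hMM hr1 i j A hij hT hA)

theorem gen_TTr {r : G} (hr : r ∈ D) : Gen (TTr ε r) := by
  by_cases hr1 : r = 1
  · exact gen_all m fun i j _ => Or.inl hr1
  · exact gen_moved f.h (f.D_le hr) hr1 fun i j _ hT => Or.inr hT

/-- An element of `M` which is centralised by all `A₀` is in `YY`. -/
theorem mem_YY_of_Rl {h r : G} (hV : h ∈ zl (S : Subgroup G) P) (hr : r ∈ D) {u : G} (hu : u ∈ Mh R h D)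
    (hc : ∀ B ∈ Rl S P ε (TTr ε r), ∀ b ∈ B, b * u = u * b) : u ∈ YY S P ε := by
  have huW := Mh_WW f hV hu
  exact mem_YY_of f.h (WW_le_Q f.h f.hN huW) (WW_sq huW) (gen_TTr f hr) fun i j hij hT A hA b hb =>
    hc _ ⟨i, j, A, hij, hT, hA, rfl⟩ b hb

/-- LEMMA Y for `M` -/
theorem lemY' {h r : G} (hV : h ∈ zl (S : Subgroup G) P) (hr : r ∈ D) :
    ∀ u ∈ Mh R h D, (∀ B ∈ Rl S P ε (TTr ε r), ∀ b ∈ B, b * u = u * b) →
      u ∈ zl (S : Subgroup G) P ∨ ∀ v ∈ zl (S : Subgroup G) P, ∃ q ∈ o2 P, q * u * q⁻¹ = v * u := by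
  intro u hu hc
  rcases lemY f.h (mem_YY_of_Rl f hV hr hu hc) with h1 | h1
  · exact Or.inl h1
  · refine Or.inr fun v hv => ?_
    obtain ⟨q, hq, -, hqu⟩ := h1 v hv
    exact ⟨q, hq, hqu⟩

/-- **(b)** some `A₀` is not contained in `O₂(R)`. -/
theorem ex {h r : G} (hV : h ∈ zl (S : Subgroup G) P) (hD : h ∉ D) (hr : r ∈ D)
    (hrel : ∀ B ∈ Rl S P ε (TTr ε r), (centralizer (B : Set G)).relIndex (Mh R h D) ≤ (o2 R).relIndex B) :
    ∃ B ∈ Rl S P ε (TTr ε r), ¬ B ≤ o2 R := by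
  by_contra hcon
  push Not at hcon
  have hMc : ∀ B ∈ Rl S P ε (TTr ε r), Mh R h D ≤ centralizer (B : Set G) := by
    intro B hB
    have h1 := hrel B hB
    rw [relIndex_eq_one.2 (hcon B hB)] at h1
    have h2 : (centralizer (B : Set G)).relIndex (Mh R h D) ≠ 0 := by
      intro h0
      have h3 := relIndex_mul_card (centralizer (B : Set G)) (Mh R h D)
      rw [h0, zero_mul] at h3
      exact (Nat.card_pos (α := Mh R h D)).ne' h3.symm
    exact relIndex_eq_one.1 (le_antisymm h1 (Nat.one_le_iff_ne_zero.2 h2))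
  have hMY : Mh R h D ≤ YY S P ε := fun u hu => mem_YY_of_Rl f hV hr hu fun B hB b hb =>
    mem_centralizer_iff.1 (hMc B hB hu) b hb
  -- `M ≰ V`
  have hMV : ¬ Mh R h D ≤ zl (S : Subgroup G) P := by
    intro hle
    obtain ⟨x, hx, hxM⟩ := SetLike.not_le_iff_exists.1 f.nR
    exact hD (f.TI (f.RC hx) hxM hV (hle (mem_Mh hx)))
  obtain ⟨u, hu, huV⟩ := SetLike.not_le_iff_exists.1 hMV
  have hVM : zl (S : Subgroup G) P ≤ Mh R h D := by
    intro v hv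
    rcases lemY f.h (hMY hu) with h1 | h1
    · exact absurd h1 huV
    · obtain ⟨q, hq, -, hqu⟩ := h1 v hv
      have h2 := Mh_conj f (f.TR (f.QT hq)) hu
      rw [hqu] at h2
      have h3 := mul_mem h2 (inv_mem hu)
      rwa [mul_inv_cancel_right] at h3
  have h1 := lemF f.h f.hN.m3 hVM hMY (f.QT.trans (f.TR.trans (Mh_norm f h)))
  exact f.not_le ((Mh_norm f h).trans h1)

/-- **The structure `FF.Stp`.** -/
theorem stp {h r : G} (hV : h ∈ zl (S : Subgroup G) P) (hD : h ∉ D) (hT : ∀ t ∈ T, t * h * t⁻¹ * h⁻¹ ∈ D)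
    (hr : r ∈ D) (hO : ∀ t ∈ o2 R, t * h * t⁻¹ * h⁻¹ ∈ zpowers r)
    (hMM : r ≠ 1 → ∀ i j A, i ≠ j → TTr ε r i j → Ex P ε i j A → ∀ a ∈ A, Acts ε a (Equiv.swap i j) →
      ∀ x ∈ Mh R h D, ∀ y ∈ Mh R h D, x * (a * y * a⁻¹) = a * y * a⁻¹ * x)
    (hna : D ≤ zpowers r → ∃ s ∈ T, ∃ t ∈ T, ∃ v ∈ zl (S : Subgroup G) P,
      s * t * s⁻¹ * t⁻¹ * v * (s * t * s⁻¹ * t⁻¹)⁻¹ * v⁻¹ ∉ D) :
    FF.Stp (zl (S : Subgroup G) P) (o2 P) T R M₀ D (zpowers r) (Mh R h D) h (Rl S P ε (TTr ε r)) where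
  TR := f.TR
  TM := f.T_M₀
  two := f.T2
  syl := syl_not_dvd f.sylR
  notM := f.nR
  min K hK hKR hKM := by
    by_contra hne
    exact hKM (f.min K hK (lt_of_le_of_ne hKR hne))
  Vc v hv w hw := f.h.ev.comm_mem hv hw
  Vs v hv := f.h.ev.sq_mem hv
  Mc v hv w hw := WW_comm (Mh_WW f hV hv) (Mh_WW f hV hw)
  Ms v hv := WW_sq (Mh_WW f hV hv)
  DV := f.D_le
  Dc d hd g hg := Dc f hd hg
  st u hu huD g hg hgu := f.mem_M₀ hg hu huD (by
    rw [hgu, mul_inv_cancel_right, mul_inv_cancel]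
    exact one_mem _)
  hV := hV
  hD := hD
  hT := hT
  ED := by rwa [zpowers_le]
  hO := hO
  hM := h_mem
  DM := D_le_Mh
  RM := Mh_norm f h
  Mgen K hK hKx := Mh_le hK hKx
  QT := f.QT
  QV q hq := mem_centralizer_iff.2 fun v hv => (f.h.VcQ hq hv).symm
  relQ := by
    rintro _ ⟨i, j, A, -, -, hA, rfl⟩
    exact Exact.le_Q f.h hA
  relc := by
    rintro _ ⟨i, j, A, -, -, hA, rfl⟩ a ha b hb
    exact elem_comm hA.elem a ha.1 b hb.1
  rels := by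
    rintro _ ⟨i, j, A, -, -, hA, rfl⟩ a ha
    exact hA.sq ha.1
  rel := rel f hV hD hr hO hMM
  ex := ex f hV hD hr (rel f hV hD hr hO hMM)
  lemY := lemY' f hV hr
  na := hna

end

end Cfsg.Agent.Omega.NO3S.SN2.StepAB
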