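import Cfsg.Agent.Omega.NO3S.SN2.LemXGen
import Cfsg.Agent.Omega.NO3S.SN2.TwoPar
import Cfsg.Agent.Omega.NOThreeL.RA.Md

/-!
# SN.Two, `W_R` is independent of `R` (helper828, #20470)

`Box` : the local situation at a duad `x = x₁₂` of `V` (`D = V₁₂`, `T = C_S(D)`, `Q = C_S(V)`, `B = C_A(V)`, `A` exact for
`t = (1j)`, `a ∈ A - B`, `U` = the elementary abelian group `U_{z_k}`); `Par` : one parabolic `R` over `T`
(`W = W_R`, `K = O₂(R)`, `Z = [W, Q]`).  **`uniq`** : `W_{R₁} = W_{R₂}`.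
-/

set_option autoImplicit false
set_option linter.unusedSectionVars false

namespace Cfsg.Agent.Omega.NO3S.SN2

open Subgroup

universe u

variable {G : Type u} [Group G]

/-- the group generated by the `V ^ y`, `y ∈ S` -/
def cz (S : Set G) (V : Subgroup G) : Subgroup G := Subgroup.closure {g | ∃ y ∈ S, ∃ v ∈ V, g = y * v * y⁻¹}

theorem mem_cz {S : Set G} {V : Subgroup G} {y v : G} (hy : y ∈ S) (hv : v ∈ V) : y * v * y⁻¹ ∈ cz S V :=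
  Subgroup.subset_closure ⟨y, hy, v, hv, rfl⟩

/-- The situation at the duad `x`. -/
structure Box (V D T Q B U : Subgroup G) (a x : G) : Prop where
  DV : D ≤ V
  neD : ¬ V ≤ D
  idx : ∀ v ∈ V, ∀ w ∈ V, v ∉ D → w ∉ D → v * w ∈ D
  Qc : ∀ q ∈ Q, ∀ v ∈ V, q * v = v * q
  BQ : B ≤ Q
  QT : Q ≤ T
  Tc : T ≤ centralizer (D : Set G)
  TV : ∀ t ∈ T, ∀ v ∈ V, t * v * t⁻¹ ∈ V
  Bab : ∀ b ∈ B, ∀ b' ∈ B, b * b' = b' * b
  aB : ∀ b ∈ B, a * b = b * a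
  aV : ∀ v ∈ V, a * v * a⁻¹ ∈ V
  aQ : ∀ q ∈ Q, a * q * a⁻¹ ∈ Q
  aa : a * a = 1
  ab : ∀ u ∈ U, ∀ v ∈ U, u * v = v * u
  sq : ∀ u ∈ U, u * u = 1
  box : ∀ y ∈ centralizer (D : Set G), ∀ v ∈ V, y * v * y⁻¹ ∈ U ∧ a * (y * v * y⁻¹) * a⁻¹ ∈ U
  inQ : ∀ y ∈ centralizer (D : Set G), ∀ v ∈ V, y * v * y⁻¹ ∈ Q
  xD : x ∈ D
  ax : a * x * a⁻¹ ≠ x
  /-- `N_X(V)` acts on `V` as `⟨(12)⟩` -/
  nx : ∀ g ∈ centralizer (D : Set G), (∀ v ∈ V, g * v * g⁻¹ ∈ V) → ∀ v ∈ V,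
    g * v * g⁻¹ * v⁻¹ = 1 ∨ g * v * g⁻¹ * v⁻¹ = x
  /-- exactness -/
  ex : ∀ E : Subgroup G, V ≤ E → E ≤ U → (∀ b ∈ B, ∀ u ∈ E, b * u * b⁻¹ ∈ E) → (∀ u ∈ E, a * u * a⁻¹ ∈ E) →
    Nat.card E * Nat.card ↥(B ⊓ centralizer (E : Set G)) ≤ Nat.card B * Nat.card ↥(E ⊓ centralizer (B : Set G))
  /-- exactness -/
  fix : ∀ E : Subgroup G, V ≤ E → E ≤ U → (∀ b ∈ B, ∀ u ∈ E, b * u * b⁻¹ ∈ E) → (∀ u ∈ E, a * u * a⁻¹ ∈ E) →
    ∀ u ∈ E, (∀ b ∈ B, b * u = u * b) → a * u * a⁻¹ * u⁻¹ ∈ V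
  /-- LEMMA Q -/
  lemQ : ∀ w ∈ Q, w * w = 1 → (∀ q ∈ Q, q * w * q⁻¹ * w⁻¹ ∈ V) →
    (∀ q ∈ Q, ∀ q' ∈ Q, q * w * q⁻¹ * w⁻¹ = 1 ∨ q' * w * q'⁻¹ * w⁻¹ = 1 ∨
      q * w * q⁻¹ * w⁻¹ = q' * w * q'⁻¹ * w⁻¹) → w ∈ V

/-- One parabolic over `T`. -/
structure Par (V D T Q : Subgroup G) (a x : G) (R W K Z : Subgroup G) : Prop where
  TR : T ≤ R
  RX : R ≤ centralizer (D : Set G)
  W_eq : W = cz (R : Set G) V
  /-- `|W : V| = 2` -/
  idx : ∀ v ∈ W, ∀ w ∈ W, v ∉ V → w ∉ V → v * w ∈ V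
  ne : ¬ W ≤ V
  KT : K ≤ T
  Kn : ∀ r ∈ R, ∀ k ∈ K, r * k * r⁻¹ ∈ K
  memK : ∀ t ∈ T, (∀ w ∈ W, t * w * t⁻¹ * w⁻¹ ∈ D) → t ∈ K
  Kc : ∀ k ∈ K, ∀ w ∈ W, k * w * k⁻¹ * w⁻¹ ∈ D
  ZV : Z ≤ V
  xZ : x ∈ Z
  ZD : ∀ z ∈ Z, z ∈ D → z = 1 ∨ z = x
  Zc : ∀ q ∈ Q, ∀ u ∈ W, q * u * q⁻¹ * u⁻¹ ∈ Z
  full : ∀ u ∈ W, u ∉ V → ∀ z ∈ Z, ∃ q ∈ Q, q * u * q⁻¹ * u⁻¹ = z
  aZ : ∃ z ∈ Z, a * z * a⁻¹ ∉ Z

theorem comm_iff {b e : G} : b * e * b⁻¹ * e⁻¹ = 1 ↔ b * e = e * b := by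
  constructor
  · intro h
    have : b * e = (b * e * b⁻¹ * e⁻¹) * (e * b) := by group
    rw [this, h, one_mul]
  · intro h
    rw [h]
    group

section cls

variable {V D T Q B U : Subgroup G} {a x : G} (h : Box V D T Q B U a x)
include h

namespace Box

theorem cz_le {S : Set G} (hS : S ⊆ centralizer (D : Set G)) : cz S V ≤ U := by
  rw [cz, Subgroup.closure_le]
  rintro _ ⟨y, hy, v, hv, rfl⟩
  exact (h.box y (hS hy) v hv).1

theorem cz_le_Q {S : Set G} (hS : S ⊆ centralizer (D : Set G)) : cz S V ≤ Q := by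
  rw [cz, Subgroup.closure_le]
  rintro _ ⟨y, hy, v, hv, rfl⟩
  exact h.inQ y (hS hy) v hv

theorem cz_a {S : Set G} (hS : S ⊆ centralizer (D : Set G)) : ∀ e ∈ cz S V, a * e * a⁻¹ ∈ U := by
  intro e he
  have h1 : cz S V ≤ U.comap (MulAut.conj a).toMonoidHom := by
    rw [cz, Subgroup.closure_le]
    rintro _ ⟨y, hy, v, hv, rfl⟩
    exact (h.box y (hS hy) v hv).2
  exact h1 he

theorem V_le_U : V ≤ U := fun v hv => by
  have := (h.box 1 (one_mem _) v hv).1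
  simpa using this

theorem x_mul : x * x = 1 := h.sq x (h.V_le_U (h.DV h.xD))

theorem x_inv : x⁻¹ = x := inv_eq_of_mul_eq_one_left h.x_mul

theorem B_D {b d : G} (hb : b ∈ B) (hd : d ∈ D) : b * d = d * b := h.Qc b (h.BQ hb) d (h.DV hd)

theorem comm_U {u v : G} (hu : u ∈ U) (hv : v ∈ U) : u * v = v * u := h.ab u hu v hv

theorem comm_mem {b : G} {E : Subgroup G} (hb : b ∈ B) (hBE : ∀ b ∈ B, ∀ e ∈ E, b * e * b⁻¹ ∈ E) {e : G} (he : e ∈ E) :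
    b * e * b⁻¹ * e⁻¹ ∈ E := E.mul_mem (hBE b hb e he) (E.inv_mem he)

/-- `XX = E E ^ a` satisfies the hypotheses of exactness -/
theorem XX_ok {E : Subgroup G} (hVE : V ≤ E) (hEU : E ≤ U) (hEa : ∀ e ∈ E, a * e * a⁻¹ ∈ U)
    (hBE : ∀ b ∈ B, ∀ e ∈ E, b * e * b⁻¹ ∈ E) : V ≤ E ⊔ cj a E ∧ E ⊔ cj a E ≤ U ∧
      (∀ b ∈ B, ∀ u ∈ E ⊔ cj a E, b * u * b⁻¹ ∈ E ⊔ cj a E) ∧ (∀ u ∈ E ⊔ cj a E, a * u * a⁻¹ ∈ E ⊔ cj a E) := by
  refine ⟨hVE.trans le_sup_left, sup_le hEU ?_, ?_, ?_⟩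
  · intro y hy
    obtain ⟨e, he, rfl⟩ := mem_cj.1 hy
    exact hEa e he
  · intro b hb u hu
    have h1 : E ⊔ cj a E ≤ (E ⊔ cj a E).comap (MulAut.conj b).toMonoidHom := by
      apply sup_le
      · intro e he
        exact le_sup_left (a := E) (hBE b hb e he)
      · intro y hy
        obtain ⟨e, he, rfl⟩ := mem_cj.1 hy
        change b * (a * e * a⁻¹) * b⁻¹ ∈ (E ⊔ cj a E : Subgroup G)
        have h2 := h.aB b hb
        have h3 : b * (a * e * a⁻¹) * b⁻¹ = a * (b * e * b⁻¹) * a⁻¹ := by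
          have h4 : a⁻¹ * b⁻¹ = b⁻¹ * a⁻¹ := by rw [← mul_inv_rev, ← mul_inv_rev, h2]
          calc b * (a * e * a⁻¹) * b⁻¹ = (b * a) * e * (a⁻¹ * b⁻¹) := by group
            _ = (a * b) * e * (b⁻¹ * a⁻¹) := by rw [h2, h4]
            _ = _ := by group
        rw [h3]
        exact le_sup_right (a := E) (mem_cj.2 ⟨_, hBE b hb e he, rfl⟩)
    exact h1 hu
  · intro u hu
    have h1 : E ⊔ cj a E ≤ (E ⊔ cj a E).comap (MulAut.conj a).toMonoidHom := by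
      apply sup_le
      · intro e he
        exact le_sup_right (a := E) (mem_cj.2 ⟨e, he, rfl⟩)
      · intro y hy
        obtain ⟨e, he, rfl⟩ := mem_cj.1 hy
        change a * (a * e * a⁻¹) * a⁻¹ ∈ (E ⊔ cj a E : Subgroup G)
        have h3 : a * (a * e * a⁻¹) * a⁻¹ = e := by
          have h4 : a⁻¹ = a := inv_eq_of_mul_eq_one_left h.aa
          calc a * (a * e * a⁻¹) * a⁻¹ = (a * a) * e * (a⁻¹ * a⁻¹) := by group
            _ = e := by rw [h4, h.aa, one_mul, mul_one]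
        rw [h3]
        exact le_sup_left (a := E) he
    exact h1 hu

/-- LEMMA X for the box -/
theorem lemX [Finite G] {B₁ E : Subgroup G} (hVE : V ≤ E) (hEU : E ≤ U) (hEa : ∀ e ∈ E, a * e * a⁻¹ ∈ U)
    (hBE : ∀ b ∈ B, ∀ e ∈ E, b * e * b⁻¹ ∈ E) (h1 : B₁ ≤ B) (hc : ∀ b ∈ B, (∀ e ∈ E, b * e = e * b) → b ∈ B₁)
    (hp : ∀ b ∈ B₁, ∀ e ∈ E, b * e * b⁻¹ * e⁻¹ = 1 ∨ b * e * b⁻¹ * e⁻¹ = x) :
    Nat.card E * Nat.card B₁ ≤ Nat.card B * Nat.card ↥(E ⊓ centralizer (B : Set G)) := by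
  obtain ⟨k1, k2, k3, k4⟩ := h.XX_ok hVE hEU hEa hBE
  exact lemX0 hEU hEa h.ab h.sq h.aB hBE h1 hc h.ax (fun b hb => h.B_D (h1 hb) h.xD) hp (h.ex _ k1 k2 k3 k4)

theorem fixE {E : Subgroup G} (hVE : V ≤ E) (hEU : E ≤ U) (hEa : ∀ e ∈ E, a * e * a⁻¹ ∈ U)
    (hBE : ∀ b ∈ B, ∀ e ∈ E, b * e * b⁻¹ ∈ E) {u : G} (hu : u ∈ E) (hc : ∀ b ∈ B, b * u = u * b) :
    a * u * a⁻¹ * u⁻¹ ∈ V := by
  obtain ⟨k1, k2, k3, k4⟩ := h.XX_ok hVE hEU hEa hBE
  exact h.fix _ k1 k2 k3 k4 u (le_sup_left (a := E) hu) hc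

end Box

end cls

namespace Par

variable {V D T Q B U R W K Z : Subgroup G} {a x : G} (p : Par V D T Q a x R W K Z) (h : Box V D T Q B U a x)

include p

theorem V_le_W : V ≤ W := by
  intro v hv
  rw [p.W_eq]
  have := mem_cz (S := (R : Set G)) (one_mem R) hv
  simpa using this

theorem W_inv {r w : G} (hr : r ∈ R) (hw : w ∈ W) : r * w * r⁻¹ ∈ W := by
  rw [p.W_eq] at hw ⊢
  have h1 : cz (R : Set G) V ≤ (cz (R : Set G) V).comap (MulAut.conj r).toMonoidHom := by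
    conv_lhs => rw [cz]
    rw [Subgroup.closure_le]
    rintro _ ⟨y, hy, v, hv, rfl⟩
    change r * (y * v * y⁻¹) * r⁻¹ ∈ cz (R : Set G) V
    have := mem_cz (S := (R : Set G)) (V := V) (mul_mem hr hy) hv
    have e : r * y * v * (r * y)⁻¹ = r * (y * v * y⁻¹) * r⁻¹ := by group
    rwa [e] at this
  exact h1 hw

include h

theorem W_le_U : W ≤ U := by rw [p.W_eq]; exact h.cz_le p.RX

theorem W_le_Q : W ≤ Q := by rw [p.W_eq]; exact h.cz_le_Q p.RX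

theorem W_a : ∀ e ∈ W, a * e * a⁻¹ ∈ U := by rw [p.W_eq]; exact h.cz_a p.RX

theorem B_W : ∀ b ∈ B, ∀ e ∈ W, b * e * b⁻¹ ∈ W := fun _ hb _ he => p.W_inv (p.TR (h.QT (h.BQ hb))) he

/-- the argument `Z ^ a = Z` -/
theorem not_fix {u : G} (hu : u ∈ W) (huV : u ∉ V) (ha : a * u * a⁻¹ * u⁻¹ ∈ V) : False := by
  obtain ⟨z, hz, haz⟩ := p.aZ
  obtain ⟨q, hq, rfl⟩ := p.full u hu huV z hz
  apply haz
  set v := a * u * a⁻¹ * u⁻¹ with hv
  have h1 : a * (q * u * q⁻¹ * u⁻¹) * a⁻¹ = (a * q * a⁻¹) * (v * u) * (a * q * a⁻¹)⁻¹ * (v * u)⁻¹ := by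
    rw [hv]; group
  have h2 := p.Zc _ (h.aQ q hq) u hu
  have h3 : (a * q * a⁻¹) * v = v * (a * q * a⁻¹) := h.Qc _ (h.aQ q hq) v ha
  have h4 : (a * q * a⁻¹) * (v * u) * (a * q * a⁻¹)⁻¹ * (v * u)⁻¹ =
      v * ((a * q * a⁻¹) * u * (a * q * a⁻¹)⁻¹ * u⁻¹) * v⁻¹ := by
    calc (a * q * a⁻¹) * (v * u) * (a * q * a⁻¹)⁻¹ * (v * u)⁻¹
        = ((a * q * a⁻¹) * v) * u * (a * q * a⁻¹)⁻¹ * u⁻¹ * v⁻¹ := by group
      _ = _ := by rw [h3]; group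
  have h5 : v * ((a * q * a⁻¹) * u * (a * q * a⁻¹)⁻¹ * u⁻¹) * v⁻¹ = (a * q * a⁻¹) * u * (a * q * a⁻¹)⁻¹ * u⁻¹ := by
    rw [h.comm_U (h.V_le_U ha) (h.V_le_U (p.ZV h2)), mul_inv_cancel_right]
  rw [h1, h4, h5]
  exact h2

/-- `B ≰ K` -/
theorem B_nle [Finite G] : ¬ B ≤ K := by
  intro hBK
  obtain ⟨u, hu, huV⟩ := SetLike.not_le_iff_exists.1 p.ne
  have h1 := h.lemX (B₁ := B) p.V_le_W (p.W_le_U h) (p.W_a h) (p.B_W h) le_rfl (fun _ hb _ => hb)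
    (fun b hb e he => p.ZD _ (p.Zc b (h.BQ hb) e he) (p.Kc b (hBK hb) e he))
  have h2 : W ≤ centralizer (B : Set G) := by
    have h3 : Nat.card W ≤ Nat.card ↥(W ⊓ centralizer (B : Set G)) := by
      rw [mul_comm] at h1
      exact Nat.le_of_mul_le_mul_left h1 Nat.card_pos
    have h4 : W ⊓ centralizer (B : Set G) = W :=
      Subgroup.eq_of_le_of_card_ge inf_le_left h3
    exact inf_eq_left.1 h4
  exact p.not_fix h hu huV (h.fixE p.V_le_W (p.W_le_U h) (p.W_a h) (p.B_W h) hu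
    fun b hb => mem_centralizer_iff.1 (h2 hu) b hb)

/-- `b ∈ K` iff `[b, u] ∈ D` -/
theorem memK_iff {u : G} (hu : u ∈ W) (huV : u ∉ V) {b : G} (hb : b ∈ B) : b ∈ K ↔ b * u * b⁻¹ * u⁻¹ ∈ D := by
  refine ⟨fun h1 => p.Kc b h1 u hu, fun h1 => p.memK b (h.QT (h.BQ hb)) fun w hw => ?_⟩
  have hV : ∀ v ∈ V, b * v * b⁻¹ * v⁻¹ = 1 := fun v hv => comm_iff.2 (h.Qc b (h.BQ hb) v hv)
  by_cases hwV : w ∈ V
  · rw [hV w hwV]; exact one_mem _
  · have h2 := p.idx w hw u hu hwV huV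
    have h3 := hV _ h2
    have hbu := p.Zc b (h.BQ hb) u hu
    have hbw := p.Zc b (h.BQ hb) w hw
    rw [comm_mul (h.comm_U (p.W_le_U h hw) (h.V_le_U (p.ZV hbu)))] at h3
    rw [eq_inv_of_mul_eq_one_left h3]
    exact inv_mem h1

theorem relIndex_B1 [Finite G] : (B ⊓ K).relIndex B = 2 := by
  obtain ⟨c, hc, hcK⟩ := SetLike.not_le_iff_exists.1 (p.B_nle h)
  obtain ⟨u, hu, huV⟩ := SetLike.not_le_iff_exists.1 p.ne
  rw [Subgroup.relIndex_eq_two_iff]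
  refine ⟨c, hc, fun b hb => ?_⟩
  by_cases hbK : b ∈ K
  · right
    refine ⟨⟨hb, hbK⟩, fun h4 => hcK ?_⟩
    have := mul_mem (inv_mem hbK) h4.2
    rwa [inv_mul_cancel_left] at this
  · left
    refine ⟨⟨mul_mem hb hc, ?_⟩, fun h4 => hbK h4.2⟩
    change b * c ∈ K
    rw [p.memK_iff h hu huV (mul_mem hb hc)]
    have h1 := p.Zc b (h.BQ hb) u hu
    have h2 := p.Zc c (h.BQ hc) u hu
    have h3 : b * c * u * (b * c)⁻¹ * u⁻¹ = (c * u * c⁻¹ * u⁻¹) * (b * u * b⁻¹ * u⁻¹) := by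
      have h4 : b * (c * u * c⁻¹ * u⁻¹) * b⁻¹ = c * u * c⁻¹ * u⁻¹ := by
        rw [h.Qc b (h.BQ hb) _ (p.ZV h2), mul_inv_cancel_right]
      calc b * c * u * (b * c)⁻¹ * u⁻¹ = (b * (c * u * c⁻¹ * u⁻¹) * b⁻¹) * (b * u * b⁻¹ * u⁻¹) := by group
        _ = _ := by rw [h4]
    rw [h3]
    exact h.idx _ (p.ZV h2) _ (p.ZV h1) (fun h5 => hcK ((p.memK_iff h hu huV hc).2 h5))
      (fun h5 => hbK ((p.memK_iff h hu huV hb).2 h5))

theorem card_B1 [Finite G] : Nat.card B = 2 * Nat.card ↥(B ⊓ K) := by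
  have h1 := Cfsg.Agent.ZN.Block.card_mul_relIndex' (inf_le_left : B ⊓ K ≤ B)
  rw [p.relIndex_B1 h] at h1
  omega

end Par

section two

variable {V D T Q B U R₁ W₁ K₁ Z₁ R₂ W₂ K₂ Z₂ : Subgroup G} {a x : G} (h : Box V D T Q B U a x)
  (p₁ : Par V D T Q a x R₁ W₁ K₁ Z₁) (p₂ : Par V D T Q a x R₂ W₂ K₂ Z₂)

include h p₁ p₂

omit h in
theorem inf_le_V (hne : W₁ ≠ W₂) : W₁ ⊓ W₂ ≤ V := by
  intro y hy
  by_contra hyV
  apply hne
  apply le_antisymm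
  · intro w hw
    by_cases hwV : w ∈ V
    · exact p₂.V_le_W hwV
    · have h1 := p₂.V_le_W (p₁.idx w hw y hy.1 hwV hyV)
      have := mul_mem h1 (inv_mem hy.2)
      rwa [mul_inv_cancel_right] at this
  · intro w hw
    by_cases hwV : w ∈ V
    · exact p₁.V_le_W hwV
    · have h1 := p₁.V_le_W (p₂.idx w hw y hy.2 hwV hyV)
      have := mul_mem h1 (inv_mem hy.1)
      rwa [mul_inv_cancel_right] at this

/-- #20470 (1) -/
theorem eq_of_B [Finite G] (hK : ∀ b ∈ B, b ∈ K₁ ↔ b ∈ K₂) : W₁ = W₂ := by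
  by_contra hne
  have hint := inf_le_V p₁ p₂ hne
  obtain ⟨u₁, hu₁, hu₁V⟩ := SetLike.not_le_iff_exists.1 p₁.ne
  obtain ⟨u₂, hu₂, hu₂V⟩ := SetLike.not_le_iff_exists.1 p₂.ne
  set E := W₁ ⊔ W₂ with hE
  have hWE₁ : W₁ ≤ E := le_sup_left
  have hWE₂ : W₂ ≤ E := le_sup_right
  have hVE : V ≤ E := p₁.V_le_W.trans hWE₁
  have hEU : E ≤ U := sup_le (p₁.W_le_U h) (p₂.W_le_U h)
  have hEQ : E ≤ Q := sup_le (p₁.W_le_Q h) (p₂.W_le_Q h)
  have hEa : ∀ e ∈ E, a * e * a⁻¹ ∈ U := by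
    intro e he
    have h1 : E ≤ U.comap (MulAut.conj a).toMonoidHom := sup_le (fun e he => p₁.W_a h e he) fun e he => p₂.W_a h e he
    exact h1 he
  have hBE : ∀ b ∈ B, ∀ e ∈ E, b * e * b⁻¹ ∈ E := by
    intro b hb e he
    have h1 : E ≤ E.comap (MulAut.conj b).toMonoidHom :=
      sup_le (fun e he => hWE₁ (p₁.B_W h b hb e he)) fun e he => hWE₂ (p₂.B_W h b hb e he)
    exact h1 he
  have hprod : ∀ e ∈ E, ∃ e₁ ∈ W₁, ∃ e₂ ∈ W₂, e = e₁ * e₂ := by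
    intro e he
    have hn : W₂ ≤ normalizer (W₁ : Set G) := by
      intro y hy
      refine mem_normalizer_iff.2 fun z => ?_
      have h2 : ∀ z ∈ W₁, y * z * y⁻¹ ∈ W₁ := fun z hz => by
        rw [h.comm_U (p₂.W_le_U h hy) (p₁.W_le_U h hz), mul_inv_cancel_right]; exact hz
      have h3 : ∀ z ∈ W₁, y⁻¹ * z * y ∈ W₁ := fun z hz => by
        rw [mul_assoc, ← h.comm_U (p₂.W_le_U h hy) (p₁.W_le_U h hz), inv_mul_cancel_left]; exact hz
      refine ⟨h2 z, fun h4 => ?_⟩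
      have := h3 _ h4
      have e : y⁻¹ * (y * z * y⁻¹) * y = z := by group
      rwa [e] at this
    have he' : e ∈ ((W₁ ⊔ W₂ : Subgroup G) : Set G) := he
    rw [Subgroup.coe_mul_of_right_le_normalizer_left W₁ W₂ hn] at he'
    obtain ⟨e₁, h1, e₂, h2, rfl⟩ := he'
    exact ⟨e₁, h1, e₂, h2, rfl⟩
  have hcm : ∀ b ∈ Q, ∀ e₁ ∈ W₁, ∀ e₂ ∈ W₂,
      b * (e₁ * e₂) * b⁻¹ * (e₁ * e₂)⁻¹ = (b * e₁ * b⁻¹ * e₁⁻¹) * (b * e₂ * b⁻¹ * e₂⁻¹) := fun b hb e₁ h1 e₂ h2 =>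
    comm_mul (h.comm_U (p₁.W_le_U h h1) (h.V_le_U (p₂.ZV (p₂.Zc b hb e₂ h2))))
  have hX := h.lemX (B₁ := B ⊓ K₁) hVE hEU hEa hBE inf_le_left (by
    intro b hb hc
    refine ⟨hb, (p₁.memK_iff h hu₁ hu₁V hb).2 ?_⟩
    rw [comm_iff.2 (hc u₁ (hWE₁ hu₁))]
    exact one_mem _) (by
    intro b hb e he
    obtain ⟨e₁, h1, e₂, h2, rfl⟩ := hprod e he
    rw [hcm b (h.BQ hb.1) e₁ h1 e₂ h2]
    have h3 := p₁.ZD _ (p₁.Zc b (h.BQ hb.1) e₁ h1) (p₁.Kc b hb.2 e₁ h1)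
    have h4 := p₂.ZD _ (p₂.Zc b (h.BQ hb.1) e₂ h2) (p₂.Kc b ((hK b hb.1).1 hb.2) e₂ h2)
    rcases h3 with h3 | h3 <;> rcases h4 with h4 | h4 <;> rw [h3, h4]
    · left; exact mul_one _
    · right; exact one_mul _
    · right; exact mul_one _
    · left; exact h.x_mul)
  rw [p₁.card_B1 h] at hX
  have hpos : 0 < Nat.card ↥(B ⊓ K₁) := Nat.card_pos
  have hX' : Nat.card E ≤ 2 * Nat.card ↥(E ⊓ centralizer (B : Set G)) := by
    refine Nat.le_of_mul_le_mul_right (c := Nat.card ↥(B ⊓ K₁)) ?_ hpos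
    calc _ ≤ _ := hX
      _ = _ := by ring
  set C := E ⊓ centralizer (B : Set G) with hC
  have hnc : ∀ {R W K Z : Subgroup G} (p : Par V D T Q a x R W K Z) (u : G), u ∈ W → u ∉ V → u ∉ C := by
    intro R W K Z p u hu huV hc
    apply p.B_nle h
    intro b hb
    rw [p.memK_iff h hu huV hb, comm_iff.2 (mem_centralizer_iff.1 hc.2 b hb)]
    exact one_mem _
  have h1C := hnc p₁ u₁ hu₁ hu₁V
  have h2C := hnc p₂ u₂ hu₂ hu₂V
  have hidx : (C.subgroupOf E).index = 2 := by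
    have h1 := Cfsg.Agent.ZN.Block.card_mul_relIndex' (inf_le_left : C ≤ E)
    have h2 : C.relIndex E ≠ 1 := by
      intro h3
      exact h1C (Subgroup.relIndex_eq_one.1 h3 (hWE₁ hu₁))
    have h3 : C.relIndex E ≠ 0 := (Subgroup.index_ne_zero_of_finite : (C.subgroupOf E).index ≠ 0)
    have h4 : C.relIndex E ≤ 2 := by
      have hp : 0 < Nat.card C := Nat.card_pos
      have h5 : Nat.card C * C.relIndex E ≤ Nat.card C * 2 := by
        rw [h1]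
        linarith
      exact Nat.le_of_mul_le_mul_left h5 hp
    change C.relIndex E = 2
    omega
  set w := u₁ * u₂ with hw
  have hwE : w ∈ E := mul_mem (hWE₁ hu₁) (hWE₂ hu₂)
  have hwC : w ∈ C := by
    have h1 := (Subgroup.mul_mem_iff_of_index_two hidx (a := ⟨u₁, hWE₁ hu₁⟩) (b := ⟨u₂, hWE₂ hu₂⟩)).2
      ⟨fun h3 => absurd h3 h1C, fun h3 => absurd h3 h2C⟩
    exact h1
  have hwV : w ∉ V := by
    intro h1
    apply hu₁V
    apply hint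
    refine ⟨hu₁, ?_⟩
    have := mul_mem (p₂.V_le_W h1) (inv_mem hu₂)
    rwa [hw, mul_inv_cancel_right] at this
  have haw : a * w * a⁻¹ * w⁻¹ ∈ V := h.fixE hVE hEU hEa hBE hwE fun b hb => mem_centralizer_iff.1 hwC.2 b hb
  -- `Z₂ ≤ Z₁`
  obtain ⟨c, hc, hcK⟩ := SetLike.not_le_iff_exists.1 (p₁.B_nle h)
  set δ := c * u₁ * c⁻¹ * u₁⁻¹ with hδ
  have hδ1 : δ ∈ Z₁ := p₁.Zc c (h.BQ hc) u₁ hu₁
  have hδD : δ ∉ D := fun h1 => hcK ((p₁.memK_iff h hu₁ hu₁V hc).2 h1)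
  have hsqV : ∀ v ∈ V, v * v = 1 := fun v hv => h.sq v (h.V_le_U hv)
  have hδ2 : δ ∈ Z₂ := by
    have h1 := hcm c (h.BQ hc) u₁ hu₁ u₂ hu₂
    rw [comm_iff.2 (mem_centralizer_iff.1 hwC.2 c hc)] at h1
    have h2 := p₂.Zc c (h.BQ hc) u₂ hu₂
    have h3 : δ = (c * u₂ * c⁻¹ * u₂⁻¹)⁻¹ := eq_inv_of_mul_eq_one_left h1.symm
    rw [h3]
    exact inv_mem h2
  have hZ : Z₂ ≤ Z₁ := by
    intro z hz
    by_cases hzD : z ∈ D
    · rcases p₂.ZD z hz hzD with rfl | rfl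
      · exact one_mem _
      · exact p₁.xZ
    · have h1 := h.idx z (p₂.ZV hz) δ (p₂.ZV hδ2) hzD hδD
      have h2 : z = (z * δ) * δ := by rw [mul_assoc, hsqV δ (p₁.ZV hδ1), mul_one]
      rcases p₂.ZD _ (mul_mem hz hδ2) h1 with h3 | h3
      · rw [h2, h3, one_mul]; exact hδ1
      · rw [h2, h3]; exact mul_mem p₁.xZ hδ1
  have hwZ : ∀ q ∈ Q, q * w * q⁻¹ * w⁻¹ ∈ Z₁ := by
    intro q hq
    rw [hw, hcm q hq u₁ hu₁ u₂ hu₂]
    exact mul_mem (p₁.Zc q hq u₁ hu₁) (hZ (p₂.Zc q hq u₂ hu₂))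
  have hlem : ∃ q ∈ Q, ∃ q' ∈ Q, q * w * q⁻¹ * w⁻¹ ≠ 1 ∧ q' * w * q'⁻¹ * w⁻¹ ≠ 1 ∧
      q * w * q⁻¹ * w⁻¹ ≠ q' * w * q'⁻¹ * w⁻¹ := by
    by_contra hcon
    apply hwV
    refine h.lemQ w (hEQ hwE) (h.sq w (hEU hwE)) (fun q hq => p₁.ZV (hwZ q hq)) fun q hq q' hq' => ?_
    by_contra h1
    push Not at h1
    exact hcon ⟨q, hq, q', hq', h1⟩
  obtain ⟨q, hq, q', hq', hα, hβ, hαβ⟩ := hlem
  -- `a`-images
  have hPa : ∀ q ∈ Q, a * (q * w * q⁻¹ * w⁻¹) * a⁻¹ ∈ Z₁ := by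
    intro q hq
    set v := a * w * a⁻¹ * w⁻¹ with hv
    have h1 : a * (q * w * q⁻¹ * w⁻¹) * a⁻¹ = (a * q * a⁻¹) * (v * w) * (a * q * a⁻¹)⁻¹ * (v * w)⁻¹ := by
      rw [hv]; group
    have h2 := hwZ _ (h.aQ q hq)
    have h3 : (a * q * a⁻¹) * v = v * (a * q * a⁻¹) := h.Qc _ (h.aQ q hq) v haw
    have h4 : (a * q * a⁻¹) * (v * w) * (a * q * a⁻¹)⁻¹ * (v * w)⁻¹ =
        v * ((a * q * a⁻¹) * w * (a * q * a⁻¹)⁻¹ * w⁻¹) * v⁻¹ := by
      calc (a * q * a⁻¹) * (v * w) * (a * q * a⁻¹)⁻¹ * (v * w)⁻¹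
          = ((a * q * a⁻¹) * v) * w * (a * q * a⁻¹)⁻¹ * w⁻¹ * v⁻¹ := by group
        _ = _ := by rw [h3]; group
    have h5 : v * ((a * q * a⁻¹) * w * (a * q * a⁻¹)⁻¹ * w⁻¹) * v⁻¹ = (a * q * a⁻¹) * w * (a * q * a⁻¹)⁻¹ * w⁻¹ := by
      rw [h.comm_U (h.V_le_U haw) (h.V_le_U (p₁.ZV h2)), mul_inv_cancel_right]
    rw [h1, h4, h5]
    exact h2
  set α := q * w * q⁻¹ * w⁻¹ with hα'
  set β := q' * w * q'⁻¹ * w⁻¹ with hβ'
  have a1 : α ∈ Z₁ := hwZ q hq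
  have b1 : β ∈ Z₁ := hwZ q' hq'
  have a2 : a * α * a⁻¹ ∈ Z₁ := hPa q hq
  have b2 : a * β * a⁻¹ ∈ Z₁ := hPa q' hq'
  have ab2 : a * (α * β) * a⁻¹ ∈ Z₁ := by
    have e : a * (α * β) * a⁻¹ = (a * α * a⁻¹) * (a * β * a⁻¹) := by group
    rw [e]
    exact mul_mem a2 b2
  have α2 : α * α = 1 := hsqV α (p₁.ZV a1)
  have β2 : β * β = 1 := hsqV β (p₁.ZV b1)
  have hcab : α * β = β * α := h.comm_U (h.V_le_U (p₁.ZV a1)) (h.V_le_U (p₁.ZV b1))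
  obtain ⟨z, hz, haz⟩ := p₁.aZ
  have hz4 : z = 1 ∨ z = α ∨ z = β ∨ z = α * β := by
    by_cases hzD : z ∈ D
    · rcases p₁.ZD z hz hzD with h1 | h1
      · left; exact h1
      · by_cases hαD : α ∈ D
        · right; left
          rcases p₁.ZD α a1 hαD with h2 | h2
          · exact absurd h2 hα
          · rw [h1, h2]
        · by_cases hβD : β ∈ D
          · right; right; left
            rcases p₁.ZD β b1 hβD with h2 | h2
            · exact absurd h2 hβ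
            · rw [h1, h2]
          · right; right; right
            rcases p₁.ZD _ (mul_mem a1 b1) (h.idx α (p₁.ZV a1) β (p₁.ZV b1) hαD hβD) with h2 | h2
            · exfalso
              apply hαβ
              have := eq_inv_of_mul_eq_one_left h2
              rw [this]
              exact (inv_eq_of_mul_eq_one_left β2)
            · rw [h1, h2]
    · by_cases hαD : α ∈ D
      · have hαx : α = x := (p₁.ZD α a1 hαD).resolve_left hα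
        have hβD : β ∉ D := fun h1 => hαβ (hαx.trans ((p₁.ZD β b1 h1).resolve_left hβ).symm)
        have h1 : z = (z * β) * β := by rw [mul_assoc, β2, mul_one]
        rcases p₁.ZD _ (mul_mem hz b1) (h.idx z (p₁.ZV hz) β (p₁.ZV b1) hzD hβD) with h2 | h2
        · right; right; left
          rw [h1, h2, one_mul]
        · right; right; right
          rw [h1, h2, hαx]
      · have h1 : z = (z * α) * α := by rw [mul_assoc, α2, mul_one]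
        rcases p₁.ZD _ (mul_mem hz a1) (h.idx z (p₁.ZV hz) α (p₁.ZV a1) hzD hαD) with h2 | h2
        · right; left
          rw [h1, h2, one_mul]
        · by_cases hβD : β ∈ D
          · have hβx : β = x := (p₁.ZD β b1 hβD).resolve_left hβ
            right; right; right
            rw [h1, h2, ← hβx, hcab]
          · have hαβx : α * β = x := by
              rcases p₁.ZD _ (mul_mem a1 b1) (h.idx α (p₁.ZV a1) β (p₁.ZV b1) hαD hβD) with h3 | h3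
              · exfalso
                apply hαβ
                have := eq_inv_of_mul_eq_one_left h3
                rw [this]
                exact (inv_eq_of_mul_eq_one_left β2)
              · exact h3
            right; right; left
            rw [h1, h2, ← hαβx, hcab, mul_assoc, α2, mul_one]
  apply haz
  rcases hz4 with rfl | rfl | rfl | rfl
  · rw [mul_one, mul_inv_cancel]; exact one_mem _
  · exact a2
  · exact b2
  · exact ab2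

/-- LEMMA X needs `[E, B₁] ≤ ⟨x⟩`: true for all `E` generated by `X`-conjugates of `V` -/
theorem Box.comm_cz {S : Set G} (hS : S ⊆ centralizer (D : Set G)) {b : G} (hb : b ∈ B) (hbD : ∀ e ∈ cz S V, b * e * b⁻¹ * e⁻¹ ∈ D) {e : G} (he : e ∈ cz S V) :
    b * e * b⁻¹ * e⁻¹ = 1 ∨ b * e * b⁻¹ * e⁻¹ = x := by
  have hinv : ∀ y ∈ cz S V, b * y * b⁻¹ * y⁻¹ ∈ D := hbD
  induction he using Subgroup.closure_induction with
  | mem e he =>
    obtain ⟨y, hy, v, hv, rfl⟩ := he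
    have hyX : y ∈ centralizer (D : Set G) := hS hy
    have hyD : ∀ d ∈ D, y⁻¹ * d * y = d := fun d hd => by
      have h1 := mem_centralizer_iff.1 hyX d hd
      rw [mul_assoc, h1, inv_mul_cancel_left]
    have hyD' : ∀ d ∈ D, y * d * y⁻¹ = d := fun d hd => by
      have h1 := mem_centralizer_iff.1 hyX d hd
      rw [← h1, mul_inv_cancel_right]
    have hg : y⁻¹ * b * y ∈ centralizer (D : Set G) :=
      mul_mem (mul_mem (inv_mem hyX) (h.Tc (h.QT (h.BQ hb)))) hyX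
    have hgV : ∀ v ∈ V, (y⁻¹ * b * y) * v * (y⁻¹ * b * y)⁻¹ ∈ V := by
      intro v hv
      have h1 := hbD _ (mem_cz hy hv)
      have h2 := hyD _ h1
      have h3 : (y⁻¹ * b * y) * v * (y⁻¹ * b * y)⁻¹ =
          (y⁻¹ * (b * (y * v * y⁻¹) * b⁻¹ * (y * v * y⁻¹)⁻¹) * y) * v := by group
      rw [h3, h2]
      exact mul_mem (h.DV h1) hv
    have h4 : b * (y * v * y⁻¹) * b⁻¹ * (y * v * y⁻¹)⁻¹ =
        y * ((y⁻¹ * b * y) * v * (y⁻¹ * b * y)⁻¹ * v⁻¹) * y⁻¹ := by group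
    rcases h.nx _ hg hgV v hv with h5 | h5
    · left; rw [h4, h5]; group
    · right; rw [h4, h5, hyD' x h.xD]
  | one => left; group
  | mul e f he hf h1 h2 =>
    rw [comm_mul (h.comm_U (h.cz_le hS he) (h.V_le_U (h.DV (hbD f hf))))]
    rcases h1 with h1 | h1 <;> rcases h2 with h2 | h2 <;> rw [h1, h2]
    · left; exact mul_one _
    · right; exact one_mul _
    · right; exact mul_one _
    · left; exact h.x_mul
  | inv e he h1 =>
    have h2 : b * e⁻¹ * b⁻¹ * e⁻¹⁻¹ = e⁻¹ * (b * e * b⁻¹ * e⁻¹)⁻¹ * e := by group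
    rw [h2]
    rcases h1 with h1 | h1
    · left; rw [h1]; group
    · right
      have hxU : x ∈ U := h.V_le_U (h.DV h.xD)
      rw [h1, h.x_inv, h.comm_U (inv_mem (h.cz_le hS he)) hxU, inv_mul_cancel_right]

/-- #20470 (2) -/
theorem sub_K [Finite G] : ∀ b ∈ B, b ∈ K₁ → b ∈ K₂ := by
  classical
  -- the set of conjugators
  set S : Set G := {y | ∃ r ∈ R₁, ∃ s ∈ R₂, y = r * s} with hSdef
  have hS : S ⊆ centralizer (D : Set G) := by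
    rintro _ ⟨r, hr, s, hs, rfl⟩
    exact mul_mem (p₁.RX hr) (p₂.RX hs)
  have hR₁S : ∀ r ∈ R₁, r ∈ S := fun r hr => ⟨r, hr, 1, one_mem _, by rw [mul_one]⟩
  set E := cz S V with hE
  have hW₂E : W₂ ≤ E := by
    rw [p₂.W_eq, cz, Subgroup.closure_le]
    rintro _ ⟨y, hy, v, hv, rfl⟩
    exact mem_cz (S := S) ⟨1, one_mem _, y, hy, by rw [one_mul]⟩ hv
  have hRE : ∀ r ∈ R₁, ∀ e ∈ E, r * e * r⁻¹ ∈ E := by
    intro r hr e he
    have h1 : cz S V ≤ (cz S V).comap (MulAut.conj r).toMonoidHom := by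
      conv_lhs => rw [cz]
      rw [Subgroup.closure_le]
      rintro _ ⟨y, ⟨r', hr', s, hs, rfl⟩, v, hv, rfl⟩
      change r * (r' * s * v * (r' * s)⁻¹) * r⁻¹ ∈ cz S V
      have h2 : r * (r' * s * v * (r' * s)⁻¹) * r⁻¹ = (r * r' * s) * v * (r * r' * s)⁻¹ := by group
      rw [h2]
      exact mem_cz (S := S) ⟨r * r', mul_mem hr hr', s, hs, rfl⟩ hv
    exact h1 he
  have hW₁E : W₁ ≤ E := by
    rw [p₁.W_eq, cz, Subgroup.closure_le]
    rintro _ ⟨y, hy, v, hv, rfl⟩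
    exact mem_cz (S := S) (hR₁S y hy) hv
  have hVE : V ≤ E := p₁.V_le_W.trans hW₁E
  have hEU : E ≤ U := h.cz_le hS
  have hBR : B ≤ R₁ := h.BQ.trans (h.QT.trans p₁.TR)
  have hBE : ∀ b ∈ B, ∀ e ∈ E, b * e * b⁻¹ ∈ E := fun b hb e he => hRE b (hBR hb) e he
  have hDR : ∀ r ∈ R₁, ∀ d ∈ D, r * d * r⁻¹ = d := fun r hr d hd => by
    rw [← mem_centralizer_iff.1 (p₁.RX hr) d hd, mul_inv_cancel_right]
  obtain ⟨M, _, Γ, _, _, ρ, π, m⟩ := Cfsg.Agent.Omega.NOThreeL.RA.exists_md (U := E) (R := D) (H := R₁)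
    (h.DV.trans hVE) (fun x hx y hy => h.comm_U (hEU hx) (hEU hy)) hRE
    (fun r hr d hd => by rw [hDR r hr d hd]; exact hd)
  let _ : DistribMulAction R₁ M := DistribMulAction.compHom M ρ
  have act : ∀ (r : R₁), ∀ e ∈ E, r • π e = π ((r : G) * e * (r : G)⁻¹) := fun r e he => m.act r e he
  have π1 : π 1 = 0 := (m.ker 1 (one_mem _)).2 (one_mem _)
  have heq : ∀ e ∈ E, ∀ f ∈ E, (π e = π f ↔ e * f ∈ D) := by
    intro e he f hf
    have h2 : π f + π f = 0 := by rw [← m.mul f hf f hf, h.sq f (hEU hf), π1]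
    rw [← m.ker _ (mul_mem he hf), m.mul e he f hf]
    constructor
    · intro h3; rw [h3, h2]
    · intro h3
      calc π e = π e + (π f + π f) := by rw [h2, add_zero]
        _ = π f := by rw [← add_assoc, h3, zero_add]
  obtain ⟨v₀, hv₀, hv₀D⟩ := SetLike.not_le_iff_exists.1 h.neD
  obtain ⟨u₁, hu₁, hu₁V⟩ := SetLike.not_le_iff_exists.1 p₁.ne
  obtain ⟨u₂, hu₂, hu₂V⟩ := SetLike.not_le_iff_exists.1 p₂.ne
  have hv₀E := hVE hv₀
  have hu₁E := hW₁E hu₁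
  have hu₂E := hW₂E hu₂
  have hu₁D : u₁ ∉ D := fun h1 => hu₁V (h.DV h1)
  have hsq : ∀ e ∈ E, e * e = 1 := fun e he => h.sq e (hEU he)
  have hcm : ∀ e ∈ E, ∀ f ∈ E, e * f = f * e := fun e he f hf => h.comm_U (hEU he) (hEU hf)
  obtain ⟨c, hc, hcK⟩ := SetLike.not_le_iff_exists.1 (p₁.B_nle h)
  have hTR : ∀ t ∈ T, t ∈ R₁ := fun t ht => p₁.TR ht
  -- the three vectors
  have hD3 : ∀ y ∈ W₁, y ∉ D → π y = π v₀ ∨ π y = π u₁ ∨ π y = π (v₀ * u₁) := by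
    intro y hy hyD
    have hyE := hW₁E hy
    by_cases hyV : y ∈ V
    · left
      rw [heq y hyE v₀ hv₀E]
      exact h.idx y hyV v₀ hv₀ hyD hv₀D
    · right
      have h1 := p₁.idx y hy u₁ hu₁ hyV hu₁V
      by_cases h2 : y * u₁ ∈ D
      · left
        rwa [heq y hyE u₁ hu₁E]
      · right
        rw [heq y hyE _ (mul_mem hv₀E hu₁E)]
        have h3 := h.idx _ h1 v₀ hv₀ h2 hv₀D
        have h4 : y * (v₀ * u₁) = y * u₁ * v₀ := by rw [hcm v₀ hv₀E u₁ hu₁E, mul_assoc]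
        rwa [h4]
  have hrD : ∀ r ∈ R₁, ∀ y : G, y ∉ D → r * y * r⁻¹ ∉ D := by
    intro r hr y hy h1
    apply hy
    have h2 := hDR r⁻¹ (inv_mem hr) _ h1
    have h3 : r⁻¹ * (r * y * r⁻¹) * r⁻¹⁻¹ = y := by group
    rw [h3] at h2
    rw [h2]
    exact h1
  have hcu : π (c * u₁ * c⁻¹) = π (v₀ * u₁) := by
    rw [heq _ (hBE c hc u₁ hu₁E) _ (mul_mem hv₀E hu₁E)]
    have h1 := p₁.Zc c (h.BQ hc) u₁ hu₁
    have h2 : c * u₁ * c⁻¹ * u₁⁻¹ ∉ D := fun h3 => hcK ((p₁.memK_iff h hu₁ hu₁V hc).2 h3)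
    have h3 := h.idx _ (p₁.ZV h1) v₀ hv₀ h2 hv₀D
    have h4 : u₁⁻¹ = u₁ := inv_eq_of_mul_eq_one_left (hsq u₁ hu₁E)
    have h5 : c * u₁ * c⁻¹ * (v₀ * u₁) = c * u₁ * c⁻¹ * u₁⁻¹ * v₀ := by
      rw [h4, hcm v₀ hv₀E u₁ hu₁E, ← mul_assoc]
    rwa [h5]
  have hcuu : ((⟨c, hBR hc⟩ : R₁) • π u₁) = π (v₀ * u₁) := by rw [act _ _ hu₁E]; exact hcu
  have hc2 : ((⟨c, hBR hc⟩ : R₁) • π (v₀ * u₁)) = π u₁ := by
    rw [act _ _ (mul_mem hv₀E hu₁E)]
    change π (c * (v₀ * u₁) * c⁻¹) = π u₁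
    have h1 : c * (v₀ * u₁) * c⁻¹ = v₀ * (c * u₁ * c⁻¹) := by
      have h2 := h.Qc c (h.BQ hc) v₀ hv₀
      calc c * (v₀ * u₁) * c⁻¹ = (c * v₀) * u₁ * c⁻¹ := by group
        _ = _ := by rw [h2]; group
    rw [h1, m.mul v₀ hv₀E _ (hBE c hc u₁ hu₁E), hcu, ← m.mul v₀ hv₀E _ (mul_mem hv₀E hu₁E), ← mul_assoc,
      hsq v₀ hv₀E, one_mul]
  -- an element of `R₁` moving `V`
  have hmove : ∃ r : R₁, r • π v₀ = π u₁ ∨ r • π v₀ = π (v₀ * u₁) := by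
    by_contra hcon
    push Not at hcon
    apply p₁.ne
    rw [p₁.W_eq, cz, Subgroup.closure_le]
    rintro _ ⟨r, hr, v, hv, rfl⟩
    change r * v * r⁻¹ ∈ V
    by_cases hvD : v ∈ D
    · rw [hDR r hr v hvD]; exact hv
    · have hrv₀ : r * v₀ * r⁻¹ ∈ V := by
        have h1 : r * v₀ * r⁻¹ ∈ W₁ := p₁.W_inv hr (p₁.V_le_W hv₀)
        have h2 := hcon ⟨r, hr⟩
        rw [act _ _ hv₀E] at h2
        rcases hD3 _ h1 (hrD r hr v₀ hv₀D) with h3 | h3 | h3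
        · rw [heq _ (hW₁E h1) _ hv₀E] at h3
          have := mul_mem (h.DV h3) (inv_mem hv₀)
          rwa [mul_inv_cancel_right] at this
        · exact absurd h3 h2.1
        · exact absurd h3 h2.2
      have h4 := h.idx v hv v₀ hv₀ hvD hv₀D
      have h5 : r * v * r⁻¹ = (r * (v * v₀) * r⁻¹) * (r * v₀ * r⁻¹)⁻¹ := by group
      rw [h5, hDR r hr _ h4]
      exact mul_mem (h.DV h4) (inv_mem hrv₀)
  have htr : (∃ r : R₁, r • π v₀ = π u₁) ∧ ∃ r : R₁, r • π v₀ = π (v₀ * u₁) := by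
    obtain ⟨r, hr | hr⟩ := hmove
    · exact ⟨⟨r, hr⟩, ⟨⟨c, hBR hc⟩ * r, by rw [mul_smul, hr, hcuu]⟩⟩
    · exact ⟨⟨⟨c, hBR hc⟩ * r, by rw [mul_smul, hr, hc2]⟩, ⟨r, hr⟩⟩
  have hT₂ : ∀ t ∈ T, π (t * u₂ * t⁻¹) = π u₂ ∨ π (t * u₂ * t⁻¹) = π u₂ + π v₀ := by
    intro t ht
    have h1 : t * u₂ * t⁻¹ ∈ W₂ := p₂.W_inv (p₂.TR ht) hu₂
    have h2 : t * u₂ * t⁻¹ ∉ V := by
      intro h3
      apply hu₂V
      have h4 := h.TV t⁻¹ (inv_mem ht) _ h3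
      have h5 : t⁻¹ * (t * u₂ * t⁻¹) * t⁻¹⁻¹ = u₂ := by group
      rwa [h5] at h4
    have h3 := p₂.idx _ h1 u₂ hu₂ h2 hu₂V
    by_cases h4 : t * u₂ * t⁻¹ * u₂ ∈ D
    · left
      rwa [heq _ (hW₂E h1) _ hu₂E]
    · right
      rw [← m.mul u₂ hu₂E v₀ hv₀E, heq _ (hW₂E h1) _ (mul_mem hu₂E hv₀E), ← mul_assoc]
      exact h.idx _ h3 v₀ hv₀ h4 hv₀D
  have hfinM : Finite M := by
    refine Finite.of_surjective (fun e : E => π e) fun y => ?_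
    obtain ⟨e, he, rfl⟩ := m.surj y
    exact ⟨⟨e, he⟩, rfl⟩
  have hπv₀ : π v₀ ≠ 0 := fun h1 => hv₀D ((m.ker _ hv₀E).1 h1)
  -- the count
  set B' : Subgroup R₁ := B.subgroupOf R₁ with hB'
  set N : Subgroup R₁ := TwoPar.kr R₁ M ⊓ B' with hN
  set B₁ : Subgroup G := N.map R₁.subtype with hB₁
  have memB₁ : ∀ b : G, b ∈ B₁ ↔ b ∈ B ∧ ∀ e ∈ E, b * e * b⁻¹ * e⁻¹ ∈ D := by
    intro b
    constructor
    · rintro ⟨b', ⟨hb1, hb2⟩, rfl⟩
      refine ⟨hb2, fun e he => ?_⟩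
      have h1 : b' • π e = π e := hb1 (π e)
      rw [act b' e he, heq _ (hRE b' b'.2 e he) _ he] at h1
      have h2 : e⁻¹ = e := inv_eq_of_mul_eq_one_left (hsq e he)
      rw [h2]
      exact h1
    · rintro ⟨hb, hbE⟩
      refine ⟨⟨b, hBR hb⟩, ⟨fun y => ?_, hb⟩, rfl⟩
      obtain ⟨e, he, rfl⟩ := m.surj y
      rw [act _ e he, heq _ (hRE b (hBR hb) e he) _ he]
      have h2 : e⁻¹ = e := inv_eq_of_mul_eq_one_left (hsq e he)
      have h3 := hbE e he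
      rw [h2] at h3
      exact h3
  have hX := h.lemX (B₁ := B₁) hVE hEU (h.cz_a hS) hBE (fun b hb => ((memB₁ b).1 hb).1)
    (fun b hb hce => (memB₁ b).2 ⟨hb, fun e he => by rw [comm_iff.2 (hce e he)]; exact one_mem _⟩)
    (fun b hb e he => h.comm_cz p₁ p₂ hS ((memB₁ b).1 hb).1 ((memB₁ b).1 hb).2 he)
  have hcardN : Nat.card B₁ = Nat.card N :=
    Nat.card_congr (N.equivMapOfInjective _ (Subgroup.subtype_injective R₁)).symm.toEquiv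
  have hcardB' : Nat.card B' = Nat.card B := Nat.card_congr (Subgroup.subgroupOfEquivOfLe hBR).toEquiv
  have hrel : Nat.card N * (TwoPar.kr R₁ M).relIndex B' = Nat.card B := by
    rw [← Subgroup.inf_relIndex_right, ← hcardB']
    exact Cfsg.Agent.ZN.Block.card_mul_relIndex' (inf_le_right : N ≤ B')
  let φ : E →* Multiplicative M :=
    { toFun := fun e => Multiplicative.ofAdd (π e)
      map_one' := by change Multiplicative.ofAdd (π 1) = 1; rw [π1]; rfl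
      map_mul' := fun e f => by
        change Multiplicative.ofAdd (π (e * f)) = _
        rw [m.mul e e.2 f f.2]; rfl }
  have hφs : Function.Surjective φ := fun y => by
    obtain ⟨e, he, h1⟩ := m.surj (Multiplicative.toAdd y)
    exact ⟨⟨e, he⟩, congrArg Multiplicative.ofAdd h1⟩
  set F : Subgroup E := (AddSubgroup.toSubgroup (TwoPar.fx M B')).comap φ with hF
  have hFi : F.index = (TwoPar.fx M B').index := Subgroup.index_comap_of_surjective _ hφs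
  have hFc : Nat.card ↥(E ⊓ centralizer (B : Set G)) ≤ Nat.card F := by
    have h1 : (E ⊓ centralizer (B : Set G)).subgroupOf E ≤ F := by
      intro e he
      change (π e) ∈ TwoPar.fx M B'
      intro b hb
      rw [act b e e.2]
      have h2 := mem_centralizer_iff.1 (Subgroup.mem_subgroupOf.1 he).2 b hb
      rw [h2, mul_inv_cancel_right]
    rw [← Nat.card_congr (Subgroup.subgroupOfEquivOfLe (inf_le_left : E ⊓ centralizer (B : Set G) ≤ E)).toEquiv]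
    exact Nat.card_le_card_of_injective _ (inclusion_injective h1)
  have hcard : (TwoPar.fx M B').index ≤ (TwoPar.kr R₁ M).relIndex B' := by
    have h1 : Nat.card F * F.index = Nat.card E := F.card_mul_index
    rw [hcardN] at hX
    have pF : 0 < Nat.card F := Nat.card_pos
    have pN : 0 < Nat.card N := Nat.card_pos
    rw [← hFi]
    refine Nat.le_of_mul_le_mul_right (c := Nat.card F * Nat.card N) ?_ (Nat.mul_pos pF pN)
    calc F.index * (Nat.card F * Nat.card N) = (Nat.card F * F.index) * Nat.card N := by ring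
      _ = Nat.card E * Nat.card N := by rw [h1]
      _ ≤ Nat.card B * Nat.card ↥(E ⊓ centralizer (B : Set G)) := hX
      _ ≤ Nat.card B * Nat.card F := Nat.mul_le_mul_left _ hFc
      _ = (TwoPar.kr R₁ M).relIndex B' * (Nat.card F * Nat.card N) := by rw [← hrel]; ring
  have hsit : TwoPar.Sit (R := R₁) (Y := M) (T.subgroupOf R₁) (K₁.subgroupOf R₁) B' (π v₀) (π u₁) (π (v₀ * u₁))
      (π u₂) := by
    refine
      { finR := inferInstance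
        finY := hfinM
        two := ?_
        Kn := ?_
        KT := fun k hk => p₁.KT hk
        sum := ?_
        ne1 := fun h1 => hu₁D ((m.ker _ hu₁E).1 h1)
        ne2 := ?_
        ne := ?_
        perm := ?_
        tr1 := htr.1
        tr2 := htr.2
        Tw := ?_
        Ty := ?_
        span := ?_
        BT := fun b hb => h.QT (h.BQ hb)
        comm := ?_
        BK := ?_
        nle := fun h1 => p₁.B_nle h fun b hb => h1 (show (⟨b, hBR hb⟩ : R₁) ∈ B' from hb)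
        card := hcard }
    · intro y
      obtain ⟨e, he, rfl⟩ := m.surj y
      rw [← m.mul e he e he, hsq e he, π1]
    · refine ⟨fun k hk r => ?_⟩
      exact p₁.Kn r r.2 k hk
    · rw [← m.mul u₁ hu₁E _ (mul_mem hv₀E hu₁E), hcm v₀ hv₀E u₁ hu₁E, ← mul_assoc, hsq u₁ hu₁E, one_mul]
    · intro h1
      have h2 := (m.ker _ (mul_mem hv₀E hu₁E)).1 h1
      apply hu₁V
      have := mul_mem (inv_mem hv₀) (h.DV h2)
      rwa [inv_mul_cancel_left] at this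
    · intro h1
      rw [m.mul v₀ hv₀E u₁ hu₁E] at h1
      exact hπv₀ (left_eq_add.1 (by rw [add_comm] at h1; exact h1))
    · intro r
      rw [act r _ hv₀E]
      exact hD3 _ (p₁.W_inv r.2 (p₁.V_le_W hv₀)) (hrD r r.2 v₀ hv₀D)
    · intro t ht
      have ht' : (t : G) ∈ T := ht
      rw [act t _ hv₀E, heq _ (hRE t t.2 _ hv₀E) _ hv₀E]
      exact h.idx _ (h.TV t ht' v₀ hv₀) v₀ hv₀ (hrD t t.2 v₀ hv₀D) hv₀D
    · intro t ht
      rw [act t _ hu₂E]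
      exact hT₂ t ht
    · rw [eq_top_iff]
      rintro y -
      obtain ⟨e, he, rfl⟩ := m.surj y
      set Cl := AddSubgroup.closure (Set.range (fun r : R₁ => r • π v₀) ∪ Set.range (fun r : R₁ => r • π u₂)) with hCl
      induction he using Subgroup.closure_induction with
      | mem e he =>
        obtain ⟨y, ⟨r, hr, s, hs, rfl⟩, v, hv, rfl⟩ := he
        set w := s * v * s⁻¹ with hw
        have hwW : w ∈ W₂ := p₂.W_inv hs (p₂.V_le_W hv)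
        have h1 : r * s * v * (r * s)⁻¹ = r * w * r⁻¹ := by rw [hw]; group
        have h2 : π (r * w * r⁻¹) = (⟨r, hr⟩ : R₁) • π w := (act ⟨r, hr⟩ w (hW₂E hwW)).symm
        rw [h1, h2]
        have hc0 : (⟨r, hr⟩ : R₁) • π v₀ ∈ Cl := AddSubgroup.subset_closure (Or.inl ⟨_, rfl⟩)
        have hc2 : (⟨r, hr⟩ : R₁) • π u₂ ∈ Cl := AddSubgroup.subset_closure (Or.inr ⟨_, rfl⟩)
        have hV : ∀ v ∈ V, (⟨r, hr⟩ : R₁) • π v ∈ Cl := by
          intro v hv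
          by_cases hvD : v ∈ D
          · rw [(m.ker v (hVE hv)).2 hvD, smul_zero]; exact zero_mem _
          · rw [(heq v (hVE hv) v₀ hv₀E).2 (h.idx v hv v₀ hv₀ hvD hv₀D)]
            exact hc0
        by_cases hwV : w ∈ V
        · exact hV w hwV
        · have h3 := p₂.idx w hwW u₂ hu₂ hwV hu₂V
          have h4 : π w = π (w * u₂) + π u₂ := by
            rw [← m.mul _ (hVE h3) u₂ hu₂E, mul_assoc, hsq u₂ hu₂E, mul_one]
          rw [h4, smul_add]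
          exact add_mem (hV _ h3) hc2
      | one => rw [π1]; exact zero_mem _
      | mul e f he hf h1 h2 =>
        rw [m.mul e he f hf]
        exact add_mem h1 h2
      | inv e he h1 =>
        have h2 : e⁻¹ = e := inv_eq_of_mul_eq_one_left (hsq e he)
        rw [h2]; exact h1
    · intro b hb b' hb'
      exact Subtype.ext (h.Bab b hb b' hb')
    · intro b hb hbw
      rw [act b _ hu₁E, heq _ (hRE b b.2 _ hu₁E) _ hu₁E] at hbw
      have h4 : u₁⁻¹ = u₁ := inv_eq_of_mul_eq_one_left (hsq u₁ hu₁E)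
      have hb' : (b : G) ∈ B := hb
      have h5 : (b : G) * u₁ * (b : G)⁻¹ * u₁⁻¹ ∈ D := by rw [h4]; exact hbw
      exact (p₁.memK_iff h hu₁ hu₁V hb').2 h5
  intro b hb hbK
  have h1 := hsit.main (b := (⟨b, hBR hb⟩ : R₁)) hb hbK
  rw [act _ _ hu₂E, heq _ (hRE b (hBR hb) _ hu₂E) _ hu₂E] at h1
  have h4 : u₂⁻¹ = u₂ := inv_eq_of_mul_eq_one_left (hsq u₂ hu₂E)
  rw [p₂.memK_iff h hu₂ hu₂V hb, h4]
  exact h1

/-- **helper828, #20470**: `W_R` is the same group for all parabolics `R` over `T` which move `V`. -/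
theorem uniq [Finite G] : W₁ = W₂ :=
  eq_of_B h p₁ p₂ fun b hb => ⟨sub_K h p₁ p₂ b hb, sub_K h p₂ p₁ b hb⟩

end two

end Cfsg.Agent.Omega.NO3S.SN2
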