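import Cfsg.Agent.Omega.S5.Def
import Cfsg.Agent.MinSimple.VModule

/-!
# LEMMA V4 (helper262 #21937, helper955 #21895; referees helper940, helper80): `n = 5`, `V ≤ Z(O₂(C_G(z)))`

`V` = the even subsets of five letters, `z = z_0` (the complement of the letter `0`).  `X` is normalised by `C_G(z)`,
centralises `z` and acts on `V` by permutations of 2-power order (`Ac V L X ε`): `X = O₂(C_G(z))`, or the preimage of
`O₂(C_G(z)/C_G(U_z))`.

* `Ac.exists_acts` : if `X` does not centralise `V`, every `(i j)(k l)` is induced by an element of `X`;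
* `Ac.norm` (955) : then every element centralising `V_ij = {ε x | x i = x j}` normalises `V`;
* `Ac.le_centralizer` (262) : `X` centralises `V` if some `g` centralises `V_ij` and `v v^g v^{g²} ∈ V_ij` for
  `v = {0, i}` (`g` of order 3 on the three lines over `V_ij` which are generated with `V_ij` by `v, v^g, v^{g²}`);
* `Ac.of_pGroup`, `Ac.of_o2` : instances.
-/

set_option autoImplicit false

namespace Cfsg.Agent.Omega.NO3S.SN2.VFour

open Subgroup Equiv Cfsg.Agent.ZN Cfsg.Agent.Omega.S5.Def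
open Cfsg.Agent.MinSimple.VModule

universe u

/-! ### Permutations of five letters -/

theorem perm_key : ∀ σ : Perm (Fin 5), σ 0 = 0 → σ ≠ 1 →
    (σ * σ = 1 ∧ ∀ i, i ≠ 0 → σ i ≠ i) ∨
      ∃ τ : Perm (Fin 5), τ 0 = 0 ∧ σ * (τ * σ * τ⁻¹) ≠ 1 ∧
        σ * (τ * σ * τ⁻¹) * (σ * (τ * σ * τ⁻¹)) * (σ * (τ * σ * τ⁻¹)) = 1 := by
  decide +kernel

/-- the letters `i j k l` are all the letters `≠ 0` -/
def Dist (i j k l : Fin 5) : Prop :=
  i ≠ 0 ∧ j ≠ 0 ∧ k ≠ 0 ∧ l ≠ 0 ∧ i ≠ j ∧ i ≠ k ∧ i ≠ l ∧ j ≠ k ∧ j ≠ l ∧ k ≠ l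

instance (i j k l : Fin 5) : Decidable (Dist i j k l) := by
  unfold Dist
  infer_instance

theorem perm_conj : ∀ σ : Perm (Fin 5), σ 0 = 0 → σ * σ = 1 → (∀ i, i ≠ 0 → σ i ≠ i) →
    ∀ i j k l : Fin 5, Dist i j k l → ∃ τ : Perm (Fin 5), τ 0 = 0 ∧ τ * σ * τ⁻¹ = swap i j * swap k l := by
  decide +kernel

theorem perm_eq : ∀ σ : Perm (Fin 5), (σ 0 = 0 ∧ σ * σ = 1 ∧ ∀ i, i ≠ 0 → σ i ≠ i) →
    ∀ i j k l : Fin 5, (Dist i j k l ∧ σ l = k) → σ = swap i j * swap k l := by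
  decide +kernel

theorem pow_two_pow_ne {M : Type*} [Group M] {σ : M} (h : σ * σ * σ = 1) (h1 : σ ≠ 1) (k : ℕ) : σ ^ 2 ^ k ≠ 1 := by
  intro h0
  apply h1
  have h3 : orderOf σ ∣ 3 := orderOf_dvd_of_pow_eq_one (by rw [pow_succ, pow_two]; exact h)
  have h2 : orderOf σ ∣ 2 ^ k := orderOf_dvd_of_pow_eq_one h0
  have h4 : orderOf σ ∣ Nat.gcd (2 ^ k) 3 := Nat.dvd_gcd h2 h3
  rw [Nat.Coprime.gcd_eq_one (Nat.Coprime.pow_left k (by norm_num))] at h4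
  exact orderOf_eq_one_iff.1 (Nat.dvd_one.1 h4)

/-- `{i, j}` -/
def pr (i j : Fin 5) : Fin 5 → ZMod 2 := Pi.single i 1 + Pi.single j 1

variable {G : Type u} [Group G]

/-- `X` is normalised by `C_G(z)`, centralises `z` and acts on `V` by permutations of 2-power order. -/
structure Ac (V L X : Subgroup G) (ε : (Fin 5 → ZMod 2) → G) : Prop where
  ev : EvenSet 5 V L ε
  nm : ∀ c : G, c * ε (Pi.single 0 1) * c⁻¹ = ε (Pi.single 0 1) → ∀ q ∈ X, c * q * c⁻¹ ∈ X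
  cz : ∀ q ∈ X, q * ε (Pi.single 0 1) * q⁻¹ = ε (Pi.single 0 1)
  pm : ∀ q ∈ X, ∃ σ : Perm (Fin 5), Acts ε q σ
  two : ∀ q ∈ X, ∃ k : ℕ, q ^ 2 ^ k ∈ centralizer (V : Set G)

variable {V L X : Subgroup G} {ε : (Fin 5 → ZMod 2) → G}

theorem acts_pow {g : G} {σ : Perm (Fin 5)} (h : Acts ε g σ) (k : ℕ) : Acts ε (g ^ k) (σ ^ k) := by
  induction k with
  | zero => rw [pow_zero, pow_zero]; exact Acts.one
  | succ k ih => rw [pow_succ, pow_succ]; exact ih.mul h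

/-- `C_G(V_ij)` fixes `z` -/
theorem fix_z {i j k l : Fin 5} (hd : Dist i j k l) {g : G} (hg : ∀ x, x i = x j → g * ε x * g⁻¹ = ε x) :
    g * ε (Pi.single 0 1) * g⁻¹ = ε (Pi.single 0 1) := by
  refine hg _ ?_
  rw [Pi.single_eq_of_ne hd.1, Pi.single_eq_of_ne hd.2.1]

namespace Ac

variable (h : Ac V L X ε)
include h

theorem zero_fix {q : G} (hq : q ∈ X) {σ : Perm (Fin 5)} (hσ : Acts ε q σ) : σ 0 = 0 := by
  refine h.ev.single_inj (by norm_num) ?_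
  rw [← hσ.single, h.cz q hq]

/-- `X` acts as a subgroup of the four-group. -/
theorem v4 {q : G} (hq : q ∈ X) {σ : Perm (Fin 5)} (hσ : Acts ε q σ) (h1 : σ ≠ 1) :
    σ * σ = 1 ∧ ∀ i, i ≠ 0 → σ i ≠ i := by
  rcases perm_key σ (h.zero_fix hq hσ) h1 with h2 | ⟨τ, h2, h3, h4⟩
  · exact h2
  exfalso
  obtain ⟨c, -, hc⟩ := h.ev.full τ
  have hcz : c * ε (Pi.single 0 1) * c⁻¹ = ε (Pi.single 0 1) := by rw [hc.single, h2]
  have hq' := X.mul_mem hq (h.nm c hcz q hq)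
  have ha := hσ.mul (hc.conj hσ)
  obtain ⟨k, hk⟩ := h.two _ hq'
  refine pow_two_pow_ne h4 h3 k ?_
  exact h.ev.acts_unique (by norm_num) (acts_pow ha _) (h.ev.acts_one_iff.2 hk)

/-- If `X` does not centralise `V` then every `(i j)(k l)` is induced by `X`. -/
theorem exists_acts (hne : ¬ X ≤ centralizer (V : Set G)) {i j k l : Fin 5} (hd : Dist i j k l) :
    ∃ q ∈ X, Acts ε q (swap i j * swap k l) := by
  obtain ⟨q, hq, hqn⟩ := SetLike.not_le_iff_exists.1 hne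
  obtain ⟨σ, hσ⟩ := h.pm q hq
  have h1 : σ ≠ 1 := by
    rintro rfl
    exact hqn (h.ev.acts_one_iff.1 hσ)
  obtain ⟨h2, h3⟩ := h.v4 hq hσ h1
  obtain ⟨τ, h4, h5⟩ := perm_conj σ (h.zero_fix hq hσ) h2 h3 i j k l hd
  obtain ⟨c, -, hc⟩ := h.ev.full τ
  refine ⟨c * q * c⁻¹, h.nm c (by rw [hc.single, h4]) q hq, ?_⟩
  rw [← h5]
  exact hc.conj hσ

theorem mem_norm {q : G} (hq : q ∈ X) {v : G} (hv : v ∈ V) : q * v * q⁻¹ ∈ V := by
  obtain ⟨σ, hσ⟩ := h.pm q hq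
  obtain ⟨x, rfl⟩ := h.ev.surj v hv
  rw [hσ x]
  exact h.ev.mem _

/-- the action on the pairs -/
theorem acts_pr {q : G} {σ : Perm (Fin 5)} (hσ : Acts ε q σ) (i j : Fin 5) :
    q * ε (pr i j) * q⁻¹ = ε (pr (σ i) (σ j)) := by
  rw [pr, pr, h.ev.add, h.ev.add, ← hσ.single, ← hσ.single]
  group

/-- **955's form**: if `X` does not centralise `V` then `C_G(V_ij)` normalises `V`. -/
theorem norm (hne : ¬ X ≤ centralizer (V : Set G)) {i j k l : Fin 5} (hd : Dist i j k l) {y : G}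
    (hy : ∀ x, x i = x j → y * ε x * y⁻¹ = ε x) : ∀ v ∈ V, y * v * y⁻¹ ∈ V := by
  have hd0 := hd
  obtain ⟨h1, h2, h3, h4, h5, h6, h7, h8, h9, h10⟩ := hd
  have hd' : Dist i k j l := ⟨h1, h3, h2, h4, h6, h5, h7, h8.symm, h10, h9⟩
  obtain ⟨q, hq, hqa⟩ := h.exists_acts hne hd'
  have hq' := h.nm y (fix_z hd0 hy) q hq
  -- `[0l, q] = {j, l}`
  have e1 : q * ε (pr 0 l) * q⁻¹ = ε (pr 0 j) := by
    rw [h.acts_pr hqa]
    have a0 : (swap i k * swap j l) 0 = 0 := by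
      rw [Perm.mul_apply, swap_apply_of_ne_of_ne h2.symm h4.symm, swap_apply_of_ne_of_ne h1.symm h3.symm]
    have a1 : (swap i k * swap j l) l = j := by
      rw [Perm.mul_apply, swap_apply_right, swap_apply_of_ne_of_ne h5.symm h8]
    rw [a0, a1]
  have e2 : y * ε (pr 0 l) * y⁻¹ = ε (pr 0 l) := hy _ (by
    rw [pr, Pi.add_apply, Pi.add_apply, Pi.single_eq_of_ne h1, Pi.single_eq_of_ne h2, Pi.single_eq_of_ne h7,
      Pi.single_eq_of_ne h9])
  have e3 : y * ε (pr 0 j) * y⁻¹ ∈ V := by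
    have h3' := h.mem_norm hq' (h.ev.mem (pr 0 l))
    have e4 : y * ε (pr 0 j) * y⁻¹ = y * q * y⁻¹ * ε (pr 0 l) * (y * q * y⁻¹)⁻¹ := by
      calc y * ε (pr 0 j) * y⁻¹ = y * (q * ε (pr 0 l) * q⁻¹) * y⁻¹ := by rw [e1]
        _ = y * q * y⁻¹ * (y * ε (pr 0 l) * y⁻¹) * (y * q * y⁻¹)⁻¹ := by group
        _ = _ := by rw [e2]
    rw [e4]
    exact h3'
  intro v hv
  obtain ⟨x, rfl⟩ := h.ev.surj v hv
  by_cases hx : x i = x j
  · rw [hy x hx]
    exact hv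
  · have e5 : (x + pr 0 j) i = (x + pr 0 j) j := by
      have key : ∀ a b : ZMod 2, a ≠ b → a + (0 + 0) = b + (0 + 1) := by decide
      rw [pr, Pi.add_apply, Pi.add_apply, Pi.add_apply, Pi.add_apply, Pi.single_eq_of_ne h1, Pi.single_eq_of_ne h2,
        Pi.single_eq_of_ne h5, Pi.single_eq_same]
      exact key _ _ hx
    have e6 : ε x = ε (x + pr 0 j) * ε (pr 0 j) := by
      rw [← h.ev.add, add_assoc, S5.Def.add_self, add_zero]
    have e7 : y * ε x * y⁻¹ = y * ε (x + pr 0 j) * y⁻¹ * (y * ε (pr 0 j) * y⁻¹) := by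
      rw [e6]; group
    rw [e7, hy _ e5]
    exact V.mul_mem (h.ev.mem _) e3

/-- **262's form**: `X` centralises `V` if some `g` which centralises `V_ij` has `v v^g v^{g²} ∈ V_ij`, `v = {0, i}`. -/
theorem le_centralizer {i j k l : Fin 5} (hd : Dist i j k l) {g : G} (hg : ∀ x, x i = x j → g * ε x * g⁻¹ = ε x)
    (hc : ∃ x, x i = x j ∧
      ε (pr 0 i) * (g * ε (pr 0 i) * g⁻¹) * (g * g * ε (pr 0 i) * (g * g)⁻¹) = ε x) :
    X ≤ centralizer (V : Set G) := by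
  by_contra hne
  obtain ⟨q, hq, hqa⟩ := h.exists_acts hne hd
  have hd0 := hd
  obtain ⟨h1, h2, h3, h4, h5, h6, h7, h8, h9, h10⟩ := hd
  have a0 : (swap i j * swap k l) 0 = 0 := by
    rw [Perm.mul_apply, swap_apply_of_ne_of_ne h3.symm h4.symm, swap_apply_of_ne_of_ne h1.symm h2.symm]
  have ai : (swap i j * swap k l) i = j := by
    rw [Perm.mul_apply, swap_apply_of_ne_of_ne h6 h7, swap_apply_left]
  have al : (swap i j * swap k l) l = k := by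
    rw [Perm.mul_apply, swap_apply_right, swap_apply_of_ne_of_ne h6.symm h8.symm]
  have ak : (swap i j * swap k l) k = l := by
    rw [Perm.mul_apply, swap_apply_left, swap_apply_of_ne_of_ne h7.symm h9.symm]
  -- for every `g` centralising `V_ij`, `q` moves `v^g` by `{i, j}`
  have hinv : ∀ {g : G}, (∀ x, x i = x j → g * ε x * g⁻¹ = ε x) → ∀ x, x i = x j → g⁻¹ * ε x * g⁻¹⁻¹ = ε x := by
    intro g hg x hx
    have h1 := hg x hx
    calc g⁻¹ * ε x * g⁻¹⁻¹ = g⁻¹ * (g * ε x * g⁻¹) * g⁻¹⁻¹ := by rw [h1]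
      _ = ε x := by group
  have key : ∀ {g : G}, (∀ x, x i = x j → g * ε x * g⁻¹ = ε x) →
      q * (g * ε (pr 0 i) * g⁻¹) * q⁻¹ = g * ε (pr 0 i) * g⁻¹ * ε (pr i j) := by
    intro g hg
    have hq' := h.nm g⁻¹ (fix_z hd0 (hinv hg)) q hq
    rw [inv_inv] at hq'
    obtain ⟨σ, hσ⟩ := h.pm _ hq'
    have b0 := h.zero_fix hq' hσ
    -- `[0l, q'] = {k, l}`
    have c1 : g⁻¹ * q * g * ε (pr 0 l) * (g⁻¹ * q * g)⁻¹ = ε (pr 0 k) := by
      have d1 : g * ε (pr 0 l) * g⁻¹ = ε (pr 0 l) := hg _ (by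
        rw [pr, Pi.add_apply, Pi.add_apply, Pi.single_eq_of_ne h1, Pi.single_eq_of_ne h2, Pi.single_eq_of_ne h7,
          Pi.single_eq_of_ne h9])
      have d2 : g⁻¹ * ε (pr 0 k) * g⁻¹⁻¹ = ε (pr 0 k) := hinv hg _ (by
        rw [pr, Pi.add_apply, Pi.add_apply, Pi.single_eq_of_ne h1, Pi.single_eq_of_ne h2, Pi.single_eq_of_ne h6,
          Pi.single_eq_of_ne h8])
      calc g⁻¹ * q * g * ε (pr 0 l) * (g⁻¹ * q * g)⁻¹ = g⁻¹ * (q * (g * ε (pr 0 l) * g⁻¹) * q⁻¹) * g⁻¹⁻¹ := by group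
        _ = g⁻¹ * ε (pr 0 k) * g⁻¹⁻¹ := by rw [d1, h.acts_pr hqa, a0, al]
        _ = _ := d2
    rw [h.acts_pr hσ, b0, pr, pr, h.ev.add, h.ev.add] at c1
    have b1 : σ l = k := h.ev.single_inj (by norm_num) (mul_left_cancel c1)
    have b2 : σ ≠ 1 := by
      rintro rfl
      exact h10 (by rw [← b1]; rfl)
    obtain ⟨b3, b4⟩ := h.v4 hq' hσ b2
    have b5 := perm_eq σ ⟨b0, b3, b4⟩ i j k l ⟨hd0, b1⟩
    subst b5
    have c2 : g⁻¹ * q * g * ε (pr 0 i) * (g⁻¹ * q * g)⁻¹ = ε (pr 0 i) * ε (pr i j) := by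
      rw [h.acts_pr hσ, a0, ai, ← h.ev.add]
      congr 1
      rw [pr, pr, pr, add_assoc, ← add_assoc (Pi.single i 1 : Fin 5 → ZMod 2), S5.Def.add_self, zero_add]
    have d3 : g * ε (pr i j) * g⁻¹ = ε (pr i j) := hg _ (by
      rw [pr, Pi.add_apply, Pi.add_apply, Pi.single_eq_same, Pi.single_eq_same, Pi.single_eq_of_ne h5,
        Pi.single_eq_of_ne h5.symm, add_comm])
    calc q * (g * ε (pr 0 i) * g⁻¹) * q⁻¹ = g * (g⁻¹ * q * g * ε (pr 0 i) * (g⁻¹ * q * g)⁻¹) * g⁻¹ := by group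
      _ = g * (ε (pr 0 i) * ε (pr i j)) * g⁻¹ := by rw [c2]
      _ = g * ε (pr 0 i) * g⁻¹ * (g * ε (pr i j) * g⁻¹) := by group
      _ = _ := by rw [d3]
  have hgg : ∀ x, x i = x j → g * g * ε x * (g * g)⁻¹ = ε x := by
    intro x hx
    calc g * g * ε x * (g * g)⁻¹ = g * (g * ε x * g⁻¹) * g⁻¹ := by group
      _ = _ := by rw [hg x hx, hg x hx]
  -- `n = {i, j}` commutes with the three elements
  set n := ε (pr i j) with hn
  have hnn : n * n = 1 := h.ev.sq _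
  have hcn : ∀ {g : G}, (∀ x, x i = x j → g * ε x * g⁻¹ = ε x) → n * (g * ε (pr 0 i) * g⁻¹) = g * ε (pr 0 i) * g⁻¹ * n := by
    intro g hg
    have d3 : g * n * g⁻¹ = n := hg _ (by
      rw [pr, Pi.add_apply, Pi.add_apply, Pi.single_eq_same, Pi.single_eq_same, Pi.single_eq_of_ne h5,
        Pi.single_eq_of_ne h5.symm, add_comm])
    calc n * (g * ε (pr 0 i) * g⁻¹) = g * n * g⁻¹ * (g * ε (pr 0 i) * g⁻¹) := by rw [d3]
      _ = g * (n * ε (pr 0 i)) * g⁻¹ := by group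
      _ = g * (ε (pr 0 i) * n) * g⁻¹ := by rw [h.ev.comm]
      _ = g * ε (pr 0 i) * g⁻¹ * (g * n * g⁻¹) := by group
      _ = _ := by rw [d3]
  obtain ⟨x, hx, hxc⟩ := hc
  have k1 : q * ε (pr 0 i) * q⁻¹ = ε (pr 0 i) * n := by
    have h1 := key (g := 1) (fun x _ => by group)
    simpa using h1
  have k2 := key hg
  have k3 := key hgg
  have hnc : q * ε x * q⁻¹ = ε x * n := by
    rw [← hxc]
    calc q * (ε (pr 0 i) * (g * ε (pr 0 i) * g⁻¹) * (g * g * ε (pr 0 i) * (g * g)⁻¹)) * q⁻¹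
        = (q * ε (pr 0 i) * q⁻¹) * (q * (g * ε (pr 0 i) * g⁻¹) * q⁻¹) *
            (q * (g * g * ε (pr 0 i) * (g * g)⁻¹) * q⁻¹) := by group
      _ = ε (pr 0 i) * n * (g * ε (pr 0 i) * g⁻¹ * n) * (g * g * ε (pr 0 i) * (g * g)⁻¹ * n) := by rw [k1, k2, k3]
      _ = ε (pr 0 i) * (n * (g * ε (pr 0 i) * g⁻¹)) * (n * (g * g * ε (pr 0 i) * (g * g)⁻¹)) * n := by group
      _ = ε (pr 0 i) * (g * ε (pr 0 i) * g⁻¹ * n) * (g * g * ε (pr 0 i) * (g * g)⁻¹ * n) * n := by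
          rw [hcn hg, hcn hgg]
      _ = ε (pr 0 i) * (g * ε (pr 0 i) * g⁻¹) * (n * (g * g * ε (pr 0 i) * (g * g)⁻¹)) * (n * n) := by group
      _ = ε (pr 0 i) * (g * ε (pr 0 i) * g⁻¹) * (g * g * ε (pr 0 i) * (g * g)⁻¹) * n := by
          rw [hcn hgg, hnn, mul_one]; group
  -- but `q` moves `ε x` only by `{k, l}`
  have aj : (swap i j * swap k l) j = i := by
    rw [Perm.mul_apply, swap_apply_of_ne_of_ne h8 h9, swap_apply_right]
  have f0 : (swap i j * swap k l).symm 0 = 0 := by rw [Equiv.symm_apply_eq, a0]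
  have fi : (swap i j * swap k l).symm i = j := by rw [Equiv.symm_apply_eq, aj]
  rw [hqa x, hn, ← h.ev.add] at hnc
  rcases h.ev.eq_iff.1 hnc with e | e
  · have e1 := congrFun e i
    rw [Function.comp_apply, fi, ← hx, pr, Pi.add_apply, Pi.add_apply, Pi.single_eq_same, Pi.single_eq_of_ne h5] at e1
    have key : ∀ a : ZMod 2, a ≠ a + (1 + 0) := by decide
    exact key _ e1
  · have e1 := congrFun e 0
    rw [Function.comp_apply, f0, pr, Pi.add_apply, Pi.add_apply, Pi.add_apply, Pi.single_eq_of_ne h1.symm,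
      Pi.single_eq_of_ne h2.symm, Pi.one_apply] at e1
    have key : ∀ a : ZMod 2, a ≠ a + (0 + 0) + 1 := by decide
    exact key _ e1

end Ac

/-! ### Instances -/

/-- A 2-group `X ≤ L`, centralising `z` and normalised by `C_G(z)`. -/
theorem Ac.of_pGroup (ev : EvenSet 5 V L ε) (hXL : X ≤ L) (hX2 : IsPGroup 2 X)
    (hXz : X ≤ centralizer ({ε (Pi.single 0 1)} : Set G))
    (hXn : centralizer ({ε (Pi.single 0 1)} : Set G) ≤ normalizer (X : Set G)) : Ac V L X ε where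
  ev := ev
  nm c hc q hq := by
    refine (mem_normalizer_iff.1 (hXn ?_) q).1 hq
    rw [mem_centralizer_singleton_iff]
    calc c * ε (Pi.single 0 1) = c * ε (Pi.single 0 1) * c⁻¹ * c := by group
      _ = _ := by rw [hc]
  cz q hq := by
    rw [mem_centralizer_singleton_iff.1 (hXz hq), mul_inv_cancel_right]
  pm q hq := ev.perm q (hXL hq)
  two q hq := by
    obtain ⟨k, hk⟩ := hX2 ⟨q, hq⟩
    have h1 : q ^ 2 ^ k = 1 := by
      have := congrArg Subtype.val hk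
      simpa using this
    exact ⟨k, by rw [h1]; exact one_mem _⟩

/-- `X = O₂(C_G(z)) ≤ L`. -/
theorem Ac.of_o2 [Finite G] (ev : EvenSet 5 V L ε) (h : o2 (centralizer ({ε (Pi.single 0 1)} : Set G)) ≤ L) :
    Ac V L (o2 (centralizer ({ε (Pi.single 0 1)} : Set G))) ε :=
  Ac.of_pGroup ev h (o2_isPGroup _) (o2_le _) (le_normalizer_o2 _)

/-- `V ≤ Z(O₂(C_G(z)))` (262's form): some `g ∈ C_G(V_ij)` with `v v^g v^{g²} ∈ V_ij`, `v = {0, i}`. -/
theorem o2_le_centralizer [Finite G] (ev : EvenSet 5 V L ε)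
    (h : o2 (centralizer ({ε (Pi.single 0 1)} : Set G)) ≤ L) {i j k l : Fin 5} (hd : Dist i j k l) {g : G}
    (hg : ∀ x, x i = x j → g * ε x * g⁻¹ = ε x)
    (hc : ∃ x, x i = x j ∧
      ε (pr 0 i) * (g * ε (pr 0 i) * g⁻¹) * (g * g * ε (pr 0 i) * (g * g)⁻¹) = ε x) :
    o2 (centralizer ({ε (Pi.single 0 1)} : Set G)) ≤ centralizer (V : Set G) :=
  (Ac.of_o2 ev h).le_centralizer hd hg hc

end Cfsg.Agent.Omega.NO3S.SN2.VFour
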